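import Mathlib

/-!
# Feit–Higman project (S1142): shared definitions (helper19)

`HeckeData n u v a b`: two symmetric real matrices `a = T_s`, `b = T_t` (Hecke operators of a rank-2
BN-pair on `ℝ[G/B]`) with parameters `u = q_s`, `v = q_t`, Weyl group dihedral of order `2 n`.
-/

set_option autoImplicit false

namespace Cfsg.Agent.Lib.Helper19.FH

open Matrix

/-- alternating product `a * b * a * ⋯` with `k` factors -/
def altProd {R : Type*} [Monoid R] (a b : R) : ℕ → R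
  | 0 => 1
  | k + 1 => a * altProd b a k

/-- `qq u v k = u ^ ⌈k/2⌉ * v ^ ⌊k/2⌋` (index of the alternating word `s t s ⋯` of length `k`) -/
def qq (u v k : ℕ) : ℕ := u ^ ((k + 1) / 2) * v ^ (k / 2)

/-- the admissible angle indices `1 ≤ j`, `2 j < n` -/
def angles (n : ℕ) : Finset ℕ := (Finset.range n).filter (fun j => 1 ≤ j ∧ 2 * j < n)

theorem mem_angles {n j : ℕ} : j ∈ angles n ↔ 1 ≤ j ∧ 2 * j < n := by
  unfold angles
  rw [Finset.mem_filter, Finset.mem_range]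
  constructor
  · exact fun h => h.2
  · exact fun h => ⟨by omega, h⟩

/-- `y_j = 2 √(uv) cos(2πj/n)` -/
noncomputable def yy (n u v j : ℕ) : ℝ :=
  2 * Real.sqrt ((u : ℝ) * v) * Real.cos (2 * Real.pi * j / n)

/-- the central element `ζ = ab + ba - (v-1) a - (u-1) b + (u-1)(v-1)` -/
def zeta {ι : Type*} [Fintype ι] [DecidableEq ι] (u v : ℝ) (a b : Matrix ι ι ℝ) : Matrix ι ι ℝ :=
  a * b + b * a - (v - 1) • a - (u - 1) • b + ((u - 1) * (v - 1)) • (1 : Matrix ι ι ℝ)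

/-- the Hecke data of a finite rank-2 BN-pair -/
structure HeckeData (n u v : ℕ) {ι : Type*} [Fintype ι] [DecidableEq ι]
    (a b : Matrix ι ι ℝ) : Prop where
  a_symm : a.IsSymm
  b_symm : b.IsSymm
  a_sq : a * a = (u : ℝ) • (1 : Matrix ι ι ℝ) + ((u : ℝ) - 1) • a
  b_sq : b * b = (v : ℝ) • (1 : Matrix ι ι ℝ) + ((v : ℝ) - 1) • b
  braid : altProd a b n = altProd b a n
  tr_ab : ∀ k : ℕ, 1 ≤ k → 2 * k ≤ n → ((a * b) ^ k).trace = 0
  tr_a : a.trace = 0
  tr_b : b.trace = 0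
  a_one : a.mulVec (fun _ => (1 : ℝ)) = fun _ => (u : ℝ)
  b_one : b.mulVec (fun _ => (1 : ℝ)) = fun _ => (v : ℝ)
  const : ∀ f : ι → ℝ, a.mulVec f = (u : ℝ) • f → b.mulVec f = (v : ℝ) • f → ∀ i j, f i = f j
  card : Fintype.card ι = ∑ k ∈ Finset.range n, qq u v k + ∑ k ∈ Finset.range n, qq v u (k + 1)

end Cfsg.Agent.Lib.Helper19.FH
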