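import Mathlib

set_option autoImplicit false
set_option linter.unusedSectionVars false

/-!
# An involution normalising a subgroup of odd order (helper19)

* `exists_invariant_sylow`: an involution `t` normalising a subgroup `H` of odd order normalises
  some Sylow `q`-subgroup of `H`.
* `commute_of_conj_eq_inv_of_odd`: an element of odd order inverting `x` centralises it.
-/

namespace Cfsg.Agent.Lib.Helper19

section OddInvol

open scoped Pointwise

variable {G : Type*} [Group G]

theorem conj_conj_of_mul_self {t : G} (ht : t * t = 1) (x : G) :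
    t * (t * x * t⁻¹) * t⁻¹ = x := by
  have hinv : t⁻¹ = t := inv_eq_of_mul_eq_one_left ht
  rw [hinv]
  calc t * (t * x * t) * t = (t * t) * x * (t * t) := by group
    _ = x := by rw [ht]; group

theorem mul_self_of_orderOf_two {t : G} (ht : orderOf t = 2) : t * t = 1 := by
  have := pow_orderOf_eq_one t
  rwa [ht, pow_two] at this

/-- If `g` lies in a finite subgroup of odd order and `g x g⁻¹ = x⁻¹` then `x * x = 1`. -/
theorem mul_self_of_conj_eq_inv_of_odd [Finite G] {X : Subgroup G} (hodd : Odd (Nat.card X))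
    {g x : G} (hg : g ∈ X) (h : g * x * g⁻¹ = x⁻¹) : x * x = 1 := by
  obtain ⟨k, hk⟩ := hodd
  have h1 : g ^ (2 * k + 1) = 1 := by
    have h0 : (⟨g, hg⟩ : X) ^ Nat.card X = 1 := pow_card_eq_one'
    have := congrArg Subtype.val h0
    rw [hk] at this
    simpa using this
  -- conjugation by g^n sends x to x or x⁻¹
  have hpow : ∀ n : ℕ, g ^ (2 * n) * x * (g ^ (2 * n))⁻¹ = x := by
    intro n
    induction n with
    | zero => simp
    | succ n ih =>
      have e : g ^ (2 * (n + 1)) = g * g * g ^ (2 * n) := by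
        rw [show 2 * (n + 1) = 2 + 2 * n by ring, pow_add, pow_two]
      rw [e]
      calc g * g * g ^ (2 * n) * x * (g * g * g ^ (2 * n))⁻¹
          = g * (g * (g ^ (2 * n) * x * (g ^ (2 * n))⁻¹) * g⁻¹) * g⁻¹ := by group
        _ = g * (g * x * g⁻¹) * g⁻¹ := by rw [ih]
        _ = g * x⁻¹ * g⁻¹ := by rw [h]
        _ = (g * x * g⁻¹)⁻¹ := by group
        _ = x := by rw [h, inv_inv]
  have h2 : g * x * g⁻¹ = x := by
    have e : g = g ^ (2 * (k + 1)) := by
      rw [show 2 * (k + 1) = (2 * k + 1) + 1 by ring, pow_succ, h1, one_mul]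
    have := hpow (k + 1)
    rw [← e] at this
    exact this
  rw [h] at h2
  calc x * x = x⁻¹ * x := by rw [h2]
    _ = 1 := inv_mul_cancel x

/-- In a finite subgroup of odd order, an element whose square centralises `y` centralises `y`. -/
theorem commute_of_sq_commute_of_odd' [Finite G] {X : Subgroup G} (hodd : Odd (Nat.card X))
    {g y : G} (hg : g ∈ X) (h : (g * g) * y = y * (g * g)) : g * y = y * g := by
  obtain ⟨k, hk⟩ := hodd
  have h1 : g ^ (2 * k + 1) = 1 := by
    have h0 : (⟨g, hg⟩ : X) ^ Nat.card X = 1 := pow_card_eq_one'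
    have := congrArg Subtype.val h0
    rw [hk] at this
    simpa using this
  have hc : Commute (g * g) y := h
  have e : g = (g * g) ^ (k + 1) := by
    rw [← pow_two, ← pow_mul, show 2 * (k + 1) = (2 * k + 1) + 1 by ring, pow_succ, h1, one_mul]
  have : Commute ((g * g) ^ (k + 1)) y := hc.pow_left _
  rw [← e] at this
  exact this

/-- An involution normalising a subgroup `H` of odd order normalises a Sylow `q`-subgroup `Q`
of `H`; every `q`-element of `H` is `H`-conjugate into `Q`. -/
theorem exists_invariant_sylow [Finite G] (H : Subgroup G) (hodd : Odd (Nat.card H)) (t : G)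
    (ht : orderOf t = 2) (hnorm : ∀ x ∈ H, t * x * t⁻¹ ∈ H) (q : ℕ) [Fact q.Prime] :
    ∃ Q : Subgroup G, Q ≤ H ∧ Nat.card Q = q ^ (Nat.card H).factorization q ∧
      (∀ x ∈ Q, t * x * t⁻¹ ∈ Q) ∧
      (∀ x ∈ H, orderOf x = q → ∃ h ∈ H, h * x * h⁻¹ ∈ Q) := by
  have htt := mul_self_of_orderOf_two ht
  have htn : t ∈ Subgroup.normalizer (H : Set G) := by
    rw [Subgroup.mem_normalizer_iff]
    intro h
    refine ⟨hnorm h, fun hh => ?_⟩
    have := hnorm _ hh
    rwa [conj_conj_of_mul_self htt] at this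
  set t' : Subgroup.normalizer (H : Set G) := ⟨t, htn⟩ with ht'
  have hT : IsPGroup 2 (Subgroup.zpowers t') := by
    apply IsPGroup.of_card (n := 1)
    rw [Nat.card_zpowers, ht', Subgroup.orderOf_mk, ht, pow_one]
  have hcard : ¬ 2 ∣ Nat.card (Sylow q H) := by
    intro h2
    have P₀ : Sylow q H := default
    have h3 : Nat.card (Sylow q H) ∣ Nat.card H :=
      (Sylow.card_dvd_index P₀).trans (Subgroup.index_dvd_card _)
    exact (Nat.not_even_iff_odd.2 hodd) (even_iff_two_dvd.2 (h2.trans h3))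
  obtain ⟨P, hP⟩ := hT.nonempty_fixed_point_of_prime_not_dvd_card (Sylow q H) hcard
  have hfix : (⟨t', Subgroup.mem_zpowers t'⟩ : Subgroup.zpowers t') • P = P := hP _
  refine ⟨(P : Subgroup H).map H.subtype, Subgroup.map_subtype_le _, ?_, ?_, ?_⟩
  · rw [Subgroup.card_map_of_injective (Subgroup.subtype_injective H)]
    exact Sylow.card_eq_multiplicity P
  · rintro x ⟨y, hy, rfl⟩
    have hy' : (⟨t', Subgroup.mem_zpowers t'⟩ : Subgroup.zpowers t') • y ∈
        ((⟨t', Subgroup.mem_zpowers t'⟩ : Subgroup.zpowers t') • P : Sylow q H) := by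
      show _ ∈ ((⟨t', Subgroup.mem_zpowers t'⟩ : Subgroup.zpowers t') • (P : Subgroup H))
      exact Subgroup.smul_mem_pointwise_smul _ _ _ hy
    rw [hfix] at hy'
    exact ⟨_, hy', rfl⟩
  · intro x hx hxq
    have hxp : IsPGroup q (Subgroup.zpowers (⟨x, hx⟩ : H)) := by
      apply IsPGroup.of_card (n := 1)
      rw [Nat.card_zpowers, Subgroup.orderOf_mk, hxq, pow_one]
    obtain ⟨P', hP'⟩ := hxp.exists_le_sylow
    obtain ⟨h, hh⟩ := MulAction.exists_smul_eq H P' P
    refine ⟨(h : G), h.2, ?_⟩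
    have hx' : (⟨x, hx⟩ : H) ∈ P' := hP' (Subgroup.mem_zpowers _)
    have h1 : MulAut.conj h • (⟨x, hx⟩ : H) ∈ (h • P' : Sylow q H) := by
      show _ ∈ (MulAut.conj h • (P' : Subgroup H))
      exact Subgroup.smul_mem_pointwise_smul _ _ _ hx'
    rw [hh] at h1
    refine ⟨_, h1, ?_⟩
    simp [MulAut.smul_def, MulAut.conj_apply]

end OddInvol

end Cfsg.Agent.Lib.Helper19
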