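import Mathlib
import Cfsg.Agent.S0035
import Cfsg.Agent.S0039
import Cfsg.Agent.S0016
import Cfsg.Agent.Lib.Helper35.FrobSylow
import Cfsg.Agent.Lib.Helper59.Zassenhaus

set_option autoImplicit false
set_option linter.unusedSectionVars false

/-!
# The point stabiliser of a Zassenhaus group is a Frobenius group (helper19)

Consequences for the two point stabiliser `H = G_a ⊓ G_b`: its `q`-subgroups (`q` odd) are
cyclic, and `H` is cyclic as soon as it is commutative.
-/

namespace Cfsg.Agent.Lib.Helper19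

open MulAction Cfsg.Agent.Lib.Helper59

section ZassFrob

variable {G Ω : Type*} [Group G] [MulAction G Ω]

/-- A Zassenhaus group has a point different from two given points, moved from `b` by an element
fixing `a`. -/
theorem zass_exists_fix_move (hZ : Cfsg.IsZassenhausGroup G Ω) {a b : Ω} (hab : a ≠ b) :
    ∃ g : G, g • a = a ∧ g • b ≠ b := by
  obtain ⟨x, hx1, hxa, hxb⟩ := zass_stab2_ne_bot hZ hab
  have hF : FaithfulSMul G Ω := hZ.1
  have : ∃ c : Ω, x • c ≠ c := by
    by_contra hcon
    push Not at hcon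
    apply hx1
    apply hF.eq_of_smul_eq_smul
    intro c
    rw [hcon c, one_smul]
  obtain ⟨c, hc⟩ := this
  have hca : c ≠ a := fun h => hc (h ▸ hxa)
  have hcb : c ≠ b := fun h => hc (h ▸ hxb)
  obtain ⟨g, hga, hgb⟩ := zass_two_trans hZ a b a c hab (Ne.symm hca)
  exact ⟨g, hga, fun h => hcb (hgb ▸ h)⟩

/-- The two point stabiliser is a Frobenius complement in the point stabiliser. -/
theorem zass_isFrobeniusComplement (hZ : Cfsg.IsZassenhausGroup G Ω) {a b : Ω} (hab : a ≠ b) :
    Cfsg.IsFrobeniusComplement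
      ((stabilizer G a ⊓ stabilizer G b).subgroupOf (stabilizer G a)) := by
  refine ⟨?_, ?_, ?_⟩
  · obtain ⟨x, hx1, hxa, hxb⟩ := zass_stab2_ne_bot hZ hab
    intro hbot
    have hmem : (⟨x, hxa⟩ : stabilizer G a) ∈
        (stabilizer G a ⊓ stabilizer G b).subgroupOf (stabilizer G a) := by
      rw [Subgroup.mem_subgroupOf]
      exact mem_stab2.2 ⟨hxa, hxb⟩
    rw [hbot, Subgroup.mem_bot] at hmem
    exact hx1 (congrArg Subtype.val hmem)
  · obtain ⟨g, hga, hgb⟩ := zass_exists_fix_move hZ hab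
    intro htop
    have hmem : (⟨g, hga⟩ : stabilizer G a) ∈
        (stabilizer G a ⊓ stabilizer G b).subgroupOf (stabilizer G a) := by
      rw [htop]; exact Subgroup.mem_top _
    rw [Subgroup.mem_subgroupOf] at hmem
    exact hgb (mem_stab2.1 hmem).2
  · intro g hg
    rw [Subgroup.eq_bot_iff_forall]
    intro x hx
    rw [Subgroup.mem_inf] at hx
    obtain ⟨hx1, hx2⟩ := hx
    rw [Subgroup.mem_pointwise_smul_iff_inv_smul_mem] at hx2
    rw [Subgroup.mem_subgroupOf] at hx1 hx2 hg
    have hga : (g : G) • a = a := g.2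
    have hgb : (g : G) • b ≠ b := fun h => hg (mem_stab2.2 ⟨hga, h⟩)
    have hxa : (x : G) • a = a := (mem_stab2.1 hx1).1
    have hxb : (x : G) • b = b := (mem_stab2.1 hx1).2
    have h3 : ((g : G)⁻¹ * (x : G) * (g : G)) • b = b := by
      have := (mem_stab2.1 hx2).2
      simpa [MulAut.smul_def, MulAut.conj_apply] using this
    have hxgb : (x : G) • ((g : G) • b) = (g : G) • b := by
      have h4 : (g : G) • (((g : G)⁻¹ * (x : G) * (g : G)) • b) = (g : G) • b := by rw [h3]
      rw [← mul_smul] at h4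
      rw [← mul_smul]
      convert h4 using 2
      group
    have hgba : (g : G) • b ≠ a := by
      intro h
      have h' : (g : G) • b = (g : G) • a := h.trans hga.symm
      exact hab (smul_left_cancel _ h').symm
    apply Subtype.ext
    exact zass_three hZ (x : G) a b ((g : G) • b) hab (Ne.symm hgb) (Ne.symm hgba) hxa hxb hxgb

/-- The Frobenius kernel of the point stabiliser, with the properties used below. -/
theorem zass_exists_kernel [Finite G] (hZ : Cfsg.IsZassenhausGroup G Ω) {a b : Ω} (hab : a ≠ b) :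
    ∃ N : Subgroup (stabilizer G a), N.Normal ∧ N ≠ ⊥ ∧
      ∀ h ∈ (stabilizer G a ⊓ stabilizer G b).subgroupOf (stabilizer G a), h ≠ 1 →
        N ⊓ Subgroup.centralizer {h} = ⊥ := by
  have hF := zass_isFrobeniusComplement hZ hab
  obtain ⟨N, -, hNn, hNc⟩ := Cfsg.Agent.S0035.result _ hF
  have hNbot : N ≠ ⊥ := by
    intro h
    rw [h, Subgroup.isComplement'_bot_left] at hNc
    exact hF.2.1 hNc
  refine ⟨N, hNn, hNbot, ?_⟩
  have := hNn
  exact (Cfsg.Agent.S0039.result N _ hNc hNbot hF.1).1 hF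

/-- `q`-subgroups, `q` odd, of the two point stabiliser of a Zassenhaus group are cyclic. -/
theorem zass_isCyclic_of_isPGroup [Finite G] (hZ : Cfsg.IsZassenhausGroup G Ω) {a b : Ω}
    (hab : a ≠ b) (q : ℕ) [Fact q.Prime] (hq2 : q ≠ 2) (Q : Subgroup G)
    (hQH : Q ≤ stabilizer G a ⊓ stabilizer G b) (hQ : IsPGroup q Q) : IsCyclic Q := by
  obtain ⟨N, hNn, hNbot, hfpf⟩ := zass_exists_kernel hZ hab
  have := hNn
  set H₀ : Subgroup (stabilizer G a) :=
    (stabilizer G a ⊓ stabilizer G b).subgroupOf (stabilizer G a) with hH₀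
  set ι : H₀ →* G := (stabilizer G a).subtype.comp H₀.subtype with hι
  have hinj : Function.Injective ι :=
    (Subgroup.subtype_injective _).comp (Subgroup.subtype_injective _)
  set P : Subgroup H₀ := Q.comap ι with hP
  have hPp : IsPGroup q P := hQ.comap_of_injective ι hinj
  have hrange : Q ≤ ι.range := by
    intro x hx
    have hxH := hQH hx
    have hxa : x ∈ stabilizer G a := (Subgroup.mem_inf.1 hxH).1
    refine ⟨⟨⟨x, hxa⟩, ?_⟩, rfl⟩
    rw [hH₀, Subgroup.mem_subgroupOf]
    exact hxH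
  have hmap : P.map ι = Q := by
    rw [hP, Subgroup.map_comap_eq]
    exact inf_eq_right.2 hrange
  have hu := Cfsg.Agent.Lib.Helper35.unique_subgroup_of_order_p_of_fpf N H₀ hNbot hfpf q P hPp
  have hcyc : IsCyclic P := by
    rcases Cfsg.Agent.S0016.result q hPp hu with h | ⟨h, -⟩
    · exact h
    · exact absurd h hq2
  have e : P ≃* Q := (Subgroup.equivMapOfInjective P ι hinj).trans (MulEquiv.subgroupCongr hmap)
  exact isCyclic_of_surjective e e.surjective

/-- A commutative two point stabiliser of a Zassenhaus group is cyclic. -/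
theorem zass_isCyclic_of_comm [Finite G] (hZ : Cfsg.IsZassenhausGroup G Ω) {a b : Ω}
    (hab : a ≠ b)
    (hcomm : ∀ x ∈ stabilizer G a ⊓ stabilizer G b, ∀ y ∈ stabilizer G a ⊓ stabilizer G b,
      x * y = y * x) : IsCyclic ↥(stabilizer G a ⊓ stabilizer G b) := by
  obtain ⟨N, hNn, hNbot, hfpf⟩ := zass_exists_kernel hZ hab
  have := hNn
  set H₀ : Subgroup (stabilizer G a) :=
    (stabilizer G a ⊓ stabilizer G b).subgroupOf (stabilizer G a) with hH₀
  have hc : IsMulCommutative H₀ := by
    refine ⟨⟨fun x y => ?_⟩⟩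
    apply Subtype.ext
    apply Subtype.ext
    have hx : ((x : stabilizer G a) : G) ∈ stabilizer G a ⊓ stabilizer G b :=
      Subgroup.mem_subgroupOf.1 x.2
    have hy : ((y : stabilizer G a) : G) ∈ stabilizer G a ⊓ stabilizer G b :=
      Subgroup.mem_subgroupOf.1 y.2
    exact hcomm _ hx _ hy
  have hsolv : Group.IsSolvable H₀ :=
    Group.isSolvable_of_comm (fun x y => hc.is_comm.comm x y)
  have hcyc : IsCyclic H₀ :=
    Cfsg.Agent.Lib.Helper35.isCyclic_of_fpf N H₀ hNbot hfpf hsolv (Or.inl hc)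
  have e : H₀ ≃* ↥(stabilizer G a ⊓ stabilizer G b) :=
    Subgroup.subgroupOfEquivOfLe inf_le_left
  exact isCyclic_of_surjective e e.surjective

end ZassFrob

end Cfsg.Agent.Lib.Helper19
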