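import Mathlib
import Cfsg.Agent.S1124
import Cfsg.Agent.Lib.Helper19.OddInvol
import Cfsg.Agent.Lib.Helper19.ZassFrob

set_option autoImplicit false
set_option linter.unusedSectionVars false

/-!
# Zassenhaus groups with two point stabiliser of odd order (helper19)
-/

namespace Cfsg.Agent.Lib.Helper19

open MulAction Cfsg.Agent.Lib.Helper59

section ZassOdd

variable {G Ω : Type*} [Group G] [MulAction G Ω]

/-- An element swapping `a` and `b` normalises the two point stabiliser. -/
theorem swap_conj_mem {a b : Ω} {t : G} (hta : t • a = b) (htb : t • b = a) {x : G}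
    (hx : x ∈ stabilizer G a ⊓ stabilizer G b) :
    t * x * t⁻¹ ∈ stabilizer G a ⊓ stabilizer G b := by
  have hia : t⁻¹ • a = b := by rw [inv_smul_eq_iff, htb]
  have hib : t⁻¹ • b = a := by rw [inv_smul_eq_iff, hta]
  obtain ⟨hxa, hxb⟩ := mem_stab2.1 hx
  refine mem_stab2.2 ⟨?_, ?_⟩
  · rw [mul_smul, mul_smul, hia, hxb, htb]
  · rw [mul_smul, mul_smul, hib, hxa, hta]

/-- An element normalising a nontrivial subgroup of the two point stabiliser fixes or swaps the
two points. -/
theorem zass_normalizer_cases (hZ : Cfsg.IsZassenhausGroup G Ω) {a b : Ω} (hab : a ≠ b)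
    {Q : Subgroup G} (hQH : Q ≤ stabilizer G a ⊓ stabilizer G b) (hQ : Q ≠ ⊥) {g : G}
    (hg : g ∈ Subgroup.normalizer (Q : Set G)) :
    (g • a = a ∧ g • b = b) ∨ (g • a = b ∧ g • b = a) := by
  obtain ⟨z, hz, hz1⟩ : ∃ z ∈ Q, z ≠ 1 := by
    by_contra hcon
    push Not at hcon
    exact hQ ((Subgroup.eq_bot_iff_forall _).2 hcon)
  have hzH := mem_stab2.1 (hQH hz)
  have hgz : g * z * g⁻¹ ∈ Q := (Subgroup.mem_normalizer_iff.1 hg z).1 hz
  have hgzH := mem_stab2.1 (hQH hgz)
  exact zass_conj hZ hab hz1 hzH.1 hzH.2 hgzH.1 hgzH.2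

/-- The two point stabiliser of odd order is a Hall subgroup. -/
theorem zass_not_dvd_index [Finite G] [Finite Ω] (hZ : Cfsg.IsZassenhausGroup G Ω) {a b : Ω}
    (hab : a ≠ b) {q : ℕ} (hq : q.Prime) (hq2 : q ≠ 2)
    (hqd : q ∣ Nat.card ↥(stabilizer G a ⊓ stabilizer G b)) :
    ¬ q ∣ (stabilizer G a ⊓ stabilizer G b).index := by
  have := Fact.mk hq
  have hfix : stabilizer G a ⊓ stabilizer G b = fixingSubgroup G ({a, b} : Set Ω) := by
    ext g
    rw [mem_stab2, mem_fixingSubgroup_iff]
    constructor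
    · rintro ⟨ha, hb⟩ y hy
      rcases hy with rfl | rfl
      · exact ha
      · exact hb
    · intro h
      exact ⟨h a (Set.mem_insert _ _), h b (Set.mem_insert_of_mem _ rfl)⟩
  have hidx := IsMultiplyPretransitive.index_of_fixingSubgroup_mul (G := G) (α := Ω) (k := 2)
    hZ.2.1 (s := {a, b}) (Set.ncard_pair hab)
  rw [← hfix] at hidx
  -- the congruence
  obtain ⟨x, hx⟩ := exists_prime_orderOf_dvd_card' q hqd
  have hx1 : (x : G) ≠ 1 := by
    intro h
    have : x = 1 := Subtype.ext h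
    rw [this, orderOf_one] at hx
    exact hq.one_lt.ne hx
  have hxH := mem_stab2.1 x.2
  have hP : IsPGroup q (Subgroup.zpowers (x : G)) := by
    apply IsPGroup.of_card (n := 1)
    rw [Nat.card_zpowers, Subgroup.orderOf_coe, hx, pow_one]
  have hmod := hP.card_modEq_card_fixedPoints Ω
  have hfp : fixedPoints (Subgroup.zpowers (x : G)) Ω = ({a, b} : Set Ω) := by
    ext c
    rw [mem_fixedPoints]
    constructor
    · intro h
      have hc : (x : G) • c = c := h ⟨(x : G), Subgroup.mem_zpowers _⟩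
      exact zass_fixed_mem hZ hab hx1 hxH.1 hxH.2 hc
    · rintro (rfl | rfl)
      · rintro ⟨p, hp⟩
        have : p ∈ stabilizer G c ⊓ stabilizer G b :=
          (Subgroup.zpowers_le.2 x.2) hp
        exact (mem_stab2.1 this).1
      · rintro ⟨p, hp⟩
        have : p ∈ stabilizer G a ⊓ stabilizer G c :=
          (Subgroup.zpowers_le.2 x.2) hp
        exact (mem_stab2.1 this).2
  rw [hfp, Nat.card_coe_set_eq, Set.ncard_pair hab] at hmod
  -- arithmetic
  have hN2 : 2 ≤ Nat.card Ω := by
    have : ({a, b} : Set Ω).ncard ≤ Nat.card Ω := by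
      rw [← Set.ncard_univ]
      exact Set.ncard_le_ncard (Set.subset_univ _) Set.finite_univ
    rwa [Set.ncard_pair hab] at this
  obtain ⟨M, hM⟩ : ∃ M, Nat.card Ω = M + 2 := ⟨Nat.card Ω - 2, by omega⟩
  rw [hM] at hidx hmod
  have hMq : q ∣ M := by
    have : M + 2 ≡ 0 + 2 [MOD q] := by simpa using hmod
    exact (Nat.modEq_zero_iff_dvd).1 (Nat.ModEq.add_right_cancel' 2 this)
  have hidx2 : (stabilizer G a ⊓ stabilizer G b).index = (M + 2) * (M + 1) := by
    have h1 : (M + 2).factorial = (M + 2) * (M + 1) * M.factorial := by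
      rw [Nat.factorial_succ, Nat.factorial_succ]; ring
    rw [h1, show M + 2 - 2 = M by omega] at hidx
    exact Nat.eq_of_mul_eq_mul_right (Nat.factorial_pos M) hidx
  rw [hidx2]
  intro hdvd
  rcases (Nat.Prime.dvd_mul hq).1 hdvd with h | h
  · have : q ∣ 2 := (Nat.dvd_add_right hMq).1 h
    have hle := Nat.le_of_dvd (by norm_num) this
    have := hq.two_le
    omega
  · have : q ∣ 1 := (Nat.dvd_add_right hMq).1 h
    have hle := Nat.le_of_dvd (by norm_num) this
    have := hq.two_le
    omega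

theorem orderOf_conj' {M : Type*} [Group M] (h x : M) : orderOf (h * x * h⁻¹) = orderOf x := by
  have := orderOf_injective (MulAut.conj h).toMonoidHom (MulAut.conj h).injective x
  simpa [MulAut.conj_apply] using this

/-- If some involution `t` swapping `a, b` centralises a nontrivial element of the two point
stabiliser `H` of odd order, then `G` has a normal `q`-complement for some prime `q ∣ |H|`. -/
theorem zass_exists_normal_complement [Finite G] [Finite Ω] (hZ : Cfsg.IsZassenhausGroup G Ω)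
    {a b : Ω} (hab : a ≠ b) (hodd : Odd (Nat.card ↥(stabilizer G a ⊓ stabilizer G b)))
    {t : G} (ht : orderOf t = 2) (hta : t • a = b) (htb : t • b = a)
    (hV : (stabilizer G a ⊓ stabilizer G b) ⊓ Subgroup.centralizer {t} ≠ ⊥) :
    ∃ q : ℕ, q.Prime ∧ q ∣ Nat.card ↥(stabilizer G a ⊓ stabilizer G b) ∧
      ∃ N : Subgroup G, N.Normal ∧ N.index = q ^ (Nat.card G).factorization q := by
  set H := stabilizer G a ⊓ stabilizer G b with hH
  set V := H ⊓ Subgroup.centralizer {t} with hVdef
  have htt := mul_self_of_orderOf_two ht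
  have hnorm : ∀ x ∈ H, t * x * t⁻¹ ∈ H := fun x hx => swap_conj_mem hta htb hx
  have hVcard : Nat.card V ≠ 1 := fun h => hV (Subgroup.card_eq_one.1 h)
  set q := (Nat.card V).minFac with hq
  have hqp : q.Prime := Nat.minFac_prime hVcard
  have := Fact.mk hqp
  have hqV : q ∣ Nat.card V := Nat.minFac_dvd _
  have hVH : Nat.card V ∣ Nat.card H := Subgroup.card_dvd_of_le inf_le_left
  have hqH : q ∣ Nat.card H := hqV.trans hVH
  have hq2 : q ≠ 2 := by
    intro h
    rw [h] at hqH
    exact (Nat.not_even_iff_odd.2 hodd) (even_iff_two_dvd.2 hqH)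
  obtain ⟨Q, hQH, hQcard, hQt, hQconj⟩ := exists_invariant_sylow H hodd t ht hnorm q
  have hQp : IsPGroup q Q := IsPGroup.of_card hQcard
  have hQcyc : IsCyclic Q := zass_isCyclic_of_isPGroup hZ hab q hq2 Q hQH hQp
  set m := (Nat.card H).factorization q with hm
  have hm1 : 1 ≤ m := (hqp.dvd_iff_one_le_factorization (Nat.card_pos.ne')).1 hqH
  have hQbot : Q ≠ ⊥ := by
    intro h
    rw [h, Subgroup.card_bot] at hQcard
    have : 1 < q ^ m := Nat.one_lt_pow (by omega) hqp.one_lt
    omega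
  -- `t` centralises `Q`
  have hcent : ∀ g ∈ Q, t * g * t⁻¹ = g := by
    by_contra hcon
    push Not at hcon
    obtain ⟨k, hkQ, hk⟩ := hcon
    set k' := k⁻¹ * (t * k * t⁻¹) with hk'
    have hk'Q : k' ∈ Q := Q.mul_mem (Q.inv_mem hkQ) (hQt k hkQ)
    have hk'1 : k' ≠ 1 := by
      intro h
      apply hk
      exact (inv_mul_eq_one.1 h).symm
    have hk'inv : t * k' * t⁻¹ = k'⁻¹ := by
      rw [hk']
      calc t * (k⁻¹ * (t * k * t⁻¹)) * t⁻¹
          = (t * k * t⁻¹)⁻¹ * (t * (t * k * t⁻¹) * t⁻¹) := by group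
        _ = (t * k * t⁻¹)⁻¹ * k := by rw [conj_conj_of_mul_self htt]
        _ = (k⁻¹ * (t * k * t⁻¹))⁻¹ := by group
    have hk'ord : q ∣ orderOf k' := by
      have h1 : (⟨k', hk'Q⟩ : Q) ≠ 1 := fun h => hk'1 (congrArg Subtype.val h)
      have := hQp.dvd_orderOf h1
      rwa [Subgroup.orderOf_mk] at this
    set k'' := k' ^ (orderOf k' / q) with hk''
    have hk''ord : orderOf k'' = q := orderOf_pow_orderOf_div (orderOf_pos k').ne' hk'ord
    have hk''Q : k'' ∈ Q := Q.pow_mem hk'Q _
    have hk''inv : t * k'' * t⁻¹ = k''⁻¹ := by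
      rw [hk'', ← conj_pow, hk'inv, inv_pow]
    obtain ⟨x, hx⟩ := exists_prime_orderOf_dvd_card' q hqV
    have hxV : (x : G) ∈ V := x.2
    have hxH : (x : G) ∈ H := (Subgroup.mem_inf.1 hxV).1
    have hxt : t * (x : G) * t⁻¹ = (x : G) := by
      have := (Subgroup.mem_inf.1 hxV).2
      rw [Subgroup.mem_centralizer_iff] at this
      have h1 := this t (Set.mem_singleton t)
      rw [h1]; group
    have hxord : orderOf (x : G) = q := by rw [Subgroup.orderOf_coe, hx]
    obtain ⟨h, hhH, hhQ⟩ := hQconj (x : G) hxH hxord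
    set x' := h * (x : G) * h⁻¹ with hx'
    have hx'ord : orderOf x' = q := by rw [hx', orderOf_conj']; exact hxord
    have hzeq : Subgroup.zpowers x' = Subgroup.zpowers k'' :=
      Cfsg.Agent.Lib.Helper35.eq_of_card_eq_of_le_isCyclic hQcyc (Subgroup.zpowers_le.2 hhQ)
        (Subgroup.zpowers_le.2 hk''Q) (by rw [Nat.card_zpowers, Nat.card_zpowers, hx'ord, hk''ord])
    have hx'mem : x' ∈ Subgroup.zpowers k'' := hzeq ▸ Subgroup.mem_zpowers x'
    obtain ⟨i, hi⟩ := Subgroup.mem_zpowers_iff.1 hx'mem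
    have hx'inv : t * x' * t⁻¹ = x'⁻¹ := by
      rw [← hi, ← conj_zpow, hk''inv, inv_zpow]
    have hx'c : (h * t * h⁻¹) * x' * (h * t * h⁻¹)⁻¹ = x' := by
      rw [hx']
      calc h * t * h⁻¹ * (h * ↑x * h⁻¹) * (h * t * h⁻¹)⁻¹ = h * (t * ↑x * t⁻¹) * h⁻¹ := by group
        _ = _ := by rw [hxt]
    set g := (h * t * h⁻¹) * t with hg
    have hgH : g ∈ H := by
      have h1 : t * h⁻¹ * t⁻¹ ∈ H := hnorm _ (H.inv_mem hhH)
      have h2 : g = h * (t * h⁻¹ * t⁻¹) := by
        have hinv : t⁻¹ = t := inv_eq_of_mul_eq_one_left htt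
        rw [hg, hinv]; group
      rw [h2]; exact H.mul_mem hhH h1
    have hginv : g * x' * g⁻¹ = x'⁻¹ := by
      calc g * x' * g⁻¹ = (h * t * h⁻¹) * (t * x' * t⁻¹) * (h * t * h⁻¹)⁻¹ := by rw [hg]; group
        _ = (h * t * h⁻¹) * x'⁻¹ * (h * t * h⁻¹)⁻¹ := by rw [hx'inv]
        _ = ((h * t * h⁻¹) * x' * (h * t * h⁻¹)⁻¹)⁻¹ := by group
        _ = x'⁻¹ := by rw [hx'c]
    have hsq := mul_self_of_conj_eq_inv_of_odd hodd hgH hginv
    have h2 : orderOf x' ∣ 2 := orderOf_dvd_of_pow_eq_one (by rw [pow_two]; exact hsq)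
    rw [hx'ord] at h2
    have hle := Nat.le_of_dvd (by norm_num) h2
    have := hqp.two_le
    omega
  have htcQ : ∀ g ∈ Q, t * g = g * t := by
    intro g hg
    have := hcent g hg
    calc t * g = (t * g * t⁻¹) * t := by group
      _ = g * t := by rw [this]
  have htN : t ∈ Subgroup.normalizer (Q : Set G) := by
    rw [Subgroup.mem_normalizer_iff]
    intro z
    refine ⟨hQt z, fun hz => ?_⟩
    have := hQt _ hz
    rwa [conj_conj_of_mul_self htt] at this
  have hQV : Q ≤ V := by
    intro z hz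
    refine Subgroup.mem_inf.2 ⟨hQH hz, ?_⟩
    rw [Subgroup.mem_centralizer_iff]
    intro u hu
    rw [Set.mem_singleton_iff] at hu
    rw [hu]
    exact htcQ z hz
  -- elements of `V` normalising `Q` centralise it
  have hVkey : ∀ v ∈ V, v ∈ Subgroup.normalizer (Q : Set G) → ∀ g ∈ Q, g * v = v * g := by
    intro v hvV hvN g hg
    have hcardQ' : Nat.card (Q.subgroupOf V) = q ^ (Nat.card V).factorization q := by
      have h1 : Nat.card (Q.subgroupOf V) = Nat.card Q :=
        Nat.card_congr (Subgroup.subgroupOfEquivOfLe hQV).toEquiv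
      have h2 : m ≤ (Nat.card V).factorization q := by
        apply (hqp.pow_dvd_iff_le_factorization (Nat.card_pos.ne')).1
        rw [← hQcard]
        exact Subgroup.card_dvd_of_le hQV
      have h3 : (Nat.card V).factorization q ≤ m :=
        (Nat.factorization_le_iff_dvd (Nat.card_pos.ne') (Nat.card_pos.ne')).2 hVH q
      rw [h1, hQcard, le_antisymm h3 h2]
    set P : Sylow q V := Sylow.ofCard (Q.subgroupOf V) hcardQ' with hP
    have hPcoe : (P : Subgroup V) = Q.subgroupOf V := Sylow.coe_ofCard _ _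
    have hPcyc : IsCyclic P := by
      have e : Q.subgroupOf V ≃* Q := Subgroup.subgroupOfEquivOfLe hQV
      have : IsCyclic (Q.subgroupOf V) := isCyclic_of_surjective e.symm e.symm.surjective
      exact this
    have hle := IsCyclic.normalizer_le_centralizer (G := V) (p := q) hq.symm hPcyc
    have hv' : (⟨v, hvV⟩ : V) ∈ Subgroup.normalizer ((P : Subgroup V) : Set V) := by
      rw [hPcoe, Subgroup.mem_normalizer_iff]
      intro z
      rw [Subgroup.mem_subgroupOf, Subgroup.mem_subgroupOf]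
      exact Subgroup.mem_normalizer_iff.1 hvN (z : G)
    have hv'' := hle hv'
    rw [Subgroup.mem_centralizer_iff] at hv''
    have hgP : (⟨g, hQV hg⟩ : V) ∈ ((P : Subgroup V) : Set V) := by
      rw [hPcoe]
      exact Subgroup.mem_subgroupOf.2 hg
    exact congrArg Subtype.val (hv'' _ hgP)
  -- the normaliser of `Q` centralises `Q`
  have hkey : ∀ y ∈ H ⊓ Subgroup.normalizer (Q : Set G), ∀ g ∈ Q, g * y = y * g := by
    intro y hy g hg
    set X := H ⊓ Subgroup.normalizer (Q : Set G) with hX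
    have hXodd : Odd (Nat.card X) :=
      Odd.of_dvd_nat hodd (Subgroup.card_dvd_of_le inf_le_left)
    have hXnorm : ∀ x ∈ X, t * x * t⁻¹ ∈ X := by
      intro x hx
      obtain ⟨hxH, hxN⟩ := Subgroup.mem_inf.1 hx
      exact Subgroup.mem_inf.2 ⟨hnorm x hxH,
        Subgroup.mul_mem _ (Subgroup.mul_mem _ htN hxN) (Subgroup.inv_mem _ htN)⟩
    obtain ⟨hfac, -, -⟩ := Cfsg.Agent.S1124.result t ht X hXodd hXnorm
    obtain ⟨⟨v, k⟩, ⟨hv, hk, hyvk⟩, -⟩ := hfac y hy
    obtain ⟨hkX, hkinv⟩ := hk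
    simp only at hv hkX hkinv hyvk
    have hkN : k ∈ Subgroup.normalizer (Q : Set G) := (Subgroup.mem_inf.1 hkX).2
    -- `k` centralises `g`
    have hkg : k * g = g * k := by
      have h1 : k * g * k⁻¹ ∈ Q := (Subgroup.mem_normalizer_iff.1 hkN g).1 hg
      have h2 := hcent _ h1
      have h3 : t * (k * g * k⁻¹) * t⁻¹ = k⁻¹ * g * k := by
        calc t * (k * g * k⁻¹) * t⁻¹ = (t * k * t⁻¹) * (t * g * t⁻¹) * (t * k * t⁻¹)⁻¹ := by group
          _ = k⁻¹ * g * k := by rw [hkinv, hcent g hg, inv_inv]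
      rw [h3] at h2
      have h4 : (k * k) * g = g * (k * k) := by
        calc (k * k) * g = k * (k * g * k⁻¹) * k := by group
          _ = k * (k⁻¹ * g * k) * k := by rw [h2]
          _ = g * (k * k) := by group
      exact commute_of_sq_commute_of_odd' hXodd hkX h4
    -- `v` centralises `g`
    have hvX : v ∈ X := (Subgroup.mem_inf.1 hv).1
    have hvV : v ∈ V :=
      Subgroup.mem_inf.2 ⟨(Subgroup.mem_inf.1 hvX).1, (Subgroup.mem_inf.1 hv).2⟩
    have hvg := hVkey v hvV (Subgroup.mem_inf.1 hvX).2 g hg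
    rw [hyvk]
    calc g * (v * k) = (g * v) * k := by group
      _ = (v * g) * k := by rw [hvg]
      _ = v * (g * k) := by group
      _ = v * (k * g) := by rw [hkg]
      _ = v * k * g := by group
  have hNC : Subgroup.normalizer (Q : Set G) ≤ Subgroup.centralizer (Q : Set G) := by
    intro y hy
    rw [Subgroup.mem_centralizer_iff]
    intro g hg
    rcases zass_normalizer_cases hZ hab hQH hQbot hy with ⟨hya, hyb⟩ | ⟨hya, hyb⟩
    · exact hkey y (Subgroup.mem_inf.2 ⟨mem_stab2.2 ⟨hya, hyb⟩, hy⟩) g hg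
    · have htyH : t * y ∈ H :=
        mem_stab2.2 ⟨by rw [mul_smul, hya, htb], by rw [mul_smul, hyb, hta]⟩
      have h1 := hkey (t * y) (Subgroup.mem_inf.2 ⟨htyH, Subgroup.mul_mem _ htN hy⟩) g hg
      have h2 := htcQ g hg
      have : t * (g * y) = t * (y * g) := by
        calc t * (g * y) = (t * g) * y := by group
          _ = (g * t) * y := by rw [h2]
          _ = g * (t * y) := by group
          _ = (t * y) * g := h1
          _ = t * (y * g) := by group
      exact mul_left_cancel this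
  -- Burnside's transfer theorem
  have hidx := zass_not_dvd_index hZ hab hqp hq2 hqH
  have hfact : (Nat.card G).factorization q = m := by
    have h1 : Nat.card G = Nat.card H * H.index := (Subgroup.card_mul_index H).symm
    rw [h1, Nat.factorization_mul (Nat.card_pos.ne') (Subgroup.index_ne_zero_of_finite),
      Finsupp.add_apply, Nat.factorization_eq_zero_of_not_dvd hidx, add_zero]
  set P : Sylow q G := Sylow.ofCard Q (by rw [hQcard, hfact]) with hP
  have hPQ : (P : Subgroup G) = Q := Sylow.coe_ofCard _ _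
  have hNC' : Subgroup.normalizer ((P : Subgroup G) : Set G) ≤
      Subgroup.centralizer ((P : Subgroup G) : Set G) := by
    rw [hPQ]; exact hNC
  have hcompl := MonoidHom.ker_transferSylow_isComplement' P hNC'
  refine ⟨q, hqp, hqH, (MonoidHom.transferSylow P hNC').ker, MonoidHom.normal_ker _, ?_⟩
  rw [hcompl.symm.index_eq_card, hPQ, hQcard, hfact]

end ZassOdd

end Cfsg.Agent.Lib.Helper19
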