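import Mathlib

/-!
# A commutative group acting regularly on the non-identity elements of a finite abelian group
gives field coordinates (helper19)
-/

set_option autoImplicit false
set_option linter.style.haveILetI false

namespace Cfsg.Agent.Lib.Helper19.Suz

section
variable {A : Type*} [AddCommGroup A] {T : Type*} [Group T]

/-- the centraliser subring of a family of endomorphisms -/
def centRing (r : T → AddMonoid.End A) : Subring (AddMonoid.End A) :=
  Subring.centralizer (Set.range r)

theorem mem_centRing {r : T → AddMonoid.End A} {f : AddMonoid.End A} :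
    f ∈ centRing r ↔ ∀ t x, r t (f x) = f (r t x) := by
  unfold centRing
  rw [Subring.mem_centralizer_iff]
  constructor
  · intro h t x
    have := h (r t) ⟨t, rfl⟩
    exact DFunLike.congr_fun this x
  · rintro h g ⟨t, rfl⟩
    ext x
    exact h t x

end

theorem regField_add {A : Type*} [AddCommGroup A] [Finite A] {T : Type*} [Group T]
    (hT : ∀ s t : T, s * t = t * s)
    (r : T → AddMonoid.End A) (hrmul : ∀ s t, r (s * t) = r s * r t) (hrone : r 1 = 1)
    (hreg : ∀ x y : A, x ≠ 0 → y ≠ 0 → ∃! t : T, r t x = y)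
    (x₀ : A) (hx₀ : x₀ ≠ 0) (F : Type) [Field F] [Fintype F] (hF : Fintype.card F = Nat.card A) :
    ∃ (a : A → F) (κ : T → F), Function.Bijective a ∧ (∀ x y, a (x + y) = a x + a y) ∧ a x₀ = 1 ∧
      (∀ t, κ t ≠ 0) ∧ (∀ u : F, u ≠ 0 → ∃ t, κ t = u) ∧ (∀ s t, κ (s * t) = κ s * κ t) ∧
      ∀ t x, a (r t x) = κ t * a x := by
  classical
  set R := centRing r with hR
  have hr_mem : ∀ t, r t ∈ R := by
    intro t
    rw [hR, mem_centRing]
    intro s x
    have h1 : (r s * r t) x = (r t * r s) x := by rw [← hrmul, ← hrmul, hT]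
    exact h1
  -- every element of R vanishing at x₀ is zero
  have hzero : ∀ f ∈ R, f x₀ = 0 → f = 0 := by
    intro f hf h0
    rw [hR, mem_centRing] at hf
    ext y
    by_cases hy : y = 0
    · rw [hy, map_zero, map_zero]
    · obtain ⟨t, ht, -⟩ := hreg x₀ y hx₀ hy
      rw [← ht, ← hf t x₀, h0, map_zero]; rfl
  -- every nonzero element of R is some r t
  have hkey : ∀ f ∈ R, f ≠ 0 → ∃ t, f = r t := by
    intro f hf hne
    have h1 : f x₀ ≠ 0 := fun h0 => hne (hzero f hf h0)
    obtain ⟨t, ht, -⟩ := hreg x₀ (f x₀) hx₀ h1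
    refine ⟨t, ?_⟩
    have h2 : f - r t = 0 := by
      apply hzero _ (R.sub_mem hf (hr_mem t))
      show f x₀ - r t x₀ = 0
      rw [ht, sub_self]
    exact sub_eq_zero.mp h2
  have hrinv : ∀ t, r t * r t⁻¹ = 1 := by
    intro t; rw [← hrmul, mul_inv_cancel, hrone]
  have hrne : ∀ t, r t ≠ 0 := by
    intro t h0
    have h1 := hrinv t
    rw [h0, zero_mul] at h1
    have h2 : (0 : AddMonoid.End A) x₀ = (1 : AddMonoid.End A) x₀ := by rw [h1]
    exact hx₀ h2.symm
  have hfield : IsField ↥R := by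
    refine ⟨⟨0, 1, ?_⟩, ?_, ?_⟩
    · intro h01
      have h1 : ((0 : ↥R) : AddMonoid.End A) = ((1 : ↥R) : AddMonoid.End A) := congrArg Subtype.val h01
      have h2 : (0 : AddMonoid.End A) x₀ = (1 : AddMonoid.End A) x₀ := by
        rw [show (0 : AddMonoid.End A) = ((0 : ↥R) : AddMonoid.End A) from rfl, h1]; rfl
      exact hx₀ h2.symm
    · rintro ⟨f, hf⟩ ⟨g, hg⟩
      apply Subtype.ext
      show f * g = g * f
      by_cases hf0 : f = 0
      · rw [hf0, zero_mul, mul_zero]
      by_cases hg0 : g = 0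
      · rw [hg0, zero_mul, mul_zero]
      obtain ⟨s, rfl⟩ := hkey f hf hf0
      obtain ⟨t, rfl⟩ := hkey g hg hg0
      rw [← hrmul, ← hrmul, hT]
    · rintro ⟨f, hf⟩ hne
      have hf0 : f ≠ 0 := fun h => hne (Subtype.ext h)
      obtain ⟨t, rfl⟩ := hkey f hf hf0
      refine ⟨⟨r t⁻¹, hr_mem _⟩, ?_⟩
      apply Subtype.ext
      exact hrinv t
  letI : Field ↥R := hfield.toField
  haveI : Finite (AddMonoid.End A) :=
    Finite.of_injective (fun f : AddMonoid.End A => (f : A → A)) DFunLike.coe_injective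
  haveI : Finite ↥R := inferInstance
  letI : Fintype ↥R := Fintype.ofFinite _
  -- evaluation at x₀
  let ev : ↥R → A := fun f => (f : AddMonoid.End A) x₀
  have hev_add : ∀ f g : ↥R, ev (f + g) = ev f + ev g := fun f g => rfl
  have hev_inj : Function.Injective ev := by
    intro f g hfg
    have h1 : (f - g : ↥R) = 0 := by
      apply Subtype.ext
      apply hzero _ (f - g).2
      show (f : AddMonoid.End A) x₀ - (g : AddMonoid.End A) x₀ = 0
      exact sub_eq_zero.mpr hfg
    exact sub_eq_zero.mp h1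
  have hev_surj : Function.Surjective ev := by
    intro y
    by_cases hy : y = 0
    · exact ⟨0, by rw [hy]; rfl⟩
    · obtain ⟨t, ht, -⟩ := hreg x₀ y hx₀ hy
      exact ⟨⟨r t, hr_mem t⟩, ht⟩
  have hev : Function.Bijective ev := ⟨hev_inj, hev_surj⟩
  have hcardR : Fintype.card ↥R = Fintype.card F := by
    rw [hF, ← Nat.card_eq_fintype_card]
    exact Nat.card_eq_of_bijective ev hev
  let θ : ↥R ≃+* F := FiniteField.ringEquivOfCardEq hcardR
  let e := Equiv.ofBijective ev hev
  have he_apply : ∀ f, e f = (f : AddMonoid.End A) x₀ := fun f => rfl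
  have hesymm_add : ∀ x y, e.symm (x + y) = e.symm x + e.symm y := by
    intro x y
    apply e.injective
    rw [Equiv.apply_symm_apply]
    show x + y = ev (e.symm x + e.symm y)
    rw [hev_add]
    show x + y = e (e.symm x) + e (e.symm y)
    rw [Equiv.apply_symm_apply, Equiv.apply_symm_apply]
  refine ⟨fun x => θ (e.symm x), fun t => θ ⟨r t, hr_mem t⟩, ?_, ?_, ?_, ?_, ?_, ?_, ?_⟩
  · exact θ.bijective.comp e.symm.bijective
  · intro x y
    show θ (e.symm (x + y)) = θ (e.symm x) + θ (e.symm y)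
    rw [hesymm_add, map_add]
  · show θ (e.symm x₀) = 1
    have : e.symm x₀ = 1 := by
      apply e.injective
      rw [Equiv.apply_symm_apply, he_apply]; rfl
    rw [this, map_one]
  · intro t h0
    have h1 : (⟨r t, hr_mem t⟩ : ↥R) = 0 := by
      have := (map_eq_zero_iff θ θ.injective).mp h0
      exact this
    exact hrne t (congrArg Subtype.val h1)
  · intro u hu
    have h1 : θ.symm u ≠ 0 := by
      intro h0
      apply hu
      have := congrArg θ h0
      rwa [RingEquiv.apply_symm_apply, map_zero] at this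
    have h2 : ((θ.symm u : ↥R) : AddMonoid.End A) ≠ 0 := fun h => h1 (Subtype.ext h)
    obtain ⟨t, ht⟩ := hkey _ (θ.symm u).2 h2
    refine ⟨t, ?_⟩
    have h3 : (⟨r t, hr_mem t⟩ : ↥R) = θ.symm u := Subtype.ext ht.symm
    show θ ⟨r t, hr_mem t⟩ = u
    rw [h3, RingEquiv.apply_symm_apply]
  · intro s t
    show θ ⟨r (s * t), hr_mem _⟩ = θ ⟨r s, hr_mem s⟩ * θ ⟨r t, hr_mem t⟩
    rw [← map_mul]
    congr 1
    apply Subtype.ext
    exact hrmul s t
  · intro t x
    show θ (e.symm (r t x)) = θ ⟨r t, hr_mem t⟩ * θ (e.symm x)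
    rw [← map_mul]
    congr 1
    apply e.injective
    rw [Equiv.apply_symm_apply, he_apply]
    show r t x = (r t) (((e.symm x : ↥R) : AddMonoid.End A) x₀)
    rw [← he_apply, Equiv.apply_symm_apply]

/-- multiplicative version, with the action given by plain functions -/
theorem regField {M : Type*} [Group M] [Finite M] (hcomm : ∀ a b : M, a * b = b * a)
    {T : Type*} [Group T] (hT : ∀ s t : T, s * t = t * s)
    (ρ : T → M → M) (hρmul : ∀ t x y, ρ t (x * y) = ρ t x * ρ t y)
    (hρcomp : ∀ s t x, ρ (s * t) x = ρ s (ρ t x)) (hρone : ∀ x, ρ 1 x = x)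
    (hreg : ∀ x y : M, x ≠ 1 → y ≠ 1 → ∃! t : T, ρ t x = y)
    (x₀ : M) (hx₀ : x₀ ≠ 1) (F : Type) [Field F] [Fintype F] (hF : Fintype.card F = Nat.card M) :
    ∃ (a : M → F) (κ : T → F), Function.Bijective a ∧ (∀ x y, a (x * y) = a x + a y) ∧ a x₀ = 1 ∧
      (∀ t, κ t ≠ 0) ∧ (∀ u : F, u ≠ 0 → ∃ t, κ t = u) ∧ (∀ s t, κ (s * t) = κ s * κ t) ∧
      ∀ t x, a (ρ t x) = κ t * a x := by
  letI : CommGroup M := { ‹Group M› with mul_comm := hcomm }
  let r : T → AddMonoid.End (Additive M) := fun t =>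
    AddMonoidHom.mk' (fun x => Additive.ofMul (ρ t x.toMul)) (by
      intro x y
      show Additive.ofMul (ρ t (x.toMul * y.toMul)) = _
      rw [hρmul]; rfl)
  have hr_apply : ∀ t (x : Additive M), r t x = Additive.ofMul (ρ t x.toMul) := fun t x => rfl
  have h := regField_add (A := Additive M) hT r
    (by
      intro s t
      ext x
      show Additive.ofMul (ρ (s * t) x.toMul) = r s (r t x)
      rw [hρcomp]; rfl)
    (by
      ext x
      show Additive.ofMul (ρ 1 x.toMul) = x
      rw [hρone]; rfl)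
    (by
      intro x y hx hy
      have hx' : x.toMul ≠ 1 := fun h => hx (by rw [← ofMul_toMul x, h]; rfl)
      have hy' : y.toMul ≠ 1 := fun h => hy (by rw [← ofMul_toMul y, h]; rfl)
      obtain ⟨t, ht, huniq⟩ := hreg x.toMul y.toMul hx' hy'
      refine ⟨t, ?_, ?_⟩
      · show Additive.ofMul (ρ t x.toMul) = y
        rw [ht]; rfl
      · intro s hs
        apply huniq
        have : Additive.ofMul (ρ s x.toMul) = y := hs
        rw [← this]; rfl)
    (Additive.ofMul x₀) (fun h => hx₀ (by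
      have := congrArg Additive.toMul h
      simpa using this)) F (by rw [hF]; rfl)
  obtain ⟨a, κ, ha, hadd, ha0, hκ0, hκs, hκm, haκ⟩ := h
  refine ⟨fun x => a (Additive.ofMul x), κ, ?_, ?_, ha0, hκ0, hκs, hκm, ?_⟩
  · exact ha.comp Additive.ofMul.bijective
  · intro x y
    show a (Additive.ofMul (x * y)) = _
    rw [ofMul_mul, hadd]
  · intro t x
    show a (Additive.ofMul (ρ t x)) = κ t * a (Additive.ofMul x)
    rw [← haκ]; rfl

end Cfsg.Agent.Lib.Helper19.Suz
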