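import Cfsg.Agent.Lib.Helper19.SuzClass2

/-!
# Suzuki 2-groups: the centre is elementary abelian (helper19)

Main result `SuzHyp.center_sq`: in a non-abelian finite 2-group `P` with a commutative group `K`
of automorphisms acting transitively and semiregularly on the involutions (at least two of them),
every central element squares to one.
-/

set_option autoImplicit false
set_option linter.style.haveILetI false

namespace Cfsg.Agent.Lib.Helper19.Suz

/-- In a non-abelian finite 2-group there is a non-central `x` with central square all of whose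
commutators are central. -/
theorem exists_second_center {P : Type*} [Group P] [Finite P] (hp : IsPGroup 2 P)
    (hna : ∃ x y : P, x * y ≠ y * x) :
    ∃ x : P, x ∉ Subgroup.center P ∧ x * x ∈ Subgroup.center P ∧
      ∀ y : P, x⁻¹ * y⁻¹ * x * y ∈ Subgroup.center P := by
  haveI : Fact (Nat.Prime 2) := ⟨Nat.prime_two⟩
  have hnt : Nontrivial (P ⧸ Subgroup.center P) := by
    obtain ⟨a, b, hab⟩ := hna
    refine ⟨⟨QuotientGroup.mk a, 1, ?_⟩⟩
    intro h1
    rw [QuotientGroup.eq_one_iff, Subgroup.mem_center_iff] at h1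
    exact hab (h1 b).symm
  obtain ⟨u, huc, hu1, hu2⟩ := exists_central_involution (hp.to_quotient (Subgroup.center P))
  induction u using QuotientGroup.induction_on with
  | H x =>
    refine ⟨x, ?_, ?_, ?_⟩
    · intro hx
      exact hu1 ((QuotientGroup.eq_one_iff x).mpr hx)
    · rw [← QuotientGroup.eq_one_iff, QuotientGroup.mk_mul]; exact hu2
    · intro y
      rw [← QuotientGroup.eq_one_iff]
      simp only [QuotientGroup.mk_mul, QuotientGroup.mk_inv]
      have := (Subgroup.mem_center_iff.mp huc) (QuotientGroup.mk y)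
      calc (QuotientGroup.mk x : P ⧸ Subgroup.center P)⁻¹ * (QuotientGroup.mk y)⁻¹ *
            QuotientGroup.mk x * QuotientGroup.mk y
          = (QuotientGroup.mk x)⁻¹ * (QuotientGroup.mk y)⁻¹ *
            (QuotientGroup.mk x * QuotientGroup.mk y) := by group
        _ = (QuotientGroup.mk x)⁻¹ * (QuotientGroup.mk y)⁻¹ *
            (QuotientGroup.mk y * QuotientGroup.mk x) := by rw [this]
        _ = 1 := by group

universe u

theorem center_sq_aux : ∀ n : ℕ, ∀ (P : Type u) [Group P] (K : Subgroup (MulAut P)),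
    Nat.card P = n → SuzHyp P K → (∃ x y : P, x * y ≠ y * x) →
    ∀ z ∈ Subgroup.center P, z * z = 1 := by
  intro n
  induction n using Nat.strong_induction_on with
  | _ n ih =>
    intro P _ K hcard h hna z hz
    haveI := h.fin
    by_contra hz2
    have hQ : SuzHyp (P ⧸ Z0 P) (Kbar K) := h.quot hz hz2
    by_cases hQna : ∃ a b : P ⧸ Z0 P, a * b ≠ b * a
    · -- the quotient is again non-abelian: induction
      have hlt : Nat.card (P ⧸ Z0 P) < n := hcard ▸ h.card_quot_lt
      have hIH := ih _ hlt (P ⧸ Z0 P) (Kbar K) rfl hQ hQna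
      obtain ⟨x, hxc, hxx, hxy⟩ := exists_second_center h.pgrp hna
      -- all commutators of x square to one
      have hcomm_sq : ∀ y : P, x⁻¹ * y⁻¹ * x * y ∈ Z0 P := by
        intro y
        refine ⟨hxy y, ?_⟩
        have hc := Subgroup.mem_center_iff.mp (hxy y)
        have hxxc := Subgroup.mem_center_iff.mp hxx y
        -- y⁻¹ x y = x c, so y⁻¹ x² y = x² c²
        have e1 : y⁻¹ * x * y = x * (x⁻¹ * y⁻¹ * x * y) := by group
        have e2 : y⁻¹ * (x * x) * y = x * x * ((x⁻¹ * y⁻¹ * x * y) * (x⁻¹ * y⁻¹ * x * y)) := by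
          calc y⁻¹ * (x * x) * y = (y⁻¹ * x * y) * (y⁻¹ * x * y) := by group
            _ = x * (x⁻¹ * y⁻¹ * x * y) * (x * (x⁻¹ * y⁻¹ * x * y)) := by rw [e1]
            _ = x * ((x⁻¹ * y⁻¹ * x * y) * x) * (x⁻¹ * y⁻¹ * x * y) := by group
            _ = x * (x * (x⁻¹ * y⁻¹ * x * y)) * (x⁻¹ * y⁻¹ * x * y) := by rw [← hc x]
            _ = x * x * ((x⁻¹ * y⁻¹ * x * y) * (x⁻¹ * y⁻¹ * x * y)) := by group
        have e3 : y⁻¹ * (x * x) * y = x * x := by
          calc y⁻¹ * (x * x) * y = y⁻¹ * ((x * x) * y) := by group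
            _ = y⁻¹ * (y * (x * x)) := by rw [hxxc]
            _ = x * x := by group
        rw [e3] at e2
        exact (mul_eq_left.mp e2.symm)
      -- so the image of x is central in the quotient
      have hxQ : (QuotientGroup.mk x : P ⧸ Z0 P) ∈ Subgroup.center (P ⧸ Z0 P) := by
        rw [Subgroup.mem_center_iff]
        intro q
        induction q using QuotientGroup.induction_on with
        | H y =>
          rw [← QuotientGroup.mk_mul, ← QuotientGroup.mk_mul, QuotientGroup.eq]
          have := hcomm_sq y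
          have e : (y * x)⁻¹ * (x * y) = x⁻¹ * y⁻¹ * x * y := by group
          rw [e]; exact this
      have h4 := hIH _ hxQ
      rw [mk_sq_eq_one_iff h] at h4
      exact hxc (h.four_central hz hz2 h4)
    · -- the quotient is abelian: class two
      push Not at hQna
      have hcl : ∀ x y : P, x⁻¹ * y⁻¹ * x * y ∈ Z0 P := by
        intro x y
        have := hQna (QuotientGroup.mk x) (QuotientGroup.mk y)
        rw [← QuotientGroup.mk_mul, ← QuotientGroup.mk_mul, eq_comm, QuotientGroup.eq] at this
        have e : (y * x)⁻¹ * (x * y) = x⁻¹ * y⁻¹ * x * y := by group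
        rw [e] at this; exact this
      obtain ⟨a, b, hab⟩ := hna
      exact hab (h.class2_comm hz hz2 hcl a b)

/-- **Higman**: the centre of a Suzuki 2-group is elementary abelian. -/
theorem SuzHyp.center_sq {P : Type*} [Group P] {K : Subgroup (MulAut P)} (h : SuzHyp P K)
    (hna : ∃ x y : P, x * y ≠ y * x) : ∀ z ∈ Subgroup.center P, z * z = 1 :=
  center_sq_aux _ P K rfl h hna

end Cfsg.Agent.Lib.Helper19.Suz
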