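import Mathlib

/-!
# Sign of a permutation all of whose non-trivial cycles have the same even length (helper19)
-/

set_option autoImplicit false

namespace Cfsg.Agent.Lib.Helper19.KTPerm

variable {X : Type*} [Fintype X] [DecidableEq X]

theorem mem_cycleType_eq (π : Equiv.Perm X) (m : ℕ) (hm : 0 < m) (hpow : π ^ m = 1)
    (hfree : ∀ j, 0 < j → j < m → ∀ x ∈ π.support, (π ^ j) x ≠ x) :
    ∀ n ∈ π.cycleType, n = m := by
  intro n hn
  rw [Equiv.Perm.cycleType_def, Multiset.mem_map] at hn
  obtain ⟨c, hc, rfl⟩ := hn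
  rw [Finset.mem_val, Equiv.Perm.mem_cycleFactorsFinset_iff] at hc
  obtain ⟨hcyc, hca⟩ := hc
  have hpowa : ∀ j : ℕ, ∀ a ∈ c.support, (π ^ j) a = (c ^ j) a := by
    intro j
    induction j with
    | zero => intro a _; simp
    | succ j ih =>
      intro a ha
      rw [pow_succ', pow_succ', Equiv.Perm.mul_apply, Equiv.Perm.mul_apply, ih a ha]
      exact (hca _ (Equiv.Perm.pow_apply_mem_support.2 ha)).symm
  have hord : orderOf c = c.support.card := hcyc.orderOf
  obtain ⟨a, ha⟩ := hcyc.nonempty_support
  have haπ : a ∈ π.support := by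
    rw [Equiv.Perm.mem_support, ← hca a ha]
    exact Equiv.Perm.mem_support.1 ha
  have hpos : 0 < c.support.card := Finset.card_pos.2 ⟨a, ha⟩
  have h1 : (π ^ c.support.card) a = a := by
    rw [hpowa _ a ha, ← hord, pow_orderOf_eq_one]
    rfl
  have hle : m ≤ c.support.card := by
    by_contra hlt
    push Not at hlt
    exact hfree _ hpos hlt a haπ h1
  have hcm : c ^ m = 1 := by
    ext b
    by_cases hb : b ∈ c.support
    · rw [← hpowa m b hb, hpow]
    · rw [Equiv.Perm.notMem_support] at hb
      rw [Equiv.Perm.pow_apply_eq_self_of_apply_eq_self hb]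
      rfl
  have hdvd : c.support.card ∣ m := by
    rw [← hord]
    exact orderOf_dvd_of_pow_eq_one hcm
  exact le_antisymm (Nat.le_of_dvd hm hdvd) hle

/-- sign of a permutation whose non-trivial cycles all have the same even length `m`, the
number of moved points being an odd multiple of `m` -/
theorem sign_eq_neg_one (π : Equiv.Perm X) (m k : ℕ) (hm : 0 < m) (hmeven : Even m)
    (hpow : π ^ m = 1)
    (hfree : ∀ j, 0 < j → j < m → ∀ x ∈ π.support, (π ^ j) x ≠ x)
    (hcard : π.support.card = k * m) (hk : Odd k) :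
    Equiv.Perm.sign π = -1 := by
  have hall := mem_cycleType_eq π m hm hpow hfree
  have hrep : π.cycleType = Multiset.replicate (Multiset.card π.cycleType) m :=
    Multiset.eq_replicate.2 ⟨rfl, hall⟩
  have hsum : (Multiset.card π.cycleType) * m = k * m := by
    rw [← hcard, ← Equiv.Perm.sum_cycleType, hrep, Multiset.sum_replicate, smul_eq_mul,
      Multiset.card_replicate]
  have hk' : Multiset.card π.cycleType = k := Nat.eq_of_mul_eq_mul_right hm hsum
  rw [Equiv.Perm.sign_of_cycleType, Equiv.Perm.sum_cycleType, hcard, hk']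
  exact Odd.neg_one_pow ((hmeven.mul_left k).add_odd hk)

end Cfsg.Agent.Lib.Helper19.KTPerm
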