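import Mathlib
import Cfsg.Prelude.Def_Perm
import Cfsg.Agent.Lib.Helper59.NearFieldAlg
import Cfsg.Agent.Lib.Helper19.KTPerm
import Cfsg.Agent.S0682

/-!
# Finite KT-fields of order `p^f`, `f` odd, are fields with the inversion (helper19)

A near-field `β` of odd order `p ^ f` (`f` odd) with a multiplicative involution `τ` of the
non-zero elements whose only fixed points are `±1` and which satisfies the identity
coming from an element of order 3 of a sharply 3-transitive group, is commutative and
`τ` is the inversion.
-/

set_option autoImplicit false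

namespace Cfsg.Agent.Lib.Helper19.KTAlg

open Cfsg Cfsg.Agent.Lib.Helper59

section Basic
variable {β : Type*} [NearField β]

theorem neg_one_mul_nf (x : β) : (-1 : β) * x = -x := by
  have h : ((-1 : β) + 1) * x = (-1) * x + 1 * x := NearField.right_distrib _ _ _
  rw [neg_add_cancel, nf_zero_mul, one_mul] at h
  exact eq_neg_of_add_eq_zero_left h.symm

theorem nsmul_one_mul (k : ℕ) (x : β) : (k • (1 : β)) * x = k • x := by
  rw [Cfsg.Agent.S0682.nsmul_mul, one_mul]

theorem mul_right_cancel_nf {a b c : β} (hc : c ≠ 0) (h : a * c = b * c) : a = b := by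
  obtain ⟨c', hc1, -⟩ := NearField.exists_inv c hc
  calc a = a * (c * c') := by rw [hc1, mul_one]
    _ = (a * c) * c' := (mul_assoc _ _ _).symm
    _ = (b * c) * c' := by rw [h]
    _ = b * (c * c') := mul_assoc _ _ _
    _ = b := by rw [hc1, mul_one]

theorem mul_left_cancel_nf {a b c : β} (hc : c ≠ 0) (h : c * a = c * b) : a = b := by
  obtain ⟨c', -, hc2⟩ := NearField.exists_inv c hc
  calc a = (c' * c) * a := by rw [hc2, one_mul]
    _ = c' * (c * a) := mul_assoc _ _ _
    _ = c' * (c * b) := by rw [h]
    _ = (c' * c) * b := (mul_assoc _ _ _).symm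
    _ = b := by rw [hc2, one_mul]

theorem mulRight_pow_apply (u : βˣ) (j : ℕ) (x : β) :
    ((Units.mulRight u) ^ j) x = x * ((u ^ j : βˣ) : β) := by
  induction j generalizing x with
  | zero => simp
  | succ j ih =>
    rw [pow_succ, Equiv.Perm.mul_apply, ih, Units.mulRight_apply, pow_succ', Units.val_mul,
      mul_assoc]

end Basic

section Prime
variable {β : Type*} [NearField β] (p : ℕ) [hpf : Fact p.Prime] (hchar : ∀ x : β, p • x = 0)

omit hpf in
include hchar in
theorem nsmul_mod (n : ℕ) (x : β) : (n % p) • x = n • x := by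
  conv_rhs => rw [← Nat.div_add_mod n p, add_nsmul, mul_nsmul, hchar, nsmul_zero, zero_add]

include hchar in
theorem addOrderOf_one_eq : addOrderOf (1 : β) = p := by
  have h1 : addOrderOf (1 : β) ∣ p := addOrderOf_dvd_of_nsmul_eq_zero (hchar 1)
  rcases (Nat.dvd_prime hpf.out).1 h1 with h | h
  · exfalso
    rw [AddMonoid.addOrderOf_eq_one_iff] at h
    exact NearField.zero_ne_one h.symm
  · exact h

/-- the prime field, as a multiplicative map -/
noncomputable def primeHom : ZMod p →* β where
  toFun k := k.val • (1 : β)
  map_one' := by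
    have : Fact (1 < p) := ⟨hpf.out.one_lt⟩
    rw [ZMod.val_one, one_nsmul]
  map_mul' a b := by
    rw [nsmul_one_mul, ← mul_nsmul', ZMod.val_mul, nsmul_mod p hchar]

theorem primeHom_apply (k : ZMod p) : primeHom p hchar k = k.val • (1 : β) := rfl

theorem primeHom_injective : Function.Injective (primeHom p hchar) := by
  intro a b h
  rw [primeHom_apply, primeHom_apply, nsmul_eq_nsmul_iff_modEq, addOrderOf_one_eq p hchar] at h
  apply ZMod.val_injective
  have ha := ZMod.val_lt a
  have hb := ZMod.val_lt b
  exact Nat.ModEq.eq_of_lt_of_lt h ha hb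

end Prime

theorem geom_identity (p f : ℕ) (hp : 1 ≤ p) :
    (∑ i ∈ Finset.range f, p ^ i) * (p - 1) + 1 = p ^ f := by
  induction f with
  | zero => simp
  | succ f ih =>
    rw [Finset.sum_range_succ, add_mul, pow_succ]
    obtain ⟨q, rfl⟩ : ∃ q, p = q + 1 := ⟨p - 1, by omega⟩
    simp only [Nat.add_sub_cancel] at ih ⊢
    nlinarith [ih]

section StepA
variable {β : Type*} [NearField β] [Fintype β] [DecidableEq β]

/-- Step A: a prime-field unit acting as an odd permutation by right multiplication. -/
theorem exists_odd_unit {p f : ℕ} [hpf : Fact p.Prime] (hp2 : p ≠ 2) (hf : Odd f)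
    (hcard : Fintype.card β = p ^ f) (hchar : ∀ x : β, p • x = 0) :
    ∃ (u : βˣ) (k k' : ℕ), (u : β) = k • (1 : β) ∧ ((u⁻¹ : βˣ) : β) = k' • (1 : β) ∧
      Equiv.Perm.sign (Units.mulRight u) = -1 := by
  obtain ⟨g, hg⟩ := IsCyclic.exists_generator (α := (ZMod p)ˣ)
  have hordg : orderOf g = p - 1 := by
    rw [orderOf_eq_card_of_forall_mem_zpowers hg, Nat.card_eq_fintype_card, ZMod.card_units]
  set u : βˣ := Units.map (primeHom p hchar) g with hu
  have hinj : Function.Injective (Units.map (primeHom p hchar)) :=
    Units.map_injective (primeHom_injective p hchar)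
  have hordu : orderOf u = p - 1 := by
    rw [hu, orderOf_injective _ hinj, hordg]
  have hpodd : Odd p := hpf.out.odd_of_ne_two hp2
  have hp3 : 3 ≤ p := by
    have := hpf.out.two_le
    omega
  refine ⟨u, (g : ZMod p).val, ((g⁻¹ : (ZMod p)ˣ) : ZMod p).val, rfl, ?_, ?_⟩
  · rw [hu, ← map_inv]
    rfl
  · set S := ∑ i ∈ Finset.range f, p ^ i with hS
    have hgeom := geom_identity p f (by omega)
    apply Cfsg.Agent.Lib.Helper19.KTPerm.sign_eq_neg_one (Units.mulRight u) (p - 1) S
      (by omega)
    · obtain ⟨r, hr⟩ := hpodd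
      exact ⟨r, by omega⟩
    · ext x
      rw [mulRight_pow_apply, ← hordu, pow_orderOf_eq_one]
      simp
    · intro j hj0 hjm x hx hfix
      rw [mulRight_pow_apply] at hfix
      have hx0 : x ≠ 0 := by
        rintro rfl
        have h0 : (Units.mulRight u) (0 : β) = 0 := nf_zero_mul _
        exact (Equiv.Perm.mem_support.1 hx) h0
      have h1 : ((u ^ j : βˣ) : β) = 1 := by
        apply mul_left_cancel_nf hx0
        rw [hfix, mul_one]
      have h2 : u ^ j = 1 := Units.ext h1
      have h3 := orderOf_dvd_of_pow_eq_one h2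
      rw [hordu] at h3
      have := Nat.le_of_dvd hj0 h3
      omega
    · have hsupp : (Units.mulRight u).support = Finset.univ.erase (0 : β) := by
        ext x
        rw [Equiv.Perm.mem_support, Finset.mem_erase]
        constructor
        · intro h
          refine ⟨?_, Finset.mem_univ _⟩
          rintro rfl
          exact h (nf_zero_mul _)
        · rintro ⟨hx0, -⟩ h
          have h' : x * (u : β) = x := h
          have h1 : (u : β) = 1 := by
            apply mul_left_cancel_nf hx0
            rw [h', mul_one]
          have h2 : u = 1 := Units.ext h1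
          rw [h2, orderOf_one] at hordu
          omega
      rw [hsupp, Finset.card_erase_of_mem (Finset.mem_univ _), Finset.card_univ, hcard, ← hgeom,
        Nat.add_sub_cancel]
    · rw [hS, Finset.odd_sum_iff_odd_card_odd]
      have : (Finset.range f).filter (fun i => Odd (p ^ i)) = Finset.range f := by
        apply Finset.filter_true_of_mem
        intro i _
        exact hpodd.pow
      rw [this, Finset.card_range]
      exact hf

end StepA

end Cfsg.Agent.Lib.Helper19.KTAlg
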