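import Mathlib
import Cfsg.Prelude.Def_Perm
import Cfsg.Agent.Lib.Helper59.NearFieldAlg
import Cfsg.Agent.Lib.Helper19.KTAlg

/-!
# Finite KT-fields of order `p^f`, `f` odd (helper19), main argument
-/

set_option autoImplicit false

namespace Cfsg.Agent.Lib.Helper19.KTAlg

open Cfsg Cfsg.Agent.Lib.Helper59

/-- the data of a multiplicative involution on a near-field -/
structure Invol (β : Type*) [NearField β] where
  τ : β → β
  h0 : τ 0 = 0
  h1 : τ 1 = 1
  hmul : ∀ x a : β, x ≠ 0 → a ≠ 0 → τ (x * a) = τ x * τ a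
  hne : ∀ a : β, a ≠ 0 → τ a ≠ 0
  hinv : ∀ a : β, a ≠ 0 → τ (τ a) = a
  hfix : ∀ a : β, a ≠ 0 → τ a = a → a = 1 ∨ a = -1

section Sign
variable {β : Type*} [NearField β]

/-- the automorphism of the unit group -/
noncomputable def Invol.phi (D : Invol β) : βˣ →* βˣ where
  toFun u := nfUnit (D.τ u) (D.hne u (nf_unit_ne_zero u))
  map_one' := by
    apply Units.ext
    simp [D.h1]
  map_mul' u v := by
    apply Units.ext
    simp only [Units.val_mul, nfUnit_val]
    exact D.hmul u v (nf_unit_ne_zero u) (nf_unit_ne_zero v)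

theorem Invol.phi_val (D : Invol β) (u : βˣ) : ((D.phi u : βˣ) : β) = D.τ u := rfl

theorem Invol.phi_phi (D : Invol β) (u : βˣ) : D.phi (D.phi u) = u := by
  apply Units.ext
  rw [D.phi_val, D.phi_val]
  exact D.hinv u (nf_unit_ne_zero u)

theorem Invol.tau_tau (D : Invol β) (x : β) : D.τ (D.τ x) = x := by
  by_cases hx : x = 0
  · rw [hx, D.h0, D.h0]
  · exact D.hinv x hx

variable [Fintype β] [DecidableEq β]

/-- the sign of the right multiplication -/
noncomputable def sgn : βˣ →* ℤˣ where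
  toFun u := Equiv.Perm.sign (Units.mulRight u)
  map_one' := by
    have : Units.mulRight (1 : βˣ) = 1 := by
      ext x
      simp
    rw [this, Equiv.Perm.sign_one]
  map_mul' u v := by
    have : Units.mulRight (u * v) = Units.mulRight v * Units.mulRight u := by
      ext x
      simp [mul_assoc]
    rw [this, Equiv.Perm.sign_mul, mul_comm]

theorem sgn_apply (u : βˣ) : sgn u = Equiv.Perm.sign (Units.mulRight u) := rfl

theorem Invol.sgn_phi (D : Invol β) (u : βˣ) : sgn (D.phi u) = sgn u := by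
  have hinvol : Function.Involutive D.τ := D.tau_tau
  set T : Equiv.Perm β := hinvol.toPerm D.τ with hT
  have h : Units.mulRight (D.phi u) = T * Units.mulRight u * T := by
    ext x
    show x * ((D.phi u : βˣ) : β) = D.τ (D.τ x * u)
    rw [D.phi_val]
    by_cases hx : x = 0
    · rw [hx, D.h0, nf_zero_mul, nf_zero_mul, D.h0]
    · rw [D.hmul _ _ (D.hne x hx) (nf_unit_ne_zero u), D.hinv x hx]
  rw [sgn_apply, sgn_apply, h, Equiv.Perm.sign_mul, Equiv.Perm.sign_mul, mul_comm, ← mul_assoc,
    Int.units_mul_self, one_mul]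

/-- the unit `-1` -/
noncomputable def negU (h2 : (1 : β) + 1 ≠ 0) : βˣ :=
  nfUnit (-1 : β) (by
    intro h
    apply h2
    have : (1 : β) = 0 := by rw [← neg_neg (1 : β), h, neg_zero]
    rw [this, add_zero])

theorem negU_val (h2 : (1 : β) + 1 ≠ 0) : ((negU h2 : βˣ) : β) = -1 := rfl

/-- Step B: `τ` inverts the kernel of the sign character. -/
theorem Invol.phi_eq_inv_of_sgn (D : Invol β) (h2 : (1 : β) + 1 ≠ 0) (u₀ : βˣ) (hu₀ : sgn u₀ = -1)
    (x : βˣ) (hx : sgn x = 1) : D.phi x = x⁻¹ := by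
  classical
  set ψ : βˣ → βˣ := fun y => y⁻¹ * D.phi y with hψ
  have hψsgn : ∀ y, sgn (ψ y) = 1 := by
    intro y
    rw [hψ]
    simp only [map_mul, map_inv, D.sgn_phi]
    exact inv_mul_cancel _
  have hfib : ∀ y y' : βˣ, ψ y = ψ y' → y' = y ∨ y' = negU h2 * y := by
    intro y y' h
    have hw : D.phi (y' * y⁻¹) = y' * y⁻¹ := by
      rw [map_mul, map_inv]
      have h' : y⁻¹ * D.phi y = y'⁻¹ * D.phi y' := h
      have : D.phi y' = y' * (y⁻¹ * D.phi y) := by rw [h', mul_inv_cancel_left]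
      rw [this, mul_assoc, mul_assoc, mul_inv_cancel, mul_one]
    have hw' : D.τ ((y' * y⁻¹ : βˣ) : β) = ((y' * y⁻¹ : βˣ) : β) := by
      rw [← D.phi_val, hw]
    rcases D.hfix _ (nf_unit_ne_zero _) hw' with h1 | h1
    · left
      have : y' * y⁻¹ = 1 := Units.ext h1
      exact mul_inv_eq_one.1 this
    · right
      have : y' * y⁻¹ = negU h2 := Units.ext h1
      exact mul_inv_eq_iff_eq_mul.1 this
  -- counting
  have hcount : (Finset.univ : Finset βˣ).card ≤ 2 * ((Finset.univ : Finset βˣ).image ψ).card := by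
    apply Finset.card_le_mul_card_image
    intro a ha
    rw [Finset.mem_image] at ha
    obtain ⟨y, -, rfl⟩ := ha
    have hsub : (Finset.univ.filter fun y' => ψ y' = ψ y) ⊆ {y, negU h2 * y} := by
      intro y' hy'
      rw [Finset.mem_filter] at hy'
      rw [Finset.mem_insert, Finset.mem_singleton]
      exact hfib y y' hy'.2.symm
    exact (Finset.card_le_card hsub).trans Finset.card_le_two
  set Qf : Finset βˣ := Finset.univ.filter fun y => sgn y = 1 with hQf
  have himg : (Finset.univ : Finset βˣ).image ψ ⊆ Qf := by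
    intro a ha
    rw [Finset.mem_image] at ha
    obtain ⟨y, -, rfl⟩ := ha
    rw [hQf, Finset.mem_filter]
    exact ⟨Finset.mem_univ _, hψsgn y⟩
  have hsplit : Qf.card + (Finset.univ.filter fun y : βˣ => ¬ sgn y = 1).card
      = (Finset.univ : Finset βˣ).card := Finset.card_filter_add_card_filter_not _
  have hbij : (Finset.univ.filter fun y : βˣ => ¬ sgn y = 1).card = Qf.card := by
    symm
    apply Finset.card_bij (fun y _ => u₀ * y)
    · intro y hy
      rw [hQf, Finset.mem_filter] at hy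
      rw [Finset.mem_filter]
      refine ⟨Finset.mem_univ _, ?_⟩
      rw [map_mul, hy.2, hu₀, mul_one]
      decide
    · intro a _ b _ h
      exact mul_left_cancel h
    · intro b hb
      rw [Finset.mem_filter] at hb
      refine ⟨u₀⁻¹ * b, ?_, by rw [mul_inv_cancel_left]⟩
      rw [hQf, Finset.mem_filter]
      refine ⟨Finset.mem_univ _, ?_⟩
      rw [map_mul, map_inv, hu₀]
      rcases Int.units_eq_one_or (sgn b) with h | h
      · exact absurd h hb.2
      · rw [h]
        decide
  have hQle : Qf.card ≤ ((Finset.univ : Finset βˣ).image ψ).card := by omega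
  have heq : (Finset.univ : Finset βˣ).image ψ = Qf := Finset.eq_of_subset_of_card_le himg hQle
  have hxQ : x ∈ Qf := by
    rw [hQf, Finset.mem_filter]
    exact ⟨Finset.mem_univ _, hx⟩
  rw [← heq, Finset.mem_image] at hxQ
  obtain ⟨y, -, rfl⟩ := hxQ
  rw [hψ]
  simp only [map_mul, map_inv, D.phi_phi, mul_inv_rev, inv_inv]

/-- the kernel of the sign character is commutative -/
theorem Invol.comm_of_sgn (D : Invol β) (h2 : (1 : β) + 1 ≠ 0) (u₀ : βˣ) (hu₀ : sgn u₀ = -1)
    (a b : βˣ) (ha : sgn a = 1) (hb : sgn b = 1) : a * b = b * a := by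
  have hab : sgn (a * b) = 1 := by rw [map_mul, ha, hb, one_mul]
  have h1 := D.phi_eq_inv_of_sgn h2 u₀ hu₀ (a * b) hab
  rw [map_mul, D.phi_eq_inv_of_sgn h2 u₀ hu₀ a ha, D.phi_eq_inv_of_sgn h2 u₀ hu₀ b hb,
    mul_inv_rev] at h1
  have h2' := congrArg (fun z => z⁻¹) h1
  simp only [mul_inv_rev, inv_inv] at h2'
  exact h2'.symm

end Sign

end Cfsg.Agent.Lib.Helper19.KTAlg
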