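import Mathlib
import Cfsg.Prelude.Def_Perm
import Cfsg.Agent.Lib.Helper59.NearFieldAlg
import Cfsg.Agent.Lib.Helper19.KTMain

/-!
# Finite KT-fields of order `p^f`, `f` odd (helper19): the prime-field unit is central
-/

set_option autoImplicit false

namespace Cfsg.Agent.Lib.Helper19.KTAlg

open Cfsg Cfsg.Agent.Lib.Helper59

section StepC
variable {β : Type*} [NearField β]

theorem mul_neg_one_nf (hadd : ∀ x y : β, x + y = y + x) (h2 : (1 : β) + 1 ≠ 0) (x : β) :
    x * (-1) = -x := by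
  have h11 : (-1 : β) * (-1) = 1 := by rw [neg_one_mul_nf, neg_neg]
  have hz : (x + x * (-1)) * (-1) = x + x * (-1) := by
    rw [NearField.right_distrib, mul_assoc, h11, mul_one, hadd]
  by_cases hz0 : x + x * (-1) = 0
  · exact eq_neg_of_add_eq_zero_right hz0
  · exfalso
    have h : (-1 : β) = 1 := mul_left_cancel_nf hz0 (by rw [hz, mul_one])
    apply h2
    calc (1 : β) + 1 = -1 + 1 := by rw [h]
      _ = 0 := neg_add_cancel 1

variable [Fintype β] [DecidableEq β]

/-- Step C: the odd prime-field unit commutes with everything. -/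
theorem Invol.central_of_prime (D : Invol β) {p f : ℕ} [hpf : Fact p.Prime] (hp2 : p ≠ 2)
    (hf : Odd f) (hcard : Fintype.card β = p ^ f) (hchar : ∀ x : β, p • x = 0)
    (hadd : ∀ x y : β, x + y = y + x) (h2 : (1 : β) + 1 ≠ 0) (u₀ : βˣ) (k' : ℕ)
    (hk' : ((u₀⁻¹ : βˣ) : β) = k' • (1 : β))
    (hu₀ : sgn u₀ = -1) : ∀ x : β, x * (u₀ : β) = (u₀ : β) * x := by
  classical
  set ι : β → β := fun x => ((u₀⁻¹ : βˣ) : β) * (x * (u₀ : β)) with hι
  have hι_add : ∀ x y, ι (x + y) = ι x + ι y := by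
    intro x y
    show ((u₀⁻¹ : βˣ) : β) * ((x + y) * (u₀ : β)) =
      ((u₀⁻¹ : βˣ) : β) * (x * (u₀ : β)) + ((u₀⁻¹ : βˣ) : β) * (y * (u₀ : β))
    rw [hk', nsmul_one_mul, nsmul_one_mul, nsmul_one_mul, NearField.right_distrib]
    exact AddCommute.add_nsmul (hadd _ _) k'
  have hι_mul : ∀ x y, ι (x * y) = ι x * ι y := by
    intro x y
    show ((u₀⁻¹ : βˣ) : β) * ((x * y) * (u₀ : β)) =
      (((u₀⁻¹ : βˣ) : β) * (x * (u₀ : β))) * (((u₀⁻¹ : βˣ) : β) * (y * (u₀ : β)))
    simp only [mul_assoc, Units.mul_inv_cancel_left]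
  have hι_zero : ι 0 = 0 := by
    show ((u₀⁻¹ : βˣ) : β) * ((0 : β) * (u₀ : β)) = 0
    rw [nf_zero_mul, NearField.mul_zero]
  let ιA : β →+ β := { toFun := ι, map_zero' := hι_zero, map_add' := hι_add }
  have hι_neg : ∀ x, ι (-x) = -ι x := fun x => map_neg ιA x
  have hι_nsmul : ∀ (n : ℕ) x, ι (n • x) = n • ι x := fun n x => map_nsmul ιA n x
  -- `u₀ ^ 2` is central in the unit group
  have hsq1 : sgn (u₀ ^ 2) = 1 := by
    rw [map_pow, hu₀]
    decide
  have hsq : ∀ w : βˣ, u₀ ^ 2 * w = w * u₀ ^ 2 := by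
    intro w
    rcases Int.units_eq_one_or (sgn w) with hw | hw
    · exact D.comm_of_sgn h2 u₀ hu₀ _ _ hsq1 hw
    · have hq : sgn (w * u₀⁻¹) = 1 := by
        rw [map_mul, map_inv, hw, hu₀]
        decide
      have h1 := D.comm_of_sgn h2 u₀ hu₀ _ _ hsq1 hq
      calc u₀ ^ 2 * w = u₀ ^ 2 * (w * u₀⁻¹) * u₀ := by rw [mul_assoc, inv_mul_cancel_right]
        _ = w * u₀⁻¹ * u₀ ^ 2 * u₀ := by rw [h1]
        _ = w * u₀ ^ 2 := by
          rw [mul_assoc, mul_assoc, ← pow_succ, pow_succ', ← mul_assoc u₀⁻¹, inv_mul_cancel,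
            one_mul]
  have hι_unit : ∀ w : βˣ, ι (ι (w : β)) = w := by
    intro w
    have h1 : (u₀⁻¹ * (u₀⁻¹ * (w * u₀) * u₀) : βˣ) = w := by
      have : (u₀⁻¹ * (u₀⁻¹ * (w * u₀) * u₀) : βˣ) = (u₀ ^ 2)⁻¹ * (w * u₀ ^ 2) := by
        rw [pow_two]
        group
      rw [this, ← hsq w, inv_mul_cancel_left]
    have h2' := congrArg (fun z : βˣ => (z : β)) h1
    simp only [Units.val_mul] at h2'
    show ((u₀⁻¹ : βˣ) : β) * ((((u₀⁻¹ : βˣ) : β) * ((w : β) * (u₀ : β))) * (u₀ : β)) = w
    exact h2'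
  have hι_invol : ∀ x, ι (ι x) = x := by
    intro x
    by_cases hx : x = 0
    · rw [hx, hι_zero, hι_zero]
    · exact hι_unit (nfUnit x hx)
  -- fixed points and anti-fixed points
  let F0 : AddSubgroup β :=
    { carrier := {x | ι x = x}
      zero_mem' := hι_zero
      add_mem' := by
        intro a b ha hb
        show ι (a + b) = a + b
        rw [hι_add, ha, hb]
      neg_mem' := by
        intro a ha
        show ι (-a) = -a
        rw [hι_neg, ha] }
  let W : AddSubgroup β :=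
    { carrier := {x | ι x = -x}
      zero_mem' := by
        show ι 0 = -0
        rw [hι_zero, neg_zero]
      add_mem' := by
        intro a b ha hb
        show ι (a + b) = -(a + b)
        rw [hι_add, ha, hb, neg_add_rev, hadd]
      neg_mem' := by
        intro a ha
        show ι (-a) = - -a
        rw [hι_neg, ha] }
  have hF0 : ∀ x, x ∈ F0 ↔ ι x = x := fun x => Iff.rfl
  have hW : ∀ x, x ∈ W ↔ ι x = -x := fun x => Iff.rfl
  -- the trace map
  let T : β →+ β :=
    { toFun := fun x => x + ι x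
      map_zero' := by rw [hι_zero, add_zero]
      map_add' := by
        intro x y
        show x + y + ι (x + y) = x + ι x + (y + ι y)
        rw [hι_add]
        calc x + y + (ι x + ι y) = x + (y + ι x) + ι y := by simp only [add_assoc]
          _ = x + (ι x + y) + ι y := by rw [hadd y (ι x)]
          _ = x + ι x + (y + ι y) := by simp only [add_assoc] }
  have hT : ∀ x, T x = x + ι x := fun x => rfl
  have hker : T.ker = W := by
    ext x
    rw [AddMonoidHom.mem_ker, hT, hW, hadd, add_eq_zero_iff_eq_neg]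
  have hpodd : Odd p := hpf.out.odd_of_ne_two hp2
  have hrange : T.range = F0 := by
    ext c
    rw [AddMonoidHom.mem_range, hF0]
    constructor
    · rintro ⟨x, rfl⟩
      rw [hT, hι_add, hι_invol, hadd]
    · intro hc
      obtain ⟨m, hm⟩ := hpodd
      refine ⟨(m + 1) • c, ?_⟩
      rw [hT, hι_nsmul, hc, ← add_nsmul]
      have : m + 1 + (m + 1) = p + 1 := by omega
      rw [this, add_nsmul, hchar, zero_add, one_nsmul]
  have hcardT : Nat.card W * Nat.card F0 = p ^ f := by
    rw [← hker, ← hrange, ← AddSubgroup.index_ker, AddSubgroup.card_mul_index,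
      Nat.card_eq_fintype_card, hcard]
  -- `W` is trivial
  have hWbot : ∀ y, y ∈ W → y = 0 := by
    intro y hy
    by_contra hy0
    have hnegy : -y ≠ 0 := neg_ne_zero.2 hy0
    have hcy : ∀ c : β, c * (-y) = -(c * y) := by
      intro c
      rw [← mul_neg_one_nf hadd h2 y, ← mul_assoc, mul_neg_one_nf hadd h2]
    have hbij : Function.Bijective (fun c : F0 => (⟨(c : β) * y, by
        rw [hW, hι_mul, (hF0 _).1 c.2, (hW _).1 hy, hcy]⟩ : W)) := by
      constructor
      · intro a b hab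
        have h1 : (a : β) * y = (b : β) * y := congrArg Subtype.val hab
        exact Subtype.ext (mul_right_cancel_nf hy0 h1)
      · rintro ⟨w, hw⟩
        obtain ⟨y', hy1, hy2⟩ := NearField.exists_inv y hy0
        have hcw : w * y' * y = w := by rw [mul_assoc, hy2, mul_one]
        have hc : ι (w * y') = w * y' := by
          apply mul_right_cancel_nf hnegy
          rw [← (hW _).1 hy, ← hι_mul, hcw, (hW _).1 hw, (hW _).1 hy, hcy, hcw]
        exact ⟨⟨w * y', hc⟩, Subtype.ext hcw⟩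
    have hcardeq : Nat.card F0 = Nat.card W := Nat.card_eq_of_bijective _ hbij
    have hdvd : Nat.card F0 ∣ p ^ f := by
      rw [← hcard, ← Nat.card_eq_fintype_card]
      exact AddSubgroup.card_addSubgroup_dvd_card F0
    obtain ⟨j, -, hj⟩ := (Nat.dvd_prime_pow hpf.out).1 hdvd
    rw [← hcardeq, hj, ← pow_add] at hcardT
    have hfj : j + j = f := Nat.pow_right_injective hpf.out.two_le hcardT
    obtain ⟨r, hr⟩ := hf
    omega
  have hι_id : ∀ x, ι x = x := by
    intro x
    have hmem : x + -ι x ∈ W := by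
      rw [hW, hι_add, hι_neg, hι_invol, neg_add_rev, neg_neg]
    have h0 := hWbot _ hmem
    exact (eq_of_sub_eq_zero (by rw [sub_eq_add_neg]; exact h0)).symm
  intro x
  have h := hι_id x
  have h' : (u₀ : β) * (((u₀⁻¹ : βˣ) : β) * (x * (u₀ : β))) = (u₀ : β) * x := by
    show (u₀ : β) * ι x = _
    rw [h]
  rwa [Units.mul_inv_cancel_left] at h'

end StepC

end Cfsg.Agent.Lib.Helper19.KTAlg
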