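import Mathlib
import Cfsg.Prelude.Def_Perm
import Cfsg.Agent.Lib.Helper59.NearFieldAlg
import Cfsg.Agent.Lib.Helper19.KTCentral

/-!
# Finite KT-fields of order `p^f`, `f` odd, are fields with the inversion (helper19)
-/

set_option autoImplicit false

namespace Cfsg.Agent.Lib.Helper19.KTAlg

open Cfsg Cfsg.Agent.Lib.Helper59

/-- the twisted inversion is incompatible with the identity of an element of order three -/
theorem field_KT_contra {K : Type*} [Field K] (h2 : (1 : K) + 1 ≠ 0) (τ : K → K) (S : K → Prop)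
    (hSm1 : S (-1))
    (hτS : ∀ a, a ≠ 0 → S a → τ a * a = 1)
    (hτN : ∀ a, a ≠ 0 → ¬ S a → τ a * a = -1)
    (hKT : ∀ x, x ≠ 0 → x ≠ 1 → τ (τ x * (-1) + 1) * (-1) + 1 = τ ((x + -1) * (-1)))
    (x : K) (hx0 : x ≠ 0) (hxN : ¬ S x) (hx1 : S (1 + -x)) (h1x : 1 + -x ≠ 0) : False := by
  have h2' : (2 : K) ≠ 0 := by
    intro h
    apply h2
    rw [← h]
    norm_num
  have hx1' : x ≠ 1 := by
    rintro rfl
    simp at h1x
  have hxm1 : x ≠ -1 := by
    rintro rfl
    exact hxN hSm1
  have hτx := hτN x hx0 hxN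
  have hkt := hKT x hx0 hx1'
  have hrhs : (x + -1) * (-1) = 1 + -x := by ring
  rw [hrhs] at hkt
  have hb := hτS _ h1x hx1
  obtain ⟨y, hy⟩ : ∃ y, y = τ x * (-1) + 1 := ⟨_, rfl⟩
  rw [← hy] at hkt
  have hyx : y * x = 1 + x := by
    rw [hy]
    linear_combination (-1 : K) * hτx
  have hy0 : y ≠ 0 := by
    intro h
    rw [h, zero_mul] at hyx
    apply hxm1
    linear_combination -hyx
  obtain ⟨a, ha⟩ : ∃ a, a = τ y := ⟨_, rfl⟩
  obtain ⟨b, hb'⟩ : ∃ b, b = τ (1 + -x) := ⟨_, rfl⟩
  rw [← ha, ← hb'] at hkt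
  rw [← hb'] at hb
  have hτSy : S y → a * y = 1 := fun h => by rw [ha]; exact hτS y hy0 h
  have hτNy : ¬ S y → a * y = -1 := fun h => by rw [ha]; exact hτN y hy0 h
  -- `b = 1 - a`, `b (1 - x) = 1`
  have hax : a * (x - 1) = x := by
    linear_combination hb + (1 - x) * hkt
  by_cases hS : S y
  · have hay : a * y = 1 := hτSy hS
    have h1 : a * (1 + x) = x := by
      linear_combination x * hay - a * hyx
    have h3 : (2 : K) * a = 0 := by linear_combination h1 - hax
    rcases mul_eq_zero.1 h3 with h | h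
    · exact h2' h
    · rw [h, zero_mul] at hax
      exact hx0 hax.symm
  · have hay : a * y = -1 := hτNy hS
    have h1 : a * (1 + x) = -x := by
      linear_combination x * hay - a * hyx
    have h3 : (2 : K) * (a * x) = 0 := by linear_combination h1 + hax
    rcases mul_eq_zero.1 h3 with h | h
    · exact h2' h
    · rcases mul_eq_zero.1 h with h | h
      · rw [h, zero_mul] at hax
        exact hx0 hax.symm
      · exact hx0 h


section Main
variable {β : Type*} [NearField β]

theorem nfUnit_mul {a b : β} (ha : a ≠ 0) (hb : b ≠ 0) :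
    nfUnit (a * b) (nf_mul_ne_zero ha hb) = nfUnit a ha * nfUnit b hb :=
  Units.ext rfl

theorem nfUnit_coe (u : βˣ) : nfUnit (u : β) (nf_unit_ne_zero u) = u := Units.ext rfl

variable [Fintype β] [DecidableEq β]

/-- **Main algebraic theorem.** A near-field of order `p ^ f` (`p`, `f` odd) with a
multiplicative involution fixing only `±1` and satisfying the order-three identity is
commutative, and the involution is the inversion. -/
theorem Invol.main (D : Invol β) {p f : ℕ} [hpf : Fact p.Prime] (hp2 : p ≠ 2)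
    (hf : Odd f) (hcard : Fintype.card β = p ^ f)
    (hKT : ∀ x, x ≠ 0 → x ≠ 1 →
      D.τ (D.τ x * (-1) + 1) * (-1) + 1 = D.τ ((x + -1) * (-1))) :
    (∀ a b : β, a * b = b * a) ∧ ∀ a : β, a ≠ 0 → a * D.τ a = 1 := by
  classical
  obtain ⟨p', j, hp', hj, hcard', hadd, hchar'⟩ := Cfsg.Agent.S0682.result (F := β)
  have hf1 : 1 ≤ f := by
    obtain ⟨r, hr⟩ := hf
    omega
  have hpp' : p = p' := by
    rw [Nat.card_eq_fintype_card, hcard] at hcard'
    have h1 : p ∣ p' ^ j := by
      rw [← hcard']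
      exact dvd_pow_self p (by omega)
    exact (Nat.prime_dvd_prime_iff_eq hpf.out hp').1 (hpf.out.dvd_of_dvd_pow h1)
  have hchar : ∀ x : β, p • x = 0 := by
    rw [hpp']
    exact hchar'
  have h2 : (1 : β) + 1 ≠ 0 := by
    intro h
    have h2' : 2 • (1 : β) = 0 := by rw [two_nsmul, h]
    have := addOrderOf_dvd_of_nsmul_eq_zero h2'
    rw [addOrderOf_one_eq p hchar] at this
    exact hp2 ((Nat.prime_dvd_prime_iff_eq hpf.out Nat.prime_two).1 this)
  obtain ⟨u₀, k, k', hk, hk', hsign⟩ := exists_odd_unit hp2 hf hcard hchar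
  have hu₀ : sgn u₀ = -1 := hsign
  have hcent := D.central_of_prime hp2 hf hcard hchar hadd h2 u₀ k' hk' hu₀
  have hinvQ := D.phi_eq_inv_of_sgn h2 u₀ hu₀
  have hcommQ := D.comm_of_sgn h2 u₀ hu₀
  have hcu : ∀ w : βˣ, w * u₀ = u₀ * w := fun w => Units.ext (hcent w)
  -- decomposition of units
  have hdec : ∀ w : βˣ, sgn w = -1 → sgn (w * u₀⁻¹) = 1 := by
    intro w hw
    rw [map_mul, map_inv, hw, hu₀]
    decide
  have hQcent : ∀ a : βˣ, sgn a = 1 → ∀ b : βˣ, a * b = b * a := by
    intro a ha b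
    rcases Int.units_eq_one_or (sgn b) with hb | hb
    · exact hcommQ a b ha hb
    · have h1 := hcommQ a _ ha (hdec b hb)
      calc a * b = a * (b * u₀⁻¹) * u₀ := by rw [mul_assoc, inv_mul_cancel_right]
        _ = b * u₀⁻¹ * a * u₀ := by rw [h1]
        _ = b * u₀⁻¹ * (u₀ * a) := by rw [mul_assoc, hcu a]
        _ = b * a := by rw [← mul_assoc, inv_mul_cancel_right]
  have hunits : ∀ a b : βˣ, a * b = b * a := by
    intro a b
    rcases Int.units_eq_one_or (sgn a) with ha | ha
    · exact hQcent a ha b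
    · have h1 := hQcent _ (hdec a ha) b
      calc a * b = a * u₀⁻¹ * (u₀ * b) := by rw [← mul_assoc, inv_mul_cancel_right]
        _ = a * u₀⁻¹ * b * u₀ := by rw [← hcu b, ← mul_assoc]
        _ = b * (a * u₀⁻¹) * u₀ := by rw [h1]
        _ = b * a := by rw [mul_assoc, inv_mul_cancel_right]
  have hcomm : ∀ a b : β, a * b = b * a := by
    intro a b
    by_cases ha : a = 0
    · rw [ha, nf_zero_mul, NearField.mul_zero]
    by_cases hb : b = 0
    · rw [hb, nf_zero_mul, NearField.mul_zero]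
    exact congrArg (fun z : βˣ => (z : β)) (hunits (nfUnit a ha) (nfUnit b hb))
  refine ⟨hcomm, ?_⟩
  -- the element `e = φ(u₀) u₀`
  set e : βˣ := D.phi u₀ * u₀ with he
  have hesgn : sgn e = 1 := by
    rw [he, map_mul, D.sgn_phi, hu₀]
    decide
  have hefix : D.phi e = e := by
    rw [he, map_mul, D.phi_phi, hunits]
  have heval : (e : β) = 1 ∨ (e : β) = -1 := by
    apply D.hfix _ (nf_unit_ne_zero e)
    rw [← D.phi_val, hefix]
  -- the value of `φ` on the non-trivial coset
  have hcoset : ∀ w : βˣ, sgn w = -1 → D.phi w * w = e := by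
    intro w hw
    have hq := hdec w hw
    have hq' : D.phi (w * u₀⁻¹) = (w * u₀⁻¹)⁻¹ := hinvQ _ hq
    have h1 : D.phi w = D.phi (w * u₀⁻¹) * D.phi u₀ := by
      rw [← map_mul, inv_mul_cancel_right]
    have h2a : w * D.phi u₀ = w * u₀⁻¹ * (u₀ * D.phi u₀) := by
      rw [mul_assoc w, inv_mul_cancel_left]
    calc D.phi w * w = (w * u₀⁻¹)⁻¹ * D.phi u₀ * w := by rw [h1, hq']
      _ = (w * u₀⁻¹)⁻¹ * (w * D.phi u₀) := by rw [mul_assoc, hunits (D.phi u₀) w]
      _ = (w * u₀⁻¹)⁻¹ * (w * u₀⁻¹ * (u₀ * D.phi u₀)) := by rw [h2a]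
      _ = u₀ * D.phi u₀ := inv_mul_cancel_left _ _
      _ = e := by rw [he, hunits]
  rcases heval with h1 | h1
  · -- `e = 1`: the involution inverts everything
    have he1 : e = 1 := Units.ext h1
    intro a ha
    have hphi : D.phi (nfUnit a ha) * nfUnit a ha = 1 := by
      rcases Int.units_eq_one_or (sgn (nfUnit a ha)) with hs | hs
      · rw [hinvQ _ hs, inv_mul_cancel]
      · rw [hcoset _ hs, he1]
    have h3 := congrArg (fun z : βˣ => (z : β)) hphi
    simp only [Units.val_mul, Units.val_one, D.phi_val, nfUnit_val] at h3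
    rw [hcomm]
    exact h3
  · -- `e = -1`: contradiction
    exfalso
    set S : β → Prop := fun x => ∃ h : x ≠ 0, sgn (nfUnit x h) = 1 with hS
    have hSm1 : S (-1) := by
      have hne : (-1 : β) ≠ 0 := by rw [← h1]; exact nf_unit_ne_zero e
      refine ⟨hne, ?_⟩
      have : nfUnit (-1 : β) hne = e := Units.ext h1.symm
      rw [this, hesgn]
    have hSmul : ∀ a b : β, S a → S b → S (a * b) := by
      rintro a b ⟨ha, hsa⟩ ⟨hb, hsb⟩
      refine ⟨nf_mul_ne_zero ha hb, ?_⟩
      rw [nfUnit_mul ha hb, map_mul, hsa, hsb, one_mul]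
    have hτS : ∀ a : β, a ≠ 0 → S a → D.τ a * a = 1 := by
      rintro a ha ⟨ha', hs⟩
      have h3 : D.phi (nfUnit a ha') * nfUnit a ha' = 1 := by rw [hinvQ _ hs, inv_mul_cancel]
      have h4 := congrArg (fun z : βˣ => (z : β)) h3
      simpa only [Units.val_mul, Units.val_one, D.phi_val, nfUnit_val] using h4
    have hτN : ∀ a : β, a ≠ 0 → ¬ S a → D.τ a * a = -1 := by
      intro a ha hs
      have hs' : sgn (nfUnit a ha) = -1 := by
        rcases Int.units_eq_one_or (sgn (nfUnit a ha)) with h | h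
        · exact absurd ⟨ha, h⟩ hs
        · exact h
      have h3 := hcoset _ hs'
      have h4 := congrArg (fun z : βˣ => (z : β)) h3
      simp only [Units.val_mul, D.phi_val, nfUnit_val] at h4
      rw [h4, h1]
    -- the least natural number outside `S`
    have hex : ∃ n : ℕ, ∃ h : n • (1 : β) ≠ 0, sgn (nfUnit (n • (1 : β)) h) = -1 := by
      have hne : k • (1 : β) ≠ 0 := by rw [← hk]; exact nf_unit_ne_zero u₀
      refine ⟨k, hne, ?_⟩
      have : nfUnit (k • (1 : β)) hne = u₀ := Units.ext hk.symm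
      rw [this, hu₀]
    have hmin : ∀ m : ℕ, m < Nat.find hex →
        ¬ ∃ h : m • (1 : β) ≠ 0, sgn (nfUnit (m • (1 : β)) h) = -1 := fun m hm => Nat.find_min hex hm
    obtain ⟨hn0, hnsgn⟩ := Nat.find_spec hex
    set n := Nat.find hex with hn
    have hnpos : n ≠ 0 := by
      intro h
      apply hn0
      rw [h, zero_nsmul]
    obtain ⟨m, hm⟩ : ∃ m, n = m + 1 := ⟨n - 1, by omega⟩
    have hxval : n • (1 : β) = m • (1 : β) + 1 := by rw [hm, succ_nsmul]
    have hm0 : m • (1 : β) ≠ 0 := by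
      intro h
      have h5 : nfUnit (n • (1 : β)) hn0 = 1 := by
        apply Units.ext
        rw [nfUnit_val, hxval, h, zero_add, Units.val_one]
      rw [h5, map_one] at hnsgn
      exact absurd hnsgn (by decide)
    have hSm : S (m • (1 : β)) := by
      refine ⟨hm0, ?_⟩
      rcases Int.units_eq_one_or (sgn (nfUnit (m • (1 : β)) hm0)) with h | h
      · exact h
      · exact absurd ⟨hm0, h⟩ (hmin m (by omega))
    have h1x : (1 : β) + -(n • (1 : β)) = -(m • (1 : β)) := by
      rw [hxval, neg_add_rev, ← add_assoc, add_neg_cancel, zero_add]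
    have hxN : ¬ S (n • (1 : β)) := by
      rintro ⟨h, hs⟩
      rw [hs] at hnsgn
      exact absurd hnsgn (by decide)
    have hx1S : S (1 + -(n • (1 : β))) := by
      rw [h1x, ← neg_one_mul_nf]
      exact hSmul _ _ hSm1 hSm
    have hx1ne : (1 : β) + -(n • (1 : β)) ≠ 0 := by
      rw [h1x]
      exact neg_ne_zero.2 hm0
    have key : ∀ x : β, x ≠ 0 → ¬ S x → S (1 + -x) → 1 + -x ≠ 0 → False := by
      intro x hx0 hxn hxs hxne
      let _ : Field β := fieldOfNearField hcomm
      exact field_KT_contra (K := β) h2 D.τ S hSm1 hτS hτN hKT x hx0 hxn hxs hxne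
    exact key _ hn0 hxN hx1S hx1ne

end Main

end Cfsg.Agent.Lib.Helper19.KTAlg
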