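import Mathlib
import Cfsg.Prelude.Def_Perm
import Cfsg.Agent.Lib.Helper59.NearFieldAlg
import Cfsg.Agent.Lib.Helper19.KTFinal

/-!
# Small near-field facts used to set up the KT-field argument (helper19)
-/

set_option autoImplicit false

namespace Cfsg.Agent.Lib.Helper19.KTAlg

open Cfsg Cfsg.Agent.Lib.Helper59

section Setup
variable {β : Type*} [NearField β]

/-- commutativity of the addition and `1 + 1 ≠ 0` in a near-field of odd prime power order -/
theorem nf_add_comm_and_two_ne_zero [Fintype β] {p f : ℕ} [hpf : Fact p.Prime] (hp2 : p ≠ 2)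
    (hf1 : 1 ≤ f) (hcard : Fintype.card β = p ^ f) :
    (∀ x y : β, x + y = y + x) ∧ (1 : β) + 1 ≠ 0 := by
  obtain ⟨p', j, hp', hj, hcard', hadd, hchar'⟩ := Cfsg.Agent.S0682.result (F := β)
  have hpp' : p = p' := by
    rw [Nat.card_eq_fintype_card, hcard] at hcard'
    have h1 : p ∣ p' ^ j := by
      rw [← hcard']
      exact dvd_pow_self p (by omega)
    exact (Nat.prime_dvd_prime_iff_eq hpf.out hp').1 (hpf.out.dvd_of_dvd_pow h1)
  have hchar : ∀ x : β, p • x = 0 := by
    rw [hpp']
    exact hchar'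
  refine ⟨hadd, ?_⟩
  intro h
  have h2' : 2 • (1 : β) = 0 := by rw [two_nsmul, h]
  have := addOrderOf_dvd_of_nsmul_eq_zero h2'
  rw [addOrderOf_one_eq p hchar] at this
  exact hp2 ((Nat.prime_dvd_prime_iff_eq hpf.out Nat.prime_two).1 this)

/-- the only square roots of `1` in a near-field with commutative addition are `±1` -/
theorem sq_eq_one_nf (hadd : ∀ x y : β, x + y = y + x) {x : β} (hx : x * x = 1) :
    x = 1 ∨ x = -1 := by
  by_cases h : x = 1
  · exact Or.inl h
  · right
    have h1 : (1 + x) * x = (1 + x) * 1 := by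
      rw [NearField.right_distrib, one_mul, hx, mul_one, hadd]
    by_cases h0 : 1 + x = 0
    · exact eq_neg_of_add_eq_zero_right h0
    · exact absurd (mul_left_cancel_nf h0 h1) h

theorem neg_one_ne_one_nf (h2 : (1 : β) + 1 ≠ 0) : (-1 : β) ≠ 1 := by
  intro h
  apply h2
  calc (1 : β) + 1 = -1 + 1 := by rw [h]
    _ = 0 := neg_add_cancel 1

theorem neg_one_mul_neg_one_nf : (-1 : β) * (-1) = 1 := by
  rw [neg_one_mul_nf, neg_neg]

theorem neg_one_ne_zero_nf : (-1 : β) ≠ 0 := by
  intro h
  have : (1 : β) = 0 := by rw [← neg_neg (1 : β), h, neg_zero]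
  exact NearField.zero_ne_one this.symm

end Setup

end Cfsg.Agent.Lib.Helper19.KTAlg
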