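/-
helper19: S2772 (helper12), module [SL-W1]: the commutators `[V, G]` lie in a subgroup `W` of order `≤ 4`.
-/
import Mathlib
import Cfsg.Agent.Lib.Helper12.SimsLocDefs
import Cfsg.Agent.Lib.Helper12.AmalGen
import Cfsg.Agent.Lib.Helper43.AmalTTV

set_option autoImplicit false

namespace Cfsg.Agent.Lib.Helper19.SimsLoc

open Cfsg.Agent.Lib.Helper12.SimsLoc

variable {H : Type*} [Group H] [Finite H]

/-- [SL-W1] the commutators `[V, G]` lie in a subgroup `W` of order `≤ 4` -/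
theorem exists_small_comm (G S Q V : Subgroup H)
    (hQS : Q ≤ S) (hSG : S ≤ G) (q : ℕ) (hq : q.Prime)
    (hGS : Nat.card ↥G = q * Nat.card ↥S) (hSQ : Nat.card ↥S = 2 * Nat.card ↥Q)
    (hSnn : ∃ g ∈ G, ∃ s ∈ S, g * s * g⁻¹ ∉ S)
    (hVn : ∀ g ∈ G, ∀ v ∈ V, g * v * g⁻¹ ∈ V) (hVE : EA V)
    (hVc : ∀ v ∈ V, ∀ u ∈ Q, v * u = u * v)
    (a : H) (ha : a ∈ S) (haQ : a ∉ Q)
    (hcard : Nat.card ↥V ≤ 2 * Nat.card ↥(V ⊓ Subgroup.centralizer ({a} : Set H))) :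
    ∃ W : Subgroup H, W ≤ V ∧ Nat.card ↥W ≤ 4 ∧ ∀ g ∈ G, ∀ v ∈ V, g * v * g⁻¹ * v⁻¹ ∈ W := by
  have haG : a ∈ G := hSG ha
  have haa : a * a ∈ Q := Cfsg.Agent.Lib.Helper12.Amal.mul_mem_of_card hQS hSQ.symm ha ha haQ haQ
  have hcomm : ∀ {u v : H}, u ∈ V → v ∈ V → u * v = v * u := fun hu hv => hVE.comm hu hv
  have hinv : ∀ {v : H}, v ∈ V → v⁻¹ = v := fun hv => hVE.inv hv
  -- Step 1: the action of `a` on `V`
  have A1 : ∃ w ∈ V, a * w * a⁻¹ = w ∧ ∀ v ∈ V, a * v * a⁻¹ = v ∨ a * v * a⁻¹ = v * w := by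
    by_cases hCV : ∀ v ∈ V, v * a = a * v
    · refine ⟨1, V.one_mem, by group, fun v hv => Or.inl ?_⟩
      calc a * v * a⁻¹ = (a * v) * a⁻¹ := rfl
        _ = (v * a) * a⁻¹ := by rw [hCV v hv]
        _ = v := by group
    · push Not at hCV
      obtain ⟨v₀, hv₀, hv₀a⟩ := hCV
      set C : Subgroup H := V ⊓ Subgroup.centralizer ({a} : Set H) with hC
      have hCV' : C ≤ V := inf_le_left
      have hmemC : ∀ v, v ∈ C ↔ v ∈ V ∧ v * a = a * v := by
        intro v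
        rw [hC, Subgroup.mem_inf, Subgroup.mem_centralizer_singleton_iff]
      have hv₀C : v₀ ∉ C := fun h => hv₀a ((hmemC v₀).1 h).2
      have hC2 : 2 * Nat.card ↥C = Nat.card ↥V := by
        obtain ⟨m, hm⟩ := Subgroup.card_dvd_of_le hCV'
        have hCpos : 0 < Nat.card ↥C := Nat.card_pos
        have hVpos : 0 < Nat.card ↥V := Nat.card_pos
        have hm1 : m ≠ 1 := by
          intro h1
          rw [h1, mul_one] at hm
          have : C = V := Subgroup.eq_of_le_of_card_ge hCV' (le_of_eq hm)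
          exact hv₀C (this ▸ hv₀)
        have hm0 : m ≠ 0 := by
          intro h0
          rw [h0, mul_zero] at hm
          omega
        have hm2 : m ≤ 2 := by
          rw [hm, mul_comm] at hcard
          exact Nat.le_of_mul_le_mul_right hcard hCpos
        have : m = 2 := by omega
        rw [hm, this, mul_comm]
      have ht : a * v₀ * a⁻¹ ∈ V := hVn a haG v₀ hv₀
      have hw : a * v₀ * a⁻¹ * v₀⁻¹ ∈ V := V.mul_mem ht (V.inv_mem hv₀)
      have hti : (a * v₀ * a⁻¹)⁻¹ = a * v₀ * a⁻¹ := hinv ht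
      have hv₀i : v₀⁻¹ = v₀ := hinv hv₀
      refine ⟨a * v₀ * a⁻¹ * v₀⁻¹, hw, ?_, ?_⟩
      · have h1 : v₀ * (a * a) = (a * a) * v₀ := hVc v₀ hv₀ _ haa
        have h2 : (a * a) * v₀ * (a * a)⁻¹ = v₀ := by
          calc (a * a) * v₀ * (a * a)⁻¹ = (v₀ * (a * a)) * (a * a)⁻¹ := by rw [h1]
            _ = v₀ := by group
        calc a * (a * v₀ * a⁻¹ * v₀⁻¹) * a⁻¹
            = ((a * a) * v₀ * (a * a)⁻¹) * (a * v₀ * a⁻¹)⁻¹ := by group
          _ = v₀ * (a * v₀ * a⁻¹) := by rw [h2, hti]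
          _ = (a * v₀ * a⁻¹) * v₀ := hcomm hv₀ ht
          _ = a * v₀ * a⁻¹ * v₀⁻¹ := by rw [hv₀i]
      · intro v hv
        by_cases hva : v * a = a * v
        · left
          calc a * v * a⁻¹ = (v * a) * a⁻¹ := by rw [hva]
            _ = v := by group
        · right
          have hvC : v ∉ C := fun h => hva ((hmemC v).1 h).2
          have hvv₀ : v * v₀ ∈ C :=
            Cfsg.Agent.Lib.Helper12.Amal.mul_mem_of_card hCV' hC2 hv hv₀ hvC hv₀C
          have h3 : (v * v₀) * a = a * (v * v₀) := ((hmemC _).1 hvv₀).2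
          have h4 : a * (v * v₀) * a⁻¹ = v * v₀ := by
            calc a * (v * v₀) * a⁻¹ = ((v * v₀) * a) * a⁻¹ := by rw [h3]
              _ = v * v₀ := by group
          calc a * v * a⁻¹ = (a * (v * v₀) * a⁻¹) * (a * v₀ * a⁻¹)⁻¹ := by group
            _ = (v * v₀) * (a * v₀ * a⁻¹) := by rw [h4, hti]
            _ = v * (v₀ * (a * v₀ * a⁻¹)) := by group
            _ = v * ((a * v₀ * a⁻¹) * v₀) := by rw [hcomm hv₀ ht]
            _ = v * (a * v₀ * a⁻¹ * v₀⁻¹) := by rw [hv₀i]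
  obtain ⟨w, hw, haw, hav⟩ := A1
  -- Step 2: the action of `S` on `V`
  have B0 : ∀ s ∈ S, ∀ v ∈ V, s * v * s⁻¹ = v ∨ s * v * s⁻¹ = a * v * a⁻¹ := by
    intro s hs v hv
    by_cases hsQ : s ∈ Q
    · left
      have := hVc v hv s hsQ
      calc s * v * s⁻¹ = (v * s) * s⁻¹ := by rw [this]
        _ = v := by group
    · right
      have hai : a⁻¹ ∉ Q := fun h => haQ (by simpa using Q.inv_mem h)
      have hu : s * a⁻¹ ∈ Q :=
        Cfsg.Agent.Lib.Helper12.Amal.mul_mem_of_card hQS hSQ.symm hs (S.inv_mem ha) hsQ hai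
      have ht : a * v * a⁻¹ ∈ V := hVn a haG v hv
      have h1 := hVc _ ht _ hu
      calc s * v * s⁻¹ = ((s * a⁻¹) * (a * v * a⁻¹)) * (s * a⁻¹)⁻¹ := by group
        _ = ((a * v * a⁻¹) * (s * a⁻¹)) * (s * a⁻¹)⁻¹ := by rw [h1]
        _ = a * v * a⁻¹ := by group
  have B1 : ∀ s ∈ S, ∀ v ∈ V, s * v * s⁻¹ = v ∨ s * v * s⁻¹ = v * w := by
    intro s hs v hv
    rcases B0 s hs v hv with h | h
    · exact Or.inl h
    · rw [h]; exact hav v hv
  have B2 : ∀ s ∈ S, s * w * s⁻¹ = w := by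
    intro s hs
    rcases B0 s hs w hw with h | h
    · exact h
    · rw [h]; exact haw
  -- Step 3: a second Sylow subgroup
  obtain ⟨g, hg, s₀, hs₀, hgs⟩ := hSnn
  have hgi : g⁻¹ ∈ G := G.inv_mem hg
  have hw' : g * w * g⁻¹ ∈ V := hVn g hg w hw
  have C1 : ∀ s ∈ S, ∀ v ∈ V, (g * s * g⁻¹) * v * (g * s * g⁻¹)⁻¹ = v ∨
      (g * s * g⁻¹) * v * (g * s * g⁻¹)⁻¹ = v * (g * w * g⁻¹) := by
    intro s hs v hv
    have hv1 : g⁻¹ * v * g⁻¹⁻¹ ∈ V := hVn g⁻¹ hgi v hv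
    rcases B1 s hs _ hv1 with h | h
    · left
      calc (g * s * g⁻¹) * v * (g * s * g⁻¹)⁻¹
          = g * (s * (g⁻¹ * v * g⁻¹⁻¹) * s⁻¹) * g⁻¹ := by group
        _ = g * (g⁻¹ * v * g⁻¹⁻¹) * g⁻¹ := by rw [h]
        _ = v := by group
    · right
      calc (g * s * g⁻¹) * v * (g * s * g⁻¹)⁻¹
          = g * (s * (g⁻¹ * v * g⁻¹⁻¹) * s⁻¹) * g⁻¹ := by group
        _ = g * ((g⁻¹ * v * g⁻¹⁻¹) * w) * g⁻¹ := by rw [h]
        _ = v * (g * w * g⁻¹) := by group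
  -- Step 4: `W`
  set W : Subgroup H := Subgroup.zpowers w ⊔ Subgroup.zpowers (g * w * g⁻¹) with hWdef
  have hWV : W ≤ V := sup_le (Subgroup.zpowers_le.2 hw) (Subgroup.zpowers_le.2 hw')
  have hwW : w ∈ W := Subgroup.mem_sup_left (Subgroup.mem_zpowers w)
  have hw'W : g * w * g⁻¹ ∈ W := Subgroup.mem_sup_right (Subgroup.mem_zpowers _)
  have hcardz : ∀ z ∈ V, Nat.card ↥(Subgroup.zpowers z) ≤ 2 := by
    intro z hz
    rw [Nat.card_zpowers]
    have : z ^ 2 = 1 := by rw [pow_two]; exact hVE z hz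
    exact Nat.le_of_dvd (by norm_num) (orderOf_dvd_of_pow_eq_one this)
  have hW4 : Nat.card ↥W ≤ 4 := by
    have hnorm : Subgroup.zpowers (g * w * g⁻¹) ≤
        Subgroup.normalizer (Subgroup.zpowers w : Set H) := by
      intro b hb
      have hbV : b ∈ V := Subgroup.zpowers_le.2 hw' hb
      rw [Subgroup.mem_set_normalizer_iff]
      intro x
      constructor
      · intro hx
        have hxV : x ∈ V := Subgroup.zpowers_le.2 hw hx
        have : b * x * b⁻¹ = x := by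
          calc b * x * b⁻¹ = (x * b) * b⁻¹ := by rw [hcomm hbV hxV]
            _ = x := by group
        rw [this]; exact hx
      · intro hx
        have hyV : b * x * b⁻¹ ∈ V := Subgroup.zpowers_le.2 hw hx
        have : x = b * x * b⁻¹ := by
          calc x = b⁻¹ * ((b * x * b⁻¹) * b) := by group
            _ = b⁻¹ * (b * (b * x * b⁻¹)) := by rw [hcomm hyV hbV]
            _ = b * x * b⁻¹ := by group
        rw [this]; exact hx
    have h1 := Cfsg.Agent.Lib.Helper12.Amal.ttv_card_sup_mul_card_inf hnorm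
    have h2 : 0 < Nat.card ↥(Subgroup.zpowers w ⊓ Subgroup.zpowers (g * w * g⁻¹) : Subgroup H) :=
      Nat.card_pos
    have h3 := hcardz w hw
    have h4 := hcardz _ hw'
    have h5 : Nat.card ↥W ≤ Nat.card ↥W *
        Nat.card ↥(Subgroup.zpowers w ⊓ Subgroup.zpowers (g * w * g⁻¹) : Subgroup H) :=
      Nat.le_mul_of_pos_right _ h2
    have h6 : Nat.card ↥(Subgroup.zpowers w) * Nat.card ↥(Subgroup.zpowers (g * w * g⁻¹)) ≤ 2 * 2 :=
      Nat.mul_le_mul h3 h4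
    rw [hWdef] at h5 ⊢
    omega
  -- Step 5: the subgroup `K`
  let K : Subgroup H :=
    { carrier := {k | k ∈ G ∧ ∀ v ∈ V, k * v * k⁻¹ * v⁻¹ ∈ W}
      one_mem' := ⟨G.one_mem, fun v _ => by
        have : (1 : H) * v * 1⁻¹ * v⁻¹ = 1 := by group
        rw [this]; exact W.one_mem⟩
      mul_mem' := by
        rintro k₁ k₂ ⟨hk₁, h₁⟩ ⟨hk₂, h₂⟩
        refine ⟨G.mul_mem hk₁ hk₂, fun v hv => ?_⟩
        have hc : k₂ * v * k₂⁻¹ * v⁻¹ ∈ W := h₂ v hv
        have hcV : k₂ * v * k₂⁻¹ * v⁻¹ ∈ V := hWV hc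
        have e : (k₁ * k₂) * v * (k₁ * k₂)⁻¹ * v⁻¹ =
            (k₁ * (k₂ * v * k₂⁻¹ * v⁻¹) * k₁⁻¹ * (k₂ * v * k₂⁻¹ * v⁻¹)⁻¹) *
              (k₂ * v * k₂⁻¹ * v⁻¹) * (k₁ * v * k₁⁻¹ * v⁻¹) := by group
        rw [e]
        exact W.mul_mem (W.mul_mem (h₁ _ hcV) hc) (h₁ v hv)
      inv_mem' := by
        rintro k ⟨hk, h⟩
        refine ⟨G.inv_mem hk, fun v hv => ?_⟩
        have hv' : k⁻¹ * v * k⁻¹⁻¹ ∈ V := hVn k⁻¹ (G.inv_mem hk) v hv
        have h1 := h _ hv'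
        have e : k⁻¹ * v * k⁻¹⁻¹ * v⁻¹ =
            (k * (k⁻¹ * v * k⁻¹⁻¹) * k⁻¹ * (k⁻¹ * v * k⁻¹⁻¹)⁻¹)⁻¹ := by group
        rw [e]
        exact W.inv_mem h1 }
  have hKG : K ≤ G := fun k hk => hk.1
  have hSK : S ≤ K := by
    intro s hs
    refine ⟨hSG hs, fun v hv => ?_⟩
    rcases B1 s hs v hv with h | h
    · rw [h, mul_inv_cancel]; exact W.one_mem
    · rw [h]
      have : v * w * v⁻¹ = w := by
        calc v * w * v⁻¹ = (w * v) * v⁻¹ := by rw [hcomm hv hw]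
          _ = w := by group
      rw [this]; exact hwW
  have hgK : g * s₀ * g⁻¹ ∈ K := by
    refine ⟨G.mul_mem (G.mul_mem hg (hSG hs₀)) hgi, fun v hv => ?_⟩
    rcases C1 s₀ hs₀ v hv with h | h
    · rw [h, mul_inv_cancel]; exact W.one_mem
    · rw [h]
      have : v * (g * w * g⁻¹) * v⁻¹ = g * w * g⁻¹ := by
        calc v * (g * w * g⁻¹) * v⁻¹ = ((g * w * g⁻¹) * v) * v⁻¹ := by rw [hcomm hv hw']
          _ = g * w * g⁻¹ := by group
      rw [this]; exact hw'W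
  -- Step 6: `K = G`
  have hKeq : K = G := by
    obtain ⟨m, hm⟩ := Subgroup.card_dvd_of_le hSK
    obtain ⟨m', hm'⟩ := Subgroup.card_dvd_of_le hKG
    have hSpos : 0 < Nat.card ↥S := Nat.card_pos
    have hmm : m * m' = q := by
      have : Nat.card ↥S * (m * m') = Nat.card ↥S * q := by
        calc Nat.card ↥S * (m * m') = (Nat.card ↥S * m) * m' := by ring
          _ = Nat.card ↥G := by rw [← hm, ← hm']
          _ = Nat.card ↥S * q := by rw [hGS, mul_comm]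
      exact Nat.eq_of_mul_eq_mul_left hSpos this
    have hmq : m ∣ q := ⟨m', hmm.symm⟩
    rcases (Nat.dvd_prime hq).1 hmq with h1 | h1
    · exfalso
      rw [h1, mul_one] at hm
      have : S = K := Subgroup.eq_of_le_of_card_ge hSK (le_of_eq hm)
      exact hgs (this ▸ hgK)
    · have hm'1 : m' = 1 := by
        rw [h1] at hmm
        have hqpos : 0 < q := hq.pos
        have : q * m' = q * 1 := by rw [hmm, mul_one]
        exact Nat.eq_of_mul_eq_mul_left hqpos this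
      rw [hm'1, mul_one] at hm'
      exact Subgroup.eq_of_le_of_card_ge hKG (le_of_eq hm')
  refine ⟨W, hWV, hW4, fun g' hg' v hv => ?_⟩
  have : g' ∈ K := hKeq ▸ hg'
  exact this.2 v hv

end Cfsg.Agent.Lib.Helper19.SimsLoc
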