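import Mathlib
import Cfsg.Prelude.Def_Amalgam
import Cfsg.Agent.Lib.Helper68.AmalBDefs
import Cfsg.Agent.Lib.Helper68.AmalBTools

/-!
# S2751, case (B): module GSB-[P2a] (β-type vertices)
-/

set_option autoImplicit false

namespace Cfsg.Agent.Lib.Helper68.AmalB

open Cfsg Cfsg.Agent.Lib.Helper12.Amal Cfsg.Agent.Lib.Helper68.AmalD Cfsg.Agent.Lib.Helper68.AmalW

variable {G : Type*} [Group G] {P₁ P₂ : Subgroup G}

/-- a neighbour different from a given vertex -/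
theorem exists_adj_ne (hW : BaseW P₁ P₂) (y x : CosetVertex P₁ P₂) :
    ∃ m, (cosetGraph P₁ P₂).Adj y m ∧ m ≠ x := by
  have h3 := hW.card_nbr y
  have h1 : 1 < ((cosetGraph P₁ P₂).neighborSet y).ncard := by rw [h3]; norm_num
  obtain ⟨m, hm, hmx⟩ := Set.exists_ne_of_one_lt_ncard h1 x
  exact ⟨m, hm, hmx⟩

/-- β-type: `Z_y ≤ Z_x` for `x ~ y` -/
theorem Zb_le (hB : BaseB P₁ P₂) {x y : CosetVertex P₁ P₂}
    (hxy : (cosetGraph P₁ P₂).Adj x y) (hy : IsB y) : Zv y ≤ Zv x := by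
  have hW := hB.W
  obtain ⟨m, hym, hmx⟩ := exists_adj_ne hW y x
  have hyx := hxy.symm
  obtain ⟨g, hg, hgx, -⟩ := hW.two_trans y x m m x hyx hym (Ne.symm hmx) hym hyx hmx
  have hgy : g • y = y := MulAction.mem_stabilizer_iff.1 hg
  have hgen := hW.Z_gen y x m hyx hym (Ne.symm hmx)
  -- `Z_y ⊓ Z_m ≤ Z_x`
  have hm_le : Zv y ⊓ Zv m ≤ Zv x := by
    intro z hz
    have hzy : z ∈ Zv y := hz.1
    have hzm : z ∈ Zv m := hz.2
    rw [← hgx, hW.smul_Z, mem_map_conj] at hzm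
    -- `g⁻¹ z g = z` since `z` is central in `G_y`
    have hcen := Subgroup.mem_centralizer_iff.1 (hy hzy) g hg
    -- hcen : g * z = z * g
    have : g⁻¹ * z * g = z := by
      calc g⁻¹ * z * g = g⁻¹ * (z * g) := by group
        _ = g⁻¹ * (g * z) := by rw [hcen]
        _ = z := by group
    rwa [this] at hzm
  rw [hgen]
  exact sup_le inf_le_right hm_le

/-- β-type: `Z_y = Ω₁Z(T_xy)` -/
theorem Zb_eq_ZT (hB : BaseB P₁ P₂) {x y : CosetVertex P₁ P₂}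
    (hxy : (cosetGraph P₁ P₂).Adj x y) (hy : IsB y) : Zv y = ZT (Gv x ⊓ Gv y) := by
  rw [← hB.W.Z_inf x y hxy]
  exact (inf_eq_right.2 (Zb_le hB hxy hy)).symm

end Cfsg.Agent.Lib.Helper68.AmalB
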