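import Mathlib
import Cfsg.Prelude.Def_GeometricClasses
import Cfsg.Agent.Lib.Helper99.AschDefs
import Cfsg.Agent.Lib.Helper5.AschODefs
import Cfsg.Agent.Lib.Helper13.AschPerf

/-!
# Project ASCHO (helper5), module ASCHO-[NOCOMM] (helper19)

In odd dimension over a field of odd order, a minimal `H`-normalised non-scalar subgroup `N` of `H · Z`
(`H` a group of isometries of a non-degenerate quadratic form, `NAIO H`) cannot have all its commutators scalar.
-/

set_option autoImplicit false

namespace Cfsg.Agent.Lib.Helper19.AschONoComm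

open Cfsg Cfsg.Geo Cfsg.Agent.Lib.Helper99.Asch Cfsg.Agent.Lib.Helper5.AschO
open scoped MatrixGroups Matrix commutatorElement

variable {n : ℕ} {F : Type*} [Field F]

/-- a finite field of odd order has `2 ≠ 0` -/
theorem two_ne_zero_of_odd [Fintype F] (hodd : Odd (Fintype.card F)) : (2 : F) ≠ 0 := by
  intro h
  have h2 : ((2 : ℕ) : F) = 0 := by exact_mod_cast h
  have hc : ringChar F = 2 := CharP.ringChar_of_prime_eq_zero Nat.prime_two h2
  have h3 := FiniteField.even_card_of_char_two hc
  obtain ⟨r, hr⟩ := hodd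
  omega

/-- scalars are central -/
theorem scalars_central {ι : Type} [Fintype ι] [DecidableEq ι] :
    ∀ z ∈ scalars ι F, ∀ g : GL ι F, z * g = g * z := by
  intro z hz g
  obtain ⟨c, hc⟩ := (mem_scalars_iff z).1 hz
  apply Units.ext
  rw [Units.val_mul, Units.val_mul, hc]
  simp

/-- a non-degenerate quadratic form on a non-trivial space is not identically zero -/
theorem exists_Q_ne_zero {Q : (Fin n → F) → F} (hn : 0 < n) (hQ : IsNondegenerateQuadraticForm Q) :
    ∃ v, Q v ≠ 0 := by
  by_contra hcon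
  push Not at hcon
  have hv : (Pi.single (⟨0, hn⟩ : Fin n) (1 : F) : Fin n → F) ≠ 0 := by
    intro h
    have := congrFun h ⟨0, hn⟩
    simp at this
  obtain ⟨⟨x, hx⟩, _⟩ := hQ.nondegenerate _ hv
  apply hx
  simp [QuadraticMap.polar, hcon]

end Cfsg.Agent.Lib.Helper19.AschONoComm

namespace Cfsg.Agent.Lib.Helper5.AschO

open Cfsg Cfsg.Geo Cfsg.Agent.Lib.Helper99.Asch Cfsg.Agent.Lib.Helper19.AschONoComm
open scoped MatrixGroups Matrix commutatorElement

variable {n : ℕ} {F : Type*} [Field F] [Fintype F]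

/-- ASCHO-[NOCOMM] -/
theorem not_commScalar {Q : (Fin n → F) → F} {H : Subgroup (GL (Fin n) F)} (hS : OSetup Q H)
    (hNAI : NAIO H) (N : Subgroup (GL (Fin n) F)) (hN : IsMinNrm H N) : ¬ CommScalar N := by
  intro hCS
  have h2 : (2 : F) ≠ 0 := two_ne_zero_of_odd hS.odd_card
  have hn : 0 < n := by have := hS.three_le; omega
  have : Nonempty (Fin n) := ⟨⟨0, hn⟩⟩
  -- `N` acts absolutely irreducibly
  have hAI : ActsAbsolutelyIrreducibly (matrixSet N) := by
    rcases hNAI N hN.nrm hN.le_sup with h | h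
    · exact absurd h hN.not_le
    · exact h
  -- not all elements commute
  have hnc : ∃ x ∈ N, ∃ y ∈ N, x * y ≠ y * x := by
    by_contra hcon
    push Not at hcon
    apply hN.not_le
    intro x hx
    have hx' : ∀ s ∈ matrixSet N, (x : Matrix (Fin n) (Fin n) F) * s = s * (x : Matrix (Fin n) (Fin n) F) := by
      rintro s ⟨y, hy, rfl⟩
      have := hcon x hx y hy
      have h' := congrArg (fun g : GL (Fin n) F => (g : Matrix (Fin n) (Fin n) F)) this
      simpa using h'
    obtain ⟨c, hc⟩ := hAI.2 _ hx'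
    have hc0 : c ≠ 0 := by
      intro h0
      have hdet : (x : Matrix (Fin n) (Fin n) F).det = 0 := by
        rw [hc, h0, zero_smul, Matrix.det_zero]
      have hu : IsUnit (x : Matrix (Fin n) (Fin n) F).det := by
        have := (Matrix.isUnit_iff_isUnit_det _).1 x.isUnit
        exact this
      rw [hdet] at hu
      exact not_isUnit_zero hu
    exact (mem_scalars_iff x).2 ⟨Units.mk0 c hc0, by simpa using hc⟩
  obtain ⟨x, hx, y, hy, hxy⟩ := hnc
  -- the commutator
  set k : GL (Fin n) F := x * y * x⁻¹ * y⁻¹ with hk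
  have hkS : k ∈ scalars (Fin n) F := hCS x hx y hy
  have hkH : k ∈ H := by
    have h1 : ⁅x, y⁆ ∈ ⁅N, N⁆ := Subgroup.commutator_mem_commutator hx hy
    have h2' : ⁅N, N⁆ ≤ ⁅H ⊔ scalars (Fin n) F, H ⊔ scalars (Fin n) F⁆ :=
      Subgroup.commutator_mono hN.le_sup hN.le_sup
    have h3 : ⁅H ⊔ scalars (Fin n) F, H ⊔ scalars (Fin n) F⁆ ≤ H := by
      apply Cfsg.Agent.Lib.Helper13.AschPerf.commutator_sup_central_le scalars_central H H
      intro a ha b hb
      rw [commutatorElement_def]
      exact H.mul_mem (H.mul_mem (H.mul_mem ha hb) (H.inv_mem ha)) (H.inv_mem hb)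
    have := h3 (h2' h1)
    rwa [commutatorElement_def] at this
  have hkI : k ∈ isometryGroup F Q := hS.le hkH
  obtain ⟨c, hc⟩ := (mem_scalars_iff k).1 hkS
  obtain ⟨v, hv⟩ := exists_Q_ne_zero hn hS.nondeg
  have hQk : Q ((k : Matrix (Fin n) (Fin n) F) *ᵥ v) = Q v := hkI v v
  have hkv : (k : Matrix (Fin n) (Fin n) F) *ᵥ v = (c : F) • v := by
    rw [hc, Matrix.smul_mulVec, Matrix.one_mulVec]
  rw [hkv, hS.nondeg.smul] at hQk
  have hc2 : (c : F) ^ 2 = 1 := by
    have : ((c : F) ^ 2 - 1) * Q v = 0 := by linear_combination hQk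
    rcases mul_eq_zero.1 this with h | h
    · linear_combination h
    · exact absurd h hv
  have hc1 : (c : F) = 1 ∨ (c : F) = -1 := by
    have : ((c : F) - 1) * ((c : F) + 1) = 0 := by linear_combination hc2
    rcases mul_eq_zero.1 this with h | h
    · left; linear_combination h
    · right; linear_combination h
  -- the matrix identity `x y = c • (y x)`
  have hmat : (x : Matrix (Fin n) (Fin n) F) * (y : Matrix (Fin n) (Fin n) F) =
      (c : F) • ((y : Matrix (Fin n) (Fin n) F) * (x : Matrix (Fin n) (Fin n) F)) := by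
    have h1 : k * (y * x) = x * y := by rw [hk]; group
    have h2' := congrArg (fun g : GL (Fin n) F => (g : Matrix (Fin n) (Fin n) F)) h1
    simp only [Units.val_mul] at h2'
    rw [← h2', hc]
    simp
  rcases hc1 with h1 | h1
  · apply hxy
    apply Units.ext
    rw [Units.val_mul, Units.val_mul, hmat, h1, one_smul]
  · have hdet := congrArg Matrix.det hmat
    rw [h1, Matrix.det_smul, Matrix.det_mul, Matrix.det_mul, Fintype.card_fin,
      hS.odd_dim.neg_one_pow] at hdet
    have hux : (x : Matrix (Fin n) (Fin n) F).det ≠ 0 :=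
      ((Matrix.isUnit_iff_isUnit_det _).1 x.isUnit).ne_zero
    have huy : (y : Matrix (Fin n) (Fin n) F).det ≠ 0 :=
      ((Matrix.isUnit_iff_isUnit_det _).1 y.isUnit).ne_zero
    have : (2 : F) * ((x : Matrix (Fin n) (Fin n) F).det * (y : Matrix (Fin n) (Fin n) F).det) = 0 := by
      linear_combination hdet
    rcases mul_eq_zero.1 this with h | h
    · exact h2 h
    · rcases mul_eq_zero.1 h with h | h
      · exact hux h
      · exact huy h

end Cfsg.Agent.Lib.Helper5.AschO
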