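import Mathlib
import Cfsg.Prelude.Def_GeometricClasses
import Cfsg.Agent.Lib.Helper99.AschDefs
import Cfsg.Agent.Lib.Helper5.AschODefs
import Cfsg.Agent.Lib.Helper19.AschONoComm

/-!
# Project ASCHO (helper5), module ASCHO-[SELFADJ] (helper19)

The centre of the commutant of a subgroup `N ≤ H · Z` (`H` a group of isometries of a non-degenerate quadratic form in
odd dimension, odd characteristic) is elementwise self-adjoint as soon as it is a field.  Self-contained: the part of
the adjoint kit that is needed is proved here (namespace `Cfsg.Agent.Lib.Helper19.AschOKit`).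
-/

set_option autoImplicit false
set_option linter.unusedSectionVars false

namespace Cfsg.Agent.Lib.Helper19.AschOKit

open Cfsg Cfsg.Geo Cfsg.Agent.Lib.Helper99.Asch Cfsg.Agent.Lib.Helper5.AschO
open scoped MatrixGroups Matrix

variable {κ : Type} [Fintype κ] [DecidableEq κ] {F : Type*} [Field F]

/-- a bilinear form in the sense of the Prelude as a Mathlib bilinear form -/
def toBilin (f : (κ → F) → (κ → F) → F) (hf : IsBilinearForm f) : LinearMap.BilinForm F (κ → F) :=
  LinearMap.mk₂ F f hf.add_left hf.smul_left hf.add_right hf.smul_right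

@[simp] theorem toBilin_apply (f : (κ → F) → (κ → F) → F) (hf : IsBilinearForm f) (u v : κ → F) :
    toBilin f hf u v = f u v := rfl

/-- a bilinear form is given by its Gram matrix -/
theorem form_eq_dot {f : (κ → F) → (κ → F) → F} (hf : IsBilinearForm f) (u v : κ → F) :
    f u v = u ⬝ᵥ gramMatrix f *ᵥ v := by
  have h1 : LinearMap.BilinForm.toMatrix' (toBilin f hf) = gramMatrix f := by
    ext i j
    rw [LinearMap.BilinForm.toMatrix'_apply]
    rfl
  rw [← toBilin_apply f hf, ← Matrix.toBilin'_toMatrix' (toBilin f hf), Matrix.toBilin'_apply', h1]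

/-- the Gram matrix of a non-degenerate bilinear form is invertible -/
theorem gram_det_ne_zero {f : (κ → F) → (κ → F) → F} (hf : IsBilinearForm f)
    (hnd : IsNondegenerateForm f) : (gramMatrix f).det ≠ 0 := by
  intro hdet
  obtain ⟨v, hv, hGv⟩ := Matrix.exists_mulVec_eq_zero_iff.2 hdet
  obtain ⟨x, hx⟩ := (hnd v hv).1
  apply hx
  rw [form_eq_dot hf, hGv, dotProduct_zero]

/-- a matrix is determined by its bilinear form -/
theorem matrix_ext_dot {M M' : Matrix κ κ F} (h : ∀ u v : κ → F, u ⬝ᵥ M *ᵥ v = u ⬝ᵥ M' *ᵥ v) :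
    M = M' := by
  ext i j
  have := h (Pi.single i 1) (Pi.single j 1)
  simpa using this

theorem mulVec_dot (x : Matrix κ κ F) (u w : κ → F) : (x *ᵥ u) ⬝ᵥ w = u ⬝ᵥ xᵀ *ᵥ w := by
  rw [Matrix.dotProduct_mulVec, Matrix.vecMul_transpose]

section quad

variable {Q : (κ → F) → F}

theorem polarGram_transpose (Q : (κ → F) → F) : (polarGram Q)ᵀ = polarGram Q := by
  ext i j
  simp only [Matrix.transpose_apply, polarGram, gramMatrix]
  exact QuadraticMap.polar_comm Q _ _

theorem polar_eq_dot (hQ : IsNondegenerateQuadraticForm Q) (u v : κ → F) :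
    QuadraticMap.polar Q u v = u ⬝ᵥ polarGram Q *ᵥ v :=
  form_eq_dot hQ.polar_bilinear u v

theorem polarGram_det_ne_zero (hQ : IsNondegenerateQuadraticForm Q) : (polarGram Q).det ≠ 0 :=
  gram_det_ne_zero hQ.polar_bilinear hQ.nondegenerate

theorem polarGram_mul_inv (hQ : IsNondegenerateQuadraticForm Q) :
    polarGram Q * (polarGram Q)⁻¹ = 1 :=
  Matrix.mul_nonsing_inv _ (isUnit_iff_ne_zero.2 (polarGram_det_ne_zero hQ))

theorem polarGram_inv_mul (hQ : IsNondegenerateQuadraticForm Q) :
    (polarGram Q)⁻¹ * polarGram Q = 1 :=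
  Matrix.nonsing_inv_mul _ (isUnit_iff_ne_zero.2 (polarGram_det_ne_zero hQ))

theorem adj_mul (hQ : IsNondegenerateQuadraticForm Q) (a b : Matrix κ κ F) :
    adj Q (a * b) = adj Q b * adj Q a := by
  unfold adj
  rw [Matrix.transpose_mul]
  calc (polarGram Q)⁻¹ * (bᵀ * aᵀ) * polarGram Q
      = (polarGram Q)⁻¹ * bᵀ * 1 * aᵀ * polarGram Q := by simp [Matrix.mul_assoc]
    _ = (polarGram Q)⁻¹ * bᵀ * polarGram Q * ((polarGram Q)⁻¹ * aᵀ * polarGram Q) := by
        rw [← polarGram_mul_inv hQ]; simp only [Matrix.mul_assoc]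

theorem adj_adj (hQ : IsNondegenerateQuadraticForm Q) (a : Matrix κ κ F) : adj Q (adj Q a) = a := by
  unfold adj
  have hinvT : ((polarGram Q)⁻¹)ᵀ = (polarGram Q)⁻¹ := by
    rw [Matrix.transpose_nonsing_inv, polarGram_transpose]
  rw [Matrix.transpose_mul, Matrix.transpose_mul, Matrix.transpose_transpose, polarGram_transpose,
    hinvT]
  calc (polarGram Q)⁻¹ * (polarGram Q * (a * (polarGram Q)⁻¹)) * polarGram Q
      = ((polarGram Q)⁻¹ * polarGram Q) * a * ((polarGram Q)⁻¹ * polarGram Q) := by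
        simp only [Matrix.mul_assoc]
    _ = a := by rw [polarGram_inv_mul hQ]; simp

theorem adj_sub (a b : Matrix κ κ F) : adj Q (a - b) = adj Q a - adj Q b := by
  unfold adj
  rw [Matrix.transpose_sub, Matrix.mul_sub, Matrix.sub_mul]

theorem adj_smul (c : F) (a : Matrix κ κ F) : adj Q (c • a) = c • adj Q a := by
  unfold adj
  rw [Matrix.transpose_smul, Matrix.mul_smul, Matrix.smul_mul]

/-- `polar (x u) v = polar u (x v)` when `adj x = x` -/
theorem polar_selfAdjoint_of_adj_eq (hQ : IsNondegenerateQuadraticForm Q) {k : Matrix κ κ F}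
    (hk : adj Q k = k) (u v : κ → F) :
    QuadraticMap.polar Q (k *ᵥ u) v = QuadraticMap.polar Q u (k *ᵥ v) := by
  have h1 : kᵀ * polarGram Q = polarGram Q * k := by
    calc kᵀ * polarGram Q = (polarGram Q * (polarGram Q)⁻¹) * kᵀ * polarGram Q := by
          rw [polarGram_mul_inv hQ, Matrix.one_mul]
      _ = polarGram Q * adj Q k := by unfold adj; simp only [Matrix.mul_assoc]
      _ = polarGram Q * k := by rw [hk]
  rw [polar_eq_dot hQ, polar_eq_dot hQ, mulVec_dot, Matrix.mulVec_mulVec, Matrix.mulVec_mulVec, h1]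

/-- the polar form is preserved by isometries -/
theorem polar_map_of_mem_isometryGroup {g : GL κ F} (hg : g ∈ isometryGroup F Q) (u v : κ → F) :
    QuadraticMap.polar Q ((g : Matrix κ κ F) *ᵥ u) ((g : Matrix κ κ F) *ᵥ v) =
      QuadraticMap.polar Q u v := by
  have h : ∀ w, Q ((g : Matrix κ κ F) *ᵥ w) = Q w := fun w => hg w w
  unfold QuadraticMap.polar
  rw [← Matrix.mulVec_add, h, h, h]

theorem isometryGroup_le_similarityGroup :
    isometryGroup F Q ≤ similarityGroup (QuadraticMap.polar Q) := by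
  intro g hg
  exact ⟨1, fun u v => by rw [polar_map_of_mem_isometryGroup hg, Units.val_one, one_mul]⟩

theorem scalars_le_similarityGroup (hQ : IsNondegenerateQuadraticForm Q) :
    scalars κ F ≤ similarityGroup (QuadraticMap.polar Q) := by
  intro g hg
  obtain ⟨c, hc⟩ := (mem_scalars_iff g).1 hg
  refine ⟨c * c, fun u v => ?_⟩
  rw [hc, Matrix.smul_mulVec, Matrix.one_mulVec, Matrix.smul_mulVec, Matrix.one_mulVec,
    hQ.polar_bilinear.smul_left, hQ.polar_bilinear.smul_right, Units.val_mul, mul_assoc]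

/-- elements of the similarity group of the polar form: `adj x * x = c • 1` -/
theorem adj_mul_self_of_mem_similarityGroup (hQ : IsNondegenerateQuadraticForm Q) {x : GL κ F}
    (hx : x ∈ similarityGroup (QuadraticMap.polar Q)) :
    ∃ c : F, c ≠ 0 ∧ adj Q (x : Matrix κ κ F) * (x : Matrix κ κ F) = c • (1 : Matrix κ κ F) := by
  obtain ⟨c, hc⟩ := hx
  refine ⟨c, c.ne_zero, ?_⟩
  have h1 : (x : Matrix κ κ F)ᵀ * polarGram Q * (x : Matrix κ κ F) = (c : F) • polarGram Q := by
    apply matrix_ext_dot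
    intro u v
    have := hc u v
    rw [polar_eq_dot hQ, polar_eq_dot hQ, mulVec_dot, Matrix.mulVec_mulVec, Matrix.mulVec_mulVec] at this
    rw [this, Matrix.smul_mulVec, dotProduct_smul, smul_eq_mul]
  unfold adj
  calc (polarGram Q)⁻¹ * (x : Matrix κ κ F)ᵀ * polarGram Q * (x : Matrix κ κ F)
      = (polarGram Q)⁻¹ * ((x : Matrix κ κ F)ᵀ * polarGram Q * (x : Matrix κ κ F)) := by
        simp only [Matrix.mul_assoc]
    _ = (c : F) • (1 : Matrix κ κ F) := by
        rw [h1, Matrix.mul_smul, polarGram_inv_mul hQ]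

/-- the adjoint preserves the commutant of a group of similarities -/
theorem adj_mem_commutant (hQ : IsNondegenerateQuadraticForm Q) {N : Subgroup (GL κ F)}
    (hN : N ≤ similarityGroup (QuadraticMap.polar Q)) {k : Matrix κ κ F} (hk : k ∈ commutant N) :
    adj Q k ∈ commutant N := by
  rw [commutant, Subalgebra.mem_centralizer_iff] at hk ⊢
  rintro s ⟨x, hx, rfl⟩
  obtain ⟨c, hc0, hc⟩ := adj_mul_self_of_mem_similarityGroup hQ (hN hx)
  -- `adj x = c • x⁻¹`
  have hxinv : (x : Matrix κ κ F) * ((x⁻¹ : GL κ F) : Matrix κ κ F) = 1 := by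
    rw [← Units.val_mul, mul_inv_cancel, Units.val_one]
  have hxinv' : ((x⁻¹ : GL κ F) : Matrix κ κ F) * (x : Matrix κ κ F) = 1 := by
    rw [← Units.val_mul, inv_mul_cancel, Units.val_one]
  have hadjx : adj Q (x : Matrix κ κ F) = c • ((x⁻¹ : GL κ F) : Matrix κ κ F) := by
    calc adj Q (x : Matrix κ κ F) = adj Q (x : Matrix κ κ F) * ((x : Matrix κ κ F) *
          ((x⁻¹ : GL κ F) : Matrix κ κ F)) := by rw [hxinv, Matrix.mul_one]
      _ = (adj Q (x : Matrix κ κ F) * (x : Matrix κ κ F)) * ((x⁻¹ : GL κ F) : Matrix κ κ F) := by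
          rw [Matrix.mul_assoc]
      _ = c • ((x⁻¹ : GL κ F) : Matrix κ κ F) := by rw [hc, Matrix.smul_mul, Matrix.one_mul]
  have h1 : (x : Matrix κ κ F) * k = k * (x : Matrix κ κ F) := hk _ ⟨x, hx, rfl⟩
  have h2 := congrArg (adj Q) h1
  rw [adj_mul hQ, adj_mul hQ, hadjx, Matrix.mul_smul, Matrix.smul_mul] at h2
  have h3 : adj Q k * ((x⁻¹ : GL κ F) : Matrix κ κ F) = ((x⁻¹ : GL κ F) : Matrix κ κ F) * adj Q k := by
    have := congrArg (fun M => c⁻¹ • M) h2
    simpa [smul_smul, inv_mul_cancel₀ hc0] using this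
  calc (x : Matrix κ κ F) * adj Q k
      = (x : Matrix κ κ F) * (adj Q k * ((x⁻¹ : GL κ F) : Matrix κ κ F)) * (x : Matrix κ κ F) := by
        rw [Matrix.mul_assoc, Matrix.mul_assoc, hxinv', Matrix.mul_one]
    _ = (x : Matrix κ κ F) * (((x⁻¹ : GL κ F) : Matrix κ κ F) * adj Q k) * (x : Matrix κ κ F) := by
        rw [h3]
    _ = adj Q k * (x : Matrix κ κ F) := by
        rw [← Matrix.mul_assoc, hxinv, Matrix.one_mul]

/-- the adjoint preserves the centre of the commutant of a group of similarities -/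
theorem adj_mem_commutantCenter (hQ : IsNondegenerateQuadraticForm Q) {N : Subgroup (GL κ F)}
    (hN : N ≤ similarityGroup (QuadraticMap.polar Q)) {k : Matrix κ κ F}
    (hk : k ∈ commutantCenter N) : adj Q k ∈ commutantCenter N := by
  rw [commutantCenter, Algebra.mem_inf] at hk ⊢
  refine ⟨adj_mem_commutant hQ hN hk.1, ?_⟩
  rw [Subalgebra.mem_centralizer_iff]
  intro c' hc'
  have h1 : adj Q c' ∈ commutant N := adj_mem_commutant hQ hN hc'
  have h2 : adj Q c' * k = k * adj Q c' := (Subalgebra.mem_centralizer_iff F).1 hk.2 _ h1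
  have h3 := congrArg (adj Q) h2
  rw [adj_mul hQ, adj_mul hQ, adj_adj hQ] at h3
  exact h3.symm

end quad

end Cfsg.Agent.Lib.Helper19.AschOKit

namespace Cfsg.Agent.Lib.Helper5.AschO

open Cfsg Cfsg.Geo Cfsg.Agent.Lib.Helper99.Asch Cfsg.Agent.Lib.Helper19.AschOKit
open scoped MatrixGroups Matrix

variable {n : ℕ} {F : Type*} [Field F] [Fintype F]

/-- ASCHO-[SELFADJ] -/
theorem commutantCenter_selfAdjoint {Q : (Fin n → F) → F} {H : Subgroup (GL (Fin n) F)} (hS : OSetup Q H)
    (N : Subgroup (GL (Fin n) F)) (hNle : N ≤ H ⊔ scalars (Fin n) F)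
    (hinv : ∀ x ∈ commutantCenter N, x ≠ 0 → ∃ y ∈ commutantCenter N, x * y = 1) :
    IsSelfAdjointFor (QuadraticMap.polar Q) (commutantCenter N) := by
  have hQ := hS.nondeg
  have h2 : (2 : F) ≠ 0 := Cfsg.Agent.Lib.Helper19.AschONoComm.two_ne_zero_of_odd hS.odd_card
  have hNsim : N ≤ similarityGroup (QuadraticMap.polar Q) :=
    hNle.trans (sup_le (hS.le.trans isometryGroup_le_similarityGroup) (scalars_le_similarityGroup hQ))
  intro k hk u v
  apply polar_selfAdjoint_of_adj_eq hQ
  -- `y = k - adj k` is skew-adjoint, hence zero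
  by_contra hne
  set y : Matrix (Fin n) (Fin n) F := k - adj Q k with hy
  have hyK : y ∈ commutantCenter N := Subalgebra.sub_mem _ hk (adj_mem_commutantCenter hQ hNsim hk)
  have hy0 : y ≠ 0 := by
    intro h0
    apply hne
    rw [hy, sub_eq_zero] at h0
    exact h0.symm
  obtain ⟨y', _, hyy'⟩ := hinv y hyK hy0
  have hdety : y.det ≠ 0 := by
    intro h0
    have := congrArg Matrix.det hyy'
    rw [Matrix.det_mul, h0, zero_mul, Matrix.det_one] at this
    exact zero_ne_one this
  have hadjy : adj Q y = -y := by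
    rw [hy, adj_sub, adj_adj hQ]; abel
  -- `G y` is skew-symmetric
  have hGy : (polarGram Q * y)ᵀ = -(polarGram Q * y) := by
    rw [Matrix.transpose_mul, polarGram_transpose]
    calc yᵀ * polarGram Q = (polarGram Q * (polarGram Q)⁻¹) * yᵀ * polarGram Q := by
          rw [polarGram_mul_inv hQ, Matrix.one_mul]
      _ = polarGram Q * adj Q y := by unfold adj; simp only [Matrix.mul_assoc]
      _ = -(polarGram Q * y) := by rw [hadjy, Matrix.mul_neg]
  have hdet := congrArg Matrix.det hGy
  rw [Matrix.det_transpose, Matrix.det_neg, Fintype.card_fin, hS.odd_dim.neg_one_pow,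
    Matrix.det_mul] at hdet
  have : (2 : F) * ((polarGram Q).det * y.det) = 0 := by linear_combination hdet
  rcases mul_eq_zero.1 this with h | h
  · exact h2 h
  · rcases mul_eq_zero.1 h with h | h
    · exact polarGram_det_ne_zero hQ h
    · exact hdety h

end Cfsg.Agent.Lib.Helper5.AschO
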