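import Mathlib
import Cfsg.Prelude.Def_GeometricClasses
import Cfsg.Agent.Lib.Helper13.SymmForm
import Cfsg.Agent.Lib.Helper19.AschOSelfAdj

/-!
# Project ASCHO (helper5), module ASCHO-[FORMCLASS] (helper19)

Over a finite field of odd order two non-degenerate symmetric bilinear forms of the same odd dimension are similar.
Normal form `⟨1, …, 1, δ⟩` (from helper13's orthonormal families) plus the discriminant.
-/

set_option autoImplicit false
set_option linter.unusedSectionVars false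

namespace Cfsg.Agent.Lib.Helper19.AschOFormClass

open Cfsg Cfsg.Geo Cfsg.Agent.Lib.Helper13 Cfsg.Agent.Lib.Helper19.AschOKit
open scoped MatrixGroups Matrix

variable {F : Type*} [Field F]

section abstract

variable {V : Type*} [AddCommGroup V] [Module F V]

/-- orthonormal families of every size `k < dim V` exist -/
theorem exists_onb [Finite F] [FiniteDimensional F V] {B : LinearMap.BilinForm F V} (hS : B.IsSymm)
    (hB : B.Nondegenerate) (h2 : (2 : F) ≠ 0) :
    ∀ k : ℕ, k + 1 ≤ Module.finrank F V → ∃ e : Fin k → V, IsONb B e := by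
  intro k
  induction k with
  | zero =>
    intro _
    exact ⟨Fin.elim0, fun i => i.elim0⟩
  | succ k ih =>
    intro hk
    obtain ⟨e, he⟩ := ih (by omega)
    have hfr := finrank_orthB he
    have hdim : 2 ≤ Module.finrank F (orthB B e) := by omega
    obtain ⟨w, hw, hww⟩ := exists_norm_one hS h2 (orthB B e) hdim
      (fun w hw hww => orthB_nondeg hS hB he hw hww)
    exact ⟨Fin.snoc e w, onb_snoc hS he hw hww⟩

/-- the Gram matrix of an orthonormal family extended by an orthogonal vector -/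
theorem snoc_gram {B : LinearMap.BilinForm F V} (hS : B.IsSymm) {m : ℕ} {e : Fin m → V}
    (h : IsONb B e) {w : V} (hw : w ∈ orthB B e) (i j : Fin (m + 1)) :
    B ((Fin.snoc e w : Fin (m + 1) → V) i) ((Fin.snoc e w : Fin (m + 1) → V) j) =
      Matrix.diagonal (Fin.snoc (fun _ => (1 : F)) (B w w) : Fin (m + 1) → F) i j := by
  have hsymm : ∀ x y, B x y = B y x := LinearMap.BilinForm.isSymm_def.1 hS
  rcases Fin.eq_castSucc_or_eq_last i with ⟨i', rfl⟩ | rfl
  · rcases Fin.eq_castSucc_or_eq_last j with ⟨j', rfl⟩ | rfl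
    · simp only [Fin.snoc_castSucc, h i' j', Matrix.diagonal_apply, Fin.castSucc_inj]
    · simp only [Fin.snoc_castSucc, Fin.snoc_last]
      rw [hw i']
      have : Fin.castSucc i' ≠ Fin.last m := (Fin.castSucc_lt_last i').ne
      simp [this]
  · rcases Fin.eq_castSucc_or_eq_last j with ⟨j', rfl⟩ | rfl
    · simp only [Fin.snoc_castSucc, Fin.snoc_last]
      rw [hsymm, hw j']
      have : Fin.last m ≠ Fin.castSucc j' := (Fin.castSucc_lt_last j').ne'
      simp [this]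
    · simp

/-- an orthogonal family with values `1, …, 1, δ` in dimension `m + 1` -/
theorem exists_normal_family [Finite F] [FiniteDimensional F V] {B : LinearMap.BilinForm F V}
    (hS : B.IsSymm) (hB : B.Nondegenerate) (h2 : (2 : F) ≠ 0) {m : ℕ}
    (hdim : Module.finrank F V = m + 1) :
    ∃ (b : Fin (m + 1) → V) (δ : F), δ ≠ 0 ∧
      ∀ i j, B (b i) (b j) = Matrix.diagonal (Fin.snoc (fun _ => (1 : F)) δ : Fin (m + 1) → F) i j := by
  obtain ⟨e, he⟩ := exists_onb hS hB h2 m (by omega)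
  have hfr := finrank_orthB he
  have h1 : Module.finrank F (orthB B e) = 1 := by omega
  obtain ⟨w, hw0, hw⟩ := finrank_eq_one_iff'.1 h1
  have hwV : (w : V) ≠ 0 := fun h => hw0 (Subtype.ext h)
  have hsymm : ∀ x y, B x y = B y x := LinearMap.BilinForm.isSymm_def.1 hS
  have hδ : B (w : V) (w : V) ≠ 0 := by
    intro h0
    apply hwV
    apply orthB_nondeg hS hB he w.2
    intro w' hw'
    obtain ⟨c, hc⟩ := hw ⟨w', hw'⟩
    have : w' = c • (w : V) := by
      have := congrArg Subtype.val hc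
      simpa using this.symm
    rw [this, map_smul, h0, smul_zero]
  exact ⟨Fin.snoc e (w : V), B (w : V) (w : V), hδ, fun i j => snoc_gram hS he w.2 i j⟩

end abstract

section matrix

variable {m : ℕ}

/-- the diagonal matrix `diag(1, …, 1, δ)` -/
def dg (m : ℕ) (δ : F) : Matrix (Fin (m + 1)) (Fin (m + 1)) F :=
  Matrix.diagonal (Fin.snoc (fun _ => (1 : F)) δ : Fin (m + 1) → F)

theorem dg_det (δ : F) : (dg m δ).det = δ := by
  unfold dg
  rw [Matrix.det_diagonal, Fin.prod_univ_castSucc]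
  simp

theorem dg_transpose (δ : F) : (dg m δ)ᵀ = dg m δ := by
  unfold dg
  rw [Matrix.diagonal_transpose]

theorem dg_mul_dg (a b : F) : dg m a * dg m b = dg m (a * b) := by
  unfold dg
  rw [Matrix.diagonal_mul_diagonal]
  congr 1
  ext i
  rcases Fin.eq_castSucc_or_eq_last i with ⟨i', rfl⟩ | rfl
  · simp
  · simp

/-- normal form of a symmetric invertible matrix: `Pᵀ G P = diag(1, …, 1, δ)` -/
theorem exists_normal_form [Finite F] (h2 : (2 : F) ≠ 0) (G : Matrix (Fin (m + 1)) (Fin (m + 1)) F)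
    (hGs : Gᵀ = G) (hGd : G.det ≠ 0) :
    ∃ (P : Matrix (Fin (m + 1)) (Fin (m + 1)) F) (δ : F), δ ≠ 0 ∧ Pᵀ * G * P = dg m δ := by
  have hS : (Matrix.toBilin' G).IsSymm := by
    rw [LinearMap.BilinForm.isSymm_def]
    intro x y
    rw [Matrix.toBilin'_apply', Matrix.toBilin'_apply', dotProduct_comm, mulVec_dot, hGs]
  have hB : (Matrix.toBilin' G).Nondegenerate :=
    LinearMap.BilinForm.nondegenerate_toBilin'_of_det_ne_zero' G hGd
  have hdim : Module.finrank F (Fin (m + 1) → F) = m + 1 := by simp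
  obtain ⟨b, δ, hδ, hb⟩ := exists_normal_family hS hB h2 hdim
  refine ⟨Matrix.of (fun i j => b j i), δ, hδ, ?_⟩
  have hcol : ∀ j, (Matrix.of (fun i j => b j i) : Matrix (Fin (m + 1)) (Fin (m + 1)) F) *ᵥ
      Pi.single j 1 = b j := by
    intro j
    rw [Matrix.mulVec_single_one]
    ext k
    simp [Matrix.col_apply]
  ext i j
  have key : ((Matrix.of (fun i j => b j i) : Matrix (Fin (m + 1)) (Fin (m + 1)) F)ᵀ * G *
      (Matrix.of (fun i j => b j i) : Matrix (Fin (m + 1)) (Fin (m + 1)) F)) i j =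
      Matrix.toBilin' G (b i) (b j) := by
    rw [Matrix.toBilin'_apply', ← hcol i, ← hcol j, mulVec_dot, Matrix.mulVec_mulVec,
      Matrix.mulVec_mulVec]
    simp
  rw [key, hb i j]
  rfl

end matrix

end Cfsg.Agent.Lib.Helper19.AschOFormClass

namespace Cfsg.Agent.Lib.Helper5.AschO

open Cfsg Cfsg.Geo Cfsg.Agent.Lib.Helper19.AschOKit Cfsg.Agent.Lib.Helper19.AschOFormClass
open scoped MatrixGroups Matrix

variable {F : Type*} [Field F] [Fintype F]

/-- ASCHO-[FORMCLASS] -/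
theorem symmetric_forms_similar_of_odd {d : ℕ} (hd : Odd d) (hodd : Odd (Fintype.card F))
    (f₁ f₂ : (Fin d → F) → (Fin d → F) → F) (h₁ : IsSymmetricForm f₁) (h₂ : IsSymmetricForm f₂) :
    ∃ (A : GL (Fin d) F) (c : F), c ≠ 0 ∧
      ∀ u v, f₂ ((A : Matrix (Fin d) (Fin d) F) *ᵥ u) ((A : Matrix (Fin d) (Fin d) F) *ᵥ v) = c * f₁ u v := by
  have h2 : (2 : F) ≠ 0 := Cfsg.Agent.Lib.Helper19.AschONoComm.two_ne_zero_of_odd hodd
  obtain ⟨k, rfl⟩ := hd
  set G₁ := gramMatrix f₁ with hG₁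
  set G₂ := gramMatrix f₂ with hG₂
  have hG₁s : G₁ᵀ = G₁ := by
    ext i j
    simp only [Matrix.transpose_apply, hG₁, gramMatrix]
    exact h₁.symm _ _
  have hG₂s : G₂ᵀ = G₂ := by
    ext i j
    simp only [Matrix.transpose_apply, hG₂, gramMatrix]
    exact h₂.symm _ _
  have hG₁d : G₁.det ≠ 0 := gram_det_ne_zero h₁.bilinear h₁.nondegenerate
  have hG₂d : G₂.det ≠ 0 := gram_det_ne_zero h₂.bilinear h₂.nondegenerate
  set c : F := G₂.det / G₁.det with hc
  have hc0 : c ≠ 0 := div_ne_zero hG₂d hG₁d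
  have hcG : c * G₁.det = G₂.det := by rw [hc]; field_simp
  -- normal forms
  have hG₁'s : (c • G₁)ᵀ = c • G₁ := by rw [Matrix.transpose_smul, hG₁s]
  have hG₁'d : (c • G₁).det ≠ 0 := by
    rw [Matrix.det_smul]
    exact mul_ne_zero (pow_ne_zero _ hc0) hG₁d
  obtain ⟨P₁, δ₁, hδ₁, hP₁⟩ := exists_normal_form h2 (c • G₁) hG₁'s hG₁'d
  obtain ⟨P₂, δ₂, hδ₂, hP₂⟩ := exists_normal_form h2 G₂ hG₂s hG₂d
  have hd₁ := congrArg Matrix.det hP₁
  have hd₂ := congrArg Matrix.det hP₂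
  rw [Matrix.det_mul, Matrix.det_mul, Matrix.det_transpose, dg_det, Matrix.det_smul,
    Fintype.card_fin] at hd₁
  rw [Matrix.det_mul, Matrix.det_mul, Matrix.det_transpose, dg_det] at hd₂
  have hP₁d : P₁.det ≠ 0 := by
    intro h0
    rw [h0, zero_mul, zero_mul] at hd₁
    exact hδ₁ hd₁.symm
  have hP₂d : P₂.det ≠ 0 := by
    intro h0
    rw [h0, zero_mul, zero_mul] at hd₂
    exact hδ₂ hd₂.symm
  set s : F := P₁.det * c ^ k / P₂.det with hs
  have hs0 : s ≠ 0 := div_ne_zero (mul_ne_zero hP₁d (pow_ne_zero _ hc0)) hP₂d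
  have hsδ : s * δ₂ * s = δ₁ := by
    rw [← hd₁, ← hd₂, hs, ← hcG]
    field_simp
    ring
  -- the matrix `A`
  have hP₁u : IsUnit P₁.det := isUnit_iff_ne_zero.2 hP₁d
  set A : Matrix (Fin (2 * k + 1)) (Fin (2 * k + 1)) F := P₂ * dg (2 * k) s * P₁⁻¹ with hA
  have hAd : A.det ≠ 0 := by
    rw [hA, Matrix.det_mul, Matrix.det_mul, dg_det, Matrix.det_nonsing_inv]
    exact mul_ne_zero (mul_ne_zero hP₂d hs0) (by
      rw [Ring.inverse_eq_inv']; exact inv_ne_zero hP₁d)
  have hAG : Aᵀ * G₂ * A = c • G₁ := by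
    have e1 : Aᵀ = (P₁⁻¹)ᵀ * dg (2 * k) s * P₂ᵀ := by
      rw [hA, Matrix.transpose_mul, Matrix.transpose_mul, dg_transpose, Matrix.mul_assoc]
    have e2 : (P₁⁻¹)ᵀ * P₁ᵀ = 1 := by
      rw [← Matrix.transpose_mul, Matrix.mul_nonsing_inv _ hP₁u, Matrix.transpose_one]
    calc Aᵀ * G₂ * A
        = (P₁⁻¹)ᵀ * (dg (2 * k) s * (P₂ᵀ * G₂ * P₂) * dg (2 * k) s) * P₁⁻¹ := by
          rw [e1, hA]; simp only [Matrix.mul_assoc]
      _ = (P₁⁻¹)ᵀ * (P₁ᵀ * (c • G₁) * P₁) * P₁⁻¹ := by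
          rw [hP₂, dg_mul_dg, dg_mul_dg, hsδ, hP₁]
      _ = ((P₁⁻¹)ᵀ * P₁ᵀ) * (c • G₁) * (P₁ * P₁⁻¹) := by simp only [Matrix.mul_assoc]
      _ = c • G₁ := by rw [e2, Matrix.mul_nonsing_inv _ hP₁u, Matrix.one_mul, Matrix.mul_one]
  refine ⟨Matrix.GeneralLinearGroup.mkOfDetNeZero A hAd, c, hc0, fun u v => ?_⟩
  have hAval : ((Matrix.GeneralLinearGroup.mkOfDetNeZero A hAd : GL (Fin (2 * k + 1)) F) :
      Matrix (Fin (2 * k + 1)) (Fin (2 * k + 1)) F) = A := rfl
  rw [hAval, form_eq_dot h₂.bilinear, form_eq_dot h₁.bilinear, mulVec_dot, Matrix.mulVec_mulVec,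
    Matrix.mulVec_mulVec, hAG, Matrix.smul_mulVec, dotProduct_smul, smul_eq_mul]

end Cfsg.Agent.Lib.Helper5.AschO
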