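import Mathlib

/-!
# Natural `SL₂(F)`-modules from quadratic action (abstract part, helper19)

`φ : SL(2,F) →* MulAut M` an action on a commutative group `M`.  `fixU φ` is the fixed
subgroup of the upper unitriangular group.  If the unitriangular group acts quadratically
(`hq`), `fixU φ ∩ w • fixU φ = 1` (`hd`) and `v₀ ∈ fixU φ`, `v₀ ≠ 1`, then there is an injective
equivariant homomorphism from the natural module `F²` to `M` (`exists_natural`).
-/

set_option autoImplicit false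

namespace Cfsg.Agent.Lib.Helper19.NatSL2

open Matrix Matrix.SpecialLinearGroup
open scoped MatrixGroups

variable {F : Type*} [Field F]

/-- upper unitriangular matrix -/
def uu (s : F) : SL(2, F) := ⟨!![1, s; 0, 1], by simp [Matrix.det_fin_two_of]⟩

/-- Weyl element -/
def ww : SL(2, F) := ⟨!![0, 1; -1, 0], by simp [Matrix.det_fin_two_of]⟩

/-- diagonal element -/
def hh (t : Fˣ) : SL(2, F) := ⟨!![(t : F), 0; 0, ((t⁻¹ : Fˣ) : F)], by simp [Matrix.det_fin_two_of]⟩

@[simp] theorem uu_coe (s : F) : (uu s : Matrix (Fin 2) (Fin 2) F) = !![1, s; 0, 1] := rfl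
@[simp] theorem ww_coe : ((ww : SL(2, F)) : Matrix (Fin 2) (Fin 2) F) = !![0, 1; -1, 0] := rfl
@[simp] theorem hh_coe (t : Fˣ) : ((hh t : SL(2, F)) : Matrix (Fin 2) (Fin 2) F) = !![(t : F), 0; 0, ((t⁻¹ : Fˣ) : F)] := rfl

theorem uu_add (s t : F) : uu (s + t) = uu s * uu t := by
  apply Subtype.ext
  ext i j
  fin_cases i <;> fin_cases j <;> simp [Matrix.mul_apply, Fin.sum_univ_two, add_comm]

theorem uu_zero : uu (0 : F) = 1 := by
  apply Subtype.ext
  ext i j
  fin_cases i <;> fin_cases j <;> simp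

theorem hh_mul (s t : Fˣ) : hh (s * t) = hh s * hh t := by
  apply Subtype.ext
  ext i j
  fin_cases i <;> fin_cases j <;> simp [Matrix.mul_apply, Fin.sum_univ_two, mul_comm]

theorem hh_one : hh (1 : Fˣ) = 1 := by
  apply Subtype.ext
  ext i j
  fin_cases i <;> fin_cases j <;> simp

theorem bruhat (s : Fˣ) :
    uu (s : F) * ww = ww * uu (-((s⁻¹ : Fˣ) : F)) * ww * hh s * uu (-((s⁻¹ : Fˣ) : F)) := by
  apply Subtype.ext
  ext i j
  fin_cases i <;> fin_cases j <;> simp [Matrix.mul_apply, Fin.sum_univ_two]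

theorem hh_uu (t : Fˣ) (s : F) : hh t * uu s = uu ((t : F) * t * s) * hh t := by
  apply Subtype.ext
  ext i j
  fin_cases i <;> fin_cases j <;> simp [Matrix.mul_apply, Fin.sum_univ_two, mul_assoc, mul_comm]

theorem uu_hh (t : Fˣ) (s : F) :
    uu s * hh t = hh t * uu (((t⁻¹ : Fˣ) : F) * ((t⁻¹ : Fˣ) : F) * s) := by
  rw [hh_uu]
  congr 2
  rw [← mul_assoc, ← mul_assoc]
  simp

theorem ww_hh (t : Fˣ) : ww * hh t = hh t⁻¹ * ww := by
  apply Subtype.ext
  ext i j
  fin_cases i <;> fin_cases j <;> simp [Matrix.mul_apply, Fin.sum_univ_two]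

theorem ww_ww : (ww : SL(2, F)) * ww = hh (-1) := by
  apply Subtype.ext
  ext i j
  fin_cases i <;> fin_cases j <;> simp [Matrix.mul_apply, Fin.sum_univ_two]

theorem hh_neg_one_sq : (hh (-1) : SL(2, F)) * hh (-1) = 1 := by
  rw [← hh_mul]; simp [hh_one]

theorem ww_inv : (ww : SL(2, F))⁻¹ = ww * hh (-1) := by
  rw [inv_eq_iff_mul_eq_one, ← mul_assoc, ww_ww, hh_neg_one_sq]

theorem uu_mulVec (s a b : F) : (uu s : Matrix (Fin 2) (Fin 2) F).mulVec ![a, b] = ![a + s * b, b] := by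
  ext i; fin_cases i <;> simp [Matrix.mulVec, dotProduct, Fin.sum_univ_two]

theorem ww_mulVec (a b : F) : ((ww : SL(2, F)) : Matrix (Fin 2) (Fin 2) F).mulVec ![a, b] = ![b, -a] := by
  ext i; fin_cases i <;> simp [Matrix.mulVec, dotProduct, Fin.sum_univ_two]

theorem transvection01_eq (c : F) :
    (transvection (zero_ne_one : (0 : Fin 2) ≠ 1) c : SL(2, F)) = uu c := by
  apply Subtype.ext
  ext i j
  fin_cases i <;> fin_cases j <;> simp [transvection_coe, Matrix.single]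

theorem transvection10_eq (c : F) :
    (transvection (one_ne_zero : (1 : Fin 2) ≠ 0) c : SL(2, F)) = ww⁻¹ * uu (-c) * ww := by
  rw [ww_inv]
  apply Subtype.ext
  ext i j
  fin_cases i <;> fin_cases j <;>
    simp [transvection_coe, Matrix.single, Matrix.mul_apply, Fin.sum_univ_two]

/-- Bruhat decomposition of `SL₂(F)`, triangular case. -/
theorem exists_eq_uu_hh (g : SL(2, F)) (h : (g : Matrix (Fin 2) (Fin 2) F) 1 0 = 0) : ∃ (x : F) (t : Fˣ), g = uu x * hh t := by
  have hdet : g.1 0 0 * g.1 1 1 - g.1 0 1 * g.1 1 0 = 1 := by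
    have := g.2; rwa [Matrix.det_fin_two] at this
  rw [h, mul_zero, sub_zero] at hdet
  have h0 : g.1 0 0 ≠ 0 := by
    intro h0; rw [h0, zero_mul] at hdet; exact zero_ne_one hdet
  refine ⟨g.1 0 0 * g.1 0 1, Units.mk0 _ h0, ?_⟩
  have h11 : g.1 1 1 = (g.1 0 0)⁻¹ := eq_inv_of_mul_eq_one_right hdet
  apply Subtype.ext
  ext i j
  fin_cases i <;> fin_cases j <;>
    simp [Matrix.mul_apply, Fin.sum_univ_two, h, h11, mul_comm, h0]

/-- Bruhat decomposition of `SL₂(F)`, big cell. -/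
theorem exists_eq_uu_ww_hh_uu (g : SL(2, F)) (h : (g : Matrix (Fin 2) (Fin 2) F) 1 0 ≠ 0) :
    ∃ (x : F) (t : Fˣ) (y : F), g = uu x * ww * hh t * uu y := by
  have hdet : g.1 0 0 * g.1 1 1 - g.1 0 1 * g.1 1 0 = 1 := by
    have := g.2; rwa [Matrix.det_fin_two] at this
  have hc : -g.1 1 0 ≠ 0 := neg_ne_zero.mpr h
  refine ⟨g.1 0 0 / g.1 1 0, Units.mk0 _ hc, g.1 1 1 / g.1 1 0, ?_⟩
  apply Subtype.ext
  ext i j
  fin_cases i <;> fin_cases j <;>
    simp [Matrix.mul_apply, Fin.sum_univ_two]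
  · field_simp
  · field_simp
    linear_combination (-1 : F) * hdet
  · field_simp

end Cfsg.Agent.Lib.Helper19.NatSL2
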