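import Mathlib
import Cfsg.Agent.Lib.Helper19.NatSL2

/-!
# Natural `SL₂(F)`-modules from quadratic action: the action part (helper19)
-/

set_option autoImplicit false

namespace Cfsg.Agent.Lib.Helper19.NatSL2

open Matrix Matrix.SpecialLinearGroup
open scoped MatrixGroups

variable {F : Type*} [Field F] {M : Type*} [CommGroup M] (φ : SL(2, F) →* MulAut M)

/-- fixed points of the upper unitriangular group -/
def fixU : Subgroup M where
  carrier := {m | ∀ s : F, φ (uu s) m = m}
  mul_mem' := by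
    intro a b ha hb s
    rw [map_mul, ha s, hb s]
  one_mem' := by intro s; simp
  inv_mem' := by
    intro a ha s
    rw [map_inv, ha s]

theorem mem_fixU {m : M} : m ∈ fixU φ ↔ ∀ s : F, φ (uu s) m = m := Iff.rfl

theorem phi_mul (g h : SL(2, F)) (m : M) : φ (g * h) m = φ g (φ h m) := by
  rw [map_mul, MulAut.mul_apply]

theorem fixU_hh {m : M} (hm : m ∈ fixU φ) (t : Fˣ) : φ (hh t) m ∈ fixU φ := by
  intro s
  rw [← phi_mul, uu_hh, phi_mul, hm]

/-- the quadratic subgroup: elements whose commutators with `U` are fixed by `U`. -/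
def quadU : Subgroup M where
  carrier := {m | ∀ s : F, φ (uu s) m / m ∈ fixU φ}
  mul_mem' := by
    intro a b ha hb s
    have : φ (uu s) (a * b) / (a * b) = (φ (uu s) a / a) * (φ (uu s) b / b) := by
      rw [map_mul, mul_div_mul_comm]
    rw [this]
    exact mul_mem (ha s) (hb s)
  one_mem' := by intro s; simp
  inv_mem' := by
    intro a ha s
    have : φ (uu s) a⁻¹ / a⁻¹ = (φ (uu s) a / a)⁻¹ := by
      rw [map_inv, inv_div_inv, inv_div]
    rw [this]
    exact inv_mem (ha s)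

theorem mem_quadU {m : M} : m ∈ quadU φ ↔ ∀ s : F, φ (uu s) m / m ∈ fixU φ := Iff.rfl

theorem fixU_le_quadU : fixU φ ≤ quadU φ := by
  intro m hm s
  rw [hm s, div_self']
  exact one_mem _

theorem quadU_hh {m : M} (hm : m ∈ quadU φ) (t : Fˣ) : φ (hh t) m ∈ quadU φ := by
  intro s
  rw [← phi_mul, uu_hh, phi_mul, ← map_div]
  exact fixU_hh φ (hm _) t

section key

variable (hq : ∀ (m : M) (s : F), φ (uu s) m / m ∈ fixU φ)
  (hd : ∀ m ∈ fixU φ, φ ww m ∈ fixU φ → m = 1)

include hd in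
/-- The key commutator formula.  Only needs quadratic action on `w • fixU`. -/
theorem key' (hq' : ∀ m ∈ fixU φ, φ ww m ∈ quadU φ) {v : M} (hv : v ∈ fixU φ) (s : Fˣ) :
    φ (uu (s : F)) (φ ww v) / φ ww v = φ (ww * ww) (φ (hh s) v) := by
  set t : F := -((s⁻¹ : Fˣ) : F) with ht
  set v₁ := φ (hh s) v with hv₁def
  have hv₁ : v₁ ∈ fixU φ := fixU_hh φ hv s
  set c := φ (uu t) (φ ww v₁) / φ ww v₁ with hcdef
  have hc : c ∈ fixU φ := hq' _ hv₁ _
  set c' := φ (uu (s : F)) (φ ww v) / φ ww v with hc'def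
  have hc' : c' ∈ fixU φ := hq' _ hv _
  have h1 : φ (uu (s : F)) (φ ww v) = φ ww c * φ (ww * ww) v₁ := by
    rw [← phi_mul, bruhat s]
    simp only [phi_mul]
    rw [← ht, hv t]
    have h2 : φ (uu t) (φ ww v₁) = c * φ ww v₁ := by
      rw [hcdef, div_mul_cancel]
    rw [← hv₁def, h2, map_mul]
  have h3 : φ (ww * ww) v₁ ∈ fixU φ := by
    rw [ww_ww]; exact fixU_hh φ hv₁ _
  have h4 : φ ww (c / v) = c' / φ (ww * ww) v₁ := by
    rw [map_div, hc'def, h1]
    have : ∀ A B C : M, A / C = A * B / C / B := by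
      intro A B C
      rw [div_div, mul_comm C B, ← div_div, mul_div_cancel_right]
    exact this _ _ _
  have h5 : c / v = 1 := hd _ (div_mem hc hv) (by rw [h4]; exact div_mem hc' h3)
  rw [h5, map_one] at h4
  exact (div_eq_one.mp h4.symm)

end key

/-- `s ↦ h(s) • v₀`, extended by `0 ↦ 1`. -/
noncomputable def ff (v₀ : M) (s : F) : M :=
  open Classical in if h : s = 0 then 1 else φ (hh (Units.mk0 s h)) v₀

theorem ff_zero (v₀ : M) : ff φ v₀ 0 = 1 := by simp [ff]

theorem ff_unit (v₀ : M) (s : Fˣ) : ff φ v₀ (s : F) = φ (hh s) v₀ := by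
  rw [ff, dif_neg s.ne_zero]
  congr 3
  exact Units.ext rfl

theorem ff_mem {v₀ : M} (hv : v₀ ∈ fixU φ) (s : F) : ff φ v₀ s ∈ fixU φ := by
  by_cases h : s = 0
  · subst h; rw [ff_zero]; exact one_mem _
  · lift s to Fˣ using IsUnit.mk0 s h
    rw [ff_unit]; exact fixU_hh φ hv s

theorem ff_mul {v₀ : M} (t : Fˣ) (s : F) : ff φ v₀ ((t : F) * s) = φ (hh t) (ff φ v₀ s) := by
  by_cases h : s = 0
  · subst h; rw [mul_zero, ff_zero, map_one]
  · lift s to Fˣ using IsUnit.mk0 s h
    rw [← Units.val_mul, ff_unit, ff_unit, hh_mul, phi_mul]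

section main

variable (hd : ∀ m ∈ fixU φ, φ ww m ∈ fixU φ → m = 1)
  (hq' : ∀ m ∈ fixU φ, φ ww m ∈ quadU φ)

include hd hq' in
/-- commutator formula for all `s : F`. -/
theorem comm_formula {v : M} (hv : v ∈ fixU φ) (s : F) :
    φ (uu s) (φ ww v) / φ ww v = φ (ww * ww) (ff φ v s) := by
  by_cases h : s = 0
  · subst h; rw [ff_zero, map_one, uu_zero, map_one, MulAut.one_apply, div_self']
  · lift s to Fˣ using IsUnit.mk0 s h
    rw [ff_unit]
    exact key' φ hd hq' hv s

include hd hq' in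
theorem ff_add {v : M} (hv : v ∈ fixU φ) (s t : F) :
    ff φ v (s + t) = ff φ v s * ff φ v t := by
  have h1 := comm_formula φ hd hq' hv (s + t)
  have h2 := comm_formula φ hd hq' hv s
  have h3 := comm_formula φ hd hq' hv t
  have h4 : φ (uu (s + t)) (φ ww v) / φ ww v =
      (φ (uu s) (φ ww v) / φ ww v) * (φ (uu t) (φ ww v) / φ ww v) := by
    have hfix : φ (uu t) (φ ww v) / φ ww v ∈ fixU φ := hq' _ hv t
    have h5 : φ (uu t) (φ ww v) = (φ (uu t) (φ ww v) / φ ww v) * φ ww v := by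
      rw [div_mul_cancel]
    rw [uu_add, phi_mul]
    conv_lhs => rw [h5]
    rw [map_mul, hfix s, mul_comm, ← mul_div_assoc, div_mul_div_comm, div_div]
  rw [h1, h2, h3, ← map_mul] at h4
  exact (φ (ww * ww)).injective h4

include hd hq' in
theorem ff_neg {v : M} (hv : v ∈ fixU φ) (s : F) : ff φ v (-s) = (ff φ v s)⁻¹ := by
  have := ff_add φ hd hq' hv s (-s)
  rw [add_neg_cancel, ff_zero] at this
  exact eq_inv_of_mul_eq_one_right this.symm

theorem hh_neg_one_ff (v : M) (s : F) : φ (hh (-1)) (ff φ v s) = ff φ v (-s) := by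
  rw [← ff_mul]; simp

theorem ff_eq_one_iff {v : M} (hv1 : v ≠ 1) (s : F) : ff φ v s = 1 ↔ s = 0 := by
  constructor
  · intro h
    by_contra hs
    lift s to Fˣ using IsUnit.mk0 s hs
    rw [ff_unit] at h
    exact hv1 ((map_eq_one_iff _ (φ (hh s)).injective).mp h)
  · rintro rfl; exact ff_zero φ v

/-- `w⁻¹ • f(-a) = w • f(a)` -/
theorem ww_inv_ff (v : M) (a : F) : φ ww⁻¹ (ff φ v (-a)) = φ ww (ff φ v a) := by
  rw [ww_inv, phi_mul, hh_neg_one_ff, neg_neg]

/-- the map `F² → M` -/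
noncomputable def psi (v : M) (x : Fin 2 → F) : M := ff φ v (x 0) * φ ww⁻¹ (ff φ v (x 1))

include hd hq' in
theorem psi_add {v : M} (hv : v ∈ fixU φ) (x y : Fin 2 → F) :
    psi φ v (x + y) = psi φ v x * psi φ v y := by
  simp only [psi, Pi.add_apply]
  rw [ff_add φ hd hq' hv, ff_add φ hd hq' hv, map_mul, mul_mul_mul_comm]

theorem psi_zero (v : M) : psi φ v 0 = 1 := by
  simp [psi, ff_zero]

include hd hq' in
theorem psi_uu {v : M} (hv : v ∈ fixU φ) (s : F) (x : Fin 2 → F) :
    psi φ v ((uu s : Matrix (Fin 2) (Fin 2) F).mulVec x) = φ (uu s) (psi φ v x) := by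
  have hx : x = ![x 0, x 1] := by
    funext i; fin_cases i <;> rfl
  rw [hx, uu_mulVec]
  simp only [psi, Matrix.cons_val_zero, Matrix.cons_val_one]
  rw [map_mul, ff_mem φ hv (x 0) s, ff_add φ hd hq' hv, mul_assoc]
  congr 1
  -- φ (uu s) (φ ww⁻¹ (ff (x 1))) = ff (s * x 1) * φ ww⁻¹ (ff (x 1))
  have h1 : φ ww⁻¹ (ff φ v (x 1)) = φ ww (ff φ v (-(x 1))) := by
    have := ww_inv_ff φ v (-(x 1))
    rwa [neg_neg] at this
  rw [h1]
  have h2 := comm_formula φ hd hq' (ff_mem φ hv (-(x 1))) s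
  rw [div_eq_iff_eq_mul] at h2
  rw [h2]
  congr 1
  rw [ww_ww, hh_neg_one_ff]
  by_cases hs : s = 0
  · subst hs; simp [ff_zero]
  · lift s to Fˣ using IsUnit.mk0 s hs
    rw [← Units.val_neg, ff_unit, ← ff_mul]
    simp

omit hd hq' in
theorem psi_ww (v : M) (x : Fin 2 → F) :
    psi φ v (((ww : SL(2, F)) : Matrix (Fin 2) (Fin 2) F).mulVec x) = φ ww (psi φ v x) := by
  have hx : x = ![x 0, x 1] := by
    funext i; fin_cases i <;> rfl
  rw [hx, ww_mulVec]
  simp only [psi, Matrix.cons_val_zero, Matrix.cons_val_one]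
  rw [map_mul, ww_inv_ff, ← phi_mul, mul_inv_cancel, map_one, MulAut.one_apply, mul_comm]

include hd hq' in
theorem psi_equivariant {v : M} (hv : v ∈ fixU φ) (g : SL(2, F)) :
    ∀ x : Fin 2 → F, psi φ v ((g : Matrix (Fin 2) (Fin 2) F).mulVec x) = φ g (psi φ v x) := by
  -- the set of `g` for which this holds is a subgroup containing the generators
  let E : Subgroup SL(2, F) :=
    { carrier := {g | ∀ x : Fin 2 → F, psi φ v ((g : Matrix (Fin 2) (Fin 2) F).mulVec x) = φ g (psi φ v x)}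
      mul_mem' := by
        intro a b ha hb x
        rw [Matrix.SpecialLinearGroup.coe_mul, ← Matrix.mulVec_mulVec, ha, hb, phi_mul]
      one_mem' := by intro x; simp
      inv_mem' := by
        intro a ha x
        have h1 := ha (((a⁻¹ : SL(2, F)) : Matrix (Fin 2) (Fin 2) F).mulVec x)
        rw [Matrix.mulVec_mulVec, ← Matrix.SpecialLinearGroup.coe_mul, mul_inv_cancel,
          Matrix.SpecialLinearGroup.coe_one, Matrix.one_mulVec] at h1
        rw [h1, ← phi_mul, inv_mul_cancel, map_one, MulAut.one_apply] }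
  have hu : ∀ s : F, uu s ∈ E := fun s x => psi_uu φ hd hq' hv s x
  have hw : (ww : SL(2, F)) ∈ E := fun x => psi_ww φ v x
  have hall : g ∈ E := by
    refine SL2.transvection_induction (fun g => g ∈ E) ?_ (fun A B hA hB => mul_mem hA hB) g
    intro i j hij c
    fin_cases i <;> fin_cases j
    · exact absurd rfl hij
    · change transvection (zero_ne_one : (0 : Fin 2) ≠ 1) c ∈ E
      rw [transvection01_eq]; exact hu c
    · change transvection (one_ne_zero : (1 : Fin 2) ≠ 0) c ∈ E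
      rw [transvection10_eq]; exact mul_mem (mul_mem (inv_mem hw) (hu _)) hw
    · exact absurd rfl hij
  exact hall

include hd hq' in
theorem psi_injective {v : M} (hv : v ∈ fixU φ) (hv1 : v ≠ 1) (x : Fin 2 → F)
    (hx : psi φ v x = 1) : x = 0 := by
  have h1 : ff φ v (x 0) = φ ww (ff φ v (x 1)) := by
    rw [psi, mul_eq_one_iff_eq_inv, ← map_inv, ← ff_neg φ hd hq' hv, ww_inv_ff] at hx
    exact hx
  have h2 : ff φ v (x 1) = 1 := hd _ (ff_mem φ hv _) (by rw [← h1]; exact ff_mem φ hv _)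
  have h3 : x 1 = 0 := (ff_eq_one_iff φ hv1 _).mp h2
  rw [h2, map_one] at h1
  have h4 : x 0 = 0 := (ff_eq_one_iff φ hv1 _).mp h1
  funext i; fin_cases i
  · exact h4
  · exact h3

include hd hq' in
/-- **Abstract recognition of the natural module.** -/
theorem exists_natural {v : M} (hv : v ∈ fixU φ) (hv1 : v ≠ 1) :
    ∃ Ψ : Multiplicative (Fin 2 → F) →* M, Function.Injective Ψ ∧
      ∀ (g : SL(2, F)) (x : Multiplicative (Fin 2 → F)),
        Ψ (Multiplicative.ofAdd ((g : Matrix (Fin 2) (Fin 2) F).mulVec (Multiplicative.toAdd x))) = φ g (Ψ x) := by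
  refine ⟨{ toFun := fun x => psi φ v (Multiplicative.toAdd x)
            map_one' := by simp [psi_zero]
            map_mul' := fun x y => by
              rw [toAdd_mul]; exact psi_add φ hd hq' hv _ _ }, ?_, ?_⟩
  · rw [injective_iff_map_eq_one]
    intro x hx
    have := psi_injective φ hd hq' hv hv1 (Multiplicative.toAdd x) hx
    exact Multiplicative.toAdd.injective this
  · intro g x
    exact psi_equivariant φ hd hq' hv g _

end main

end Cfsg.Agent.Lib.Helper19.NatSL2
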