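import Mathlib
import Cfsg.Agent.Lib.Helper19.NatSL2Act

/-!
# Natural `SL₂(F)`-modules: the case `|M| ≤ |C_M(U)|²` (helper19)
-/

set_option autoImplicit false

namespace Cfsg.Agent.Lib.Helper19.NatSL2

open Matrix Matrix.SpecialLinearGroup
open scoped MatrixGroups

variable {F : Type*} [Field F] {M : Type*} [CommGroup M] (φ : SL(2, F) →* MulAut M)

/-- the unitriangular group as a homomorphism from `(F, +)` -/
def uHom : Multiplicative F →* SL(2, F) where
  toFun s := uu (Multiplicative.toAdd s)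
  map_one' := uu_zero
  map_mul' _ _ := uu_add _ _

theorem isPGroup_multiplicative (p : ℕ) [CharP F p] : IsPGroup p (Multiplicative F) := by
  intro g
  refine ⟨1, ?_⟩
  rw [pow_one]
  apply Multiplicative.toAdd.injective
  rw [toAdd_pow, toAdd_one, nsmul_eq_mul, CharP.cast_eq_zero, zero_mul]

/-- A second fixed coset: if `U` does not act trivially there is `y ∉ fixU` with `[y, U] ≤ fixU`. -/
theorem exists_quadU_not_fixU [Finite M] (p : ℕ) [Fact p.Prime] [CharP F p] (hM : IsPGroup p M)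
    (hne : fixU φ ≠ ⊤) : ∃ y ∈ quadU φ, y ∉ fixU φ := by
  let _ : MulAction (Multiplicative F) M := MulAction.compHom M (φ.comp uHom)
  have hsmul : ∀ (s : Multiplicative F) (m : M), s • m = φ (uu (Multiplicative.toAdd s)) m :=
    fun s m => rfl
  have : MulAction.QuotientAction (Multiplicative F) (fixU φ) := by
    refine ⟨fun b a a' h => ?_⟩
    rw [hsmul, hsmul, ← map_inv, ← map_mul, h _]
    exact h
  have hP := isPGroup_multiplicative (F := F) p
  have hdvd : p ∣ Nat.card (M ⧸ fixU φ) := by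
    obtain ⟨k, hk⟩ := hM.index (fixU φ)
    have hk0 : k ≠ 0 := by
      rintro rfl
      rw [pow_zero] at hk
      exact hne (Subgroup.index_eq_one.mp hk)
    change p ∣ (fixU φ).index
    rw [hk]
    exact dvd_pow_self p hk0
  have hfix : ((1 : M) : M ⧸ fixU φ) ∈ MulAction.fixedPoints (Multiplicative F) (M ⧸ fixU φ) := by
    intro s
    rw [MulAction.Quotient.smul_coe, hsmul, map_one]
  obtain ⟨b, hb, hb1⟩ := hP.exists_fixed_point_of_prime_dvd_card_of_fixed_point _ hdvd hfix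
  obtain ⟨y, rfl⟩ := QuotientGroup.mk_surjective b
  refine ⟨y, ?_, ?_⟩
  · intro s
    have h1 := hb (Multiplicative.ofAdd s)
    rw [MulAction.Quotient.smul_coe, hsmul, toAdd_ofAdd, QuotientGroup.eq] at h1
    -- h1 : (φ (uu s) y)⁻¹ * y ∈ fixU φ
    have h2 := inv_mem h1
    rwa [_root_.mul_inv_rev, inv_inv, mul_comm, ← div_eq_mul_inv] at h2
  · intro hy
    apply hb1
    rw [eq_comm, QuotientGroup.eq, mul_one]
    exact inv_mem hy

section card

variable (hd : ∀ m ∈ fixU φ, φ ww m ∈ fixU φ → m = 1)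

include hd in
/-- uniqueness of the decomposition `a * w • b` with `a, b ∈ fixU`. -/
theorem decomp_unique {a b a' b' : M} (ha : a ∈ fixU φ) (hb : b ∈ fixU φ) (ha' : a' ∈ fixU φ)
    (hb' : b' ∈ fixU φ) (h : a * φ ww b = a' * φ ww b') : a = a' ∧ b = b' := by
  have h1 : φ ww (b / b') = a' / a := by
    rw [map_div, div_eq_div_iff_mul_eq_mul, mul_comm, h, mul_comm]
  have h2 : b / b' = 1 := hd _ (div_mem hb hb') (by rw [h1]; exact div_mem ha' ha)
  rw [h2, map_one] at h1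
  exact ⟨(div_eq_one.mp h1.symm).symm, div_eq_one.mp h2⟩

include hd in
/-- If `|M| ≤ |fixU|²` then every element is `a * w • b`. -/
theorem exists_decomp [Finite M] (hcard : Nat.card M ≤ Nat.card (fixU φ) ^ 2) (m : M) :
    ∃ a ∈ fixU φ, ∃ b ∈ fixU φ, m = a * φ ww b := by
  let j : (fixU φ) × (fixU φ) → M := fun x => (x.1 : M) * φ ww (x.2 : M)
  have hinj : Function.Injective j := by
    rintro ⟨⟨a, ha⟩, ⟨b, hb⟩⟩ ⟨⟨a', ha'⟩, ⟨b', hb'⟩⟩ h
    obtain ⟨h1, h2⟩ := decomp_unique φ hd ha hb ha' hb' h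
    subst h1; subst h2; rfl
  have hc : Nat.card M ≤ Nat.card ((fixU φ) × (fixU φ)) := by
    rw [Nat.card_prod, ← sq]; exact hcard
  obtain ⟨⟨⟨a, ha⟩, ⟨b, hb⟩⟩, hx⟩ := (hinj.bijective_of_nat_card_le hc).2 m
  exact ⟨a, ha, b, hb, hx.symm⟩

include hd in
/-- **Case `|M| ≤ |C_M(U)|²`**: the unitriangular group acts quadratically on `w • fixU`. -/
theorem quadU_of_card [Finite M] (p : ℕ) [Fact p.Prime] [CharP F p] (hM : IsPGroup p M)
    (hirr : ∀ N : Subgroup M, (∀ (g : SL(2, F)), ∀ m ∈ N, φ g m ∈ N) → N = ⊥ ∨ N = ⊤)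
    (hcard : Nat.card M ≤ Nat.card (fixU φ) ^ 2) :
    ∀ m ∈ fixU φ, φ ww m ∈ quadU φ := by
  by_cases hne : fixU φ = ⊤
  · intro m _
    apply fixU_le_quadU
    rw [hne]; trivial
  -- the subgroup `M'`
  let M' : Subgroup M := fixU φ ⊓ (quadU φ).comap (φ ww).toMonoidHom
  have hM'mem : ∀ v, v ∈ M' ↔ v ∈ fixU φ ∧ φ ww v ∈ quadU φ := fun v => Iff.rfl
  have hM'hh : ∀ v ∈ M', ∀ t : Fˣ, φ (hh t) v ∈ M' := by
    intro v hv t
    rw [hM'mem] at hv ⊢
    refine ⟨fixU_hh φ hv.1 t, ?_⟩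
    rw [← phi_mul, ww_hh, phi_mul]
    exact quadU_hh φ hv.2 _
  -- `M' ≠ ⊥`
  obtain ⟨y, hyq, hyf⟩ := exists_quadU_not_fixU φ p hM hne
  obtain ⟨a, ha, b, hb, hy⟩ := exists_decomp φ hd hcard y
  have hbM' : b ∈ M' := by
    rw [hM'mem]
    refine ⟨hb, ?_⟩
    have : φ ww b = y / a := by rw [hy, mul_div_cancel_left]
    rw [this]
    exact div_mem hyq (fixU_le_quadU φ ha)
  have hb1 : b ≠ 1 := by
    rintro rfl
    apply hyf
    rw [hy, map_one, mul_one]; exact ha
  -- the subgroup `N₀`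
  let N₀ : Subgroup M := fixU φ ⊔ M'.map (φ ww).toMonoidHom
  have hN₀ : ∀ (g : SL(2, F)), ∀ v ∈ M', φ g v ∈ N₀ := by
    intro g v hv
    by_cases hg : (g : Matrix (Fin 2) (Fin 2) F) 1 0 = 0
    · obtain ⟨x, t, rfl⟩ := exists_eq_uu_hh g hg
      rw [phi_mul]
      have h1 := ((hM'mem _).mp (hM'hh v hv t)).1
      rw [h1 x]
      exact Subgroup.mem_sup_left h1
    · obtain ⟨x, t, z, rfl⟩ := exists_eq_uu_ww_hh_uu g hg
      rw [phi_mul, phi_mul, phi_mul, ((hM'mem _).mp hv).1 z]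
      have h1 := hM'hh v hv t
      have h2 := ((hM'mem _).mp h1).2 x
      have h3 : φ (uu x) (φ ww (φ (hh t) v)) =
          (φ (uu x) (φ ww (φ (hh t) v)) / φ ww (φ (hh t) v)) * φ ww (φ (hh t) v) := by
        rw [div_mul_cancel]
      rw [h3]
      exact mul_mem (Subgroup.mem_sup_left h2)
        (Subgroup.mem_sup_right (Subgroup.mem_map_of_mem _ h1))
  -- the invariant subgroup generated by `M'`
  let N₁ : Subgroup M := ⨆ g : SL(2, F), M'.map (φ g).toMonoidHom
  have hN₁le : N₁ ≤ N₀ := by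
    apply iSup_le
    rintro g _ ⟨v, hv, rfl⟩
    exact hN₀ g v hv
  have hN₁inv : ∀ (g : SL(2, F)), ∀ m ∈ N₁, φ g m ∈ N₁ := by
    intro g m hm
    have h1 : N₁.map (φ g).toMonoidHom ≤ N₁ := by
      rw [Subgroup.map_iSup]
      apply iSup_le
      intro k
      rw [Subgroup.map_map]
      have : (φ g).toMonoidHom.comp (φ k).toMonoidHom = (φ (g * k)).toMonoidHom := by
        ext x; simp
      rw [this]
      exact le_iSup (fun g : SL(2, F) => M'.map (φ g).toMonoidHom) (g * k)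
    exact h1 (Subgroup.mem_map_of_mem _ hm)
  have hN₁ne : N₁ ≠ ⊥ := by
    intro h
    apply hb1
    have h2 : b ∈ N₁ := by
      have h3 : M'.map (φ 1).toMonoidHom ≤ N₁ :=
        le_iSup (fun g : SL(2, F) => M'.map (φ g).toMonoidHom) 1
      apply h3
      refine ⟨b, hbM', ?_⟩
      simp
    rw [h] at h2
    exact Subgroup.mem_bot.mp h2
  have hN₀top : N₀ = ⊤ := by
    rcases hirr N₁ hN₁inv with h | h
    · exact absurd h hN₁ne
    · rw [eq_top_iff, ← h]; exact hN₁le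
  -- conclusion
  intro c hc
  have h1 : φ ww c ∈ N₀ := by rw [hN₀top]; trivial
  obtain ⟨a', ha', d, hd', hsum⟩ := Subgroup.mem_sup.mp h1
  obtain ⟨c', hc', rfl⟩ := hd'
  have h2 : (1 : M) * φ ww c = a' * φ ww c' := by rw [one_mul]; exact hsum.symm
  obtain ⟨-, h3⟩ := decomp_unique φ hd (one_mem _) hc ha' ((hM'mem _).mp hc').1 h2
  rw [h3]
  exact ((hM'mem _).mp hc').2

end card

end Cfsg.Agent.Lib.Helper19.NatSL2
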