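import Mathlib
import Cfsg.Agent.Lib.Helper19.NatSL2Card

/-!
# Natural `SL₂(F)`-modules: abstract main theorem (helper19)

`natural_of_irreducible`: an irreducible nontrivial action of `SL₂(F)` (`F` of characteristic `p`)
on a finite commutative `p`-group `M`, such that the unitriangular group acts quadratically or
`|M| ≤ |C_M(U)|²`, is equivariantly isomorphic to the natural module `F²`.
-/

set_option autoImplicit false

namespace Cfsg.Agent.Lib.Helper19.NatSL2

open Matrix Matrix.SpecialLinearGroup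
open scoped MatrixGroups

variable {F : Type*} [Field F] {M : Type*} [CommGroup M] (φ : SL(2, F) →* MulAut M)

/-- An element fixed by `U` and by `U^w` is fixed by `SL₂(F)`. -/
theorem fixed_of_fixU_ww {m : M} (h1 : m ∈ fixU φ) (h2 : φ ww m ∈ fixU φ) (g : SL(2, F)) :
    φ g m = m := by
  refine SL2.transvection_induction (fun g => φ g m = m) ?_ ?_ g
  · intro i j hij c
    fin_cases i <;> fin_cases j
    · exact absurd rfl hij
    · change φ (transvection (zero_ne_one : (0 : Fin 2) ≠ 1) c) m = m
      rw [transvection01_eq]; exact h1 c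
    · change φ (transvection (one_ne_zero : (1 : Fin 2) ≠ 0) c) m = m
      rw [transvection10_eq, phi_mul, phi_mul, h2 (-c), ← phi_mul, inv_mul_cancel, map_one,
        MulAut.one_apply]
    · exact absurd rfl hij
  · intro A B hA hB
    rw [phi_mul, hB, hA]

/-- the fixed points of the whole group -/
def fixAll : Subgroup M where
  carrier := {m | ∀ g : SL(2, F), φ g m = m}
  mul_mem' := by
    intro a b ha hb g
    rw [map_mul, ha g, hb g]
  one_mem' := by intro g; simp
  inv_mem' := by
    intro a ha g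
    rw [map_inv, ha g]

theorem exists_fixU_ne_one [Finite M] (p : ℕ) [Fact p.Prime] [CharP F p] (hM : IsPGroup p M)
    (hnt : Nontrivial M) : ∃ v ∈ fixU φ, v ≠ 1 := by
  let _ : MulAction (Multiplicative F) M := MulAction.compHom M (φ.comp uHom)
  have hsmul : ∀ (s : Multiplicative F) (m : M), s • m = φ (uu (Multiplicative.toAdd s)) m :=
    fun s m => rfl
  have hP := isPGroup_multiplicative (F := F) p
  have hdvd : p ∣ Nat.card M := by
    obtain ⟨k, hk0, hk⟩ := hM.nontrivial_iff_card.mp hnt
    rw [hk]; exact dvd_pow_self p hk0.ne'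
  have hfix : (1 : M) ∈ MulAction.fixedPoints (Multiplicative F) M := by
    intro s
    rw [hsmul, map_one]
  obtain ⟨b, hb, hb1⟩ := hP.exists_fixed_point_of_prime_dvd_card_of_fixed_point _ hdvd hfix
  refine ⟨b, ?_, fun h => hb1 h.symm⟩
  intro s
  have := hb (Multiplicative.ofAdd s)
  rwa [hsmul, toAdd_ofAdd] at this

/-- **Abstract main theorem.** -/
theorem natural_of_irreducible [Finite M] (p : ℕ) [Fact p.Prime] [CharP F p] (hM : IsPGroup p M)
    (hirr : ∀ N : Subgroup M, (∀ (g : SL(2, F)), ∀ m ∈ N, φ g m ∈ N) → N = ⊥ ∨ N = ⊤)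
    (hnt : ∃ (g : SL(2, F)) (m : M), φ g m ≠ m)
    (hyp : (∀ (m : M) (s : F), φ (uu s) m / m ∈ fixU φ) ∨ Nat.card M ≤ Nat.card (fixU φ) ^ 2) :
    ∃ Ψ : Multiplicative (Fin 2 → F) ≃* M,
      ∀ (g : SL(2, F)) (x : Multiplicative (Fin 2 → F)),
        Ψ (Multiplicative.ofAdd ((g : Matrix (Fin 2) (Fin 2) F).mulVec (Multiplicative.toAdd x))) =
          φ g (Ψ x) := by
  have hnontriv : Nontrivial M := by
    obtain ⟨g, m, hgm⟩ := hnt
    exact ⟨⟨φ g m, m, hgm⟩⟩
  -- fixed points of the whole group are trivial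
  have hfixAll : fixAll φ = ⊥ := by
    rcases hirr (fixAll φ) (fun g m hm => by rw [hm g]; exact hm) with h | h
    · exact h
    · exfalso
      obtain ⟨g, m, hgm⟩ := hnt
      have : m ∈ fixAll φ := by rw [h]; trivial
      exact hgm (this g)
  have hd : ∀ m ∈ fixU φ, φ ww m ∈ fixU φ → m = 1 := by
    intro m h1 h2
    have : m ∈ fixAll φ := fun g => fixed_of_fixU_ww φ h1 h2 g
    rw [hfixAll] at this
    exact Subgroup.mem_bot.mp this
  have hq' : ∀ m ∈ fixU φ, φ ww m ∈ quadU φ := by
    rcases hyp with h | h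
    · intro m _ s
      exact h _ s
    · exact quadU_of_card φ hd p hM hirr h
  obtain ⟨v, hv, hv1⟩ := exists_fixU_ne_one φ p hM hnontriv
  obtain ⟨Ψ, hinj, heq⟩ := exists_natural φ hd hq' hv hv1
  have hsurj : Function.Surjective Ψ := by
    have hrange : Ψ.range = ⊤ := by
      rcases hirr Ψ.range (by
        rintro g _ ⟨x, rfl⟩
        exact ⟨_, heq g x⟩) with h | h
      · exfalso
        have h1 : Ψ (Multiplicative.ofAdd ![1, 0]) ∈ Ψ.range := ⟨_, rfl⟩
        rw [h, Subgroup.mem_bot, ← map_one Ψ] at h1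
        have h2 := hinj h1
        have h3 := congrFun (Multiplicative.ofAdd.injective h2) 0
        simp at h3
      · exact h
    exact MonoidHom.range_eq_top.mp hrange
  exact ⟨MulEquiv.ofBijective Ψ ⟨hinj, hsurj⟩, fun g x => heq g x⟩

end Cfsg.Agent.Lib.Helper19.NatSL2
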