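/-
Helper library (helper19): a verified coset-table checker for finite Coxeter groups.

Given a group `W` with generators `s i` (`i < n`) satisfying the Coxeter relations
`(s i * s j) ^ m i j = 1`, a permutation representation `φ` given by tables, and for a step
`W_J < W_{J'}` (`J' = k :: J`) of a chain of parabolic subgroups a certificate (coset words, coset
table, deduction order, base point), we obtain `|W_{J'}| = N * |W_J|` and that `φ` stays injective.
All certificates are checked by Boolean functions meant to be evaluated by the kernel.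
-/
import Mathlib

set_option autoImplicit false

namespace Cfsg.Agent.Lib.Helper19.Cox

/-! ### Words -/

section Words

variable {W : Type*} [Group W]

/-- the product of a word in the generators -/
def wp (s : ℕ → W) (w : List ℕ) : W := (w.map s).prod

theorem wp_nil (s : ℕ → W) : wp s [] = 1 := by simp [wp]

theorem wp_cons (s : ℕ → W) (i : ℕ) (w : List ℕ) : wp s (i :: w) = s i * wp s w := by simp [wp]

theorem wp_append (s : ℕ → W) (w w' : List ℕ) : wp s (w ++ w') = wp s w * wp s w' := by simp [wp]

theorem wp_concat (s : ℕ → W) (w : List ℕ) (i : ℕ) : wp s (w ++ [i]) = wp s w * s i := by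
  simp [wp]

/-- alternating word `i, b, i, b, ...` of length `k` -/
def alt (i b : ℕ) : ℕ → List ℕ
  | 0 => []
  | k + 1 => i :: alt b i k

theorem alt_two_mul_succ (i b k : ℕ) : alt i b (2 * (k + 1)) = i :: b :: alt i b (2 * k) := by
  have : 2 * (k + 1) = 2 * k + 1 + 1 := by ring
  rw [this]
  rfl

theorem wp_alt (s : ℕ → W) (i b k : ℕ) : wp s (alt i b (2 * k)) = (s i * s b) ^ k := by
  induction k with
  | zero => simp [alt, wp]
  | succ k ih =>
    rw [alt_two_mul_succ, wp_cons, wp_cons, ih, pow_succ', mul_assoc]

theorem alt_tail (i b k : ℕ) (hk : 0 < k) : alt i b k = i :: (alt i b k).tail := by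
  obtain ⟨k, rfl⟩ := Nat.exists_eq_succ_of_ne_zero hk.ne'
  rfl

/-- parabolic subgroup generated by the generators in the list `J` -/
def par (s : ℕ → W) (J : List ℕ) : Subgroup W :=
  Subgroup.closure {g | ∃ i ∈ J, s i = g}

theorem s_mem_par (s : ℕ → W) {J : List ℕ} {i : ℕ} (hi : i ∈ J) : s i ∈ par s J :=
  Subgroup.subset_closure ⟨i, hi, rfl⟩

theorem par_mono (s : ℕ → W) {J J' : List ℕ} (h : ∀ i ∈ J, i ∈ J') : par s J ≤ par s J' := by
  apply Subgroup.closure_mono
  rintro g ⟨i, hi, rfl⟩
  exact ⟨i, h i hi, rfl⟩

theorem wp_mem_par (s : ℕ → W) {J : List ℕ} {w : List ℕ} (h : ∀ i ∈ w, i ∈ J) :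
    wp s w ∈ par s J := by
  induction w with
  | nil => rw [wp_nil]; exact one_mem _
  | cons i w ih =>
    rw [wp_cons]
    exact mul_mem (s_mem_par s (h i (List.mem_cons_self ..)))
      (ih fun j hj => h j (List.mem_cons_of_mem _ hj))

theorem par_nil (s : ℕ → W) : par s [] = ⊥ := by
  unfold par
  have : {g : W | ∃ i ∈ ([] : List ℕ), s i = g} = ∅ := by
    ext g; simp
  rw [this, Subgroup.closure_empty]

end Words

/-! ### Boolean helpers -/

/-- all entries of a list are distinct -/
def distinct : List ℕ → Bool
  | [] => true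
  | a :: l => !l.contains a && distinct l

theorem nodup_of_distinct : ∀ {l : List ℕ}, distinct l = true → l.Nodup
  | [], _ => List.nodup_nil
  | a :: l, h => by
    simp only [distinct, Bool.and_eq_true, Bool.not_eq_true', List.contains_eq_mem,
      decide_eq_false_iff_not] at h
    exact List.nodup_cons.2 ⟨h.1, nodup_of_distinct h.2⟩

/-! ### The representation data -/

/-- Coxeter matrix and permutation representation (tables packed into numbers, 16 bits per entry). -/
structure Rep where
  /-- number of generators -/
  n : ℕ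
  /-- Coxeter matrix -/
  m : List (List ℕ)
  /-- number of points -/
  M : ℕ
  /-- the action tables: entry `i * M + v` is the image of `v` under generator `i` -/
  tabs : ℕ

namespace Rep

variable (R : Rep)

/-- entry of the Coxeter matrix -/
def mAt (i j : ℕ) : ℕ := (R.m.getD i []).getD j 0

/-- action of generator `i` on the point `v` -/
def act (i v : ℕ) : ℕ := if v < R.M then (R.tabs >>> (16 * (i * R.M + v))) % 65536 else v

/-- apply the letters of a word one after the other, first letter first -/
def run : List ℕ → ℕ → ℕ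
  | [], v => v
  | i :: w, v => run w (R.act i v)

/-- the relations hold in the permutation representation -/
def repOK : Bool :=
  (List.range R.n).all fun i => (List.range R.n).all fun j => (List.range R.M).all fun v =>
    (fun u => R.act i (R.act j u))^[R.mAt i j] v == v

theorem act_of_ge {i v : ℕ} (h : R.M ≤ v) : R.act i v = v := by
  unfold act
  rw [if_neg (not_lt.2 h)]

theorem iter_of_repOK (h : R.repOK = true) {i j : ℕ} (hi : i < R.n) (hj : j < R.n) (v : ℕ) :
    (fun u => R.act i (R.act j u))^[R.mAt i j] v = v := by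
  by_cases hv : v < R.M
  · simp only [repOK, List.all_eq_true, List.mem_range, beq_iff_eq] at h
    exact h i hi j hj v hv
  · apply Function.iterate_fixed
    rw [R.act_of_ge (not_lt.1 hv), R.act_of_ge (not_lt.1 hv)]

end Rep

/-! ### Step data and the checker -/

/-- The data of one step `W_J < W_{J'}`, `J' = k :: J`. Tables are packed into numbers. -/
structure StepData where
  /-- number of cosets -/
  N : ℕ
  /-- generators of the subgroup -/
  J : List ℕ
  /-- the additional generator -/
  k : ℕ
  /-- coset representatives as words -/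
  words : List (List ℕ)
  /-- the coset table, 16 bits per entry: entry `x * n + i` is the coset `x * s i` -/
  table : ℕ
  /-- for each table entry (32 bits): `rank * 256 + kind * 16 + partner` -/
  cert : ℕ
  /-- base point of the permutation representation -/
  beta : ℕ

namespace StepData

variable (R : Rep) (d : StepData)

/-- generators of the big group -/
def J' : List ℕ := d.k :: d.J

/-- entry of the table -/
def T (x i : ℕ) : ℕ := (d.table >>> (16 * (x * R.n + i))) % 65536

/-- the word of a coset -/
def wd (x : ℕ) : List ℕ := d.words.getD x []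

/-- certificate entry -/
def ct (x i : ℕ) : ℕ := (d.cert >>> (32 * (x * R.n + i))) % 4294967296

/-- rank of an edge -/
def rk (x i : ℕ) : ℕ := d.ct R x i / 256

/-- follow a word in the table -/
def walk : ℕ → List ℕ → ℕ
  | y, [] => y
  | y, i :: r => walk (d.T R y i) r

/-- all edges along a path have rank below the bound and use generators of `J'` -/
def pathOK (bound : ℕ) : ℕ → List ℕ → Bool
  | _, [] => true
  | y, i :: r => decide (d.rk R y i < bound) && d.J'.contains i && pathOK bound (d.T R y i) r

/-- all table entries are in range -/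
def tableOK : Bool :=
  (List.range d.N).all fun x => d.J'.all fun i => decide (d.T R x i < d.N)

/-- check of one table entry -/
def edgeOK (x i : ℕ) : Bool :=
  if (d.ct R x i / 16) % 16 = 0 then d.wd (d.T R x i) == d.wd x ++ [i]
  else if (d.ct R x i / 16) % 16 = 1 then (d.wd x == []) && (d.T R x i == x) && d.J.contains i
  else
    decide (d.ct R x i % 16 < R.n) && decide (0 < R.mAt i (d.ct R x i % 16)) &&
      (d.walk R (d.T R x i) (alt i (d.ct R x i % 16) (2 * R.mAt i (d.ct R x i % 16))).tail == x) &&
      d.pathOK R (d.rk R x i) (d.T R x i)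
        (alt i (d.ct R x i % 16) (2 * R.mAt i (d.ct R x i % 16))).tail

/-- the complete check -/
def check : Bool :=
  d.tableOK R && (d.wd 0 == []) && decide (0 < d.N) && (d.J'.all fun i => decide (i < R.n)) &&
    ((List.range d.N).all fun x => (d.wd x).all fun i => d.J'.contains i) &&
    ((List.range d.N).all fun x => d.J'.all fun i => d.edgeOK R x i) &&
    (d.J.all fun j => R.act j d.beta == d.beta) &&
    distinct ((List.range d.N).map fun x => R.run (d.wd x) d.beta)

/-- the facts contained in a successful check -/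
structure Checked : Prop where
  table_lt : ∀ x < d.N, ∀ i ∈ d.J', d.T R x i < d.N
  wd_zero : d.wd 0 = []
  N_pos : 0 < d.N
  J'_lt : ∀ i ∈ d.J', i < R.n
  wd_mem : ∀ x < d.N, ∀ i ∈ d.wd x, i ∈ d.J'
  edge : ∀ x < d.N, ∀ i ∈ d.J', d.edgeOK R x i = true
  fix : ∀ j ∈ d.J, R.act j d.beta = d.beta
  inj : ∀ x < d.N, ∀ y < d.N, R.run (d.wd x) d.beta = R.run (d.wd y) d.beta → x = y

theorem checked_of_check (h : d.check R = true) : d.Checked R := by
  simp only [check, Bool.and_eq_true] at h
  obtain ⟨⟨⟨⟨⟨⟨⟨h1, h2⟩, h3⟩, h4⟩, h5⟩, h6⟩, h7⟩, h8⟩ := h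
  refine ⟨?_, ?_, ?_, ?_, ?_, ?_, ?_, ?_⟩
  · simp only [tableOK, List.all_eq_true, List.mem_range, decide_eq_true_eq] at h1
    exact h1
  · simpa using h2
  · simpa using h3
  · simpa only [List.all_eq_true, decide_eq_true_eq] using h4
  · simp only [List.all_eq_true, List.mem_range, List.contains_eq_mem, decide_eq_true_eq] at h5
    exact h5
  · simp only [List.all_eq_true, List.mem_range] at h6
    exact h6
  · simp only [List.all_eq_true, beq_iff_eq] at h7
    exact h7
  · have hnd := nodup_of_distinct h8
    intro x hx y hy hxy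
    have hlen : ((List.range d.N).map fun x => R.run (d.wd x) d.beta).length = d.N := by simp
    have hx' : x < ((List.range d.N).map fun x => R.run (d.wd x) d.beta).length := by
      rw [hlen]; exact hx
    have hy' : y < ((List.range d.N).map fun x => R.run (d.wd x) d.beta).length := by
      rw [hlen]; exact hy
    have := (List.Nodup.getElem_inj_iff hnd (hi := hx') (hj := hy')).1 (by
      simp only [List.getElem_map, List.getElem_range]
      exact hxy)
    exact this

end StepData

/-! ### Soundness -/

section Sound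

variable {W : Type*} [Group W] (s : ℕ → W) (R : Rep) (d : StepData)

/-- the hypotheses on the group: Coxeter relations, and a permutation representation -/
structure Setup (φ : W →* Equiv.Perm ℕ) : Prop where
  rel : ∀ i j, i < R.n → j < R.n → (s i * s j) ^ R.mAt i j = 1
  act : ∀ i, i < R.n → ∀ v, φ (s i) v = R.act i v

/-- coset representative -/
def rep (x : ℕ) : W := wp s (d.wd x)

/-- the edge `(x, i)` of the table is correct modulo the subgroup -/
def Good (x i : ℕ) : Prop := rep s d x * s i * (rep s d (d.T R x i))⁻¹ ∈ par s d.J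

variable {s R d}

theorem path_lemma (hc : d.Checked R) (bound : ℕ)
    (hg : ∀ x i, x < d.N → i ∈ d.J' → d.rk R x i < bound → Good s R d x i) :
    ∀ (w : List ℕ) (y : ℕ), y < d.N → d.pathOK R bound y w = true →
      rep s d y * wp s w * (rep s d (d.walk R y w))⁻¹ ∈ par s d.J := by
  intro w
  induction w with
  | nil =>
    intro y _ _
    simp only [StepData.walk, wp_nil, mul_one, mul_inv_cancel]
    exact one_mem _
  | cons i r ih =>
    intro y hy hp
    simp only [StepData.pathOK, Bool.and_eq_true, decide_eq_true_eq, List.contains_eq_mem] at hp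
    obtain ⟨⟨h1, h2⟩, h3⟩ := hp
    have hy' := hc.table_lt y hy i h2
    have g1 := hg y i hy h2 h1
    have g2 := ih (d.T R y i) hy' h3
    have := mul_mem g1 g2
    simp only [StepData.walk, wp_cons]
    convert this using 1
    unfold Good at g1
    group

theorem good_of_checked {φ : W →* Equiv.Perm ℕ} (hS : Setup s R φ) (hc : d.Checked R) :
    ∀ x i, x < d.N → i ∈ d.J' → Good s R d x i := by
  have key : ∀ r x i, x < d.N → i ∈ d.J' → d.rk R x i < r → Good s R d x i := by
    intro r
    induction r with
    | zero => intro x i _ _ h; exact absurd h (Nat.not_lt_zero _)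
    | succ r ih =>
      intro x i hx hi hr
      have he := hc.edge x hx i hi
      unfold StepData.edgeOK at he
      split_ifs at he with h0 h1
      · -- tree edge
        have : d.wd (d.T R x i) = d.wd x ++ [i] := by simpa using he
        unfold Good rep
        rw [this, wp_concat, mul_inv_cancel]
        exact one_mem _
      · -- subgroup edge
        simp only [Bool.and_eq_true, beq_iff_eq, List.contains_eq_mem, decide_eq_true_eq] at he
        obtain ⟨⟨e1, e2⟩, e3⟩ := he
        unfold Good rep
        rw [e2, e1, wp_nil, one_mul, inv_one, mul_one]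
        exact s_mem_par s e3
      · -- relator
        simp only [Bool.and_eq_true, beq_iff_eq, decide_eq_true_eq] at he
        obtain ⟨⟨⟨e1, e2⟩, e3⟩, e4⟩ := he
        set b := d.ct R x i % 16 with hb
        have hin : i < R.n := hc.J'_lt i hi
        have hrel := hS.rel i b hin e1
        rw [← wp_alt, alt_tail i b _ (by omega), wp_cons] at hrel
        have hy0 := hc.table_lt x hx i hi
        have hpath := path_lemma (s := s) hc (d.rk R x i)
          (fun x' i' hx' hi' hr' => ih x' i' hx' hi' (by omega)) _ (d.T R x i) hy0 e4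
        rw [e3] at hpath
        have hw : wp s (alt i b (2 * R.mAt i b)).tail = (s i)⁻¹ := by
          exact eq_inv_of_mul_eq_one_right hrel
        rw [hw] at hpath
        have := inv_mem hpath
        unfold Good
        convert this using 1
        group
  intro x i hx hi
  exact key (d.rk R x i + 1) x i hx hi (Nat.lt_succ_self _)

theorem s_sq {φ : W →* Equiv.Perm ℕ} (hS : Setup s R φ) (hm : ∀ i < R.n, R.mAt i i = 1)
    {i : ℕ} (hi : i < R.n) : s i * s i = 1 := by
  have := hS.rel i i hi hi
  rwa [hm i hi, pow_one] at this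

/-- covering: every element of the big parabolic subgroup lies in one of the `N` cosets -/
theorem covering {φ : W →* Equiv.Perm ℕ} (hS : Setup s R φ) (hm : ∀ i < R.n, R.mAt i i = 1)
    (hc : d.Checked R) {g : W} (hg : g ∈ par s d.J') :
    ∃ x < d.N, g * (rep s d x)⁻¹ ∈ par s d.J := by
  unfold par at hg
  induction hg using Subgroup.closure_induction_right with
  | one =>
    refine ⟨0, hc.N_pos, ?_⟩
    unfold rep
    rw [hc.wd_zero, wp_nil, inv_one, mul_one]
    exact one_mem _
  | mul_right g _ y hy ih =>
    obtain ⟨i, hi, rfl⟩ := hy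
    obtain ⟨x, hx, hgx⟩ := ih
    refine ⟨d.T R x i, hc.table_lt x hx i hi, ?_⟩
    have hgood := good_of_checked hS hc x i hx hi
    have := mul_mem hgx hgood
    convert this using 1
    group
  | mul_inv_cancel g _ y hy ih =>
    obtain ⟨i, hi, rfl⟩ := hy
    obtain ⟨x, hx, hgx⟩ := ih
    refine ⟨d.T R x i, hc.table_lt x hx i hi, ?_⟩
    have hgood := good_of_checked hS hc x i hx hi
    have hinv : (s i)⁻¹ = s i := inv_eq_of_mul_eq_one_left (s_sq hS hm (hc.J'_lt i hi))
    rw [hinv]
    have := mul_mem hgx hgood
    convert this using 1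
    group

theorem J_sub_J' {i : ℕ} (hi : i ∈ d.J) : i ∈ d.J' := List.mem_cons_of_mem _ hi

theorem rep_mem (hc : d.Checked R) {x : ℕ} (hx : x < d.N) : rep s d x ∈ par s d.J' :=
  wp_mem_par s (hc.wd_mem x hx)

/-- the subgroup fixes the base point -/
theorem fix_beta {φ : W →* Equiv.Perm ℕ} (hS : Setup s R φ) (hc : d.Checked R) {h : W}
    (hh : h ∈ par s d.J) : φ h d.beta = d.beta := by
  unfold par at hh
  induction hh using Subgroup.closure_induction with
  | mem g hg =>
    obtain ⟨j, hj, rfl⟩ := hg
    rw [hS.act j (hc.J'_lt j (J_sub_J' hj)), hc.fix j hj]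
  | one => simp
  | mul a b _ _ ha hb => rw [map_mul, Equiv.Perm.mul_apply, hb, ha]
  | inv a _ ha =>
    rw [map_inv, Equiv.Perm.inv_eq_iff_eq]
    exact ha.symm

theorem run_eq {φ : W →* Equiv.Perm ℕ} (hS : Setup s R φ) (hm : ∀ i < R.n, R.mAt i i = 1) :
    ∀ (w : List ℕ), (∀ i ∈ w, i < R.n) → ∀ v, φ (wp s w)⁻¹ v = R.run w v := by
  intro w
  induction w with
  | nil => intro _ v; simp [wp_nil, Rep.run]
  | cons i w ih =>
    intro hw v
    have hi : i < R.n := hw i (List.mem_cons_self ..)
    have hinv : (s i)⁻¹ = s i := inv_eq_of_mul_eq_one_left (s_sq hS hm hi)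
    rw [wp_cons, mul_inv_rev, hinv, map_mul, Equiv.Perm.mul_apply, hS.act i hi,
      ih (fun j hj => hw j (List.mem_cons_of_mem _ hj))]
    rfl

/-- the image of the base point determines the coset -/
theorem coset_unique {φ : W →* Equiv.Perm ℕ} (hS : Setup s R φ) (hm : ∀ i < R.n, R.mAt i i = 1)
    (hc : d.Checked R) {g : W} {x : ℕ} (hx : x < d.N) (hgx : g * (rep s d x)⁻¹ ∈ par s d.J) :
    φ g⁻¹ d.beta = R.run (d.wd x) d.beta := by
  have h1 : g⁻¹ = (rep s d x)⁻¹ * (g * (rep s d x)⁻¹)⁻¹ := by group
  rw [h1, map_mul, Equiv.Perm.mul_apply, fix_beta hS hc (inv_mem hgx)]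
  exact run_eq hS hm _ (fun i hi => hc.J'_lt i (hc.wd_mem x hx i hi)) _

/-- the main counting statement for one step -/
theorem card_step {φ : W →* Equiv.Perm ℕ} (hS : Setup s R φ) (hm : ∀ i < R.n, R.mAt i i = 1)
    (hc : d.Checked R) :
    Nat.card (par s d.J') = d.N * Nat.card (par s d.J) := by
  have hle : par s d.J ≤ par s d.J' := par_mono s fun i hi => J_sub_J' hi
  let F : (par s d.J) × Fin d.N → par s d.J' := fun p =>
    ⟨p.1.1 * rep s d p.2.1, mul_mem (hle p.1.2) (rep_mem hc p.2.2)⟩
  have hF : Function.Bijective F := by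
    constructor
    · rintro ⟨⟨h, hh⟩, ⟨x, hx⟩⟩ ⟨⟨h', hh'⟩, ⟨y, hy⟩⟩ heq
      have heq' : h * rep s d x = h' * rep s d y := congrArg Subtype.val heq
      have e1 : (h * rep s d x) * (rep s d x)⁻¹ ∈ par s d.J := by
        rw [mul_inv_cancel_right]; exact hh
      have e2 : (h * rep s d x) * (rep s d y)⁻¹ ∈ par s d.J := by
        rw [heq', mul_inv_cancel_right]; exact hh'
      have u1 := coset_unique hS hm hc hx e1
      have u2 := coset_unique hS hm hc hy e2
      have hxy : x = y := hc.inj x hx y hy (u1.symm.trans u2)
      subst hxy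
      have : h = h' := mul_right_cancel heq'
      subst this
      rfl
    · rintro ⟨g, hg⟩
      obtain ⟨x, hx, hgx⟩ := covering hS hm hc hg
      refine ⟨⟨⟨g * (rep s d x)⁻¹, hgx⟩, ⟨x, hx⟩⟩, ?_⟩
      apply Subtype.ext
      show g * (rep s d x)⁻¹ * rep s d x = g
      group
  rw [← Nat.card_congr (Equiv.ofBijective F hF), Nat.card_prod, Nat.card_fin, mul_comm]

/-- injectivity of the permutation representation is inherited -/
theorem inj_step {φ : W →* Equiv.Perm ℕ} (hS : Setup s R φ) (hm : ∀ i < R.n, R.mAt i i = 1)
    (hc : d.Checked R) (hinj : Set.InjOn φ (par s d.J : Set W)) :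
    Set.InjOn φ (par s d.J' : Set W) := by
  intro g hg g' hg' heq
  obtain ⟨x, hx, hgx⟩ := covering hS hm hc hg
  obtain ⟨y, hy, hgy⟩ := covering hS hm hc hg'
  have u1 := coset_unique hS hm hc hx hgx
  have u2 := coset_unique hS hm hc hy hgy
  rw [map_inv, heq, ← map_inv] at u1
  have hxy : x = y := hc.inj x hx y hy (u1.symm.trans u2)
  subst hxy
  have := hinj hgx hgy (by rw [map_mul, map_mul, heq])
  exact mul_right_cancel this

end Sound

/-! ### Chains of steps -/

section Chain

variable {W : Type*} [Group W] {s : ℕ → W} {R : Rep}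

/-- a chain of steps, top step first, ending at the trivial subgroup -/
def ChainOK (R : Rep) : List StepData → Prop
  | [] => False
  | [d] => d.Checked R ∧ d.J = []
  | d :: d' :: rest => d.Checked R ∧ d.J = d'.J' ∧ ChainOK R (d' :: rest)

theorem chain_main {φ : W →* Equiv.Perm ℕ} (hS : Setup s R φ) (hm : ∀ i < R.n, R.mAt i i = 1) :
    ∀ (ds : List StepData) (d : StepData), ChainOK R (d :: ds) →
      Nat.card (par s d.J') = ((d :: ds).map StepData.N).prod ∧
        Set.InjOn φ (par s d.J' : Set W) := by
  intro ds
  induction ds with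
  | nil =>
    intro d hd
    obtain ⟨hc, hJ⟩ := hd
    have hbot : par s d.J = ⊥ := by rw [hJ, par_nil]
    constructor
    · rw [card_step hS hm hc, hbot, Subgroup.card_bot]
      simp
    · apply inj_step hS hm hc
      rw [hbot]
      intro a ha b hb _
      rw [SetLike.mem_coe, Subgroup.mem_bot] at ha hb
      rw [ha, hb]
  | cons d' rest ih =>
    intro d hd
    obtain ⟨hc, hJ, hrest⟩ := hd
    obtain ⟨h1, h2⟩ := ih d' hrest
    constructor
    · rw [card_step hS hm hc, hJ, h1]
      simp
    · apply inj_step hS hm hc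
      rw [hJ]
      exact h2

end Chain

/-! ### Application to Coxeter groups -/

section Coxeter

variable {n : ℕ} (M : CoxeterMatrix (Fin n)) (R : Rep)

/-- the generators of the Coxeter group indexed by natural numbers -/
noncomputable def gen (i : ℕ) : M.Group := if h : i < n then M.simple ⟨i, h⟩ else 1

theorem gen_of_lt {i : ℕ} (h : i < n) : gen M i = M.simple ⟨i, h⟩ := by
  unfold gen
  rw [dif_pos h]

variable {M R}

theorem mAt_diag (hn : R.n = n) (hM : ∀ i j : Fin n, M.M i j = R.mAt i j) :
    ∀ i < R.n, R.mAt i i = 1 := by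
  intro i hi
  rw [hn] at hi
  rw [← hM ⟨i, hi⟩ ⟨i, hi⟩]
  exact M.diagonal _

theorem act_invol (hn : R.n = n) (hM : ∀ i j : Fin n, M.M i j = R.mAt i j)
    (hrep : R.repOK = true) (i : Fin n) : Function.Involutive (R.act i) := by
  intro v
  have hi : (i : ℕ) < R.n := by rw [hn]; exact i.2
  have := R.iter_of_repOK hrep hi hi v
  rw [mAt_diag hn hM i hi] at this
  exact this

theorem liftable_perm (hn : R.n = n) (hM : ∀ i j : Fin n, M.M i j = R.mAt i j)
    (hrep : R.repOK = true) :
    M.IsLiftable (fun i : Fin n => (act_invol hn hM hrep i).toPerm) := by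
  intro i j
  have hi : (i : ℕ) < R.n := by rw [hn]; exact i.2
  have hj : (j : ℕ) < R.n := by rw [hn]; exact j.2
  ext v
  have h1 := R.iter_of_repOK hrep hi hj v
  rw [← hM i j] at h1
  rw [← Equiv.Perm.iterate_eq_pow]
  exact h1

/-- the permutation representation of the Coxeter group given by the tables -/
noncomputable def permRep (hn : R.n = n) (hM : ∀ i j : Fin n, M.M i j = R.mAt i j)
    (hrep : R.repOK = true) : M.Group →* Equiv.Perm ℕ :=
  M.toCoxeterSystem.lift ⟨fun i => (act_invol hn hM hrep i).toPerm, liftable_perm hn hM hrep⟩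

theorem permRep_simple (hn : R.n = n) (hM : ∀ i j : Fin n, M.M i j = R.mAt i j)
    (hrep : R.repOK = true) (i : Fin n) (v : ℕ) :
    permRep hn hM hrep (M.simple i) v = R.act i v := by
  unfold permRep
  rw [← CoxeterMatrix.toCoxeterSystem_simple, CoxeterSystem.lift_apply_simple]
  rfl

theorem setup_gen (hn : R.n = n) (hM : ∀ i j : Fin n, M.M i j = R.mAt i j)
    (hrep : R.repOK = true) : Setup (gen M) R (permRep hn hM hrep) := by
  constructor
  · intro i j hi hj
    rw [hn] at hi hj
    rw [gen_of_lt M hi, gen_of_lt M hj, ← hM ⟨i, hi⟩ ⟨j, hj⟩]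
    exact M.toCoxeterSystem.simple_mul_simple_pow _ _
  · intro i hi v
    rw [hn] at hi
    rw [gen_of_lt M hi, permRep_simple]

theorem par_top {J : List ℕ} (hJ : ∀ i < n, i ∈ J) : par (gen M) J = ⊤ := by
  rw [eq_top_iff, ← M.toCoxeterSystem.subgroup_closure_range_simple]
  apply Subgroup.closure_mono
  rintro g ⟨i, rfl⟩
  exact ⟨i, hJ i i.2, (gen_of_lt M i.2)⟩

/-- Main theorem: the order of the Coxeter group is the product of the numbers of cosets, and the
permutation representation given by the tables is faithful. -/
theorem coxeter_main (hn : R.n = n) (hM : ∀ i j : Fin n, M.M i j = R.mAt i j)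
    (hrep : R.repOK = true) (d : StepData) (ds : List StepData) (hch : ChainOK R (d :: ds))
    (htop : ∀ i < n, i ∈ d.J') :
    Nat.card M.Group = ((d :: ds).map StepData.N).prod ∧
      Function.Injective (permRep hn hM hrep) := by
  obtain ⟨h1, h2⟩ := chain_main (setup_gen hn hM hrep) (mAt_diag hn hM) ds d hch
  rw [par_top htop] at h1 h2
  constructor
  · rw [← h1]
    exact (Nat.card_congr Subgroup.topEquiv.toEquiv).symm
  · intro a b hab
    exact h2 (Subgroup.mem_top a) (Subgroup.mem_top b) hab

end Coxeter

/-! ### The order of the Coxeter element -/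

section CoxElt

variable {n : ℕ} {M : CoxeterMatrix (Fin n)} {R : Rep}

/-- check that the permutation `v ↦ run [0, …, n-1] v` has order exactly `h` -/
def Rep.coxOK (R : Rep) (h : ℕ) : Bool :=
  decide (0 < h) && ((List.range R.M).all fun v => (R.run (List.range R.n))^[h] v == v) &&
    ((List.range h).all fun e => e == 0 ||
      (List.range R.M).any fun v => (R.run (List.range R.n))^[e] v != v)

theorem Rep.run_of_ge (R : Rep) {v : ℕ} (hv : R.M ≤ v) : ∀ w : List ℕ, R.run w v = v
  | [] => rfl
  | i :: w => by
    rw [Rep.run, R.act_of_ge hv]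
    exact Rep.run_of_ge R hv w

theorem map_simple_eq : (List.finRange n).map M.simple = (List.range n).map (gen M) := by
  apply List.ext_getElem
  · simp
  · intro i h1 h2
    simp only [List.getElem_map, List.getElem_finRange, List.getElem_range]
    have hi : i < n := by simpa using h1
    rw [gen_of_lt M hi]
    rfl

theorem coxeter_order (hn : R.n = n) (hM : ∀ i j : Fin n, M.M i j = R.mAt i j)
    (hrep : R.repOK = true) (hinj : Function.Injective (permRep hn hM hrep)) (h : ℕ)
    (hcox : R.coxOK h = true) :
    orderOf ((List.finRange n).map M.simple).prod = h := by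
  simp only [Rep.coxOK, Bool.and_eq_true, decide_eq_true_eq, List.all_eq_true, List.mem_range,
    beq_iff_eq, Bool.or_eq_true, List.any_eq_true, bne_iff_ne] at hcox
  obtain ⟨⟨hpos, h1⟩, h2⟩ := hcox
  set c := ((List.finRange n).map M.simple).prod with hc
  have hcw : c = wp (gen M) (List.range n) := by
    rw [hc, map_simple_eq]
    rfl
  have hrun : ∀ v, permRep hn hM hrep c⁻¹ v = R.run (List.range R.n) v := by
    intro v
    rw [hcw, hn]
    exact run_eq (setup_gen hn hM hrep) (mAt_diag hn hM) _
      (fun i hi => by rw [hn]; exact List.mem_range.1 hi) v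
  have hfun : ⇑(permRep hn hM hrep c⁻¹) = R.run (List.range R.n) := funext hrun
  rw [← orderOf_inv, ← orderOf_injective (permRep hn hM hrep) hinj, orderOf_eq_iff hpos]
  constructor
  · ext v
    rw [← Equiv.Perm.iterate_eq_pow, hfun, Equiv.Perm.one_apply]
    by_cases hv : v < R.M
    · exact h1 v hv
    · apply Function.iterate_fixed
      exact R.run_of_ge (not_lt.1 hv) _
  · intro e he hepos heq
    rcases h2 e he with h0 | ⟨v, _, hv⟩
    · omega
    · apply hv
      rw [← hfun, Equiv.Perm.iterate_eq_pow, heq, Equiv.Perm.one_apply]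

end CoxElt

end Cfsg.Agent.Lib.Helper19.Cox
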