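/- Generated by tools/cox2.py (helper19): coset-table certificates for the Coxeter group of type G2. -/
import Cfsg.Agent.Lib.Helper19.CoxGeneric

set_option autoImplicit false
set_option maxRecDepth 100000

namespace Cfsg.Agent.Lib.Helper19.Cox

/-- Coxeter matrix and permutation representation for type G2 -/
def repG2 : Rep where
  n := 2
  m := [[1, 6], [6, 1]]
  M := 12
  tabs := 0xa000b0007000600090008000500040001000000030002000b00080009000a00060007000300020005000400000001

/-- step 0 of the chain for G2: `J = []`, `k = 0`, `N = 2` -/
def g2s0 : StepData where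
  N := 2
  J := []
  k := 0
  words := [[], [0]]
  table := 0x1
  cert := 0x1200000000000000000
  beta := 0

/-- step 1 of the chain for G2: `J = [0]`, `k = 1`, `N = 6` -/
def g2s1 : StepData where
  N := 6
  J := [0]
  k := 1
  words := [[], [1], [1, 0], [1, 0, 1], [1, 0, 1, 0], [1, 0, 1, 0, 1]]
  table := 0x400050005000300020004000300010000000200010000
  cert := 0x1210000022100000000000001200000012100000000000000000000012000000121000000000000000000000010
  beta := 9

theorem repG2_ok : repG2.repOK = true := by decide +kernel

theorem g2s0_ok : g2s0.check repG2 = true := by decide +kernel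

theorem g2s1_ok : g2s1.check repG2 = true := by decide +kernel

theorem repG2_matrix : ∀ i j : Fin 2, (CoxeterMatrix.G₂).M i j = repG2.mAt i j := by
  intro i j
  fin_cases i <;> fin_cases j <;> rfl

theorem chainG2 : ChainOK repG2 [g2s1, g2s0] := by
  refine ⟨StepData.checked_of_check _ _ g2s1_ok, rfl, ⟨StepData.checked_of_check _ _ g2s0_ok, rfl⟩⟩

/-- the order of the Coxeter group of type G2, and faithfulness of the table representation -/
theorem mainG2 : Nat.card (CoxeterMatrix.G₂).Group = 12 ∧
    Function.Injective (permRep (M := CoxeterMatrix.G₂) (R := repG2) rfl repG2_matrix repG2_ok) := by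
  have h := coxeter_main (M := CoxeterMatrix.G₂) (R := repG2) rfl repG2_matrix repG2_ok g2s1 [g2s0] chainG2 (by decide)
  refine ⟨?_, h.2⟩
  rw [h.1]
  rfl

theorem coxG2_ok : repG2.coxOK 6 = true := by decide +kernel

/-- the order of the Coxeter element of type G2 -/
theorem orderG2 : orderOf ((List.finRange 2).map (CoxeterMatrix.G₂).simple).prod = 6 :=
  coxeter_order (M := CoxeterMatrix.G₂) (R := repG2) rfl repG2_matrix repG2_ok mainG2.2 6 coxG2_ok

end Cfsg.Agent.Lib.Helper19.Cox
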