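import Mathlib

/-!
# Alternating forms: a subspace on which an alternating bilinear form is non-degenerate has even dimension
(helper19; hyperbolic pair + complement, strong induction; valid in every characteristic)
-/

set_option autoImplicit false

namespace Cfsg.Agent.Lib.Helper19.AltEven

open LinearMap (BilinForm)

variable {K V : Type*} [Field K] [AddCommGroup V] [Module K V]

/-- the complement of the hyperbolic pair `e, f` inside `N` -/
def hc (B : BilinForm K V) (N : Submodule K V) (e f : V) : Submodule K V :=
  N ⊓ LinearMap.ker (B e) ⊓ LinearMap.ker (B f)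

theorem mem_hc {B : BilinForm K V} {N : Submodule K V} {e f x : V} :
    x ∈ hc B N e f ↔ x ∈ N ∧ B e x = 0 ∧ B f x = 0 := by
  simp only [hc, Submodule.mem_inf, LinearMap.mem_ker, and_assoc]

theorem skew_of_alt {B : BilinForm K V} (halt : ∀ x, B x x = 0) (x y : V) : B x y = - B y x := by
  have h := halt (x + y)
  simp only [map_add, LinearMap.add_apply, halt, zero_add, add_zero] at h
  linear_combination h

/-- the projection of `x` to the complement of the pair -/
def pr (B : BilinForm K V) (e f x : V) : V := x + B f x • e - B e x • f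

theorem pr_mem_hc {B : BilinForm K V} (halt : ∀ x, B x x = 0) {N : Submodule K V} {e f x : V}
    (he : e ∈ N) (hf : f ∈ N) (hef : B e f = 1) (hx : x ∈ N) : pr B e f x ∈ hc B N e f := by
  have hfe : B f e = -1 := by rw [skew_of_alt halt, hef]
  refine mem_hc.2 ⟨N.sub_mem (N.add_mem hx (N.smul_mem _ he)) (N.smul_mem _ hf), ?_, ?_⟩
  · simp only [pr, map_add, map_sub, map_smul, smul_eq_mul, halt, hef]; ring
  · simp only [pr, map_add, map_sub, map_smul, smul_eq_mul, halt, hfe]; ring

theorem eq_pr_add (B : BilinForm K V) (e f x : V) : x = pr B e f x + (B e x • f - B f x • e) := by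
  simp only [pr]; abel

/-- `B` is non-degenerate on `N` -/
def NdOn (B : BilinForm K V) (N : Submodule K V) : Prop :=
  ∀ x ∈ N, (∀ y ∈ N, B x y = 0) → x = 0

theorem hc_ndOn {B : BilinForm K V} (halt : ∀ x, B x x = 0) {N : Submodule K V} (hN : NdOn B N)
    {e f : V} (he : e ∈ N) (hf : f ∈ N) (hef : B e f = 1) : NdOn B (hc B N e f) := by
  intro x hx hxy
  obtain ⟨hxN, hxe, hxf⟩ := mem_hc.1 hx
  apply hN x hxN
  intro y hy
  have hxe' : B x e = 0 := by rw [skew_of_alt halt, hxe, neg_zero]
  have hxf' : B x f = 0 := by rw [skew_of_alt halt, hxf, neg_zero]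
  rw [eq_pr_add B e f y, map_add, hxy _ (pr_mem_hc halt he hf hef hy), map_sub, map_smul, map_smul,
    hxe', hxf']
  simp

theorem finrank_hc [FiniteDimensional K V] {B : BilinForm K V} (halt : ∀ x, B x x = 0)
    {N : Submodule K V} {e f : V} (he : e ∈ N) (hf : f ∈ N) (hef : B e f = 1) :
    Module.finrank K N = Module.finrank K (hc B N e f) + 2 := by
  have hfe : B f e = -1 := by rw [skew_of_alt halt, hef]
  have hli : LinearIndependent K ![e, f] := by
    rw [LinearIndependent.pair_iff]
    intro a b hab
    have h1 := congrArg (B e) hab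
    have h2 := congrArg (B f) hab
    simp only [map_add, map_smul, smul_eq_mul, halt, hef, hfe, map_zero] at h1 h2
    constructor
    · linear_combination -h2
    · linear_combination h1
  have hspan : Module.finrank K (Submodule.span K (Set.range ![e, f])) = 2 := by
    rw [finrank_span_eq_card hli]; simp
  have hrange : Set.range ![e, f] = {e, f} := by
    ext x; simp [eq_comm, or_comm]
  rw [hrange] at hspan
  have hinf : hc B N e f ⊓ Submodule.span K {e, f} = ⊥ := by
    rw [eq_bot_iff]
    intro x ⟨hx1, hx2⟩
    obtain ⟨_, hxe, hxf⟩ := mem_hc.1 hx1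
    obtain ⟨a, b, rfl⟩ := Submodule.mem_span_pair.1 hx2
    simp only [map_add, map_smul, smul_eq_mul, halt, hef, hfe] at hxe hxf
    have ha : a = 0 := by linear_combination -hxf
    have hb : b = 0 := by linear_combination hxe
    simp [ha, hb]
  have hsup : hc B N e f ⊔ Submodule.span K {e, f} = N := by
    apply le_antisymm
    · apply sup_le
      · intro x hx; exact (mem_hc.1 hx).1
      · rw [Submodule.span_le]
        intro x hx
        rcases hx with rfl | rfl
        · exact he
        · exact hf
    · intro y hy
      rw [eq_pr_add B e f y]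
      apply Submodule.add_mem_sup (pr_mem_hc halt he hf hef hy)
      apply Submodule.sub_mem
      · exact Submodule.smul_mem _ _ (Submodule.subset_span (by simp))
      · exact Submodule.smul_mem _ _ (Submodule.subset_span (by simp))
  have h := Submodule.finrank_sup_add_finrank_inf_eq (hc B N e f) (Submodule.span K {e, f})
  rw [hinf, hsup, finrank_bot, hspan] at h
  omega

/-- **Main lemma.**  An alternating form non-degenerate on `N` forces `dim N` even. -/
theorem even_finrank_of_ndOn [FiniteDimensional K V] {B : BilinForm K V} (halt : ∀ x, B x x = 0) :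
    ∀ (n : ℕ) (N : Submodule K V), Module.finrank K N = n → NdOn B N → Even n := by
  intro n
  induction n using Nat.strong_induction_on with
  | _ n ih =>
    intro N hn hN
    by_cases hbot : N = ⊥
    · rw [hbot, finrank_bot] at hn
      rw [← hn]; exact Even.zero
    · obtain ⟨e, heN, he0⟩ := (Submodule.ne_bot_iff N).1 hbot
      have : ∃ y ∈ N, B e y ≠ 0 := by
        by_contra hcon
        push Not at hcon
        exact he0 (hN e heN hcon)
      obtain ⟨y, hyN, hy⟩ := this
      set f := (B e y)⁻¹ • y with hf
      have hfN : f ∈ N := N.smul_mem _ hyN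
      have hef : B e f = 1 := by
        rw [hf, map_smul, smul_eq_mul, inv_mul_cancel₀ hy]
      have hfr := finrank_hc halt heN hfN hef
      have hlt : Module.finrank K (hc B N e f) < n := by omega
      have hev := ih _ hlt (hc B N e f) rfl (hc_ndOn halt hN heN hfN hef)
      rw [← hn, hfr]
      exact hev.add even_two

end Cfsg.Agent.Lib.Helper19.AltEven
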