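import Mathlib
import Cfsg.Prelude.Def_Amalgam
import Cfsg.Agent.Lib.Helper68.AmalBDefs
import Cfsg.Agent.Lib.Helper68.AmalBTools
import Cfsg.Agent.Lib.Helper19.AmalBP2a

/-!
# S2751, case (B): module GSB-[P2b] (α-type vertices: `Z_x = Z_l × Z_m`)
-/

set_option autoImplicit false

namespace Cfsg.Agent.Lib.Helper68.AmalB

open Cfsg Cfsg.Agent.Lib.Helper12.Amal Cfsg.Agent.Lib.Helper68.AmalD Cfsg.Agent.Lib.Helper68.AmalW

variable {G : Type*} [Group G] {P₁ P₂ : Subgroup G}

/-- a subgroup centralized by `K` is normalized by `K` -/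
theorem le_normalizer_of_le_centralizer {N K : Subgroup G}
    (h : N ≤ Subgroup.centralizer ((K : Subgroup G) : Set G)) :
    K ≤ Subgroup.normalizer (N : Set G) := by
  apply le_normalizer_of_forall
  intro g hg n hn
  have hc := Subgroup.mem_centralizer_iff.1 (h hn) g hg
  -- hc : g * n = n * g
  have : g * n * g⁻¹ = n := by rw [hc]; group
  rw [this]; exact hn

/-- the neighbours of an α-type vertex are of β-type -/
theorem isB_of_adj_of_not (hB : BaseB P₁ P₂) {x y : CosetVertex P₁ P₂}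
    (hxy : (cosetGraph P₁ P₂).Adj x y) (hx : ¬ IsB x) : IsB y := by
  by_contra hy
  exact hx ((hB.adj_type x y hxy).2 hy)

/-- `C_{Z_x}(G_x) = 1` -/
theorem Za_fix_bot (hB : BaseB P₁ P₂) {x : CosetVertex P₁ P₂} (hx : ¬ IsB x) :
    Zv x ⊓ Subgroup.centralizer ((Gv x : Subgroup G) : Set G) = ⊥ := by
  have hW := hB.W
  obtain ⟨y, hxy, -⟩ := exists_adj_ne hW x x
  have hy : IsB y := isB_of_adj_of_not hB hxy hx
  set N : Subgroup G := Zv x ⊓ Subgroup.centralizer ((Gv x : Subgroup G) : Set G) with hN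
  have hNZy : N ≤ Zv y := by
    intro n hn
    have h1 : n ∈ Zv x ⊓ Subgroup.centralizer ((Gv x ⊓ Gv y : Subgroup G) : Set G) := by
      refine ⟨hn.1, ?_⟩
      exact Subgroup.centralizer_le (by
        intro g hg; exact hg.1) hn.2
    have h2 := hW.Z_cent_T x y hxy h1
    rw [← Zb_eq_ZT hB hxy hy] at h2
    exact h2
  apply hW.core x y hxy N
  · exact (inf_le_left.trans (hW.Z_le_Q x)).trans (Q_le_T hW hxy)
  · exact le_normalizer_of_le_centralizer inf_le_right
  · exact le_normalizer_of_le_centralizer (hNZy.trans hy)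

/-- `Z_l ∩ Z_m = 1` for two neighbours of an α-type vertex -/
theorem Za_inf (hB : BaseB P₁ P₂) {x l m : CosetVertex P₁ P₂} (hx : ¬ IsB x)
    (hl : (cosetGraph P₁ P₂).Adj x l) (hm : (cosetGraph P₁ P₂).Adj x m) (hlm : l ≠ m) :
    Zv l ⊓ Zv m = ⊥ := by
  have hW := hB.W
  have hlB : IsB l := isB_of_adj_of_not hB hl hx
  have hmB : IsB m := isB_of_adj_of_not hB hm hx
  rw [eq_bot_iff, ← Za_fix_bot hB hx]
  refine le_inf (inf_le_left.trans (Zb_le hB hl hlB)) ?_
  -- centralized by `T_xl` and `T_xm`, which generate `G_x`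
  set N : Subgroup G := Zv l ⊓ Zv m
  have h1 : Gv x ⊓ Gv l ≤ Subgroup.centralizer ((N : Subgroup G) : Set G) := by
    rw [Subgroup.le_centralizer_iff]
    exact (inf_le_left.trans hlB).trans (Subgroup.centralizer_le (by intro g hg; exact hg.2))
  have h2 : Gv x ⊓ Gv m ≤ Subgroup.centralizer ((N : Subgroup G) : Set G) := by
    rw [Subgroup.le_centralizer_iff]
    exact (inf_le_right.trans hmB).trans (Subgroup.centralizer_le (by intro g hg; exact hg.2))
  have h3 : Gv x ≤ Subgroup.centralizer ((N : Subgroup G) : Set G) := by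
    rw [hW.gen_two x l m hl hm hlm]
    exact sup_le h1 h2
  exact Subgroup.le_centralizer_iff.1 h3

/-- `Z_x = Z_l Z_m` -/
theorem Za_sup (hB : BaseB P₁ P₂) {x l m : CosetVertex P₁ P₂} (hx : ¬ IsB x)
    (hl : (cosetGraph P₁ P₂).Adj x l) (hm : (cosetGraph P₁ P₂).Adj x m) (hlm : l ≠ m) :
    Zv x = Zv l ⊔ Zv m := by
  have hW := hB.W
  have hlB : IsB l := isB_of_adj_of_not hB hl hx
  have hmB : IsB m := isB_of_adj_of_not hB hm hx
  have h := hW.Z_gen x l m hl hm hlm
  rw [inf_eq_right.2 (Zb_le hB hl hlB), inf_eq_right.2 (Zb_le hB hm hmB)] at h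
  exact h

/-- `Z_x` is finite -/
theorem finite_Zv (hW : BaseW P₁ P₂) (x : CosetVertex P₁ P₂) : Finite ↥(Zv x) := by
  have := hW.fin x
  exact Finite.of_injective (Subgroup.inclusion ((hW.Z_le_Q x).trans (Q_le_G hW x)))
    (Subgroup.inclusion_injective _)

/-- `|Z_x| = |Z_l|²` -/
theorem Za_card (hB : BaseB P₁ P₂) {x l : CosetVertex P₁ P₂} (hx : ¬ IsB x)
    (hl : (cosetGraph P₁ P₂).Adj x l) :
    Nat.card ↥(Zv x) = Nat.card ↥(Zv l) * Nat.card ↥(Zv l) := by
  classical
  have hW := hB.W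
  obtain ⟨m, hm, hml⟩ := exists_adj_ne hW x l
  have hlm : l ≠ m := Ne.symm hml
  have hlB : IsB l := isB_of_adj_of_not hB hl hx
  have hmB : IsB m := isB_of_adj_of_not hB hm hx
  have hlx : Zv l ≤ Zv x := Zb_le hB hl hlB
  have hmx : Zv m ≤ Zv x := Zb_le hB hm hmB
  -- `|Z_m| = |Z_l|`
  obtain ⟨g, -, hgl, -⟩ := hW.two_trans x l m m l hl hm hlm hm hl hml
  have hcardm : Nat.card ↥(Zv m) = Nat.card ↥(Zv l) := by
    rw [← hgl, hW.smul_Z]
    exact Nat.card_congr ((Zv l).equivMapOfInjective _ (MulAut.conj g).injective).symm.toEquiv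
  -- inside `A = Z_x`
  set H : Subgroup ↥(Zv x) := (Zv l).subgroupOf (Zv x) with hH
  set K : Subgroup ↥(Zv x) := (Zv m).subgroupOf (Zv x) with hK
  have hKn : K.Normal := by
    constructor
    intro n hn a
    have : a * n * a⁻¹ = n := by
      apply Subtype.ext
      have hc := Z_comm hW a.2 n.2
      push_cast
      rw [hc]; group
    rw [this]; exact hn
  have hdisj : Disjoint H K := by
    rw [disjoint_iff, eq_bot_iff]
    intro a ha
    have h1 : (a : G) ∈ Zv l ⊓ Zv m := ⟨Subgroup.mem_subgroupOf.1 ha.1, Subgroup.mem_subgroupOf.1 ha.2⟩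
    rw [Za_inf hB hx hl hm hlm, Subgroup.mem_bot] at h1
    rw [Subgroup.mem_bot]
    exact Subtype.ext h1
  have hsup : H ⊔ K = ⊤ := by
    rw [hH, hK, ← Subgroup.subgroupOf_sup hlx hmx, ← Za_sup hB hx hl hm hlm, Subgroup.subgroupOf_self]
  have hcompl : Subgroup.IsComplement' H K := by
    apply Subgroup.isComplement'_of_disjoint_and_mul_eq_univ hdisj
    rw [← Subgroup.mul_normal, hsup, Subgroup.coe_top]
  have hcard := hcompl.card_mul_card
  rw [← hcard, hH, hK, Nat.card_congr (Subgroup.subgroupOfEquivOfLe hlx).toEquiv,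
    Nat.card_congr (Subgroup.subgroupOfEquivOfLe hmx).toEquiv, hcardm]

end Cfsg.Agent.Lib.Helper68.AmalB
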