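import Mathlib
import Cfsg.Prelude.Def_Amalgam
import Cfsg.Agent.Lib.Helper68.AmalBDefs
import Cfsg.Agent.Lib.Helper68.AmalBTools
import Cfsg.Agent.Lib.Helper19.AmalBP2a
import Cfsg.Agent.Lib.Helper19.AmalBP2b

/-!
# S2751, case (B): module GSB-[P2c] (the action of `T_xy ∖ Q_x` on `Z_x`)
-/

set_option autoImplicit false

namespace Cfsg.Agent.Lib.Helper68.AmalB

open Cfsg Cfsg.Agent.Lib.Helper12.Amal Cfsg.Agent.Lib.Helper68.AmalD Cfsg.Agent.Lib.Helper68.AmalW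

variable {G : Type*} [Group G] {P₁ P₂ : Subgroup G}

/-- `[Z_x, T_xy] ≤ Z_y` -/
theorem Za_comm_le (hB : BaseB P₁ P₂) {x y : CosetVertex P₁ P₂}
    (hxy : (cosetGraph P₁ P₂).Adj x y) (hy : IsB y) {t z : G} (ht : t ∈ Gv x ⊓ Gv y)
    (hz : z ∈ Zv x) : t * z * t⁻¹ * z⁻¹ ∈ Zv y :=
  (hB.W.comm_inf x y hxy t z ht hz).2

/-- `C_{Z_x}(t) ≤ Z_y` for `t ∈ T_xy ∖ Q_x` -/
theorem Za_fix_le (hB : BaseB P₁ P₂) {x y : CosetVertex P₁ P₂}
    (hxy : (cosetGraph P₁ P₂).Adj x y) (hy : IsB y) {t z : G} (ht : t ∈ Gv x ⊓ Gv y)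
    (htQ : t ∉ Qv x) (hz : z ∈ Zv x) (hc : t * z = z * t) : z ∈ Zv y := by
  have hW := hB.W
  have hcen : z ∈ Subgroup.centralizer ((Gv x ⊓ Gv y : Subgroup G) : Set G) := by
    rw [Subgroup.mem_centralizer_iff]
    intro s hs
    by_cases hsQ : s ∈ Qv x
    · exact Q_comm_Z hW hsQ hz
    · have hq := hW.mul_mem_Q x y hxy t s ht htQ hs hsQ
      have h1 := Q_comm_Z hW hq hz
      -- s = t * (t⁻¹ * s)
      calc s * z = t * ((t⁻¹ * s) * z) := by group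
        _ = t * (z * (t⁻¹ * s)) := by rw [h1]
        _ = (t * z) * (t⁻¹ * s) := by group
        _ = (z * t) * (t⁻¹ * s) := by rw [hc]
        _ = z * s := by group
  have h2 := hW.Z_cent_T x y hxy ⟨hz, hcen⟩
  rw [← hW.Z_inf x y hxy] at h2
  exact h2.2

/-- `[Z_x, t] = Z_y` for `t ∈ T_xy ∖ Q_x`, `x` of α-type -/
theorem Za_comm_onto (hB : BaseB P₁ P₂) {x y : CosetVertex P₁ P₂} (hx : ¬ IsB x)
    (hxy : (cosetGraph P₁ P₂).Adj x y) {t : G} (ht : t ∈ Gv x ⊓ Gv y) (htQ : t ∉ Qv x)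
    {w : G} (hw : w ∈ Zv y) : ∃ z ∈ Zv x, t * z * t⁻¹ * z⁻¹ = w := by
  classical
  have hW := hB.W
  have hy : IsB y := isB_of_adj_of_not hB hxy hx
  have hfinx : Finite ↥(Zv x) := finite_Zv hW x
  have hfiny : Finite ↥(Zv y) := finite_Zv hW y
  have htx : t ∈ Gv x := ht.1
  -- the commutator map
  let φ : ↥(Zv x) →* ↥(Zv y) := MonoidHom.mk'
    (fun z => ⟨t * (z : G) * t⁻¹ * (z : G)⁻¹, Za_comm_le hB hxy hy ht z.2⟩)
    (by
      intro a b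
      apply Subtype.ext
      show t * ((a : G) * (b : G)) * t⁻¹ * ((a : G) * (b : G))⁻¹ =
        (t * (a : G) * t⁻¹ * (a : G)⁻¹) * (t * (b : G) * t⁻¹ * (b : G)⁻¹)
      have hb' : t * (b : G) * t⁻¹ ∈ Zv x := Z_conj hW htx b.2
      have hainv : (a : G)⁻¹ ∈ Zv x := (Zv x).inv_mem a.2
      have h1 : (a : G)⁻¹ * (t * (b : G) * t⁻¹) = (t * (b : G) * t⁻¹) * (a : G)⁻¹ :=
        Z_comm hW hainv hb'
      have hbinv : (b : G)⁻¹ ∈ Zv x := (Zv x).inv_mem b.2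
      have h2 : (a : G)⁻¹ * (b : G)⁻¹ = (b : G)⁻¹ * (a : G)⁻¹ := Z_comm hW hainv hbinv
      calc t * ((a : G) * (b : G)) * t⁻¹ * ((a : G) * (b : G))⁻¹
          = (t * (a : G) * t⁻¹) * (t * (b : G) * t⁻¹) * ((b : G)⁻¹ * (a : G)⁻¹) := by group
        _ = (t * (a : G) * t⁻¹) * (t * (b : G) * t⁻¹) * ((a : G)⁻¹ * (b : G)⁻¹) := by rw [h2]
        _ = (t * (a : G) * t⁻¹) * ((t * (b : G) * t⁻¹) * (a : G)⁻¹) * (b : G)⁻¹ := by group
        _ = (t * (a : G) * t⁻¹) * ((a : G)⁻¹ * (t * (b : G) * t⁻¹)) * (b : G)⁻¹ := by rw [h1]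
        _ = (t * (a : G) * t⁻¹ * (a : G)⁻¹) * (t * (b : G) * t⁻¹ * (b : G)⁻¹) := by group)
  have hφ : ∀ z : ↥(Zv x), ((φ z : ↥(Zv y)) : G) = t * (z : G) * t⁻¹ * (z : G)⁻¹ := fun z => rfl
  -- the kernel embeds into `Z_y`
  have hker : Nat.card φ.ker ≤ Nat.card ↥(Zv y) := by
    have hmem : ∀ z : φ.ker, ((z : ↥(Zv x)) : G) ∈ Zv y := by
      intro z
      have h1 : φ (z : ↥(Zv x)) = 1 := z.2
      have h2 : t * ((z : ↥(Zv x)) : G) * t⁻¹ * ((z : ↥(Zv x)) : G)⁻¹ = 1 := by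
        rw [← hφ, h1]; rfl
      have hc : t * ((z : ↥(Zv x)) : G) = ((z : ↥(Zv x)) : G) * t := by
        have := congrArg (fun u => u * ((z : ↥(Zv x)) : G) * t) h2
        simp only [one_mul] at this
        rw [← this]; group
      exact Za_fix_le hB hxy hy ht htQ (z : ↥(Zv x)).2 hc
    apply Nat.card_le_card_of_injective (fun z : φ.ker => (⟨((z : ↥(Zv x)) : G), hmem z⟩ : ↥(Zv y)))
    intro a b hab
    have : ((a : ↥(Zv x)) : G) = ((b : ↥(Zv x)) : G) := by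
      have h5 := congrArg (fun u : ↥(Zv y) => (u : G)) hab
      simpa using h5
    exact Subtype.ext (Subtype.ext this)
  have hcard : Nat.card ↥(Zv x) = Nat.card ↥(Zv y) * Nat.card ↥(Zv y) := Za_card hB hx hxy
  have hmul : Nat.card φ.ker * Nat.card φ.range = Nat.card ↥(Zv x) := by
    rw [← Subgroup.index_ker]
    exact Subgroup.card_mul_index φ.ker
  have hypos : 0 < Nat.card ↥(Zv y) := Nat.card_pos
  have hrange : Nat.card ↥(Zv y) ≤ Nat.card φ.range := by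
    have h1 : Nat.card ↥(Zv y) * Nat.card ↥(Zv y) ≤ Nat.card ↥(Zv y) * Nat.card φ.range := by
      rw [← hcard, ← hmul]
      exact Nat.mul_le_mul_right _ hker
    exact Nat.le_of_mul_le_mul_left h1 hypos
  have htop : φ.range = ⊤ := Subgroup.eq_top_of_le_card _ hrange
  have hwr : (⟨w, hw⟩ : ↥(Zv y)) ∈ φ.range := by rw [htop]; exact Subgroup.mem_top _
  obtain ⟨z, hz⟩ := hwr
  refine ⟨(z : G), z.2, ?_⟩
  rw [← hφ, hz]

end Cfsg.Agent.Lib.Helper68.AmalB
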