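import Mathlib
import Cfsg.Prelude.Def_Amalgam
import Cfsg.Agent.Lib.Helper68.AmalBDefs
import Cfsg.Agent.Lib.Helper68.AmalBTools
import Cfsg.Agent.Lib.Helper19.AmalBP2a
import Cfsg.Agent.Lib.Helper19.AmalBP2b
import Cfsg.Agent.Lib.Helper19.AmalBP2c

/-!
# S2751, case (B): module GSB-[BE-I] (`even_comm`)
-/

set_option autoImplicit false

namespace Cfsg.Agent.Lib.Helper68.AmalB

open Cfsg Cfsg.Agent.Lib.Helper12.Amal Cfsg.Agent.Lib.Helper68.AmalD Cfsg.Agent.Lib.Helper68.AmalW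

variable {G : Type*} [Group G] {P₁ P₂ : Subgroup G}

/-- the reversed walk -/
theorem isWalk_reverse {b : ℕ} {p : ℕ → CosetVertex P₁ P₂} (hp : IsWalk b p) :
    IsWalk b (fun i => p (b - i)) := by
  intro i hi
  have h1 : b - i = (b - (i + 1)) + 1 := by omega
  show (cosetGraph P₁ P₂).Adj (p (b - i)) (p (b - (i + 1)))
  rw [h1]
  exact (hp (b - (i + 1)) (by omega)).symm

/-- first half of `even_comm`: `Z_{p b}` is not in `Q_{p 0}` -/
theorem even_comm_not_le (hB : BaseB P₁ P₂) {b : ℕ} (hb : 2 ≤ b) (hmin : MinB P₁ P₂ b)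
    {p : ℕ → CosetVertex P₁ P₂} (hp : IsWalk b p) (hb' : ¬ IsB (p b))
    (hc : ¬ Zv (p 0) ≤ Qv (p b)) : ¬ Zv (p b) ≤ Qv (p 0) := by
  have hW := hB.W
  intro hle
  apply hc
  -- `Z_{p0} ≤ Q_{p(b-1)} ≤ G_{pb}`
  have hadj : (cosetGraph P₁ P₂).Adj (p (b - 1)) (p b) := by
    have := hp (b - 1) (by omega)
    rwa [show b - 1 + 1 = b by omega] at this
  have hd : (cosetGraph P₁ P₂).dist (p 0) (p (b - 1)) < b := by
    have := dist_walk_le hW hp (Nat.zero_le (b - 1)) (by omega : b - 1 ≤ b)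
    omega
  have h1 : Zv (p 0) ≤ Gv (p b) := (hmin.le hd).trans (Q_le_G_adj hW hadj)
  have h2 : Zv (p 0) ≤ Subgroup.centralizer ((Zv (p b) : Subgroup G) : Set G) :=
    (hW.Z_cent_Q (p 0)).trans (Subgroup.centralizer_le hle)
  exact (le_inf h1 h2).trans (hB.Za_cent (p b) hb')

/-- second half, one inclusion: `Z_{p (b-1)} ≤ Z_{p 1}` -/
theorem even_comm_le (hB : BaseB P₁ P₂) {b : ℕ} (hb : 2 ≤ b) (hmin : MinB P₁ P₂ b)
    {p : ℕ → CosetVertex P₁ P₂} (hp : IsWalk b p) (h0 : ¬ IsB (p 0)) (hb' : ¬ IsB (p b))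
    (hc : ¬ Zv (p 0) ≤ Qv (p b)) : Zv (p (b - 1)) ≤ Zv (p 1) := by
  have hW := hB.W
  have hadj : (cosetGraph P₁ P₂).Adj (p (b - 1)) (p b) := by
    have := hp (b - 1) (by omega)
    rwa [show b - 1 + 1 = b by omega] at this
  have hadj0 : (cosetGraph P₁ P₂).Adj (p 0) (p 1) := hp 0 (by omega)
  have h1B : IsB (p 1) := isB_of_adj_of_not hB hadj0 h0
  have hd : (cosetGraph P₁ P₂).dist (p 0) (p (b - 1)) < b := by
    have := dist_walk_le hW hp (Nat.zero_le (b - 1)) (by omega : b - 1 ≤ b)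
    omega
  have hd' : (cosetGraph P₁ P₂).dist (p b) (p 1) < b := by
    have := dist_walk_le hW hp (by omega : 1 ≤ b) (le_refl b)
    rw [SimpleGraph.dist_comm]
    omega
  -- `t ∈ Z_{p0} ∖ Q_{pb}`
  obtain ⟨t, ht0, htQ⟩ := SetLike.not_le_iff_exists.1 hc
  have htT : t ∈ Gv (p b) ⊓ Gv (p (b - 1)) := by
    have h1 : t ∈ Qv (p (b - 1)) := hmin.le hd ht0
    exact ⟨Q_le_G_adj hW hadj h1, Q_le_G hW _ h1⟩
  intro w hw
  obtain ⟨z, hz, hzw⟩ := Za_comm_onto hB hb' hadj.symm htT htQ hw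
  -- `z ∈ Z_{pb} ≤ Q_{p1} ≤ T_{p0 p1}`
  have hzT : z ∈ Gv (p 0) ⊓ Gv (p 1) := Q_le_T' hW hadj0 (hmin.le hd' hz)
  have h3 : z * t * z⁻¹ * t⁻¹ ∈ Zv (p 1) := Za_comm_le hB hadj0 h1B hzT ht0
  have h4 : w = (z * t * z⁻¹ * t⁻¹)⁻¹ := by rw [← hzw]; group
  rw [h4]
  exact (Zv (p 1)).inv_mem h3

/-- **[BE-I]** symmetry, and `[Z_{p 0}, Z_{p b}] = Z_{p 1} = Z_{p (b-1)}` -/
theorem even_comm (hB : BaseB P₁ P₂) {b : ℕ} (hb : 2 ≤ b) (hmin : MinB P₁ P₂ b)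
    {p : ℕ → CosetVertex P₁ P₂} (hp : IsWalk b p) (h0 : ¬ IsB (p 0)) (hb' : ¬ IsB (p b))
    (hc : ¬ Zv (p 0) ≤ Qv (p b)) :
    ¬ Zv (p b) ≤ Qv (p 0) ∧ Zv (p 1) = Zv (p (b - 1)) := by
  have hW := hB.W
  have h1 := even_comm_not_le hB hb hmin hp hb' hc
  refine ⟨h1, le_antisymm ?_ (even_comm_le hB hb hmin hp h0 hb' hc)⟩
  -- the reversed walk
  have hq := isWalk_reverse hp
  have key := even_comm_le hB hb hmin (p := fun i => p (b - i)) hq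
    (by simpa using hb') (by simpa using h0) (by simpa using h1)
  have h2 : b - (b - 1) = 1 := by omega
  have key' : Zv (p (b - (b - 1))) ≤ Zv (p (b - 1)) := key
  rw [h2] at key'
  exact key'

end Cfsg.Agent.Lib.Helper68.AmalB
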