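import Mathlib
import Cfsg.Prelude.Def_Amalgam
import Cfsg.Agent.Lib.Helper68.AmalBDefs
import Cfsg.Agent.Lib.Helper68.AmalBTools
import Cfsg.Agent.Lib.Helper19.AmalBP2a
import Cfsg.Agent.Lib.Helper19.AmalBP2b
import Cfsg.Agent.Lib.Helper19.AmalBP2c
import Cfsg.Agent.Lib.Helper19.AmalBEvenI

/-!
# S2751, case (B): module GSB-[BE-II] (`even_shift`)
-/

set_option autoImplicit false

namespace Cfsg.Agent.Lib.Helper68.AmalB

open Cfsg Cfsg.Agent.Lib.Helper12.Amal Cfsg.Agent.Lib.Helper68.AmalD Cfsg.Agent.Lib.Helper68.AmalW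

variable {G : Type*} [Group G] {P₁ P₂ : Subgroup G}

/-- **[BE-II]** the shifted pairs are not critical -/
theorem even_shift (hB : BaseB P₁ P₂) {b : ℕ} (hb : 4 ≤ b) (hmin : MinB P₁ P₂ b)
    {p : ℕ → CosetVertex P₁ P₂} (hp : IsWalk b p) (h0 : ¬ IsB (p 0)) (hb' : ¬ IsB (p b))
    (hc : ¬ Zv (p 0) ≤ Qv (p b)) {μ s : CosetVertex P₁ P₂}
    (hμ : (cosetGraph P₁ P₂).Adj (p 0) μ) (hμ1 : μ ≠ p 1) (hs : (cosetGraph P₁ P₂).Adj μ s) :
    Zv s ≤ Qv (p (b - 2)) := by
  classical
  have hW := hB.W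
  by_contra hcs
  apply hc
  -- types
  have hμB : IsB μ := isB_of_adj_of_not hB hμ h0
  have hsA : ¬ IsB s := fun h => ((hB.adj_type μ s hs).1 hμB) h
  have htype : ∀ i, i ≤ b → (IsB (p i) ↔ ¬ Even i) := by
    intro i hi
    rw [isB_walk hB hp hi]
    constructor
    · intro h he; exact h0 (h.2 he)
    · intro h; exact ⟨fun h' => absurd h' h0, fun he => absurd he h⟩
  have hbe : Even b := by
    by_contra hne
    exact hb' ((htype b le_rfl).2 hne)
  have hb2A : ¬ IsB (p (b - 2)) := by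
    rw [htype (b - 2) (by omega)]
    intro hne
    apply hne
    obtain ⟨k, hk⟩ := hbe
    exact ⟨k - 1, by omega⟩
  -- the shifted walk
  set q : ℕ → CosetVertex P₁ P₂ := fun i => if i = 0 then s else if i = 1 then μ else p (i - 2)
    with hq
  have hq0 : q 0 = s := by simp [hq]
  have hq1 : q 1 = μ := by simp [hq]
  have hqi : ∀ i, 2 ≤ i → q i = p (i - 2) := by
    intro i hi
    have h1 : i ≠ 0 := by omega
    have h2 : i ≠ 1 := by omega
    simp [hq, h1, h2]
  have hqw : IsWalk b q := by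
    intro i hi
    rcases Nat.lt_or_ge i 1 with h | h
    · have : i = 0 := by omega
      subst this
      rw [hq0, hq1]; exact hs.symm
    · rcases Nat.lt_or_ge i 2 with h' | h'
      · have : i = 1 := by omega
        subst this
        rw [hq1, hqi 2 le_rfl]; exact hμ.symm
      · rw [hqi i h', hqi (i + 1) (by omega)]
        have := hp (i - 2) (by omega)
        rwa [show i - 2 + 1 = i + 1 - 2 by omega] at this
  have hqb : q b = p (b - 2) := hqi b (by omega)
  have hqb1 : q (b - 1) = p (b - 3) := by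
    rw [hqi (b - 1) (by omega)]
    congr 1
  have key1 := (even_comm hB (by omega : 2 ≤ b) hmin hqw (by rw [hq0]; exact hsA)
    (by rw [hqb]; exact hb2A) (by rw [hq0, hqb]; exact hcs)).2
  rw [hq1, hqb1] at key1
  -- key1 : Zv μ = Zv (p (b - 3))
  have key2 := (even_comm hB (by omega : 2 ≤ b) hmin hp h0 hb' hc).2
  -- key2 : Zv (p 1) = Zv (p (b - 1))
  have hadj01 : (cosetGraph P₁ P₂).Adj (p 0) (p 1) := hp 0 (by omega)
  have hZ0 : Zv (p 0) = Zv μ ⊔ Zv (p 1) := Za_sup hB h0 hμ hadj01 hμ1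
  -- `p (b-3) ≠ p (b-1)`
  have hdistb : b ≤ (cosetGraph P₁ P₂).dist (p 0) (p b) := hmin (p 0) (p b) hc
  have hadjb1 : (cosetGraph P₁ P₂).Adj (p (b - 1)) (p b) := by
    have := hp (b - 1) (by omega)
    rwa [show b - 1 + 1 = b by omega] at this
  have hne : p (b - 3) ≠ p (b - 1) := by
    intro heq
    have h1 := dist_walk_le hW hp (Nat.zero_le (b - 3)) (by omega : b - 3 ≤ b)
    have h2 : (cosetGraph P₁ P₂).dist (p (b - 1)) (p b) = 1 :=
      SimpleGraph.dist_eq_one_iff_adj.2 hadjb1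
    have h3 := (hW.conn).dist_triangle (u := p 0) (v := p (b - 3)) (w := p b)
    rw [heq] at h3 h1
    omega
  have hadj23 : (cosetGraph P₁ P₂).Adj (p (b - 2)) (p (b - 3)) := by
    have := hp (b - 3) (by omega)
    rw [show b - 3 + 1 = b - 2 by omega] at this
    exact this.symm
  have hadj21 : (cosetGraph P₁ P₂).Adj (p (b - 2)) (p (b - 1)) := by
    have := hp (b - 2) (by omega)
    rwa [show b - 2 + 1 = b - 1 by omega] at this
  have hZb2 : Zv (p (b - 2)) = Zv (p (b - 3)) ⊔ Zv (p (b - 1)) :=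
    Za_sup hB hb2A hadj23 hadj21 hne
  have hEq : Zv (p 0) = Zv (p (b - 2)) := by rw [hZ0, hZb2, key1, key2]
  rw [hEq]
  apply hmin.le
  have := dist_walk_le hW hp (by omega : b - 2 ≤ b) (le_refl b)
  omega

end Cfsg.Agent.Lib.Helper68.AmalB
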