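/-
helper19: project BP (helper92), module BP-[L3-CHAR]:
for an idempotent `c` of `A^Q` and a character `χ` of `G`, the function `u ↦ χ(u c)` is a character
of `Q` (afforded by the range of the projection `ρ(c)`).
-/
import Cfsg.Agent.Lib.Helper92.BPChar
import Cfsg.Agent.Lib.Helper80.CharBasic
import Cfsg.Prelude.Def_Characters

set_option autoImplicit false

namespace Cfsg.Agent.Lib.Helper19.BP

open Cfsg.Agent.Lib.Helper92.BP

section

variable {R : Type*} [CommRing R] [Algebra R ℂ] {G : Type*} [Group G]

/-- The ring homomorphism `R[G] → End(V)` extending a complex representation. -/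
noncomputable def repHom {V : Type*} [AddCommGroup V] [Module ℂ V] (ρ : Representation ℂ G V) :
    MonoidAlgebra R G →+* Module.End ℂ V :=
  (ρ.asAlgebraHom : MonoidAlgebra ℂ G →+* Module.End ℂ V).comp
    (MonoidAlgebra.mapRingHom G (algebraMap R ℂ))

theorem repHom_single {V : Type*} [AddCommGroup V] [Module ℂ V] (ρ : Representation ℂ G V)
    (g : G) (r : R) :
    repHom (R := R) ρ (MonoidAlgebra.single g r) = algebraMap R ℂ r • ρ g := by
  unfold repHom
  rw [RingHom.comp_apply, MonoidAlgebra.mapRingHom_single]
  exact Representation.asAlgebraHom_single ρ g _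

theorem repHom_of {V : Type*} [AddCommGroup V] [Module ℂ V] (ρ : Representation ℂ G V) (g : G) :
    repHom (R := R) ρ (MonoidAlgebra.of R G g) = ρ g := by
  rw [MonoidAlgebra.of_apply, repHom_single, map_one, one_smul]

/-- `ev` of a trace function is the trace of the extended representation. -/
theorem ev_trace_eq {V : Type*} [AddCommGroup V] [Module ℂ V] (ρ : Representation ℂ G V) (u : G)
    (a : MonoidAlgebra R G) :
    ev (fun g => LinearMap.trace ℂ V (ρ (u * g))) a =
      LinearMap.trace ℂ V (ρ u * repHom (R := R) ρ a) := by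
  induction a using MonoidAlgebra.induction_linear with
  | zero =>
    unfold ev
    rw [MonoidAlgebra.coeff_zero, Finsupp.sum_zero_index, map_zero, mul_zero, map_zero]
  | add x y hx hy =>
    have e : ev (fun g => LinearMap.trace ℂ V (ρ (u * g))) (x + y) =
        ev (fun g => LinearMap.trace ℂ V (ρ (u * g))) x +
          ev (fun g => LinearMap.trace ℂ V (ρ (u * g))) y := by
      unfold ev
      rw [MonoidAlgebra.coeff_add]
      exact Finsupp.sum_add_index' (fun g => by rw [map_zero, zero_mul])
        (fun g r s => by rw [map_add, add_mul])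
    rw [e, hx, hy, map_add, mul_add, map_add]
  | single g r =>
    unfold ev
    rw [MonoidAlgebra.coeff_single, Finsupp.sum_single_index (by rw [map_zero, zero_mul]),
      repHom_single, mul_smul_comm, map_smul, ← map_mul, smul_eq_mul]

end

section

variable {R : Type*} [CommRing R] [Algebra R ℂ] {G : Type*} [Group G]

/-- BP-[L3-CHAR] : for an idempotent `c` of `A^Q` and a character `χ`, `u ↦ χ(u c)` is a
character of `Q` (afforded by the range of the projection `ρ(c)`) -/
theorem isCharacter_evAt [Finite G] {χ : G → ℂ} (hχ : Cfsg.IsCharacter G χ) (Q : Subgroup G)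
    {c : MonoidAlgebra R G} (hc : c ∈ fixedAlg R Q) (hci : IsIdempotentElem c) :
    Cfsg.IsCharacter Q (fun u : Q => evAt χ (u : G) c) := by
  obtain ⟨n, ρ, rfl⟩ := hχ
  set P : Module.End ℂ (Fin n → ℂ) := repHom (R := R) ρ c with hP
  have hPP : P * P = P := by
    rw [hP, ← map_mul, hci.eq]
  have hcomm : ∀ u : Q, ρ (u : G) * P = P * ρ (u : G) := by
    intro u
    have h1 : MonoidAlgebra.of R G (u : G) * c = c * MonoidAlgebra.of R G (u : G) := by
      have := (Subalgebra.mem_centralizer_iff R).1 hc (MonoidAlgebra.of R G (u : G))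
        ⟨(u : G), u.2, rfl⟩
      exact this
    have h2 := congrArg (repHom (R := R) ρ) h1
    rw [map_mul, map_mul, repHom_of] at h2
    exact h2
  -- the invariant subspace
  set W : Submodule ℂ (Fin n → ℂ) := LinearMap.range P with hW
  have hPW : ∀ x ∈ W, P x = x := by
    rintro x ⟨y, rfl⟩
    have := LinearMap.congr_fun hPP y
    exact this
  have hinv : ∀ (u : Q), ∀ x ∈ W, ρ (u : G) x ∈ W := by
    rintro u x ⟨y, rfl⟩
    refine ⟨ρ (u : G) y, ?_⟩
    have := LinearMap.congr_fun (hcomm u) y
    exact this.symm
  let σ : Representation ℂ Q W :=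
    { toFun := fun u => (ρ (u : G)).restrict (hinv u)
      map_one' := by
        ext x
        simp
      map_mul' := by
        intro a b
        ext x
        simp }
  have hσ : σ.character = fun u : Q => evAt (ρ.character) (u : G) c := by
    funext u
    have hf : ∀ x, (ρ (u : G) * P) x ∈ W := by
      intro x
      have := LinearMap.congr_fun (hcomm u) x
      rw [this]
      exact ⟨_, rfl⟩
    have hf' : ∀ x ∈ W, (ρ (u : G) * P) x ∈ W := fun x _ => hf x
    have h1 := LinearMap.trace_restrict_eq_of_forall_mem W (ρ (u : G) * P) hf hf'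
    have h2 : (ρ (u : G) * P).restrict hf' = (ρ (u : G)).restrict (hinv u) := by
      ext x
      show ((ρ (u : G) * P) (x : Fin n → ℂ)) _ = (ρ (u : G) (x : Fin n → ℂ)) _
      rw [Module.End.mul_apply, hPW _ x.2]
    show LinearMap.trace ℂ W ((ρ (u : G)).restrict (hinv u)) = _
    rw [← h2, h1]
    exact (ev_trace_eq (R := R) ρ (u : G) c).symm
  rw [← hσ]
  exact Cfsg.Agent.Lib.Helper80.isCharacter_of_rep σ

end

end Cfsg.Agent.Lib.Helper19.BP
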