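import Mathlib
import Cfsg.Prelude.Def_GeometricClasses
import Cfsg.Agent.Lib.Helper94.BHRSP.Kit
import Cfsg.Agent.Lib.Helper19.AltEven

/-!
# Project BHRSP (helper94), module BHRSP-[A-NONDEG] (helper19)
A subspace of the symplectic space on which the form is non-degenerate has even dimension.
-/

set_option autoImplicit false
set_option linter.unusedSectionVars false

namespace Cfsg.Agent.Lib.Helper94.BHRSP

open Cfsg Cfsg.Geo
open scoped MatrixGroups Matrix Kronecker

variable {F : Type*} [Field F] [Fintype F] {m : ℕ}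

/-- **[A-NONDEG]** -/
theorem even_finrank_of_nondegenerateOn (W : Submodule F (Fin m ⊕ Fin m → F))
    (hW : IsNondegenerateOn (sympForm m F) W) : Even (Module.finrank F W) := by
  have halt : ∀ x, Cfsg.Agent.Lib.Helper94.sympBilin m F x x = 0 := fun x => by
    rw [Cfsg.Agent.Lib.Helper94.sympBilin_apply]; exact sympForm_self x
  have hnd : Cfsg.Agent.Lib.Helper19.AltEven.NdOn (Cfsg.Agent.Lib.Helper94.sympBilin m F) W := by
    intro x hxW hx
    by_contra hx0
    obtain ⟨y, hyW, hy⟩ := (hW x hxW hx0).2
    apply hy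
    rw [← Cfsg.Agent.Lib.Helper94.sympBilin_apply]
    exact hx y hyW
  exact Cfsg.Agent.Lib.Helper19.AltEven.even_finrank_of_ndOn halt _ W rfl hnd

end Cfsg.Agent.Lib.Helper94.BHRSP
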