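import Mathlib
import Cfsg.Prelude.Def_GeometricClasses
import Cfsg.Agent.Lib.Helper94.BHRSP.Kit
import Cfsg.Agent.Lib.Helper19.AltEven

/-!
# Project BHRSP (helper94), module BHRSP-[A-SYMPDIM] (helper19)
A symplectic form on `Fin n → F` forces `n` even.
-/

set_option autoImplicit false
set_option linter.unusedSectionVars false

namespace Cfsg.Agent.Lib.Helper94.BHRSP

open Cfsg Cfsg.Geo
open scoped MatrixGroups Matrix Kronecker

variable {F : Type*} [Field F] [Fintype F] {m : ℕ}

/-- **[A-SYMPDIM]** -/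
theorem even_of_isSymplecticForm {n : ℕ} (f₁ : (Fin n → F) → (Fin n → F) → F) (hf₁ : IsSymplecticForm f₁) :
    Even n := by
  set B : LinearMap.BilinForm F (Fin n → F) :=
    LinearMap.mk₂ F f₁ hf₁.bilinear.add_left hf₁.bilinear.smul_left hf₁.bilinear.add_right
      hf₁.bilinear.smul_right with hB
  have hBf : ∀ u v, B u v = f₁ u v := fun u v => rfl
  have halt : ∀ x, B x x = 0 := fun x => hf₁.alternating x
  have hnd : Cfsg.Agent.Lib.Helper19.AltEven.NdOn B ⊤ := by
    intro x _ hx
    by_contra hx0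
    obtain ⟨y, hy⟩ := (hf₁.nondegenerate x hx0).2
    exact hy (hx y Submodule.mem_top)
  have hfr : Module.finrank F (⊤ : Submodule F (Fin n → F)) = n := by
    rw [finrank_top, Module.finrank_fin_fun]
  exact Cfsg.Agent.Lib.Helper19.AltEven.even_finrank_of_ndOn halt n ⊤ hfr hnd

end Cfsg.Agent.Lib.Helper94.BHRSP
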