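import Mathlib
import Cfsg.Prelude.Def_GeometricClasses
import Cfsg.Agent.Lib.Helper94.BHRSP.Kit

/-!
# Project BHRSP (helper94), module BHRSP-[P1] (helper19)
`spGL m F` stabilises no proper non-zero subspace.
-/

set_option autoImplicit false
set_option linter.unusedSectionVars false

namespace Cfsg.Agent.Lib.Helper94.BHRSP

open Cfsg Cfsg.Geo
open scoped MatrixGroups Matrix Kronecker

variable {F : Type*} [Field F] [Fintype F] {m : ℕ}

/-- **[P1]** -/
theorem not_spGL_le_subspaceStabilizer (W : Submodule F (Fin m ⊕ Fin m → F)) (hW : W ≠ ⊥) (hW' : W ≠ ⊤) :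
    ¬ spGL m F ≤ subspaceStabilizer W := by
  intro h
  obtain ⟨u, huW, hu⟩ := (Submodule.ne_bot_iff W).1 hW
  have : ∃ v, v ∉ W := by
    by_contra hcon
    push Not at hcon
    exact hW' (eq_top_iff.2 fun x _ => hcon x)
  obtain ⟨v, hvW⟩ := this
  have hv : v ≠ 0 := by
    rintro rfl
    exact hvW W.zero_mem
  obtain ⟨g, hg, hgu⟩ := exists_spGL_mulVec_eq u v hu hv
  have h1 := (h hg u).1 huW
  apply hvW
  rw [← hgu]
  exact h1

end Cfsg.Agent.Lib.Helper94.BHRSP
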