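import Mathlib
import Cfsg.Prelude.Def_GeometricClasses
import Cfsg.Agent.Lib.Helper94.BHRSP.Kit

/-!
# Project BHRSP (helper94), module BHRSP-[P8] (helper19)
`spGL m F` (`m ≥ 2`) lies in no similarity group of a quadratic form polarising to the symplectic form.
(The hypothesis `heven` is not used: a group of similarities of `Q` that is transitive on the non-zero vectors and
preserves the polar form makes `Q` constant on the non-zero vectors, and `u, v, u + v` with `f(u,v) = 0` give `Q = 0`.)
-/

set_option autoImplicit false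
set_option linter.unusedSectionVars false
set_option linter.unusedVariables false

namespace Cfsg.Agent.Lib.Helper94.BHRSP

open Cfsg Cfsg.Geo
open scoped MatrixGroups Matrix Kronecker

variable {F : Type*} [Field F] [Fintype F] {m : ℕ}

/-- **[P8]** -/
theorem not_spGL_le_quadSimilarityGroup (hm : 2 ≤ m) (heven : ¬ Odd (Fintype.card F))
    (Q : (Fin m ⊕ Fin m → F) → F) (hQ : IsNondegenerateQuadraticForm Q)
    (hpol : ∀ u v, QuadraticMap.polar Q u v = sympForm m F u v) :
    ¬ spGL m F ≤ quadSimilarityGroup Q := by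
  intro h
  -- two basis vectors in the same Lagrangian
  set i₀ : Fin m := ⟨0, by omega⟩ with hi₀
  set i₁ : Fin m := ⟨1, by omega⟩ with hi₁
  have hi01 : i₀ ≠ i₁ := by
    intro h'
    have := congrArg Fin.val h'
    simp [hi₀, hi₁] at this
  set u : Fin m ⊕ Fin m → F := Pi.single (Sum.inl i₀) 1 with hu
  set v : Fin m ⊕ Fin m → F := Pi.single (Sum.inl i₁) 1 with hv
  have hu0 : u ≠ 0 := by
    intro h0
    have := congrFun h0 (Sum.inl i₀)
    simp [hu] at this
  have hv0 : v ≠ 0 := by
    intro h0
    have := congrFun h0 (Sum.inl i₁)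
    simp [hv] at this
  have huv0 : u + v ≠ 0 := by
    intro h0
    have := congrFun h0 (Sum.inl i₀)
    simp [hu, hv, hi01] at this
  have hfuv : sympForm m F u v = 0 := by
    rw [Cfsg.Agent.Lib.Helper94.sympForm_eq_sum]
    apply Finset.sum_eq_zero
    intro i _
    simp [hu, hv]
  -- the form is not zero
  obtain ⟨x, hx⟩ := exists_sympForm_ne_zero u hu0
  -- every element of `spGL` is an isometry of `Q`
  have hiso : ∀ g ∈ spGL m F, ∀ w, Q ((g : Matrix (Fin m ⊕ Fin m) (Fin m ⊕ Fin m) F) *ᵥ w) = Q w := by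
    intro g hg w
    obtain ⟨c, hc⟩ := h hg
    have h1 : sympForm m F ((g : Matrix (Fin m ⊕ Fin m) (Fin m ⊕ Fin m) F) *ᵥ u)
        ((g : Matrix (Fin m ⊕ Fin m) (Fin m ⊕ Fin m) F) *ᵥ x) = sympForm m F u x :=
      (mem_spGL_iff g).1 hg u x
    have h2 : QuadraticMap.polar Q ((g : Matrix (Fin m ⊕ Fin m) (Fin m ⊕ Fin m) F) *ᵥ u)
        ((g : Matrix (Fin m ⊕ Fin m) (Fin m ⊕ Fin m) F) *ᵥ x) = (c : F) * QuadraticMap.polar Q u x := by
      unfold QuadraticMap.polar
      rw [← Matrix.mulVec_add, hc, hc, hc]
      ring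
    rw [hpol, hpol, h1] at h2
    have hc1 : (c : F) = 1 := by
      have : ((c : F) - 1) * sympForm m F u x = 0 := by linear_combination -h2
      rcases mul_eq_zero.1 this with h' | h'
      · linear_combination h'
      · exact absurd h' hx
    rw [hc, hc1, one_mul]
  -- `Q` is constant on the non-zero vectors
  have hconst : ∀ w, w ≠ 0 → Q w = Q u := by
    intro w hw
    obtain ⟨g, hg, hgu⟩ := exists_spGL_mulVec_eq u w hu0 hw
    rw [← hgu, hiso g hg]
  have ha : Q u = 0 := by
    have h1 := hpol u v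
    unfold QuadraticMap.polar at h1
    rw [hconst _ huv0, hconst v hv0, hfuv] at h1
    linear_combination -h1
  -- so the polar form vanishes
  have hQ0 : ∀ w, Q w = 0 := by
    intro w
    by_cases hw : w = 0
    · have := hQ.smul 0 u
      rw [zero_smul] at this
      rw [hw, this]; ring
    · rw [hconst w hw, ha]
  apply hx
  rw [← hpol]
  unfold QuadraticMap.polar
  rw [hQ0, hQ0, hQ0]; ring

end Cfsg.Agent.Lib.Helper94.BHRSP
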