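import Mathlib
import Cfsg.Prelude.Def_GeometricClasses
import Cfsg.Prelude.Def_ClassicalGeometry
import Cfsg.Agent.Lib.Helper37.BHRSU.Defs
import Cfsg.Agent.Lib.Helper86.BHRSU6.Defs

/-!
# BHRSU6-[F3-PAIR], kit: the form `hermForm 6 F 2` over the field with four elements and the adjoint `dag`
-/

set_option autoImplicit false
set_option linter.unusedSectionVars false

namespace Cfsg.Agent.Lib.Helper19.Bhrsu6Pair

open Cfsg Cfsg.Geo Cfsg.Agent.Lib.Helper86.BHRSU6
open scoped MatrixGroups Matrix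

variable {F : Type*} [Field F] [Fintype F]

theorem pow_four (hF : Fintype.card F = 4) (a : F) : a ^ 4 = a := by
  have := FiniteField.pow_card a
  rwa [hF] at this

theorem two_eq_zero (hF : Fintype.card F = 4) : (2 : F) = 0 := by
  obtain ⟨p, hp⟩ := CharP.exists F
  obtain ⟨n, hpr, hcard⟩ := FiniteField.card F p
  rw [hF] at hcard
  have hdvd : p ∣ 4 := by
    rw [hcard]
    exact dvd_pow_self p n.ne_zero
  have hp2 : p = 2 := by
    have h4 : (4 : ℕ) = 2 ^ 2 := by norm_num
    rw [h4] at hdvd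
    exact (Nat.prime_dvd_prime_iff_eq hpr Nat.prime_two).1 (hpr.dvd_of_dvd_pow hdvd)
  subst hp2
  have := CharP.cast_eq_zero F 2
  exact_mod_cast this

theorem add_self (hF : Fintype.card F = 4) (a : F) : a + a = 0 := by
  have := two_eq_zero hF
  calc a + a = 2 * a := by ring
    _ = 0 := by rw [this, zero_mul]

theorem add_sq' (hF : Fintype.card F = 4) (a b : F) : (a + b) ^ 2 = a ^ 2 + b ^ 2 := by
  have h2 := two_eq_zero hF
  calc (a + b) ^ 2 = a ^ 2 + b ^ 2 + 2 * (a * b) := by ring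
    _ = a ^ 2 + b ^ 2 := by rw [h2, zero_mul, add_zero]

theorem sum_sq (hF : Fintype.card F = 4) {ι : Type*} (s : Finset ι) (g : ι → F) :
    (∑ i ∈ s, g i) ^ 2 = ∑ i ∈ s, (g i) ^ 2 := by
  classical
  induction s using Finset.induction_on with
  | empty => simp
  | insert a s ha ih => rw [Finset.sum_insert ha, Finset.sum_insert ha, add_sq' hF, ih]

/-! ### the form -/

theorem f_add_left (u u' v : Fin 6 → F) :
    hermForm 6 F 2 (u + u') v = hermForm 6 F 2 u v + hermForm 6 F 2 u' v := by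
  simp only [hermForm, Pi.add_apply, add_mul, Finset.sum_add_distrib]

theorem f_add_right (hF : Fintype.card F = 4) (u v v' : Fin 6 → F) :
    hermForm 6 F 2 u (v + v') = hermForm 6 F 2 u v + hermForm 6 F 2 u v' := by
  simp only [hermForm, Pi.add_apply, add_sq' hF, mul_add, Finset.sum_add_distrib]

theorem f_smul_left (c : F) (u v : Fin 6 → F) :
    hermForm 6 F 2 (c • u) v = c * hermForm 6 F 2 u v := by
  simp only [hermForm, Pi.smul_apply, smul_eq_mul, Finset.mul_sum, mul_assoc]

theorem f_smul_right (c : F) (u v : Fin 6 → F) :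
    hermForm 6 F 2 u (c • v) = c ^ 2 * hermForm 6 F 2 u v := by
  simp only [hermForm, Pi.smul_apply, smul_eq_mul, Finset.mul_sum, mul_pow]
  apply Finset.sum_congr rfl
  intro i _
  ring

theorem f_zero_left (v : Fin 6 → F) : hermForm 6 F 2 0 v = 0 := by
  simp [hermForm]

theorem f_zero_right (u : Fin 6 → F) : hermForm 6 F 2 u 0 = 0 := by
  simp [hermForm]

theorem f_symm (hF : Fintype.card F = 4) (u v : Fin 6 → F) :
    hermForm 6 F 2 v u = (hermForm 6 F 2 u v) ^ 2 := by
  simp only [hermForm]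
  rw [sum_sq hF]
  apply Finset.sum_congr rfl
  intro i _
  rw [mul_pow, ← pow_mul, pow_four hF]
  ring

theorem f_single_right (u : Fin 6 → F) (i : Fin 6) :
    hermForm 6 F 2 u (Pi.single i 1) = u i := by
  simp only [hermForm]
  rw [Finset.sum_eq_single i]
  · simp
  · intro j _ hji
    simp [Pi.single_eq_of_ne hji]
  · intro h; exact absurd (Finset.mem_univ i) h

theorem f_nondeg {x : Fin 6 → F} (hx : x ≠ 0) : ∃ w, hermForm 6 F 2 x w ≠ 0 := by
  obtain ⟨i, hi⟩ := Function.ne_iff.1 hx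
  exact ⟨Pi.single i 1, by rw [f_single_right]; exact hi⟩

theorem eq_zero_of_forall_f (hF : Fintype.card F = 4) {y : Fin 6 → F}
    (h : ∀ u, hermForm 6 F 2 u y = 0) : y = 0 := by
  by_contra hy
  obtain ⟨w, hw⟩ := f_nondeg hy
  apply hw
  rw [f_symm hF, h w]; ring

/-! ### the adjoint -/

theorem dag_apply (k : Matrix (Fin 6) (Fin 6) F) (i j : Fin 6) : dag k i j = (k j i) ^ 2 := rfl

theorem dag_dag (hF : Fintype.card F = 4) (k : Matrix (Fin 6) (Fin 6) F) : dag (dag k) = k := by
  ext i j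
  rw [dag_apply, dag_apply, ← pow_mul, pow_four hF]

theorem dag_add (hF : Fintype.card F = 4) (a b : Matrix (Fin 6) (Fin 6) F) :
    dag (a + b) = dag a + dag b := by
  ext i j
  simp only [dag_apply, Matrix.add_apply, add_sq' hF]

theorem dag_smul (c : F) (a : Matrix (Fin 6) (Fin 6) F) : dag (c • a) = c ^ 2 • dag a := by
  ext i j
  simp only [dag_apply, Matrix.smul_apply, smul_eq_mul, mul_pow]

theorem dag_one : dag (1 : Matrix (Fin 6) (Fin 6) F) = 1 := by
  ext i j
  rw [dag_apply]
  by_cases h : i = j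
  · subst h; simp
  · rw [Matrix.one_apply_ne h, Matrix.one_apply_ne (Ne.symm h)]; ring

theorem dag_mul (hF : Fintype.card F = 4) (a b : Matrix (Fin 6) (Fin 6) F) :
    dag (a * b) = dag b * dag a := by
  ext i j
  simp only [dag_apply, Matrix.mul_apply, sum_sq hF, mul_pow]
  apply Finset.sum_congr rfl
  intro l _
  ring

theorem f_mulVec_dag (hF : Fintype.card F = 4) (k : Matrix (Fin 6) (Fin 6) F) (u v : Fin 6 → F) :
    hermForm 6 F 2 (k *ᵥ u) v = hermForm 6 F 2 u (dag k *ᵥ v) := by
  simp only [hermForm, Matrix.mulVec, dotProduct, dag_apply, sum_sq hF, mul_pow]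
  simp only [Finset.sum_mul, Finset.mul_sum]
  rw [Finset.sum_comm]
  apply Finset.sum_congr rfl
  intro j _
  apply Finset.sum_congr rfl
  intro i _
  rw [← pow_mul, pow_four hF]
  ring

theorem f_dag_mulVec (hF : Fintype.card F = 4) (k : Matrix (Fin 6) (Fin 6) F) (u v : Fin 6 → F) :
    hermForm 6 F 2 (dag k *ᵥ u) v = hermForm 6 F 2 u (k *ᵥ v) := by
  rw [f_mulVec_dag hF, dag_dag hF]

theorem dag_mem (hF : Fintype.card F = 4) (K : Subalgebra F (Matrix (Fin 6) (Fin 6) F))
    (hadj : IsAdjointClosedFor (hermForm 6 F 2) K) {k : Matrix (Fin 6) (Fin 6) F} (hk : k ∈ K) :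
    dag k ∈ K := by
  obtain ⟨k', hk', h⟩ := hadj k hk
  have heq : dag k = k' := by
    ext i j
    have h1 : ∀ u, hermForm 6 F 2 u ((dag k - k') *ᵥ Pi.single j 1) = 0 := by
      intro u
      have h2 := h u (Pi.single j 1)
      rw [f_mulVec_dag hF] at h2
      rw [Matrix.sub_mulVec]
      have h3 : hermForm 6 F 2 u (dag k *ᵥ Pi.single j 1 - k' *ᵥ Pi.single j 1)
          = hermForm 6 F 2 u (dag k *ᵥ Pi.single j 1) + hermForm 6 F 2 u (k' *ᵥ Pi.single j 1) := by
        rw [sub_eq_add_neg, f_add_right hF]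
        congr 1
        have : -(k' *ᵥ Pi.single j 1) = (-1 : F) • (k' *ᵥ Pi.single j 1) := by simp
        rw [this, f_smul_right]
        ring
      rw [h3, h2, add_self hF]
    have h4 := eq_zero_of_forall_f hF h1
    have h5 := congrFun h4 i
    simp only [Matrix.mulVec_single_one, Pi.zero_apply] at h5
    have h6 : (dag k - k') i j = 0 := h5
    rw [Matrix.sub_apply, sub_eq_zero] at h6
    exact h6
  rw [heq]; exact hk'

end Cfsg.Agent.Lib.Helper19.Bhrsu6Pair
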