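import Mathlib
import Cfsg.Prelude.Def_GeometricClasses
import Cfsg.Prelude.Def_ClassicalGeometry
import Cfsg.Agent.Lib.Helper37.BHRSU.Defs
import Cfsg.Agent.Lib.Helper86.BHRSU6.Defs
import Cfsg.Agent.Lib.Helper19.Bhrsu6PairKit

/-!
# BHRSU6-[F3-PAIR]: existence of a hyperbolic pair for an adjoint-closed cubic field `K ⊂ M_6(F_4)`
-/

set_option autoImplicit false
set_option linter.unusedSectionVars false

namespace Cfsg.Agent.Lib.Helper19.Bhrsu6Pair

open Cfsg Cfsg.Geo Cfsg.Agent.Lib.Helper86.BHRSU6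
open scoped MatrixGroups Matrix

variable {F : Type*} [Field F] [Fintype F]

/-- the functional `k ↦ f(k x, y)` on `K` -/
def phi (K : Subalgebra F (Matrix (Fin 6) (Fin 6) F)) (x y : Fin 6 → F) : ↥K →ₗ[F] F where
  toFun k := hermForm 6 F 2 ((k : Matrix (Fin 6) (Fin 6) F) *ᵥ x) y
  map_add' a b := by
    show hermForm 6 F 2 (((a + b : ↥K) : Matrix (Fin 6) (Fin 6) F) *ᵥ x) y = _
    rw [Subalgebra.coe_add, Matrix.add_mulVec, f_add_left]
  map_smul' c a := by
    show hermForm 6 F 2 (((c • a : ↥K) : Matrix (Fin 6) (Fin 6) F) *ᵥ x) y = _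
    rw [Subalgebra.coe_smul, Matrix.smul_mulVec, f_smul_left]
    rfl

theorem phi_apply (K : Subalgebra F (Matrix (Fin 6) (Fin 6) F)) (x y : Fin 6 → F) (k : ↥K) :
    phi K x y k = hermForm 6 F 2 ((k : Matrix (Fin 6) (Fin 6) F) *ᵥ x) y := rfl

section

variable (hF : Fintype.card F = 4) (K : Subalgebra F (Matrix (Fin 6) (Fin 6) F))
  (hK : IsFieldSubalgebra 3 K) (hadj : IsAdjointClosedFor (hermForm 6 F 2) K)

/-- `dag` on `K` -/
def dagK (hF : Fintype.card F = 4) (K : Subalgebra F (Matrix (Fin 6) (Fin 6) F))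
    (hadj : IsAdjointClosedFor (hermForm 6 F 2) K) (k : ↥K) : ↥K :=
  ⟨dag (k : Matrix (Fin 6) (Fin 6) F), dag_mem hF K hadj k.2⟩

theorem coe_dagK (k : ↥K) :
    ((dagK hF K hadj k : ↥K) : Matrix (Fin 6) (Fin 6) F) = dag (k : Matrix (Fin 6) (Fin 6) F) := rfl

theorem dagK_dagK (k : ↥K) : dagK hF K hadj (dagK hF K hadj k) = k :=
  Subtype.ext (by rw [coe_dagK, coe_dagK, dag_dag hF])

include hK in
theorem mul_comm_K (a b : ↥K) : a * b = b * a :=
  Subtype.ext (hK.comm a a.2 b b.2)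

include hK in
theorem dagK_mul (a b : ↥K) :
    dagK hF K hadj (a * b) = dagK hF K hadj a * dagK hF K hadj b := by
  apply Subtype.ext
  rw [coe_dagK, Subalgebra.coe_mul, dag_mul hF, Subalgebra.coe_mul, coe_dagK, coe_dagK]
  exact hK.comm _ (dag_mem hF K hadj b.2) _ (dag_mem hF K hadj a.2)

include hK in
theorem exists_inv_K {a : ↥K} (ha : a ≠ 0) : ∃ a' : ↥K, a * a' = 1 := by
  have ha' : (a : Matrix (Fin 6) (Fin 6) F) ≠ 0 := fun h => ha (Subtype.ext h)
  obtain ⟨y, hy, hxy⟩ := hK.inv a a.2 ha'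
  exact ⟨⟨y, hy⟩, Subtype.ext hxy⟩

include hK in
theorem finiteDimensional_K : FiniteDimensional F ↥K :=
  Module.finite_of_finrank_pos (by rw [hK.finrank_eq]; norm_num)

/-- (D): every functional on `K` is `k ↦ τ (β k)` for a non-zero functional `τ` -/
def mulDual (τ : ↥K →ₗ[F] F) : ↥K →ₗ[F] Module.Dual F ↥K :=
  (LinearMap.mul F ↥K).compr₂ τ

theorem mulDual_apply (τ : ↥K →ₗ[F] F) (β k : ↥K) : mulDual K τ β k = τ (β * k) := rfl

include hK in
theorem mulDual_injective {τ : ↥K →ₗ[F] F} (hτ : τ ≠ 0) : Function.Injective (mulDual K τ) := by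
  rw [← LinearMap.ker_eq_bot, LinearMap.ker_eq_bot']
  intro β hβ
  by_contra hne
  obtain ⟨β', hβ'⟩ := exists_inv_K K hK hne
  apply hτ
  ext k
  have h1 : mulDual K τ β (β' * k) = 0 := by rw [hβ]; rfl
  rw [mulDual_apply, ← mul_assoc, hβ', one_mul] at h1
  rw [h1]; rfl

include hK in
theorem exists_mul_rep {τ : ↥K →ₗ[F] F} (hτ : τ ≠ 0) (ψ : ↥K →ₗ[F] F) :
    ∃ β : ↥K, ∀ k : ↥K, ψ k = τ (β * k) := by
  have := finiteDimensional_K K hK
  have hsurj : Function.Surjective (mulDual K τ) :=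
    (LinearMap.injective_iff_surjective_of_finrank_eq_finrank
      (Subspace.dual_finrank_eq (K := F) (V := ↥K)).symm).1 (mulDual_injective K hK hτ)
  obtain ⟨β, hβ⟩ := hsurj ψ
  exact ⟨β, fun k => by rw [← hβ]; rfl⟩

/-- hermitian functionals -/
def IsHerm (hF : Fintype.card F = 4) (K : Subalgebra F (Matrix (Fin 6) (Fin 6) F))
    (hadj : IsAdjointClosedFor (hermForm 6 F 2) K) (τ : ↥K →ₗ[F] F) : Prop :=
  ∀ k : ↥K, τ (dagK hF K hadj k) = (τ k) ^ 2

include hK in
theorem dagK_eq_of_herm {τ ψ : ↥K →ₗ[F] F} (hτ : τ ≠ 0) (hτh : IsHerm hF K hadj τ)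
    (hψh : IsHerm hF K hadj ψ) {β : ↥K} (hβ : ∀ k : ↥K, ψ k = τ (β * k)) :
    dagK hF K hadj β = β := by
  have hinj := mulDual_injective K hK hτ
  apply hinj
  ext k
  rw [mulDual_apply, mulDual_apply]
  -- write `k = dagK k'`
  set k' := dagK hF K hadj k with hk'
  have hk : k = dagK hF K hadj k' := by rw [hk', dagK_dagK]
  rw [hk, ← dagK_mul hF K hK hadj, hτh, ← hβ, ← hψh, hβ]

theorem phi_self_herm (v : Fin 6 → F) : IsHerm hF K hadj (phi K v v) := by
  intro k
  rw [phi_apply, phi_apply, coe_dagK, f_dag_mulVec hF, f_symm hF]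

include hK in
/-- squaring is onto on the self-adjoint elements -/
theorem exists_sqrt_K₀ (μ : ↥K) (hμ : dagK hF K hadj μ = μ) :
    ∃ l : ↥K, dagK hF K hadj l = l ∧ l * l = μ := by
  classical
  have hfin : Finite ↥K := inferInstance
  let K₀ := {k : ↥K // dagK hF K hadj k = k}
  let sq : K₀ → K₀ := fun a => ⟨a.1 * a.1, by rw [dagK_mul hF K hK hadj, a.2]⟩
  have h2 : ∀ a : ↥K, a + a = 0 := by
    intro a
    apply Subtype.ext
    ext i j
    simp [add_self hF]
  have hinj : Function.Injective sq := by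
    intro a b hab
    have h1 : a.1 * a.1 = b.1 * b.1 := congrArg Subtype.val hab
    have h3 : (a.1 + b.1) * (a.1 + b.1) = 0 := by
      have hc := mul_comm_K K hK a.1 b.1
      calc (a.1 + b.1) * (a.1 + b.1) = a.1 * a.1 + b.1 * b.1 + (a.1 * b.1 + b.1 * a.1) := by
            noncomm_ring
        _ = a.1 * a.1 + a.1 * a.1 + (a.1 * b.1 + a.1 * b.1) := by rw [← h1, ← hc]
        _ = 0 := by rw [h2, h2, add_zero]
    have h4 : a.1 + b.1 = 0 := by
      by_contra hne
      obtain ⟨c, hc⟩ := exists_inv_K K hK hne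
      apply hne
      calc a.1 + b.1 = (a.1 + b.1) * ((a.1 + b.1) * c) := by rw [hc, mul_one]
        _ = ((a.1 + b.1) * (a.1 + b.1)) * c := by rw [mul_assoc]
        _ = 0 := by rw [h3, zero_mul]
    apply Subtype.ext
    have h5 : a.1 = a.1 + (b.1 + b.1) := by rw [h2, add_zero]
    rw [h5, ← add_assoc, h4, zero_add]
  have hsurj : Function.Surjective sq := Finite.injective_iff_surjective.1 hinj
  obtain ⟨l, hl⟩ := hsurj ⟨μ, hμ⟩
  exact ⟨l.1, l.2, congrArg Subtype.val hl⟩

/-! ### the action of `K` on vectors -/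

/-- `k · u` -/
def act (K : Subalgebra F (Matrix (Fin 6) (Fin 6) F)) (k : ↥K) (u : Fin 6 → F) : Fin 6 → F :=
  (k : Matrix (Fin 6) (Fin 6) F) *ᵥ u

theorem act_mul (a b : ↥K) (u : Fin 6 → F) : act K (a * b) u = act K a (act K b u) := by
  simp only [act, Subalgebra.coe_mul, Matrix.mulVec_mulVec]

theorem act_add (k : ↥K) (u v : Fin 6 → F) : act K k (u + v) = act K k u + act K k v := by
  simp only [act, Matrix.mulVec_add]

theorem act_one (u : Fin 6 → F) : act K (1 : ↥K) u = u := by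
  simp only [act, Subalgebra.coe_one, Matrix.one_mulVec]

theorem phi_act (x y : Fin 6 → F) (k : ↥K) : phi K x y k = hermForm 6 F 2 (act K k x) y := rfl

theorem f_act_left (k : ↥K) (u v : Fin 6 → F) :
    hermForm 6 F 2 (act K k u) v = hermForm 6 F 2 u (act K (dagK hF K hadj k) v) := by
  simp only [act, coe_dagK]
  exact f_mulVec_dag hF _ u v

theorem f_act_right (k : ↥K) (u v : Fin 6 → F) :
    hermForm 6 F 2 u (act K k v) = hermForm 6 F 2 (act K (dagK hF K hadj k) u) v := by
  rw [f_act_left hF K hadj, dagK_dagK]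

include hF hK in
/-- a non-zero vector orthogonal to `K z` -/
theorem exists_perp (z : Fin 6 → F) :
    ∃ z' : Fin 6 → F, z' ≠ 0 ∧ ∀ k : ↥K, hermForm 6 F 2 (act K k z) z' = 0 := by
  classical
  have := finiteDimensional_K K hK
  let b : Module.Basis (Fin 3) F ↥K := Module.finBasisOfFinrankEq F ↥K hK.finrank_eq
  let L : (Fin 6 → F) →ₗ[F] (Fin 3 → F) :=
    { toFun := fun v i => hermForm 6 F 2 v (act K (b i) z)
      map_add' := by intro u v; ext i; simp [f_add_left]
      map_smul' := by intro c v; ext i; simp [f_smul_left] }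
  have hker : LinearMap.ker L ≠ ⊥ := LinearMap.ker_ne_bot_of_finrank_lt (by simp)
  obtain ⟨z', hz'mem, hz'ne⟩ := Submodule.exists_mem_ne_zero_of_ne_bot hker
  refine ⟨z', hz'ne, ?_⟩
  let W : Submodule F ↥K :=
    { carrier := {k | hermForm 6 F 2 z' (act K k z) = 0}
      add_mem' := by
        intro a c ha hc
        simp only [Set.mem_ofPred_eq, act] at *
        rw [Subalgebra.coe_add, Matrix.add_mulVec, f_add_right hF, ha, hc, add_zero]
      zero_mem' := by
        simp only [Set.mem_ofPred_eq, act]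
        rw [ZeroMemClass.coe_zero, Matrix.zero_mulVec, f_zero_right]
      smul_mem' := by
        intro c a ha
        simp only [Set.mem_ofPred_eq, act] at *
        rw [Subalgebra.coe_smul, Matrix.smul_mulVec, f_smul_right, ha, mul_zero] }
  have hW : W = ⊤ := by
    rw [eq_top_iff, ← b.span_eq, Submodule.span_le]
    rintro _ ⟨i, rfl⟩
    exact congrFun (LinearMap.mem_ker.1 hz'mem) i
  intro k
  have hk : k ∈ W := by rw [hW]; trivial
  rw [f_symm hF z' (act K k z)]
  have hk' : hermForm 6 F 2 z' (act K k z) = 0 := hk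
  rw [hk']; ring

theorem act_smul_elt (c : F) (k : ↥K) (u : Fin 6 → F) : act K (c • k) u = c • act K k u := by
  simp only [act, Subalgebra.coe_smul, Matrix.smul_mulVec]

theorem dagK_smul (c : F) (k : ↥K) : dagK hF K hadj (c • k) = c ^ 2 • dagK hF K hadj k := by
  apply Subtype.ext
  rw [coe_dagK, Subalgebra.coe_smul, dag_smul, Subalgebra.coe_smul, coe_dagK]

include hF in
theorem exists_omega : ∃ ω : F, ω + ω ^ 2 = 1 := by
  classical
  -- an element different from `0` and `1`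
  have hcard : 2 < Fintype.card F := by rw [hF]; norm_num
  obtain ⟨ω, hω0, hω1⟩ : ∃ ω : F, ω ≠ 0 ∧ ω ≠ 1 := by
    by_contra hcon
    push Not at hcon
    have hsub : (Finset.univ : Finset F) ⊆ {0, 1} := by
      intro a _
      by_cases ha : a = 0
      · simp [ha]
      · simp [hcon a ha]
    have := Finset.card_le_card hsub
    rw [Finset.card_univ] at this
    have h2 : ({0, 1} : Finset F).card ≤ 2 := Finset.card_le_two
    omega
  refine ⟨ω, ?_⟩
  have h4 := pow_four hF ω
  have h3 : ω ^ 3 = 1 := by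
    have : ω * ω ^ 3 = ω * 1 := by rw [mul_one, ← pow_succ', h4]
    exact mul_left_cancel₀ hω0 this
  have h5 : (ω - 1) * (ω ^ 2 + ω + 1) = 0 := by
    calc (ω - 1) * (ω ^ 2 + ω + 1) = ω ^ 3 - 1 := by ring
      _ = 0 := by rw [h3, sub_self]
  have h6 : ω ^ 2 + ω + 1 = 0 := by
    rcases mul_eq_zero.1 h5 with h | h
    · exact absurd (sub_eq_zero.1 h) hω1
    · exact h
  have h7 : (1 : F) + 1 = 0 := add_self hF 1
  calc ω + ω ^ 2 = (ω ^ 2 + ω + 1) + 1 - (1 + 1) := by ring
    _ = 1 := by rw [h6, h7]; ring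

include hF hK hadj in
/-- an isotropic vector -/
theorem exists_isotropic :
    ∃ x : Fin 6 → F, x ≠ 0 ∧ ∀ k : ↥K, hermForm 6 F 2 (act K k x) x = 0 := by
  classical
  set z : Fin 6 → F := Pi.single 0 1 with hz
  have hzz : hermForm 6 F 2 z z = 1 := by rw [hz, f_single_right]; simp
  obtain ⟨z', hz'ne, hperp⟩ := exists_perp hF K hK z
  by_cases hτ' : phi K z' z' = 0
  · refine ⟨z', hz'ne, fun k => ?_⟩
    have := LinearMap.congr_fun hτ' k
    rw [phi_act] at this
    exact this
  · set η := phi K z z with hη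
    set τ' := phi K z' z' with hτ'def
    obtain ⟨μ, hμ⟩ := exists_mul_rep K hK hτ' η
    have hμ0 : dagK hF K hadj μ = μ :=
      dagK_eq_of_herm hF K hK hadj hτ' (phi_self_herm hF K hadj z') (phi_self_herm hF K hadj z) hμ
    obtain ⟨l, hl0, hll⟩ := exists_sqrt_K₀ hF K hK hadj μ hμ0
    set x : Fin 6 → F := z + act K l z' with hx
    -- `f(z, l z') = 0`
    have h1 : ∀ k : ↥K, hermForm 6 F 2 z (act K k z') = 0 := by
      intro k
      rw [f_act_right hF K hadj]
      exact hperp _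
    refine ⟨x, ?_, ?_⟩
    · intro hx0
      have h2 : hermForm 6 F 2 z x = 1 := by
        rw [hx, f_add_right hF, hzz, h1, add_zero]
      rw [hx0, f_zero_right] at h2
      exact zero_ne_one h2
    · intro k
      have hkx : act K k x = act K k z + act K (k * l) z' := by
        rw [hx, act_add, act_mul]
      rw [hkx, f_add_left, hx, f_add_right hF, f_add_right hF]
      -- four terms
      have t1 : hermForm 6 F 2 (act K k z) z = η k := rfl
      have t2 : hermForm 6 F 2 (act K k z) (act K l z') = 0 := by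
        rw [f_act_right hF K hadj, ← act_mul]
        exact hperp _
      have t3 : hermForm 6 F 2 (act K (k * l) z') z = 0 := by
        rw [f_symm hF z (act K (k * l) z'), h1]; ring
      have t4 : hermForm 6 F 2 (act K (k * l) z') (act K l z') = η k := by
        rw [f_act_right hF K hadj, ← act_mul, hl0, hμ k]
        show τ' (l * (k * l)) = τ' (μ * k)
        congr 1
        rw [← hll, mul_comm_K K hK k l, ← mul_assoc]
      rw [t1, t2, t3, t4, add_zero, zero_add, add_self hF]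

include hF hK hadj in
/-- BHRSU6-[F3-PAIR], in the variables of this file -/
theorem exists_hypPair_aux : ∃ x y : Fin 6 → F, IsHypPair K x y := by
  classical
  set z : Fin 6 → F := Pi.single 0 1 with hz
  have hzz : hermForm 6 F 2 z z = 1 := by rw [hz, f_single_right]; simp
  set η := phi K z z with hη
  have hη1 : η 1 = 1 := by rw [hη, phi_act, act_one, hzz]
  have hη0 : η ≠ 0 := by
    intro h
    rw [h] at hη1
    exact zero_ne_one hη1
  have hηh : IsHerm hF K hadj η := phi_self_herm hF K hadj z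
  obtain ⟨x, hxne, hiso⟩ := exists_isotropic hF K hK hadj
  obtain ⟨w, hw⟩ := f_nondeg hxne
  set τ := phi K x w with hτ
  have hτ0 : τ ≠ 0 := by
    intro h
    apply hw
    have := LinearMap.congr_fun h 1
    rw [hτ, phi_act, act_one] at this
    exact this
  obtain ⟨γ, hγ⟩ := exists_mul_rep K hK hτ0 η
  set w' : Fin 6 → F := act K (dagK hF K hadj γ) w with hw'
  -- (B1)
  have B1 : ∀ k : ↥K, hermForm 6 F 2 (act K k x) w' = η k := by
    intro k
    rw [hw', f_act_right hF K hadj, dagK_dagK, ← act_mul, hγ k]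
    rfl
  -- (B2)
  have B2 : ∀ k : ↥K, hermForm 6 F 2 (act K k w') x = η k := by
    intro k
    rw [f_symm hF x (act K k w'), f_act_right hF K hadj, B1, hηh, ← pow_mul, pow_four hF]
  set ψ := phi K w' w' with hψ
  obtain ⟨μ', hμ'⟩ := exists_mul_rep K hK hη0 ψ
  have hμ'0 : dagK hF K hadj μ' = μ' :=
    dagK_eq_of_herm hF K hK hadj hη0 hηh (phi_self_herm hF K hadj w') hμ'
  obtain ⟨ω, hω⟩ := exists_omega hF
  set c : ↥K := ω • μ' with hc
  have hcdag : dagK hF K hadj c = ω ^ 2 • μ' := by rw [hc, dagK_smul, hμ'0]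
  have hcsum : dagK hF K hadj c + c = μ' := by
    rw [hcdag, hc, ← add_smul, add_comm, hω, one_smul]
  set y : Fin 6 → F := w' + act K c x with hy
  have hky : ∀ k : ↥K, act K k y = act K k w' + act K (k * c) x := by
    intro k; rw [hy, act_add, act_mul]
  -- `f(k x, c x) = 0`
  have iso2 : ∀ k k' : ↥K, hermForm 6 F 2 (act K k x) (act K k' x) = 0 := by
    intro k k'
    rw [f_act_right hF K hadj, ← act_mul]
    exact hiso _
  refine ⟨x, y, ⟨?_, ?_, ?_, ?_⟩⟩
  · intro k hk
    exact hiso ⟨k, hk⟩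
  · -- isoY
    intro k hk
    have := hky ⟨k, hk⟩
    show hermForm 6 F 2 (act K ⟨k, hk⟩ y) y = 0
    rw [this, f_add_left, hy, f_add_right hF, f_add_right hF]
    have t1 : hermForm 6 F 2 (act K ⟨k, hk⟩ w') w' = η (μ' * ⟨k, hk⟩) := by
      rw [← hμ']; rfl
    have t2 : hermForm 6 F 2 (act K ⟨k, hk⟩ w') (act K c x) = η (dagK hF K hadj c * ⟨k, hk⟩) := by
      rw [f_act_right hF K hadj, ← act_mul, B2]
    have t3 : hermForm 6 F 2 (act K (⟨k, hk⟩ * c) x) w' = η (c * ⟨k, hk⟩) := by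
      rw [B1, mul_comm_K K hK]
    have t4 : hermForm 6 F 2 (act K (⟨k, hk⟩ * c) x) (act K c x) = 0 := iso2 _ _
    rw [t1, t2, t3, t4, add_zero, add_assoc, ← map_add, ← add_mul, hcsum, add_self hF]
  · -- symm
    intro k hk
    show hermForm 6 F 2 (act K ⟨k, hk⟩ x) y = hermForm 6 F 2 (act K ⟨k, hk⟩ y) x
    rw [hky, f_add_left, hy, f_add_right hF, B1, B2, iso2, hiso]
  · -- ne
    refine ⟨1, K.one_mem, ?_⟩
    show hermForm 6 F 2 (act K 1 x) y ≠ 0
    rw [hy, f_add_right hF, B1, iso2, add_zero, hη1]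
    exact one_ne_zero

end

end Cfsg.Agent.Lib.Helper19.Bhrsu6Pair
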