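import Mathlib
import Cfsg.Prelude.Def_GeometricClasses
import Cfsg.Prelude.Def_ClassicalGeometry
import Cfsg.Agent.Lib.Helper37.BHRSU.Defs
import Cfsg.Agent.Lib.Helper86.BHRSU6.Defs
import Cfsg.Agent.Lib.Helper19.Bhrsu6Pair

/-!
# BHRSU6-[F3-PAIR]: the exact skeleton statement
-/

set_option autoImplicit false

namespace Cfsg.Agent.Lib.Helper86.BHRSU6

open Cfsg Cfsg.Geo Cfsg.Agent.Lib.Helper70.AschU Cfsg.Agent.Lib.Helper37.BHRSU
open scoped MatrixGroups Matrix Kronecker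

variable {F : Type*} [Field F] [Fintype F]

/-- BHRSU6-[F3-PAIR]: existence of a hyperbolic pair. -/
theorem exists_hypPair (hF : Fintype.card F = 4)
    (K : Subalgebra F (Matrix (Fin 6) (Fin 6) F)) (hK : IsFieldSubalgebra 3 K)
    (hadj : IsAdjointClosedFor (hermForm 6 F 2) K) : ∃ x y : Fin 6 → F, IsHypPair K x y :=
  Cfsg.Agent.Lib.Helper19.Bhrsu6Pair.exists_hypPair_aux hF K hK hadj

end Cfsg.Agent.Lib.Helper86.BHRSU6
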