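/-
helper19: project CH4 (helper64, S4167), module [INH-C] (hedge):
the hypothesis "no class size divisible by 4" passes to the centralizer of an involution when the Sylow
2-subgroups are abelian.
-/
import Mathlib
import Cfsg.Agent.Lib.Helper64.CH4Defs

set_option autoImplicit false

namespace Cfsg.Agent.Lib.Helper19.CH4

open Cfsg.Agent.Lib.Helper64.CH4

/-- [INH-C] -/
theorem hyp4_centralizer {G : Type*} [Group G] [Finite G] (h : Hyp4 G) (hab : AbSyl G)
    (t : G) (ht : orderOf t = 2) : Hyp4 ↥(Subgroup.centralizer ({t} : Set G)) := by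
  classical
  have : Fact (Nat.Prime 2) := ⟨Nat.prime_two⟩
  set K : Subgroup G := Subgroup.centralizer ({t} : Set G) with hK
  intro x
  set C : Subgroup G := Subgroup.centralizer ({(x : G)} : Set G) with hC
  -- the centralizer of `x` in `K`
  have e1 : Subgroup.centralizer ({x} : Set ↥K) = C.subgroupOf K := by
    ext k
    rw [Subgroup.mem_centralizer_singleton_iff, Subgroup.mem_subgroupOf, hC,
      Subgroup.mem_centralizer_singleton_iff, Subtype.ext_iff]
    rfl
  rw [e1]
  change ¬ 4 ∣ C.relIndex K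
  rw [← Subgroup.inf_relIndex_right]
  -- `t ∈ C`
  have htC : t ∈ C := by
    rw [hC, Subgroup.mem_centralizer_singleton_iff]
    have hx2 : (x : G) ∈ Subgroup.centralizer ({t} : Set G) := x.2
    rw [Subgroup.mem_centralizer_singleton_iff] at hx2
    exact hx2.symm
  -- a Sylow 2-subgroup `R` of `C` containing `t`
  have hz : IsPGroup 2 (Subgroup.zpowers (⟨t, htC⟩ : ↥C)) := by
    apply IsPGroup.of_card (n := 1)
    rw [Nat.card_zpowers, pow_one]
    rw [← ht]
    exact (Subgroup.orderOf_mk t htC)
  obtain ⟨R, hR⟩ := hz.exists_le_sylow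
  have htR : (⟨t, htC⟩ : ↥C) ∈ R := hR (Subgroup.mem_zpowers _)
  -- its image in `G` lies in an abelian Sylow 2-subgroup of `G`
  have hRm : IsPGroup 2 (R.map C.subtype : Subgroup G) := R.isPGroup'.map C.subtype
  obtain ⟨P, hP⟩ := hRm.exists_le_sylow
  have htP : t ∈ P := hP ⟨⟨t, htC⟩, htR, rfl⟩
  have hRK : (R : Subgroup ↥C).map C.subtype ≤ C ⊓ K := by
    intro r hr
    refine ⟨Subgroup.map_subtype_le _ hr, ?_⟩
    show r ∈ Subgroup.centralizer ({t} : Set G)
    rw [Subgroup.mem_centralizer_singleton_iff]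
    exact hab P r (hP hr) t htP
  -- the index of `C ⊓ K` in `C` is odd
  have hodd : ¬ 2 ∣ (C ⊓ K).relIndex C := by
    intro h2
    have h3 : (C ⊓ K).relIndex C ∣ ((R : Subgroup ↥C).map C.subtype).relIndex C :=
      Subgroup.relIndex_dvd_of_le_left C hRK
    have h4 : ((R : Subgroup ↥C).map C.subtype).relIndex C = (R : Subgroup ↥C).index := by
      rw [Subgroup.relIndex]
      congr 1
      ext r
      rw [Subgroup.mem_subgroupOf]
      constructor
      · rintro ⟨r', hr', e⟩
        have : r' = r := Subtype.ext e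
        exact this ▸ hr'
      · intro hr
        exact ⟨r, hr, rfl⟩
    rw [h4] at h3
    exact R.not_dvd_index (h2.trans h3)
  -- arithmetic
  have m1 : (C ⊓ K).relIndex K * K.index = (C ⊓ K).index := Subgroup.relIndex_mul_index inf_le_right
  have m2 : (C ⊓ K).relIndex C * C.index = (C ⊓ K).index := Subgroup.relIndex_mul_index inf_le_left
  have hx : ¬ 4 ∣ C.index := h (x : G)
  intro h4
  have h5 : 4 ∣ (C ⊓ K).relIndex C * C.index := by
    rw [m2, ← m1]
    exact Dvd.dvd.mul_right h4 _
  have hcop : Nat.Coprime 4 ((C ⊓ K).relIndex C) := by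
    have : Nat.Coprime 2 ((C ⊓ K).relIndex C) := (Nat.Prime.coprime_iff_not_dvd Nat.prime_two).2 hodd
    exact Nat.Coprime.pow_left 2 this
  exact hx (hcop.dvd_of_dvd_mul_left h5)

end Cfsg.Agent.Lib.Helper19.CH4
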