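import Mathlib
import Cfsg.Prelude.Def_CaseTheorems
import Cfsg.Agent.Lib.Helper22.ComponentsMap
import Cfsg.Agent.Lib.Helper29.Iso
import Cfsg.Agent.Lib.Helper97.Cores

set_option autoImplicit false

namespace Cfsg.Agent.Lib.Helper19

open Cfsg

/-- If a quasisimple group `S` containing an involution embeds as a normal subgroup of the finite
group `C`, then `C / O(C)` has a component. -/
theorem hasComponent_quotient_oddCore {C S : Type*} [Group C] [Finite C] [Group S]
    (hS : IsQuasisimple S) (s : S) (hs : orderOf s = 2) (ψ : S →* C)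
    (hinj : Function.Injective ψ) (hn : ψ.range.Normal) :
    HasComponent (C ⧸ oddCore C) := by
  classical
  set π := QuotientGroup.mk' (oddCore C) with hπ
  set f : S →* C ⧸ oddCore C := π.comp ψ with hf
  have hrange : f.range = ψ.range.map π := by
    rw [hf, MonoidHom.range_comp]
  have hnormal : f.range.Normal := by
    rw [hrange]
    exact hn.map π (QuotientGroup.mk'_surjective _)
  have hker : f.ker ≠ ⊤ := by
    intro htop
    have hsker : s ∈ f.ker := by rw [htop]; trivial
    rw [MonoidHom.mem_ker, hf, MonoidHom.comp_apply, hπ, QuotientGroup.mk'_apply,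
      QuotientGroup.eq_one_iff] at hsker
    have hodd : Odd (Nat.card (oddCore C)) := Cfsg.Agent.Lib.Helper97.odd_card_oddCore
    have h2 : orderOf (ψ s) = 2 := by
      rw [orderOf_injective ψ hinj, hs]
    have hdvd : orderOf (ψ s) ∣ Nat.card (oddCore C) :=
      Subgroup.orderOf_dvd_natCard _ hsker
    rw [h2] at hdvd
    exact (Nat.not_even_iff_odd.2 hodd) (even_iff_two_dvd.2 hdvd)
  have hq : IsQuasisimple (S ⧸ f.ker) :=
    Cfsg.Agent.Lib.Helper22.quasisimple_quotient hS f.ker hker
  have hq' : IsQuasisimple f.range :=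
    Cfsg.Agent.Lib.Helper29.isQuasisimple_of_mulEquiv (QuotientGroup.quotientKerEquivRange f) hq
  exact ⟨f.range, hnormal.isSubnormal, hq'⟩

end Cfsg.Agent.Lib.Helper19
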