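/-
Helper library (helper19): the centre of a finite Coxeter group from a faithful transitive permutation
representation given by tables (continuation of `CoxGeneric`).
-/
import Cfsg.Agent.Lib.Helper19.CoxGeneric

set_option autoImplicit false

namespace Cfsg.Agent.Lib.Helper19.Cox

section Center

variable {n : ℕ} {M : CoxeterMatrix (Fin n)} {R : Rep}

/-- the action of the inverse of the Coxeter element `s₀ s₁ ⋯` on the points -/
def Rep.tau (R : Rep) (v : ℕ) : ℕ := R.run (List.range R.n) v

/-- certificate for the centre: the point `0` generates all points, the only points fixed by the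
generators fixing `0` are `0` and `τ^e 0`, and `τ^e` commutes with the generators -/
def Rep.centOK (R : Rep) (e : ℕ) : Bool :=
  decide (0 < R.M) &&
  ((List.range R.M).all fun v => v == 0 || (List.range R.n).any fun i => decide (R.act i v < v)) &&
  ((List.range R.M).all fun u => u == 0 || u == R.tau^[e] 0 ||
    (List.range R.n).any fun j => R.act j 0 == 0 && R.act j u != u) &&
  ((List.range R.M).all fun v => (List.range R.n).all fun i =>
    R.tau^[e] (R.act i v) == R.act i (R.tau^[e] v))

theorem permRep_gen (hn : R.n = n) (hM : ∀ i j : Fin n, M.M i j = R.mAt i j)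
    (hrep : R.repOK = true) {i : ℕ} (hi : i < R.n) (v : ℕ) :
    permRep hn hM hrep (gen M i) v = R.act i v :=
  (setup_gen hn hM hrep).act i hi v

/-- points outside the range are fixed by everything -/
theorem permRep_of_ge (hn : R.n = n) (hM : ∀ i j : Fin n, M.M i j = R.mAt i j)
    (hrep : R.repOK = true) (g : M.Group) {v : ℕ} (hv : R.M ≤ v) :
    permRep hn hM hrep g v = v := by
  induction g using M.toCoxeterSystem.simple_induction with
  | simple i =>
    rw [CoxeterMatrix.toCoxeterSystem_simple, permRep_simple, R.act_of_ge hv]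
  | one => simp
  | mul a b ha hb => rw [map_mul, Equiv.Perm.mul_apply, hb, ha]

theorem permRep_lt (hn : R.n = n) (hM : ∀ i j : Fin n, M.M i j = R.mAt i j)
    (hrep : R.repOK = true) (g : M.Group) {v : ℕ} (hv : v < R.M) :
    permRep hn hM hrep g v < R.M := by
  by_contra hcon
  have h1 := permRep_of_ge hn hM hrep g (not_lt.1 hcon)
  have h2 := (permRep hn hM hrep g).injective h1
  rw [h2] at hcon
  exact hcon hv

theorem permRep_cox_inv (hn : R.n = n) (hM : ∀ i j : Fin n, M.M i j = R.mAt i j)
    (hrep : R.repOK = true) (v : ℕ) :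
    permRep hn hM hrep (((List.finRange n).map M.simple).prod)⁻¹ v = R.tau v := by
  have hcw : ((List.finRange n).map M.simple).prod = wp (gen M) (List.range n) := by
    rw [map_simple_eq]
    rfl
  rw [hcw, Rep.tau, hn]
  exact run_eq (setup_gen hn hM hrep) (mAt_diag hn hM) _
    (fun i hi => by rw [hn]; exact List.mem_range.1 hi) v

theorem permRep_cox_inv_pow (hn : R.n = n) (hM : ∀ i j : Fin n, M.M i j = R.mAt i j)
    (hrep : R.repOK = true) (e : ℕ) (v : ℕ) :
    permRep hn hM hrep ((((List.finRange n).map M.simple).prod)⁻¹ ^ e) v = R.tau^[e] v := by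
  have hfun : ⇑(permRep hn hM hrep (((List.finRange n).map M.simple).prod)⁻¹) = R.tau :=
    funext (permRep_cox_inv hn hM hrep)
  rw [map_pow, ← Equiv.Perm.iterate_eq_pow, hfun]

/-- a function commuting with the generators and fixing the point `0` fixes every point -/
theorem fix_all_of_fix_zero (ψ : ℕ → ℕ)
    (hgen : ∀ v < R.M, v = 0 ∨ ∃ i < R.n, R.act i v < v)
    (hinv : ∀ i < R.n, ∀ v, R.act i (R.act i v) = v)
    (hcomm : ∀ i < R.n, ∀ v, ψ (R.act i v) = R.act i (ψ v)) (h0 : ψ 0 = 0) :
    ∀ v < R.M, ψ v = v := by
  intro v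
  induction v using Nat.strong_induction_on with
  | _ v ih =>
    intro hv
    rcases hgen v hv with rfl | ⟨i, hi, hlt⟩
    · exact h0
    · have h1 := ih (R.act i v) hlt (lt_trans hlt hv)
      have h2 := hcomm i hi (R.act i v)
      rw [hinv i hi v, h1, hinv i hi v] at h2
      exact h2

theorem act_act (hn : R.n = n) (hM : ∀ i j : Fin n, M.M i j = R.mAt i j)
    (hrep : R.repOK = true) : ∀ i < R.n, ∀ v, R.act i (R.act i v) = v := by
  intro i hi v
  have hi' : i < n := by rw [← hn]; exact hi
  exact act_invol hn hM hrep ⟨i, hi'⟩ v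

theorem central_comm (hn : R.n = n) (hM : ∀ i j : Fin n, M.M i j = R.mAt i j)
    (hrep : R.repOK = true) {z : M.Group} (hz : z ∈ Subgroup.center M.Group) :
    ∀ i < R.n, ∀ v, permRep hn hM hrep z (R.act i v) = R.act i (permRep hn hM hrep z v) := by
  intro i hi v
  rw [← permRep_gen hn hM hrep hi, ← permRep_gen hn hM hrep hi, ← Equiv.Perm.mul_apply,
    ← Equiv.Perm.mul_apply, ← map_mul, ← map_mul, (Subgroup.mem_center_iff.1 hz) (gen M i)]

/-- a central element fixing the point `0` is trivial -/
theorem central_eq_one (hn : R.n = n) (hM : ∀ i j : Fin n, M.M i j = R.mAt i j)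
    (hrep : R.repOK = true) (hinj : Function.Injective (permRep hn hM hrep))
    (hgen : ∀ v < R.M, v = 0 ∨ ∃ i < R.n, R.act i v < v)
    {z : M.Group} (hz : z ∈ Subgroup.center M.Group) (h0 : permRep hn hM hrep z 0 = 0) :
    z = 1 := by
  apply hinj
  rw [map_one]
  ext v
  rw [Equiv.Perm.one_apply]
  by_cases hv : v < R.M
  · exact fix_all_of_fix_zero _ hgen (act_act hn hM hrep) (central_comm hn hM hrep hz) h0 v hv
  · exact permRep_of_ge hn hM hrep z (not_lt.1 hv)

/-- Main theorem on the centre. -/
theorem coxeter_center (hn : R.n = n) (hM : ∀ i j : Fin n, M.M i j = R.mAt i j)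
    (hrep : R.repOK = true) (hinj : Function.Injective (permRep hn hM hrep)) (e : ℕ)
    (hcent : R.centOK e = true) :
    Nat.card (Subgroup.center M.Group) = (if R.tau^[e] 0 = 0 then 1 else 2) ∧
      Subgroup.center M.Group ≤ Subgroup.zpowers ((List.finRange n).map M.simple).prod := by
  simp only [Rep.centOK, Bool.and_eq_true, decide_eq_true_eq, List.all_eq_true, List.mem_range,
    beq_iff_eq, Bool.or_eq_true, List.any_eq_true, bne_iff_ne] at hcent
  obtain ⟨⟨⟨hpos, hgen'⟩, hcand⟩, hcc⟩ := hcent
  have hgen : ∀ v < R.M, v = 0 ∨ ∃ i < R.n, R.act i v < v := by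
    intro v hv
    rcases hgen' v hv with h | ⟨i, hi, h⟩
    · exact Or.inl h
    · exact Or.inr ⟨i, hi, h⟩
  set c := ((List.finRange n).map M.simple).prod with hc
  set w : M.Group := c⁻¹ ^ e with hw
  have hwv : ∀ v, permRep hn hM hrep w v = R.tau^[e] v := permRep_cox_inv_pow hn hM hrep e
  -- `w` is central
  have hwc : w ∈ Subgroup.center M.Group := by
    rw [Subgroup.mem_center_iff]
    intro g
    induction g using M.toCoxeterSystem.simple_induction with
    | simple i =>
      rw [CoxeterMatrix.toCoxeterSystem_simple]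
      apply hinj
      ext v
      have hi : (i : ℕ) < R.n := by rw [hn]; exact i.2
      rw [map_mul, map_mul, Equiv.Perm.mul_apply, Equiv.Perm.mul_apply, permRep_simple,
        permRep_simple, hwv, hwv]
      by_cases hv : v < R.M
      · exact (hcc v hv i hi).symm
      · have hv' := not_lt.1 hv
        rw [R.act_of_ge hv', ← hwv, permRep_of_ge hn hM hrep w hv', R.act_of_ge hv']
    | one => simp
    | mul a b ha hb =>
      calc a * b * w = a * (b * w) := mul_assoc _ _ _
        _ = a * (w * b) := by rw [hb]
        _ = (a * w) * b := (mul_assoc _ _ _).symm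
        _ = (w * a) * b := by rw [ha]
        _ = w * (a * b) := mul_assoc _ _ _
  -- every central element is `1` or `w`
  have hall : ∀ z ∈ Subgroup.center M.Group, z = 1 ∨ z = w := by
    intro z hz
    have hu := permRep_lt hn hM hrep z hpos
    rcases hcand _ hu with (h0 | h1) | ⟨j, hj, hj0, hju⟩
    · exact Or.inl (central_eq_one hn hM hrep hinj hgen hz h0)
    · right
      have hg : w⁻¹ * z ∈ Subgroup.center M.Group := mul_mem (inv_mem hwc) hz
      have h0 : permRep hn hM hrep (w⁻¹ * z) 0 = 0 := by
        rw [map_mul, Equiv.Perm.mul_apply, h1, ← hwv, map_inv]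
        exact Equiv.Perm.inv_eq_iff_eq.2 rfl
      have := central_eq_one hn hM hrep hinj hgen hg h0
      exact (inv_mul_eq_one.1 this).symm
    · exfalso
      apply hju
      have := central_comm hn hM hrep hz j hj 0
      rw [hj0] at this
      exact this.symm
  constructor
  · by_cases hfix : R.tau^[e] 0 = 0
    · rw [if_pos hfix]
      have hw1 : w = 1 := by
        apply central_eq_one hn hM hrep hinj hgen hwc
        rw [hwv, hfix]
      have hbot : Subgroup.center M.Group = ⊥ := by
        rw [eq_bot_iff]
        intro z hz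
        rcases hall z hz with h | h
        · rw [h]; exact one_mem _
        · rw [h, hw1]; exact one_mem _
      rw [hbot, Subgroup.card_bot]
    · rw [if_neg hfix]
      have hw1 : w ≠ 1 := by
        intro h
        apply hfix
        rw [← hwv, h, map_one, Equiv.Perm.one_apply]
      rw [Nat.card_eq_two_iff]
      refine ⟨⟨1, one_mem _⟩, ⟨w, hwc⟩, ?_, ?_⟩
      · intro h
        exact hw1 (congrArg Subtype.val h).symm
      · ext ⟨z, hz⟩
        simp only [Set.mem_insert_iff, Set.mem_singleton_iff, Set.mem_univ, iff_true]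
        rcases hall z hz with h | h
        · left; exact Subtype.ext h
        · right; exact Subtype.ext h
  · intro z hz
    rcases hall z hz with h | h
    · rw [h]; exact one_mem _
    · rw [h, hw]
      exact pow_mem (inv_mem (Subgroup.mem_zpowers c)) e

end Center

end Cfsg.Agent.Lib.Helper19.Cox
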