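/- Generated by tools/cox4.py (helper19): transitive permutation representation, coset-table certificates and
   the centre of the Coxeter group of type B2. -/
import Cfsg.Agent.Lib.Helper19.CoxCenter

set_option autoImplicit false
set_option maxRecDepth 100000

namespace Cfsg.Agent.Lib.Helper19.Cox

/-- Coxeter matrix and a transitive permutation representation for type B2 -/
def repB2c : Rep where
  n := 2
  m := [[1, 4], [4, 1]]
  M := 4
  tabs := 0x20003000000010003000100020000

/-- step 0 of the chain for B2: `J = []`, `k = 0`, `N = 2` -/
def b2c0 : StepData where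
  N := 2
  J := []
  k := 0
  words := [[], [0]]
  table := 0x1
  cert := 0x1200000000000000000
  beta := 1

/-- step 1 of the chain for B2: `J = [0]`, `k = 1`, `N = 4` -/
def b2c1 : StepData where
  N := 4
  J := [0]
  k := 1
  words := [[], [1], [1, 0], [1, 0, 1]]
  table := 0x20003000300010000000200010000
  cert := 0x12100000221000000000000012000000121000000000000000000000010
  beta := 0

theorem repB2c_ok : repB2c.repOK = true := by decide +kernel

theorem b2c0_ok : b2c0.check repB2c = true := by decide +kernel

theorem b2c1_ok : b2c1.check repB2c = true := by decide +kernel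

theorem repB2c_matrix : ∀ i j : Fin 2, (CoxeterMatrix.B 2).M i j = repB2c.mAt i j := by
  intro i j
  fin_cases i <;> fin_cases j <;> rfl

theorem chainB2c : ChainOK repB2c [b2c1, b2c0] := by
  refine ⟨StepData.checked_of_check _ _ b2c1_ok, rfl, ⟨StepData.checked_of_check _ _ b2c0_ok, rfl⟩⟩

/-- the order of the Coxeter group of type B2, and faithfulness of the table representation -/
theorem mainB2c : Nat.card (CoxeterMatrix.B 2).Group = 8 ∧
    Function.Injective (permRep (M := CoxeterMatrix.B 2) (R := repB2c) rfl repB2c_matrix repB2c_ok) := by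
  have h := coxeter_main (M := CoxeterMatrix.B 2) (R := repB2c) rfl repB2c_matrix repB2c_ok b2c1 [b2c0] chainB2c (by decide)
  refine ⟨?_, h.2⟩
  rw [h.1]
  rfl

theorem centB2_ok : repB2c.centOK 2 = true := by decide +kernel

/-- the centre of the Coxeter group of type B2 -/
theorem centerB2 : Nat.card (Subgroup.center (CoxeterMatrix.B 2).Group) = 2 ∧
    Subgroup.center (CoxeterMatrix.B 2).Group ≤ Subgroup.zpowers ((List.finRange 2).map (CoxeterMatrix.B 2).simple).prod := by
  have h := coxeter_center (M := CoxeterMatrix.B 2) (R := repB2c) rfl repB2c_matrix repB2c_ok mainB2c.2 2 centB2_ok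
  refine ⟨?_, h.2⟩
  rw [h.1]
  decide +kernel

end Cfsg.Agent.Lib.Helper19.Cox
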