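/- Generated by tools/cox4.py (helper19): transitive permutation representation, coset-table certificates and
   the centre of the Coxeter group of type D4. -/
import Cfsg.Agent.Lib.Helper19.CoxCenter
import Cfsg.Prelude.Def_ChevStructure

set_option autoImplicit false
set_option maxRecDepth 100000

namespace Cfsg.Agent.Lib.Helper19.Cox

/-- Coxeter matrix and a transitive permutation representation for type D4 -/
def repD4c : Rep where
  n := 4
  m := [[1, 3, 2, 2], [3, 1, 3, 3], [2, 3, 1, 2], [2, 3, 2, 1]]
  M := 24
  tabs := 0x17001500160012001100140013000d000f000e00100008000b000a0005000c0003000200090001000700060004000000170013001100100016000d00150014000f000a0012000c000b000e000600080004000900020007000100050003000000160017001500140013000e000f000c001100120009001000070006000d0005000b000a000800040003000200000001001700140012001600100015000d0013000b000e0011000c000f000a0007000800090004000300060005000100020000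

/-- step 0 of the chain for D4: `J = []`, `k = 0`, `N = 2` -/
def d4c0 : StepData where
  N := 2
  J := []
  k := 0
  words := [[], [0]]
  table := 0x1
  cert := 0x12000000000000000000000000000000000
  beta := 1

/-- step 1 of the chain for D4: `J = [0]`, `k = 2`, `N = 2` -/
def d4c1 : StepData where
  N := 2
  J := [0]
  k := 2
  words := [[], [2]]
  table := 0x10000000100000000
  cert := 0x122000000000000022200000000000000000000000000000010
  beta := 10

/-- step 2 of the chain for D4: `J = [0, 2]`, `k = 3`, `N = 2` -/
def d4c2 : StepData where
  N := 2
  J := [2, 0]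
  k := 3
  words := [[], [3]]
  table := 0x1000000010001000000000000
  cert := 0x12300000223000000000000022300000000000000100000000000000010
  beta := 8

/-- step 3 of the chain for D4: `J = [0, 2, 3]`, `k = 1`, `N = 24` -/
def d4c3 : StepData where
  N := 24
  J := [3, 2, 0]
  k := 1
  words := [[], [1], [1, 0], [1, 2], [1, 3], [1, 0, 2], [1, 0, 3], [1, 2, 3], [1, 0, 2, 1], [1, 0, 2, 3], [1, 0, 3, 1], [1, 2, 3, 1], [1, 0, 2, 1, 3], [1, 0, 2, 3, 1], [1, 0, 3, 1, 2], [1, 2, 3, 1, 0], [1, 0, 2, 1, 3, 1], [1, 0, 2, 3, 1, 0], [1, 0, 2, 3, 1, 2], [1, 0, 2, 1, 3, 1, 0], [1, 0, 2, 1, 3, 1, 2], [1, 0, 2, 3, 1, 0, 2], [1, 0, 2, 1, 3, 1, 0, 2], [1, 0, 2, 1, 3, 1, 0, 2, 1]]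
  table := 0x1700170016001700150013001700140016001100150012001200100014001600110016001300100014000d000e001500130015000f000d000d0014000c0013000f000f0011000b000e000a0012000e00100012000900110008000c0010000c000b000b0007000f000a000e0006000a00050006000d0007000c00080005000800030004000b000900020009000a0004000900020008000300010007000400060007000100030005000600050002000100040003000000020000000000010000
  cert := 0x6210000062100000121000006210000042000000122000000000000022200000420000001220000052000000222000003220000012200000522000002220000032000000000000005200000012000000322000001220000032200000222000003200000000000000420000001200000022100000000000001210000000000000420000004200000042000000120000004220000012200000322000004220000022100000000000001210000000000000123000004230000000000000423000003210000032100000121000000000000032100000000000001210000032100000123000002230000000000000322000000000000032100000121000003210000012300000223000000000000032200000123000002230000000000000223000000000000012200000000000002220000012300000223000002230000022300000000000001220000022200000222000000000000000000000220000001200000000000000000000001210000000000000010000000100000000000000010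
  beta := 0

theorem repD4c_ok : repD4c.repOK = true := by decide +kernel

theorem d4c0_ok : d4c0.check repD4c = true := by decide +kernel

theorem d4c1_ok : d4c1.check repD4c = true := by decide +kernel

theorem d4c2_ok : d4c2.check repD4c = true := by decide +kernel

theorem d4c3_ok : d4c3.check repD4c = true := by decide +kernel

theorem repD4c_matrix : ∀ i j : Fin 4, (Cfsg.Lie.coxeterD4).M i j = repD4c.mAt i j := by
  intro i j
  fin_cases i <;> fin_cases j <;> rfl

theorem chainD4c : ChainOK repD4c [d4c3, d4c2, d4c1, d4c0] := by
  refine ⟨StepData.checked_of_check _ _ d4c3_ok, rfl, ⟨StepData.checked_of_check _ _ d4c2_ok, rfl, ⟨StepData.checked_of_check _ _ d4c1_ok, rfl, ⟨StepData.checked_of_check _ _ d4c0_ok, rfl⟩⟩⟩⟩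

/-- the order of the Coxeter group of type D4, and faithfulness of the table representation -/
theorem mainD4c : Nat.card (Cfsg.Lie.coxeterD4).Group = 192 ∧
    Function.Injective (permRep (M := Cfsg.Lie.coxeterD4) (R := repD4c) rfl repD4c_matrix repD4c_ok) := by
  have h := coxeter_main (M := Cfsg.Lie.coxeterD4) (R := repD4c) rfl repD4c_matrix repD4c_ok d4c3 [d4c2, d4c1, d4c0] chainD4c (by decide)
  refine ⟨?_, h.2⟩
  rw [h.1]
  rfl

theorem centD4_ok : repD4c.centOK 3 = true := by decide +kernel

/-- the centre of the Coxeter group of type D4 -/
theorem centerD4 : Nat.card (Subgroup.center (Cfsg.Lie.coxeterD4).Group) = 2 ∧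
    Subgroup.center (Cfsg.Lie.coxeterD4).Group ≤ Subgroup.zpowers ((List.finRange 4).map (Cfsg.Lie.coxeterD4).simple).prod := by
  have h := coxeter_center (M := Cfsg.Lie.coxeterD4) (R := repD4c) rfl repD4c_matrix repD4c_ok mainD4c.2 3 centD4_ok
  refine ⟨?_, h.2⟩
  rw [h.1]
  decide +kernel

end Cfsg.Agent.Lib.Helper19.Cox
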