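/- Generated by tools/cox4.py (helper19): transitive permutation representation, coset-table certificates and
   the centre of the Coxeter group of type F4. -/
import Cfsg.Agent.Lib.Helper19.CoxCenter

set_option autoImplicit false
set_option maxRecDepth 100000

namespace Cfsg.Agent.Lib.Helper19.Cox

/-- Coxeter matrix and a transitive permutation representation for type F4 -/
def repF4c : Rep where
  n := 4
  m := [[1, 3, 2, 2], [3, 1, 4, 2], [2, 4, 1, 3], [2, 2, 3, 1]]
  M := 24
  tabs := 0x1700160015001200100014000f00130011000e000d000c000b000a00090006000400080003000700050002000100000017001600140015001300120011000e000c0010000d000f000b00080007000a0009000600050004000200030001000000170015001600130014001000110012000f000d000e000a0009000c000b0008000500060007000300040001000200000016001700150014001100120013000f0010000c000b000e000d0009000a000700080004000500060003000200000001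

/-- step 0 of the chain for F4: `J = []`, `k = 3`, `N = 2` -/
def f4c0 : StepData where
  N := 2
  J := []
  k := 3
  words := [[], [3]]
  table := 0x1000000000000
  cert := 0x12300000000000000000000000000000000000000000000000000000000
  beta := 3

/-- step 1 of the chain for F4: `J = [3]`, `k = 2`, `N = 3` -/
def f4c1 : StepData where
  N := 3
  J := [3]
  k := 2
  words := [[], [2], [2, 3]]
  table := 0x100020000000000020000000000000000000100000000
  cert := 0x1230000022300000000000000000000000000000122000000000000000000000010000000000000000000000000
  beta := 2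

/-- step 2 of the chain for F4: `J = [3, 2]`, `k = 1`, `N = 8` -/
def f4c2 : StepData where
  N := 8
  J := [2, 3]
  k := 1
  words := [[], [1], [1, 2], [1, 2, 1], [1, 2, 3], [1, 2, 1, 3], [1, 2, 1, 3, 2], [1, 2, 1, 3, 2, 1]]
  table := 0x70007000600000006000500070000000300060004000000020004000500000005000300020000000400010003000000010002000000000000000000010000
  cert := 0x42100000421000001210000000000000322000001220000000000000000000001230000000000000223000000000000012300000323000002230000000000000000000002210000012100000000000000000000012200000000000000000000022100000000000001210000000000000010000000100000000000000000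
  beta := 1

/-- step 3 of the chain for F4: `J = [3, 2, 1]`, `k = 0`, `N = 24` -/
def f4c3 : StepData where
  N := 24
  J := [1, 2, 3]
  k := 0
  words := [[], [0], [0, 1], [0, 1, 2], [0, 1, 2, 1], [0, 1, 2, 3], [0, 1, 2, 1, 0], [0, 1, 2, 1, 3], [0, 1, 2, 1, 0, 3], [0, 1, 2, 1, 3, 2], [0, 1, 2, 1, 0, 3, 2], [0, 1, 2, 1, 3, 2, 1], [0, 1, 2, 1, 0, 3, 2, 1], [0, 1, 2, 1, 3, 2, 1, 0], [0, 1, 2, 1, 0, 3, 2, 1, 0], [0, 1, 2, 1, 0, 3, 2, 1, 2], [0, 1, 2, 1, 0, 3, 2, 1, 0, 2], [0, 1, 2, 1, 0, 3, 2, 1, 2, 3], [0, 1, 2, 1, 0, 3, 2, 1, 0, 2, 1], [0, 1, 2, 1, 0, 3, 2, 1, 0, 2, 3], [0, 1, 2, 1, 0, 3, 2, 1, 0, 2, 1, 3], [0, 1, 2, 1, 0, 3, 2, 1, 0, 2, 1, 3, 2], [0, 1, 2, 1, 0, 3, 2, 1, 0, 2, 1, 3, 2, 1], [0, 1, 2, 1, 0, 3, 2, 1, 0, 2, 1, 3, 2, 1, 0]]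
  table := 0x1700170017001600160016001500170015001400160015001200150013001400100013001400110014001200100012000f0011001100130013000e0012000f0011000c000f0010000e0010000d000c000d000d000e000b000c000f000a000e000b000b0009000d000a0008000c000900090007000b000a0006000a0008000700040009000500080008000600060004000300050007000500070004000300060005000200040003000200030001000200010001000200000000000000000001
  cert := 0xa2000000a2000000a20000001200000092100000921000001210000000000000822000001220000000000000922000001230000000000000223000008230000012300000820000002230000032300000000000007210000012100000721000001230000072300000723000003230000000000000122000000000000022200000000000001220000062200000222000007200000000000000420000001200000062000000620000004200000012000000621000000000000012100000000000005210000052100000121000000000000052000000122000000000000032200000422000001220000000000000322000001230000000000000520000002230000012300000000000002230000022300000000000004200000042000000120000001230000042300000223000004230000000000000321000001210000000000000000000001220000000000000322000003210000000000000121000002210000022000000220000000000000012000000010000000100000001000000000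
  beta := 0

theorem repF4c_ok : repF4c.repOK = true := by decide +kernel

theorem f4c0_ok : f4c0.check repF4c = true := by decide +kernel

theorem f4c1_ok : f4c1.check repF4c = true := by decide +kernel

theorem f4c2_ok : f4c2.check repF4c = true := by decide +kernel

theorem f4c3_ok : f4c3.check repF4c = true := by decide +kernel

theorem repF4c_matrix : ∀ i j : Fin 4, (CoxeterMatrix.F₄).M i j = repF4c.mAt i j := by
  intro i j
  fin_cases i <;> fin_cases j <;> rfl

theorem chainF4c : ChainOK repF4c [f4c3, f4c2, f4c1, f4c0] := by
  refine ⟨StepData.checked_of_check _ _ f4c3_ok, rfl, ⟨StepData.checked_of_check _ _ f4c2_ok, rfl, ⟨StepData.checked_of_check _ _ f4c1_ok, rfl, ⟨StepData.checked_of_check _ _ f4c0_ok, rfl⟩⟩⟩⟩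

/-- the order of the Coxeter group of type F4, and faithfulness of the table representation -/
theorem mainF4c : Nat.card (CoxeterMatrix.F₄).Group = 1152 ∧
    Function.Injective (permRep (M := CoxeterMatrix.F₄) (R := repF4c) rfl repF4c_matrix repF4c_ok) := by
  have h := coxeter_main (M := CoxeterMatrix.F₄) (R := repF4c) rfl repF4c_matrix repF4c_ok f4c3 [f4c2, f4c1, f4c0] chainF4c (by decide)
  refine ⟨?_, h.2⟩
  rw [h.1]
  rfl

theorem centF4_ok : repF4c.centOK 6 = true := by decide +kernel

/-- the centre of the Coxeter group of type F4 -/
theorem centerF4 : Nat.card (Subgroup.center (CoxeterMatrix.F₄).Group) = 2 ∧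
    Subgroup.center (CoxeterMatrix.F₄).Group ≤ Subgroup.zpowers ((List.finRange 4).map (CoxeterMatrix.F₄).simple).prod := by
  have h := coxeter_center (M := CoxeterMatrix.F₄) (R := repF4c) rfl repF4c_matrix repF4c_ok mainF4c.2 6 centF4_ok
  refine ⟨?_, h.2⟩
  rw [h.1]
  decide +kernel

end Cfsg.Agent.Lib.Helper19.Cox
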