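/- Generated by tools/cox4.py (helper19): transitive permutation representation, coset-table certificates and
   the centre of the Coxeter group of type G2. -/
import Cfsg.Agent.Lib.Helper19.CoxCenter

set_option autoImplicit false
set_option maxRecDepth 100000

namespace Cfsg.Agent.Lib.Helper19.Cox

/-- Coxeter matrix and a transitive permutation representation for type G2 -/
def repG2c : Rep where
  n := 2
  m := [[1, 6], [6, 1]]
  M := 6
  tabs := 0x400050002000300000001000500030004000100020000

/-- step 0 of the chain for G2: `J = []`, `k = 0`, `N = 2` -/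
def g2c0 : StepData where
  N := 2
  J := []
  k := 0
  words := [[], [0]]
  table := 0x1
  cert := 0x1200000000000000000
  beta := 1

/-- step 1 of the chain for G2: `J = [0]`, `k = 1`, `N = 6` -/
def g2c1 : StepData where
  N := 6
  J := [0]
  k := 1
  words := [[], [1], [1, 0], [1, 0, 1], [1, 0, 1, 0], [1, 0, 1, 0, 1]]
  table := 0x400050005000300020004000300010000000200010000
  cert := 0x1210000022100000000000001200000012100000000000000000000012000000121000000000000000000000010
  beta := 0

theorem repG2c_ok : repG2c.repOK = true := by decide +kernel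

theorem g2c0_ok : g2c0.check repG2c = true := by decide +kernel

theorem g2c1_ok : g2c1.check repG2c = true := by decide +kernel

theorem repG2c_matrix : ∀ i j : Fin 2, (CoxeterMatrix.G₂).M i j = repG2c.mAt i j := by
  intro i j
  fin_cases i <;> fin_cases j <;> rfl

theorem chainG2c : ChainOK repG2c [g2c1, g2c0] := by
  refine ⟨StepData.checked_of_check _ _ g2c1_ok, rfl, ⟨StepData.checked_of_check _ _ g2c0_ok, rfl⟩⟩

/-- the order of the Coxeter group of type G2, and faithfulness of the table representation -/
theorem mainG2c : Nat.card (CoxeterMatrix.G₂).Group = 12 ∧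
    Function.Injective (permRep (M := CoxeterMatrix.G₂) (R := repG2c) rfl repG2c_matrix repG2c_ok) := by
  have h := coxeter_main (M := CoxeterMatrix.G₂) (R := repG2c) rfl repG2c_matrix repG2c_ok g2c1 [g2c0] chainG2c (by decide)
  refine ⟨?_, h.2⟩
  rw [h.1]
  rfl

theorem centG2_ok : repG2c.centOK 3 = true := by decide +kernel

/-- the centre of the Coxeter group of type G2 -/
theorem centerG2 : Nat.card (Subgroup.center (CoxeterMatrix.G₂).Group) = 2 ∧
    Subgroup.center (CoxeterMatrix.G₂).Group ≤ Subgroup.zpowers ((List.finRange 2).map (CoxeterMatrix.G₂).simple).prod := by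
  have h := coxeter_center (M := CoxeterMatrix.G₂) (R := repG2c) rfl repG2c_matrix repG2c_ok mainG2c.2 3 centG2_ok
  refine ⟨?_, h.2⟩
  rw [h.1]
  decide +kernel

end Cfsg.Agent.Lib.Helper19.Cox
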