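/- Generated by tools/cox2.py (helper19): coset-table certificates for the Coxeter group of type D4. -/
import Cfsg.Agent.Lib.Helper19.CoxGeneric
import Cfsg.Prelude.Def_ChevStructure

set_option autoImplicit false
set_option maxRecDepth 100000

namespace Cfsg.Agent.Lib.Helper19.Cox

/-- Coxeter matrix and permutation representation for type D4 -/
def repD4 : Rep where
  n := 4
  m := [[1, 3, 2, 2], [3, 1, 3, 3], [2, 3, 1, 2], [2, 3, 2, 1]]
  M := 40
  tabs := 0x260027002500240023002200200021001f001e001b001a001d001c0019001800170012000d001400130016000a00100008000700150005000400110003000f000e0002000c000b000900060001000000270026002300220025002400210020001e001f001d001c001b001a0018001900170016000e001000130012000b0014000900150007000600110004000f0003000d000c0002000a000800050001000000270025002600240023002100220020001f001d001e001c001b0019001a0018000f000e0015000d000c000b0011000a001700160014001300120010000900080004000600050007000100000003000200270026002400250022002300210020001f001e001c001d001a001b0019001800170016000f001400130012000c0010001500090008001100060005000e000d0003000b000a00020007000400000001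

/-- step 0 of the chain for D4: `J = []`, `k = 0`, `N = 2` -/
def d4s0 : StepData where
  N := 2
  J := []
  k := 0
  words := [[], [0]]
  table := 0x1
  cert := 0x12000000000000000000000000000000000
  beta := 0

/-- step 1 of the chain for D4: `J = [0]`, `k = 1`, `N = 3` -/
def d4s1 : StepData where
  N := 3
  J := [0]
  k := 1
  words := [[], [1], [1, 0]]
  table := 0x2000100000000000000020000000000010000
  cert := 0x220000001200000000000000000000001210000000000000000000000000000000000000010
  beta := 16

/-- step 2 of the chain for D4: `J = [0, 1]`, `k = 2`, `N = 4` -/
def d4s2 : StepData where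
  N := 4
  J := [1, 0]
  k := 2
  words := [[], [2], [2, 1], [2, 1, 0]]
  table := 0x300030002000000020001000300000000000200010000000100000000
  cert := 0x3200000032000000120000000000000022100000121000000000000000000000122000000000000022200000000000000000000001000000010
  beta := 24

/-- step 3 of the chain for D4: `J = [0, 1, 2]`, `k = 3`, `N = 8` -/
def d4s3 : StepData where
  N := 8
  J := [2, 1, 0]
  k := 3
  words := [[], [3], [3, 1], [3, 1, 0], [3, 1, 2], [3, 1, 0, 2], [3, 1, 0, 2, 1], [3, 1, 0, 2, 1, 3]]
  table := 0x60007000700070007000600050006000500030006000400040002000400050003000500030002000200040001000300000001000200010001000000000000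
  cert := 0x12300000523000005230000052300000000000004210000012100000421000004200000012200000000000002220000032200000122000003220000022200000320000000000000032000000120000002210000000000000121000000000000012300000223000000000000022300000000000000100000001000000010
  beta := 32

theorem repD4_ok : repD4.repOK = true := by decide +kernel

theorem d4s0_ok : d4s0.check repD4 = true := by decide +kernel

theorem d4s1_ok : d4s1.check repD4 = true := by decide +kernel

theorem d4s2_ok : d4s2.check repD4 = true := by decide +kernel

theorem d4s3_ok : d4s3.check repD4 = true := by decide +kernel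

theorem repD4_matrix : ∀ i j : Fin 4, (Cfsg.Lie.coxeterD4).M i j = repD4.mAt i j := by
  intro i j
  fin_cases i <;> fin_cases j <;> rfl

theorem chainD4 : ChainOK repD4 [d4s3, d4s2, d4s1, d4s0] := by
  refine ⟨StepData.checked_of_check _ _ d4s3_ok, rfl, ⟨StepData.checked_of_check _ _ d4s2_ok, rfl, ⟨StepData.checked_of_check _ _ d4s1_ok, rfl, ⟨StepData.checked_of_check _ _ d4s0_ok, rfl⟩⟩⟩⟩

/-- the order of the Coxeter group of type D4, and faithfulness of the table representation -/
theorem mainD4 : Nat.card (Cfsg.Lie.coxeterD4).Group = 192 ∧
    Function.Injective (permRep (M := Cfsg.Lie.coxeterD4) (R := repD4) rfl repD4_matrix repD4_ok) := by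
  have h := coxeter_main (M := Cfsg.Lie.coxeterD4) (R := repD4) rfl repD4_matrix repD4_ok d4s3 [d4s2, d4s1, d4s0] chainD4 (by decide)
  refine ⟨?_, h.2⟩
  rw [h.1]
  rfl

theorem coxD4_ok : repD4.coxOK 6 = true := by decide +kernel

/-- the order of the Coxeter element of type D4 -/
theorem orderD4 : orderOf ((List.finRange 4).map (Cfsg.Lie.coxeterD4).simple).prod = 6 :=
  coxeter_order (M := Cfsg.Lie.coxeterD4) (R := repD4) rfl repD4_matrix repD4_ok mainD4.2 6 coxD4_ok

end Cfsg.Agent.Lib.Helper19.Cox
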