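import Mathlib

/-!
# S2512 MODULE ARITH (helper19, for helper40)
-/

set_option autoImplicit false

namespace Cfsg.Agent.Lib.Helper19.Cube

theorem exists_half_order_of_pow_eq_neg_one (t q i : ℕ) (ht : 3 ≤ t)
    (h : (q : ZMod t) ^ i = -1) :
    ∃ d : ℕ, 1 ≤ d ∧ orderOf (q : ZMod t) = 2 * d ∧ (q : ZMod t) ^ d = -1 := by
  have hne : (-1 : ZMod t) ≠ 1 := by
    intro h1
    have h2 : ((2 : ℕ) : ZMod t) = 0 := by
      have h3 : (1 : ZMod t) + 1 = 0 := by
        nth_rewrite 1 [← h1]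
        ring
      push_cast
      rw [← one_add_one_eq_two]
      exact h3
    have h4 := (ZMod.natCast_eq_zero_iff 2 t).mp h2
    have := Nat.le_of_dvd (by norm_num) h4
    omega
  set x : ZMod t := (q : ZMod t) with hx
  have h2i : x ^ (2 * i) = 1 := by
    rw [mul_comm, pow_mul, h]
    norm_num
  have hi0 : i ≠ 0 := by
    rintro rfl
    rw [pow_zero] at h
    exact hne h.symm
  have hm : orderOf x ∣ 2 * i := orderOf_dvd_of_pow_eq_one h2i
  have hni : ¬ orderOf x ∣ i := by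
    intro hd
    apply hne
    rw [← h, orderOf_dvd_iff_pow_eq_one.mp hd]
  have hmpos : 0 < orderOf x := by
    apply orderOf_pos_iff.mpr
    exact isOfFinOrder_iff_pow_eq_one.mpr ⟨2 * i, by omega, h2i⟩
  -- the order is even
  have heven : 2 ∣ orderOf x := by
    by_contra hodd
    apply hni
    have hcop : Nat.Coprime (orderOf x) 2 := by
      rw [Nat.coprime_comm, Nat.Prime.coprime_iff_not_dvd Nat.prime_two]
      exact hodd
    exact hcop.dvd_of_dvd_mul_left hm
  obtain ⟨d, hd⟩ := heven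
  have hd1 : 1 ≤ d := by
    rcases Nat.eq_zero_or_pos d with h0 | h0
    · rw [h0, mul_zero] at hd; omega
    · exact h0
  refine ⟨d, hd1, hd, ?_⟩
  -- `d ∣ i`
  have hdi : d ∣ i := by
    rw [hd] at hm
    exact Nat.dvd_of_mul_dvd_mul_left (by norm_num) hm
  obtain ⟨u, hu⟩ := hdi
  have huodd : ¬ 2 ∣ u := by
    rintro ⟨v, hv⟩
    apply hni
    rw [hd, hu, hv]
    exact ⟨v, by ring⟩
  have hs2 : (x ^ d) ^ 2 = 1 := by
    rw [← pow_mul, mul_comm, ← hd, pow_orderOf_eq_one]
  have hsu : (x ^ d) ^ u = -1 := by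
    rw [← pow_mul, ← hu, h]
  have hu' : u = 2 * (u / 2) + 1 := by omega
  rw [hu', pow_succ, pow_mul, hs2, one_pow, one_mul] at hsu
  exact hsu

end Cfsg.Agent.Lib.Helper19.Cube
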