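import Mathlib

/-!
# S2512 MODULE GEN (helper19, for helper40)

Pure finite-group arithmetic: elements of order `2 * lcm` in `L × L × L` and `L × L`.
-/

set_option autoImplicit false

namespace Cfsg.Agent.Lib.Helper19.Cube

theorem lcm_two_mul_left {a b : ℕ} (h : ¬ 2 ∣ Nat.lcm a b) :
    Nat.lcm (2 * a) b = 2 * Nat.lcm a b := by
  apply Nat.dvd_antisymm
  · apply Nat.lcm_dvd
    · exact Nat.mul_dvd_mul_left 2 (Nat.dvd_lcm_left a b)
    · exact Dvd.dvd.mul_left (Nat.dvd_lcm_right a b) 2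
  · have hcop : Nat.Coprime 2 (Nat.lcm a b) :=
      (Nat.Prime.coprime_iff_not_dvd Nat.prime_two).mpr h
    apply hcop.mul_dvd_of_dvd_of_dvd
    · exact (Dvd.intro a rfl).trans (Nat.dvd_lcm_left (2 * a) b)
    · apply Nat.lcm_dvd
      · exact (Dvd.intro_left 2 rfl).trans (Nat.dvd_lcm_left (2 * a) b)
      · exact Nat.dvd_lcm_right (2 * a) b

theorem lcm_two_mul_right {a b : ℕ} (h : ¬ 2 ∣ Nat.lcm a b) :
    Nat.lcm a (2 * b) = 2 * Nat.lcm a b := by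
  rw [Nat.lcm_comm a (2 * b), lcm_two_mul_left (by rwa [Nat.lcm_comm]), Nat.lcm_comm]

theorem lcm3_two (a b c : ℕ) (h : ¬ 2 ∣ Nat.lcm a (Nat.lcm b c)) :
    Nat.lcm (2 * a) (Nat.lcm b c) = 2 * Nat.lcm a (Nat.lcm b c) ∧
    Nat.lcm a (Nat.lcm (2 * b) c) = 2 * Nat.lcm a (Nat.lcm b c) ∧
    Nat.lcm a (Nat.lcm b (2 * c)) = 2 * Nat.lcm a (Nat.lcm b c) := by
  have hbc : ¬ 2 ∣ Nat.lcm b c := fun h2 => h (h2.trans (Nat.dvd_lcm_right _ _))
  refine ⟨lcm_two_mul_left h, ?_, ?_⟩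
  · rw [lcm_two_mul_left hbc, lcm_two_mul_right h]
  · rw [lcm_two_mul_right hbc, lcm_two_mul_right h]

variable {L : Type*} [Group L] [Finite L]

theorem exists_orderOf_eq_of_dvd' (y : L) {k : ℕ} (hk : k ∣ orderOf y) :
    ∃ z : L, orderOf z = k := by
  have hpos : 0 < orderOf y := orderOf_pos y
  obtain ⟨m, hm⟩ := hk
  have hm0 : m ≠ 0 := by
    rintro rfl
    rw [mul_zero] at hm
    omega
  have hk0 : k ≠ 0 := by
    rintro rfl
    rw [zero_mul] at hm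
    omega
  refine ⟨y ^ m, ?_⟩
  rw [orderOf_pow_of_dvd hm0 ⟨k, by rw [hm, mul_comm]⟩, hm]
  exact Nat.mul_div_cancel k (Nat.pos_of_ne_zero hm0)

omit [Finite L] in
theorem orderOf_triple (y : L × L × L) :
    orderOf y = Nat.lcm (orderOf y.1) (Nat.lcm (orderOf y.2.1) (orderOf y.2.2)) := by
  rw [Prod.orderOf, Prod.orderOf]

/-- if `k` is odd, divides `N`, and `k ∣ A`, then `k ∣ gcd N A` -/
theorem exists_orderOf_prod3_two (yA yB yP : L)
    (heven : 2 ∣ orderOf yA ∨ 2 ∣ orderOf yB)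
    (key : ∀ x : L, Odd (orderOf x) → (∃ y : L, orderOf y = 2 * orderOf x) ∨
      orderOf x ∣ orderOf yA ∨ orderOf x ∣ orderOf yB ∨ orderOf x ∣ orderOf yP)
    (x1 x2 x3 : L) (hN : ¬ 2 ∣ Nat.lcm (orderOf x1) (Nat.lcm (orderOf x2) (orderOf x3))) :
    ∃ y : L × L × L, orderOf y = 2 * Nat.lcm (orderOf x1) (Nat.lcm (orderOf x2) (orderOf x3)) := by
  set N := Nat.lcm (orderOf x1) (Nat.lcm (orderOf x2) (orderOf x3)) with hNdef
  obtain ⟨e1, e2, e3⟩ := lcm3_two (orderOf x1) (orderOf x2) (orderOf x3) hN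
  have d1 : orderOf x1 ∣ N := Nat.dvd_lcm_left _ _
  have d2 : orderOf x2 ∣ N := (Nat.dvd_lcm_left _ _).trans (Nat.dvd_lcm_right _ _)
  have d3 : orderOf x3 ∣ N := (Nat.dvd_lcm_right _ _).trans (Nat.dvd_lcm_right _ _)
  have odd_of : ∀ k, k ∣ N → Odd k := by
    intro k hk
    rw [← Nat.not_even_iff_odd, even_iff_two_dvd]
    exact fun h2 => hN (h2.trans hk)
  rcases key x1 (odd_of _ d1) with ⟨y, hy⟩ | k1
  · exact ⟨(y, x2, x3), by rw [orderOf_triple, hy]; exact e1⟩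
  rcases key x2 (odd_of _ d2) with ⟨y, hy⟩ | k2
  · exact ⟨(x1, y, x3), by rw [orderOf_triple, hy]; exact e2⟩
  rcases key x3 (odd_of _ d3) with ⟨y, hy⟩ | k3
  · exact ⟨(x1, x2, y), by rw [orderOf_triple, hy]; exact e3⟩
  set a := Nat.gcd N (orderOf yA) with ha
  set b := Nat.gcd N (orderOf yB) with hb
  set c := Nat.gcd N (orderOf yP) with hc
  have hdiv : ∀ k, k ∣ N → (k ∣ orderOf yA ∨ k ∣ orderOf yB ∨ k ∣ orderOf yP) →
      k ∣ Nat.lcm a (Nat.lcm b c) := by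
    intro k hk h
    rcases h with h | h | h
    · exact (Nat.dvd_gcd hk h).trans (Nat.dvd_lcm_left _ _)
    · exact (Nat.dvd_gcd hk h).trans ((Nat.dvd_lcm_left _ _).trans (Nat.dvd_lcm_right _ _))
    · exact (Nat.dvd_gcd hk h).trans ((Nat.dvd_lcm_right _ _).trans (Nat.dvd_lcm_right _ _))
  have hNeq : N = Nat.lcm a (Nat.lcm b c) := by
    apply Nat.dvd_antisymm
    · rw [hNdef]
      exact Nat.lcm_dvd (hdiv _ d1 k1) (Nat.lcm_dvd (hdiv _ d2 k2) (hdiv _ d3 k3))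
    · exact Nat.lcm_dvd (Nat.gcd_dvd_left _ _)
        (Nat.lcm_dvd (Nat.gcd_dvd_left _ _) (Nat.gcd_dvd_left _ _))
  have hN' : ¬ 2 ∣ Nat.lcm a (Nat.lcm b c) := by rwa [← hNeq]
  obtain ⟨f1, f2, _⟩ := lcm3_two a b c hN'
  have two_mul_dvd : ∀ k A : ℕ, k ∣ N → k ∣ A → 2 ∣ A → 2 * k ∣ A := by
    intro k A hk hkA h2
    have hcop : Nat.Coprime 2 k := by
      rw [Nat.Prime.coprime_iff_not_dvd Nat.prime_two]
      exact fun h => hN (h.trans hk)
    exact hcop.mul_dvd_of_dvd_of_dvd h2 hkA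
  rcases heven with h2 | h2
  · obtain ⟨zA, hzA⟩ := exists_orderOf_eq_of_dvd' yA
      (two_mul_dvd a _ (Nat.gcd_dvd_left _ _) (Nat.gcd_dvd_right _ _) h2)
    obtain ⟨zB, hzB⟩ := exists_orderOf_eq_of_dvd' yB (Nat.gcd_dvd_right N (orderOf yB))
    obtain ⟨zP, hzP⟩ := exists_orderOf_eq_of_dvd' yP (Nat.gcd_dvd_right N (orderOf yP))
    refine ⟨(zA, zB, zP), ?_⟩
    rw [orderOf_triple, hzA, hzB, hzP]
    exact f1.trans (congrArg (2 * ·) hNeq.symm)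
  · obtain ⟨zA, hzA⟩ := exists_orderOf_eq_of_dvd' yA (Nat.gcd_dvd_right N (orderOf yA))
    obtain ⟨zB, hzB⟩ := exists_orderOf_eq_of_dvd' yB
      (two_mul_dvd b _ (Nat.gcd_dvd_left _ _) (Nat.gcd_dvd_right _ _) h2)
    obtain ⟨zP, hzP⟩ := exists_orderOf_eq_of_dvd' yP (Nat.gcd_dvd_right N (orderOf yP))
    refine ⟨(zA, zB, zP), ?_⟩
    rw [orderOf_triple, hzA, hzB, hzP]
    exact f2.trans (congrArg (2 * ·) hNeq.symm)

theorem exists_orderOf_prod2_two (yA yB yP y' : L)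
    (heven : 2 ∣ orderOf yA ∨ 2 ∣ orderOf yB) (hy' : 2 * orderOf yP ∣ orderOf y')
    (key : ∀ x : L, Odd (orderOf x) → (∃ y : L, orderOf y = 2 * orderOf x) ∨
      orderOf x ∣ orderOf yA ∨ orderOf x ∣ orderOf yB ∨ orderOf x ∣ orderOf yP)
    (x1 x2 : L) (hN : ¬ 2 ∣ Nat.lcm (orderOf x1) (orderOf x2)) :
    ∃ y : L × L, orderOf y = 2 * Nat.lcm (orderOf x1) (orderOf x2) := by
  set N := Nat.lcm (orderOf x1) (orderOf x2) with hNdef
  have d1 : orderOf x1 ∣ N := Nat.dvd_lcm_left _ _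
  have d2 : orderOf x2 ∣ N := Nat.dvd_lcm_right _ _
  have odd_of : ∀ k, k ∣ N → Odd k := by
    intro k hk
    rw [← Nat.not_even_iff_odd, even_iff_two_dvd]
    exact fun h2 => hN (h2.trans hk)
  -- strengthened key: either an element of order `2 * o` or `o ∣ A ∨ o ∣ B`
  have key' : ∀ x : L, orderOf x ∣ N → (∃ y : L, orderOf y = 2 * orderOf x) ∨
      orderOf x ∣ orderOf yA ∨ orderOf x ∣ orderOf yB := by
    intro x hx
    rcases key x (odd_of _ hx) with h | h | h | h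
    · exact Or.inl h
    · exact Or.inr (Or.inl h)
    · exact Or.inr (Or.inr h)
    · left
      exact exists_orderOf_eq_of_dvd' y' ((Nat.mul_dvd_mul_left 2 h).trans hy')
  rcases key' x1 d1 with ⟨y, hy⟩ | k1
  · exact ⟨(y, x2), by rw [Prod.orderOf, hy]; exact lcm_two_mul_left hN⟩
  rcases key' x2 d2 with ⟨y, hy⟩ | k2
  · exact ⟨(x1, y), by rw [Prod.orderOf, hy]; exact lcm_two_mul_right hN⟩
  set a := Nat.gcd N (orderOf yA) with ha
  set b := Nat.gcd N (orderOf yB) with hb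
  have hdiv : ∀ k, k ∣ N → (k ∣ orderOf yA ∨ k ∣ orderOf yB) → k ∣ Nat.lcm a b := by
    intro k hk h
    rcases h with h | h
    · exact (Nat.dvd_gcd hk h).trans (Nat.dvd_lcm_left _ _)
    · exact (Nat.dvd_gcd hk h).trans (Nat.dvd_lcm_right _ _)
  have hNeq : N = Nat.lcm a b := by
    apply Nat.dvd_antisymm
    · rw [hNdef]
      exact Nat.lcm_dvd (hdiv _ d1 k1) (hdiv _ d2 k2)
    · exact Nat.lcm_dvd (Nat.gcd_dvd_left _ _) (Nat.gcd_dvd_left _ _)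
  have hN' : ¬ 2 ∣ Nat.lcm a b := by rwa [← hNeq]
  have two_mul_dvd : ∀ k A : ℕ, k ∣ N → k ∣ A → 2 ∣ A → 2 * k ∣ A := by
    intro k A hk hkA h2
    have hcop : Nat.Coprime 2 k := by
      rw [Nat.Prime.coprime_iff_not_dvd Nat.prime_two]
      exact fun h => hN (h.trans hk)
    exact hcop.mul_dvd_of_dvd_of_dvd h2 hkA
  rcases heven with h2 | h2
  · obtain ⟨zA, hzA⟩ := exists_orderOf_eq_of_dvd' yA
      (two_mul_dvd a _ (Nat.gcd_dvd_left _ _) (Nat.gcd_dvd_right _ _) h2)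
    obtain ⟨zB, hzB⟩ := exists_orderOf_eq_of_dvd' yB (Nat.gcd_dvd_right N (orderOf yB))
    refine ⟨(zA, zB), ?_⟩
    rw [Prod.orderOf, hzA, hzB]
    exact (lcm_two_mul_left hN').trans (congrArg (2 * ·) hNeq.symm)
  · obtain ⟨zA, hzA⟩ := exists_orderOf_eq_of_dvd' yA (Nat.gcd_dvd_right N (orderOf yA))
    obtain ⟨zB, hzB⟩ := exists_orderOf_eq_of_dvd' yB
      (two_mul_dvd b _ (Nat.gcd_dvd_left _ _) (Nat.gcd_dvd_right _ _) h2)
    refine ⟨(zA, zB), ?_⟩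
    rw [Prod.orderOf, hzA, hzB]
    exact (lcm_two_mul_right hN').trans (congrArg (2 * ·) hNeq.symm)

end Cfsg.Agent.Lib.Helper19.Cube
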