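import Mathlib

/-!
# S2512 MODULE NIL (helper19, for helper40)
-/

set_option autoImplicit false

namespace Cfsg.Agent.Lib.Helper19.Cube

open Polynomial Matrix

variable {K : Type*} [Field K] [DecidableEq K] {ι : Type*} [Fintype ι] [DecidableEq ι]

theorem pow_sub_one_pow_eq_zero_of_count_le (B : Matrix ι ι K) (hs : B.charpoly.Splits)
    (c e : ℕ) (hc : ∀ y ∈ B.charpoly.roots, y ^ c = 1)
    (he : ∀ y : K, B.charpoly.roots.count y ≤ e) : (B ^ c - 1) ^ e = 0 := by
  have hmonic : B.charpoly.Monic := Matrix.charpoly_monic B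
  set Z := B.charpoly.roots.toFinset with hZ
  have h1 : B.charpoly = ∏ a ∈ Z, (X - C a) ^ B.charpoly.roots.count a := by
    conv_lhs => rw [hs.eq_prod_roots_of_monic hmonic]
    rw [Finset.prod_multiset_map_count]
  have h2 : B.charpoly ∣ (∏ a ∈ Z, (X - C a)) ^ e := by
    rw [h1, ← Finset.prod_pow]
    apply Finset.prod_dvd_prod_of_dvd
    intro a _
    exact pow_dvd_pow _ (he a)
  have h3 : (∏ a ∈ Z, (X - C a)) ∣ (X ^ c - 1 : K[X]) := by
    apply Finset.prod_dvd_of_coprime
    · intro a _ b _ hab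
      exact isCoprime_X_sub_C_of_isUnit_sub (sub_ne_zero.mpr hab).isUnit
    · intro a ha
      rw [dvd_iff_isRoot]
      have : a ∈ B.charpoly.roots := by simpa [hZ] using ha
      simp [hc a this]
  have h4 : B.charpoly ∣ (X ^ c - 1 : K[X]) ^ e := h2.trans (pow_dvd_pow_of_dvd h3 e)
  obtain ⟨r, hr⟩ := h4
  have h5 := congrArg (aeval B) hr
  rw [map_mul, Matrix.aeval_self_charpoly, zero_mul] at h5
  simpa using h5

end Cfsg.Agent.Lib.Helper19.Cube
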