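/-
Helper library (helper19): a group generated by involutions satisfying the exchange condition is a
Coxeter group (Bourbaki, Lie IV §1.5–1.6; Tits' word lemma / Matsumoto).
-/
import Mathlib

set_option autoImplicit false

namespace Cfsg.Agent.Lib.Helper19.Exch

variable {B W : Type*} [Group W]

/-- the product of a word -/
def wprod (s : B → W) (ω : List B) : W := (ω.map s).prod

section Basic

variable (s : B → W)

@[simp] theorem wprod_nil : wprod s [] = 1 := by simp [wprod]

theorem wprod_cons (b : B) (ω : List B) : wprod s (b :: ω) = s b * wprod s ω := by simp [wprod]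

theorem wprod_append (ω ω' : List B) : wprod s (ω ++ ω') = wprod s ω * wprod s ω' := by
  simp [wprod]

theorem wprod_singleton (b : B) : wprod s [b] = s b := by simp [wprod]

/-- a word is reduced if no word with the same product is shorter -/
def Red (ω : List B) : Prop := ∀ ω', wprod s ω' = wprod s ω → ω.length ≤ ω'.length

variable {s}

theorem Red.of_append_left {l₁ l₂ : List B} (h : Red s (l₁ ++ l₂)) : Red s l₁ := by
  intro ω' hω'
  have := h (ω' ++ l₂) (by rw [wprod_append, wprod_append, hω'])
  simp only [List.length_append] at this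
  omega

theorem Red.of_append_right {l₁ l₂ : List B} (h : Red s (l₁ ++ l₂)) : Red s l₂ := by
  intro ω' hω'
  have := h (l₁ ++ ω') (by rw [wprod_append, wprod_append, hω'])
  simp only [List.length_append] at this
  omega

theorem Red.tail {b : B} {ω : List B} (h : Red s (b :: ω)) : Red s ω :=
  Red.of_append_right (l₁ := [b]) h

theorem Red.take {ω : List B} (h : Red s ω) (k : ℕ) : Red s (ω.take k) := by
  have := List.take_append_drop k ω
  rw [← this] at h
  exact h.of_append_left

theorem Red.of_eq {ω ω' : List B} (h : Red s ω) (hp : wprod s ω' = wprod s ω)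
    (hl : ω'.length = ω.length) : Red s ω' := by
  intro ω'' hω''
  rw [hl]
  exact h ω'' (hω''.trans hp)

theorem Red.length_eq {ω ω' : List B} (h : Red s ω) (h' : Red s ω')
    (hp : wprod s ω = wprod s ω') : ω.length = ω'.length :=
  le_antisymm (h ω' hp.symm) (h' ω hp)

end Basic

/-! ### Alternating words -/

/-- the alternating word `x, y, x, …` of length `n` -/
def alt (x y : B) : ℕ → List B
  | 0 => []
  | n + 1 => x :: alt y x n

@[simp] theorem alt_length (x y : B) (n : ℕ) : (alt x y n).length = n := by
  induction n generalizing x y with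
  | zero => rfl
  | succ n ih => simp [alt, ih]

theorem alt_take (x y : B) : ∀ (n j : ℕ), j ≤ n → (alt x y n).take j = alt x y j := by
  intro n
  induction n generalizing x y with
  | zero => intro j hj; have : j = 0 := by omega
            subst this; rfl
  | succ n ih =>
    intro j hj
    cases j with
    | zero => rfl
    | succ j =>
      simp only [alt, List.take_succ_cons]
      rw [ih y x j (by omega)]

section AltProd

variable (s : B → W)

/-- `A(n) * B(n)⁻¹ = (p r)^n` for the alternating products -/
theorem wprod_alt_mul_inv (hsq : ∀ b, s b * s b = 1) (x y : B) (n : ℕ) :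
    wprod s (alt x y n) * (wprod s (alt y x n))⁻¹ = (s x * s y) ^ n := by
  induction n generalizing x y with
  | zero => simp [alt]
  | succ n ih =>
    have hx : (s x)⁻¹ = s x := inv_eq_of_mul_eq_one_left (hsq x)
    have hy : (s y)⁻¹ = s y := inv_eq_of_mul_eq_one_left (hsq y)
    simp only [alt, wprod_cons, mul_inv_rev]
    have h1 := ih y x
    -- s x * B(n) * (A(n)⁻¹ * (s y)⁻¹) = (s x * s y)^(n+1)
    have h2 : wprod s (alt y x n) * (wprod s (alt x y n))⁻¹ = (s y * s x) ^ n := h1
    calc s x * wprod s (alt y x n) * ((wprod s (alt x y n))⁻¹ * (s y)⁻¹)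
        = s x * (wprod s (alt y x n) * (wprod s (alt x y n))⁻¹) * (s y)⁻¹ := by group
      _ = s x * (s y * s x) ^ n * s y := by rw [h2, hy]
      _ = (s x * s y) ^ (n + 1) := by
        rw [pow_succ]
        have : s x * (s y * s x) ^ n = (s x * s y) ^ n * s x := by
          clear h1 h2 ih
          induction n with
          | zero => simp
          | succ k ihk =>
            rw [pow_succ, ← mul_assoc, ihk, pow_succ]
            group
        rw [this]
        group

theorem wprod_alt_eq_iff (hsq : ∀ b, s b * s b = 1) (x y : B) (n : ℕ) :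
    wprod s (alt x y n) = wprod s (alt y x n) ↔ (s x * s y) ^ n = 1 := by
  rw [← wprod_alt_mul_inv s hsq x y n, mul_inv_eq_one]

end AltProd

/-! ### The exchange condition and Tits' word lemma -/

/-- the hypotheses: involutions, distinct, exchange condition for reduced words -/
structure ExchSys (s : B → W) : Prop where
  sq : ∀ b, s b * s b = 1
  inj : Function.Injective s
  exch : ∀ b ω, Red s ω → ¬ Red s (b :: ω) →
    ∃ l₁ b' l₂, ω = l₁ ++ b' :: l₂ ∧ s b * wprod s l₁ = wprod s l₁ * s b'

section Tits

variable {s : B → W} {T : Type*} [Group T] {t : B → T}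

/-- the induction hypothesis of Tits' lemma: below length `n` reduced words with the same product in
`W` have the same product in `T` -/
def TitsBelow (s : B → W) (t : B → T) (n : ℕ) : Prop :=
  ∀ m < n, ∀ ω ω' : List B, ω.length = m → Red s ω → Red s ω' → wprod s ω = wprod s ω' →
    wprod t ω = wprod t ω'

/-- a pair of reduced words of length `n` with the same product in `W` but not in `T` -/
def Fail (s : B → W) (t : B → T) (n : ℕ) (u v : List B) : Prop :=
  Red s u ∧ Red s v ∧ u.length = n ∧ v.length = n ∧ wprod s u = wprod s v ∧ wprod t u ≠ wprod t v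

theorem exch_word (E : ExchSys s) {b : B} {ω : List B} (hω : Red s ω) (hb : ¬ Red s (b :: ω)) :
    ∃ l₁ b' l₂, ω = l₁ ++ b' :: l₂ ∧ wprod s (b :: l₁) = wprod s (l₁ ++ [b']) ∧
      wprod s (b :: (l₁ ++ l₂)) = wprod s ω ∧ Red s (b :: (l₁ ++ l₂)) := by
  obtain ⟨l₁, b', l₂, rfl, h⟩ := E.exch b ω hω hb
  have h1 : wprod s (b :: l₁) = wprod s (l₁ ++ [b']) := by
    rw [wprod_cons, wprod_append, wprod_singleton, h]
  have h2 : wprod s (b :: (l₁ ++ l₂)) = wprod s (l₁ ++ b' :: l₂) := by
    rw [wprod_cons, wprod_append, wprod_append, wprod_cons, ← mul_assoc, h, mul_assoc]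
  refine ⟨l₁, b', l₂, rfl, h1, h2, ?_⟩
  apply hω.of_eq h2
  simp only [List.length_cons, List.length_append]
  omega

theorem same_head {n : ℕ} (IH : TitsBelow s t n) {c : B} {α β : List B}
    (hlen : (c :: α).length = n) (hα : Red s (c :: α)) (hβ : Red s (c :: β))
    (hp : wprod s (c :: α) = wprod s (c :: β)) : wprod t (c :: α) = wprod t (c :: β) := by
  rw [wprod_cons, wprod_cons] at hp ⊢
  have hp' : wprod s α = wprod s β := mul_left_cancel hp
  rw [IH α.length (by rw [← hlen]; simp) α β rfl hα.tail hβ.tail hp']

theorem fail_step (E : ExchSys s) {n : ℕ} (IH : TitsBelow s t n) {u v u' : List B} {y : B}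
    (hu : u = y :: u') (F : Fail s t n u v) :
    ∃ l₁ b', v = l₁ ++ [b'] ∧ Fail s t n v (y :: l₁) := by
  obtain ⟨hRu, hRv, hlu, hlv, hps, hpt⟩ := F
  subst hu
  -- `y :: v` is not reduced
  have hnr : ¬ Red s (y :: v) := by
    intro h
    have h1 : wprod s u' = wprod s (y :: v) := by
      rw [wprod_cons, ← hps, wprod_cons, ← mul_assoc, E.sq, one_mul]
    have := h u' h1
    simp only [List.length_cons] at this hlu
    omega
  obtain ⟨l₁, b', l₂, hv, h1, h2, h3⟩ := exch_word E hRv hnr
  have hlen1 : (y :: (l₁ ++ l₂)).length = n := by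
    rw [← hlv, hv]
    simp only [List.length_cons, List.length_append]
    omega
  -- the same head: `u` and `y :: (l₁ ++ l₂)`
  have h4 : wprod t (y :: u') = wprod t (y :: (l₁ ++ l₂)) :=
    same_head IH hlu hRu h3 (hps.trans h2.symm)
  rcases List.eq_nil_or_concat l₂ with hl₂ | ⟨l₂', c, hl₂⟩
  · subst hl₂
    refine ⟨l₁, b', hv, hRv, ?_, hlv, ?_, ?_, ?_⟩
    · simpa using h3
    · simpa using hlen1
    · rw [← h2]; simp
    · intro h
      apply hpt
      rw [h4, h]
      simp
  · exfalso
    apply hpt
    have hl₂len : 0 < l₂.length := by rw [hl₂]; simp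
    have hR1 : Red s (y :: l₁) := by
      have : y :: (l₁ ++ l₂) = (y :: l₁) ++ l₂ := by simp
      rw [this] at h3
      exact h3.of_append_left
    have hR2 : Red s (l₁ ++ [b']) := by
      have : l₁ ++ b' :: l₂ = (l₁ ++ [b']) ++ l₂ := by simp
      rw [hv, this] at hRv
      exact hRv.of_append_left
    have hm : (y :: l₁).length < n := by
      rw [← hlen1]
      simp only [List.length_cons, List.length_append]
      omega
    have h5 : wprod t (y :: l₁) = wprod t (l₁ ++ [b']) :=
      IH _ hm (y :: l₁) (l₁ ++ [b']) rfl hR1 hR2 h1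
    rw [h4, hv]
    have e1 : y :: (l₁ ++ l₂) = (y :: l₁) ++ l₂ := by simp
    have e2 : l₁ ++ b' :: l₂ = (l₁ ++ [b']) ++ l₂ := by simp
    rw [e1, e2, wprod_append, wprod_append, h5]

theorem fail_iter (E : ExchSys s) (htsq : ∀ b, t b * t b = 1)
    (hbraid : ∀ x y n, (s x * s y) ^ n = 1 → (t x * t y) ^ n = 1) {n : ℕ}
    (IH : TitsBelow s t n) :
    ∀ d k, k + d = n → 1 ≤ k → ∀ (x y : B) (u v : List B), Fail s t n u v → x ≠ y →
      (∃ u', u = y :: u') → v.take k = alt x y k → False := by
  intro d
  induction d with
  | zero =>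
    intro k hk hk1 x y u v F hxy ⟨u', hu⟩ hv
    have hkn : k = n := by omega
    subst hkn
    have hvlen : v.length = k := F.2.2.2.1
    have hv' : v = alt x y k := by
      rw [← hv, List.take_of_length_le (le_of_eq hvlen)]
    obtain ⟨l₁, b', hvl, F'⟩ := fail_step E IH hu F
    have hl₁ : l₁ = alt x y (k - 1) := by
      have h1 : l₁ = v.take (k - 1) := by
        rw [hvl, List.take_append_of_le_length (by
          have : (l₁ ++ [b']).length = k := by rw [← hvl]; exact hvlen
          simp at this; omega)]
        have : (l₁ ++ [b']).length = k := by rw [← hvl]; exact hvlen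
        simp at this
        rw [List.take_of_length_le (by omega)]
      rw [h1, hv', alt_take x y k (k - 1) (by omega)]
    have hyl : y :: l₁ = alt y x k := by
      rw [hl₁]
      obtain ⟨j, rfl⟩ : ∃ j, k = j + 1 := ⟨k - 1, by omega⟩
      rfl
    obtain ⟨_, _, _, _, hps, hpt⟩ := F'
    rw [hyl, hv'] at hps hpt
    apply hpt
    rw [wprod_alt_eq_iff t htsq]
    exact hbraid x y k ((wprod_alt_eq_iff s E.sq x y k).1 hps)
  | succ d ih =>
    intro k hk hk1 x y u v F hxy ⟨u', hu⟩ hv
    have hvlen : v.length = n := F.2.2.2.1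
    obtain ⟨l₁, b', hvl, F'⟩ := fail_step E IH hu F
    have hl₁len : l₁.length = n - 1 := by
      have : (l₁ ++ [b']).length = n := by rw [← hvl]; exact hvlen
      simp at this; omega
    -- `v` starts with `x`
    have hvx : ∃ v', v = x :: v' := by
      obtain ⟨j, rfl⟩ : ∃ j, k = j + 1 := ⟨k - 1, by omega⟩
      cases v with
      | nil => simp at hvlen; omega
      | cons a v' =>
        simp only [alt, List.take_succ_cons, List.cons.injEq] at hv
        exact ⟨v', by rw [hv.1]⟩
    apply ih (k + 1) (by omega) (by omega) y x v (y :: l₁) F' (Ne.symm hxy) hvx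
    rw [List.take_succ_cons]
    have : l₁.take k = v.take k := by
      rw [hvl, List.take_append_of_le_length (by omega)]
    rw [this, hv]
    rfl

/-- **Tits' word lemma**: reduced words with the same product in `W` have the same product in any
group `T` in which the involutions `t b` satisfy the relations `(t x * t y) ^ n = 1` holding in `W`. -/
theorem tits (E : ExchSys s) (htsq : ∀ b, t b * t b = 1)
    (hbraid : ∀ x y n, (s x * s y) ^ n = 1 → (t x * t y) ^ n = 1) :
    ∀ n, ∀ ω ω' : List B, ω.length = n → Red s ω → Red s ω' → wprod s ω = wprod s ω' →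
      wprod t ω = wprod t ω' := by
  intro n
  induction n using Nat.strong_induction_on with
  | _ n IH =>
    intro ω ω' hlen hR hR' hp
    have hlen' : ω'.length = n := by rw [← hlen]; exact (hR.length_eq hR' hp).symm
    cases ω with
    | nil =>
      cases ω' with
      | nil => rfl
      | cons b β => simp at hlen hlen'; omega
    | cons a α =>
      cases ω' with
      | nil => simp at hlen hlen'; omega
      | cons b β =>
        by_cases hab : a = b
        · subst hab
          exact same_head IH hlen hR hR' hp
        · by_contra hne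
          have F : Fail s t n (b :: β) (a :: α) :=
            ⟨hR', hR, hlen', hlen, hp.symm, fun h => hne h.symm⟩
          have hn1 : 1 ≤ n := by rw [← hlen]; simp
          exact fail_iter E htsq hbraid IH (n - 1) 1 (by omega) le_rfl a b (b :: β) (a :: α) F hab
            ⟨β, rfl⟩ (by simp [alt])

end Tits

/-! ### The Coxeter system -/

section Main

variable {s : B → W}

theorem inv_eq_self (hsq : ∀ b, s b * s b = 1) (b : B) : (s b)⁻¹ = s b :=
  inv_eq_of_mul_eq_one_left (hsq b)

theorem wprod_reverse (hsq : ∀ b, s b * s b = 1) (ω : List B) :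
    wprod s ω.reverse = (wprod s ω)⁻¹ := by
  induction ω with
  | nil => simp
  | cons b ω ih =>
    rw [List.reverse_cons, wprod_append, wprod_singleton, wprod_cons, mul_inv_rev, ih,
      inv_eq_self hsq]

/-- every element of the group is the product of a word -/
theorem exists_word (hsq : ∀ b, s b * s b = 1) (hgen : Subgroup.closure (Set.range s) = ⊤)
    (w : W) : ∃ ω, wprod s ω = w := by
  have hw : w ∈ Subgroup.closure (Set.range s) := by rw [hgen]; exact Subgroup.mem_top w
  induction hw using Subgroup.closure_induction with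
  | mem x hx =>
    obtain ⟨b, rfl⟩ := hx
    exact ⟨[b], wprod_singleton s b⟩
  | one => exact ⟨[], wprod_nil s⟩
  | mul x y _ _ hx hy =>
    obtain ⟨ω, rfl⟩ := hx
    obtain ⟨ω', rfl⟩ := hy
    exact ⟨ω ++ ω', wprod_append s ω ω'⟩
  | inv x _ hx =>
    obtain ⟨ω, rfl⟩ := hx
    exact ⟨ω.reverse, wprod_reverse hsq ω⟩

/-- every element of the group is the product of a reduced word -/
theorem exists_red (hsq : ∀ b, s b * s b = 1) (hgen : Subgroup.closure (Set.range s) = ⊤)
    (w : W) : ∃ ω, Red s ω ∧ wprod s ω = w := by
  classical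
  have hex : ∃ k, ∃ ω, wprod s ω = w ∧ ω.length = k := by
    obtain ⟨ω, hω⟩ := exists_word hsq hgen w
    exact ⟨ω.length, ω, hω, rfl⟩
  obtain ⟨ω, hω, hlen⟩ := Nat.find_spec hex
  refine ⟨ω, ?_, hω⟩
  intro ω' hω'
  rw [hlen]
  exact Nat.find_min' hex ⟨ω', hω'.trans hω, rfl⟩

/-- the Coxeter matrix of the orders of the products of two generators -/
noncomputable def coxMat (E : ExchSys s) : CoxeterMatrix B where
  M := Matrix.of fun a b => orderOf (s a * s b)
  isSymm := by
    ext a b
    simp only [Matrix.transpose_apply, Matrix.of_apply]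
    have : s b * s a = (s a * s b)⁻¹ := by
      rw [mul_inv_rev, inv_eq_self E.sq, inv_eq_self E.sq]
    rw [this, orderOf_inv]
  diagonal := by
    intro a
    simp only [Matrix.of_apply]
    rw [E.sq, orderOf_one]
  off_diagonal := by
    intro a b hab h
    simp only [Matrix.of_apply] at h
    rw [orderOf_eq_one_iff] at h
    apply hab
    apply E.inj
    have := mul_eq_one_iff_eq_inv.1 h
    rw [this, inv_eq_self E.sq]

theorem coxMat_apply (E : ExchSys s) (a b : B) : (coxMat E).M a b = orderOf (s a * s b) := rfl

theorem liftable (E : ExchSys s) : (coxMat E).IsLiftable s := by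
  intro a b
  show (s a * s b) ^ (coxMat E).M a b = 1
  rw [coxMat_apply]
  exact pow_orderOf_eq_one _

/-- the canonical homomorphism from the Coxeter group -/
noncomputable def toW (E : ExchSys s) : (coxMat E).Group →* W :=
  (coxMat E).toCoxeterSystem.lift ⟨s, liftable E⟩

theorem toW_simple (E : ExchSys s) (b : B) : toW E ((coxMat E).simple b) = s b := by
  unfold toW
  rw [← CoxeterMatrix.toCoxeterSystem_simple, CoxeterSystem.lift_apply_simple]

theorem toW_wprod (E : ExchSys s) (ω : List B) :
    toW E (wprod (coxMat E).simple ω) = wprod s ω := by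
  induction ω with
  | nil => simp
  | cons b ω ih => rw [wprod_cons, map_mul, ih, toW_simple, wprod_cons]

theorem simple_sq (E : ExchSys s) (b : B) :
    (coxMat E).simple b * (coxMat E).simple b = 1 := by
  have := (coxMat E).toCoxeterSystem.simple_mul_simple_self b
  rwa [CoxeterMatrix.toCoxeterSystem_simple] at this

theorem braid (E : ExchSys s) (x y : B) (n : ℕ) (h : (s x * s y) ^ n = 1) :
    ((coxMat E).simple x * (coxMat E).simple y) ^ n = 1 := by
  have hd : orderOf (s x * s y) ∣ n := orderOf_dvd_of_pow_eq_one h
  obtain ⟨k, rfl⟩ := hd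
  have := (coxMat E).toCoxeterSystem.simple_mul_simple_pow x y
  rw [CoxeterMatrix.toCoxeterSystem_simple, coxMat_apply] at this
  rw [pow_mul, this, one_pow]

/-- the section `W → M.Group` given by reduced words -/
noncomputable def sec (E : ExchSys s) (hgen : Subgroup.closure (Set.range s) = ⊤) (w : W) :
    (coxMat E).Group :=
  wprod (coxMat E).simple (exists_red E.sq hgen w).choose

theorem sec_eq (E : ExchSys s) (hgen : Subgroup.closure (Set.range s) = ⊤) {ω : List B}
    (hω : Red s ω) : sec E hgen (wprod s ω) = wprod (coxMat E).simple ω := by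
  have hc := (exists_red E.sq hgen (wprod s ω)).choose_spec
  exact tits E (simple_sq E) (braid E) _ _ _ rfl hc.1 hω hc.2

theorem sec_mul (E : ExchSys s) (hgen : Subgroup.closure (Set.range s) = ⊤) (b : B) (w : W) :
    sec E hgen (s b * w) = (coxMat E).simple b * sec E hgen w := by
  obtain ⟨ρ, hρ, rfl⟩ := exists_red E.sq hgen w
  by_cases hb : Red s (b :: ρ)
  · rw [← wprod_cons, sec_eq E hgen hb, sec_eq E hgen hρ, wprod_cons]
  · obtain ⟨l₁, b', l₂, _, _, h2, h3⟩ := exch_word E hρ hb
    have h4 : s b * wprod s ρ = wprod s (l₁ ++ l₂) := by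
      rw [← h2, wprod_cons, ← mul_assoc, E.sq, one_mul]
    rw [h4, sec_eq E hgen h3.tail, ← h2, sec_eq E hgen h3, wprod_cons, ← mul_assoc, simple_sq,
      one_mul]

theorem sec_wprod (E : ExchSys s) (hgen : Subgroup.closure (Set.range s) = ⊤) (ω : List B) :
    sec E hgen (wprod s ω) = wprod (coxMat E).simple ω := by
  induction ω with
  | nil =>
    have : Red s ([] : List B) := fun ω' _ => Nat.zero_le _
    exact sec_eq E hgen this
  | cons b ω ih => rw [wprod_cons, sec_mul, ih, wprod_cons]

theorem toW_bijective (E : ExchSys s) (hgen : Subgroup.closure (Set.range s) = ⊤) :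
    Function.Bijective (toW E) := by
  constructor
  · intro x y hxy
    obtain ⟨ω, rfl⟩ := (coxMat E).toCoxeterSystem.wordProd_surjective x
    obtain ⟨ω', rfl⟩ := (coxMat E).toCoxeterSystem.wordProd_surjective y
    have e : ∀ ω : List B, (coxMat E).toCoxeterSystem.wordProd ω = wprod (coxMat E).simple ω :=
      fun ω => rfl
    rw [e, e] at hxy ⊢
    rw [toW_wprod, toW_wprod] at hxy
    rw [← sec_wprod E hgen, ← sec_wprod E hgen, hxy]
  · intro w
    obtain ⟨ω, rfl⟩ := exists_word E.sq hgen w
    exact ⟨wprod (coxMat E).simple ω, toW_wprod E ω⟩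

/-- **Main theorem**: a group generated by distinct involutions satisfying the exchange condition
is a Coxeter group with these involutions as simple reflections. -/
theorem exists_coxeterSystem (E : ExchSys s) (hgen : Subgroup.closure (Set.range s) = ⊤) :
    ∃ (M : CoxeterMatrix B) (cs : CoxeterSystem M W), ∀ b, cs.simple b = s b := by
  refine ⟨coxMat E, ⟨(MulEquiv.ofBijective (toW E) (toW_bijective E hgen)).symm⟩, ?_⟩
  intro b
  show (MulEquiv.ofBijective (toW E) (toW_bijective E hgen)).symm.symm
    (PresentedGroup.of b) = s b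
  rw [MulEquiv.symm_symm]
  exact toW_simple E b

end Main

end Cfsg.Agent.Lib.Helper19.Exch
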