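/-
helper19: project F4OUT (helper91, S2128), module [S-NH]:
in a split (B,N)-pair, if no element of `U` other than `1` commutes with `H = B ⊓ N`, then every element
normalising `H` lies in `N`.
-/
import Cfsg.Agent.Lib.Helper91.TwOut.Defs

set_option autoImplicit false

namespace Cfsg.Agent.Lib.Helper19.F4Out

open Cfsg Cfsg.Agent.Lib.Helper91.TwOut

variable {Γ : Type*} [Group Γ] {ι : Type*} {p : ℕ}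

/-- `H = B ⊓ N` normalises `V`. -/
theorem conjV_of_mem_H (S : SplitBN Γ ι p) (h : Γ) (hh : h ∈ S.P.B ⊓ S.P.N) (v : Γ) (hv : v ∈ S.V) :
    h * v * h⁻¹ ∈ S.V := by
  rw [S.V_eq] at hv ⊢
  have hn0inv : S.n₀⁻¹ ∈ S.P.N := S.P.N.inv_mem S.n₀_mem
  have h1 : S.n₀⁻¹ * h * (S.n₀⁻¹)⁻¹ ∈ S.P.B := S.P.conj_mem _ hn0inv h hh
  have h2 := S.U_norm _ h1 _ hv
  have e : S.n₀⁻¹ * (h * v * h⁻¹) * S.n₀ =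
      (S.n₀⁻¹ * h * (S.n₀⁻¹)⁻¹) * (S.n₀⁻¹ * v * S.n₀) * (S.n₀⁻¹ * h * (S.n₀⁻¹)⁻¹)⁻¹ := by group
  rw [e]; exact h2

/-- `U ⊓ H = ⊥`, elementwise. -/
theorem eq_one_of_mem_U_of_mem_H (S : SplitBN Γ ι p) (x : Γ) (hxU : x ∈ S.U)
    (hxH : x ∈ S.P.B ⊓ S.P.N) : x = 1 := by
  have h1 : S.n₀⁻¹ * x * S.n₀ ∈ S.V := (S.U_eq x).1 hxU
  have hn0inv : S.n₀⁻¹ ∈ S.P.N := S.P.N.inv_mem S.n₀_mem
  have h2 : S.n₀⁻¹ * x * (S.n₀⁻¹)⁻¹ ∈ S.P.B := S.P.conj_mem _ hn0inv x hxH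
  rw [inv_inv] at h2
  have h3 : S.n₀⁻¹ * x * S.n₀ ∈ S.V ⊓ S.P.B := ⟨h1, h2⟩
  rw [S.V_inf_B, Subgroup.mem_bot] at h3
  have e : x = S.n₀ * (S.n₀⁻¹ * x * S.n₀) * S.n₀⁻¹ := by group
  rw [e, h3]; group

/-- [S-NH] if no element of `U` other than `1` commutes with `H`, then `N_Γ(H) ≤ N`. -/
theorem mem_N_of_normalizes_H (S : SplitBN Γ ι p)
    (hCU : ∀ u ∈ S.U, (∀ h ∈ S.P.B ⊓ S.P.N, h * u * h⁻¹ = u) → u = 1)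
    (g : Γ) (hg : ∀ h, h ∈ S.P.B ⊓ S.P.N ↔ g * h * g⁻¹ ∈ S.P.B ⊓ S.P.N) : g ∈ S.P.N := by
  obtain ⟨u₀, hu₀, n, hn, u, hu, rfl⟩ := S.form g
  have hHB : ∀ x, x ∈ S.P.B ⊓ S.P.N → x ∈ S.P.B := fun x hx => hx.1
  have hUB : ∀ x, x ∈ S.U → x ∈ S.P.B := fun x hx => S.U_le hx
  -- Step 1: `u = 1`.
  have hu1 : u = 1 := by
    apply hCU u (S.Um_le n hu)
    intro k hk
    have hh : k⁻¹ ∈ S.P.B ⊓ S.P.N := Subgroup.inv_mem _ hk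
    have hh' := (hg k⁻¹).1 hh
    have hh₁B : n * k⁻¹ * n⁻¹ ∈ S.P.B := S.P.conj_mem n hn k⁻¹ hh
    have hh₁N : n * k⁻¹ * n⁻¹ ∈ S.P.N :=
      S.P.N.mul_mem (S.P.N.mul_mem hn hh.2) (S.P.N.inv_mem hn)
    have hh₁ : n * k⁻¹ * n⁻¹ ∈ S.P.B ⊓ S.P.N := ⟨hh₁B, hh₁N⟩
    have key : n * ((k * u * k⁻¹) * u⁻¹) * n⁻¹ =
        (n * k⁻¹ * n⁻¹)⁻¹ * u₀⁻¹ *
          (((u₀ * n * u) * k⁻¹ * (u₀ * n * u)⁻¹) * u₀ * ((u₀ * n * u) * k⁻¹ * (u₀ * n * u)⁻¹)⁻¹) *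
            ((u₀ * n * u) * k⁻¹ * (u₀ * n * u)⁻¹) := by group
    have hB : n * ((k * u * k⁻¹) * u⁻¹) * n⁻¹ ∈ S.P.B := by
      rw [key]
      refine S.P.B.mul_mem (S.P.B.mul_mem (S.P.B.mul_mem (S.P.B.inv_mem hh₁B)
        (S.P.B.inv_mem (hUB _ hu₀))) ?_) (hHB _ hh')
      exact hUB _ (S.U_norm _ (hHB _ hh') _ hu₀)
    have hV : n * ((k * u * k⁻¹) * u⁻¹) * n⁻¹ ∈ S.V := by
      have e : n * ((k * u * k⁻¹) * u⁻¹) * n⁻¹ =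
          ((n * k⁻¹ * n⁻¹)⁻¹ * (n * u * n⁻¹) * ((n * k⁻¹ * n⁻¹)⁻¹)⁻¹) * (n * u⁻¹ * n⁻¹) := by group
      rw [e]
      refine S.V.mul_mem ?_ (S.Um_conj n _ ((S.Um n).inv_mem hu))
      exact conjV_of_mem_H S _ (Subgroup.inv_mem _ hh₁) _ (S.Um_conj n u hu)
    have h3 : n * ((k * u * k⁻¹) * u⁻¹) * n⁻¹ ∈ S.V ⊓ S.P.B := ⟨hV, hB⟩
    rw [S.V_inf_B, Subgroup.mem_bot] at h3
    have e : k * u * k⁻¹ = n⁻¹ * (n * ((k * u * k⁻¹) * u⁻¹) * n⁻¹) * n * u := by group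
    rw [e, h3]; group
  subst hu1
  -- Step 2: `u₀ = 1`.
  have hu01 : u₀ = 1 := by
    apply hCU u₀ hu₀
    intro k hk
    -- `k = g h g⁻¹` with `h = g⁻¹ k g ∈ H`
    have hh : (u₀ * n * 1)⁻¹ * k * (u₀ * n * 1) ∈ S.P.B ⊓ S.P.N := by
      rw [hg]
      have e : (u₀ * n * 1) * ((u₀ * n * 1)⁻¹ * k * (u₀ * n * 1)) * (u₀ * n * 1)⁻¹ = k := by group
      rw [e]; exact hk
    have hh₁B := S.P.conj_mem n hn _ hh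
    have hh₁N : n * ((u₀ * n * 1)⁻¹ * k * (u₀ * n * 1)) * n⁻¹ ∈ S.P.N :=
      S.P.N.mul_mem (S.P.N.mul_mem hn hh.2) (S.P.N.inv_mem hn)
    have hx : u₀⁻¹ * (k * u₀ * k⁻¹) ∈ S.P.B ⊓ S.P.N := by
      have e : u₀⁻¹ * (k * u₀ * k⁻¹) = (n * ((u₀ * n * 1)⁻¹ * k * (u₀ * n * 1)) * n⁻¹) * k⁻¹ := by
        group
      rw [e]
      exact Subgroup.mul_mem _ ⟨hh₁B, hh₁N⟩ (Subgroup.inv_mem _ hk)
    have hxU : u₀⁻¹ * (k * u₀ * k⁻¹) ∈ S.U :=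
      S.U.mul_mem (S.U.inv_mem hu₀) (S.U_norm _ (hHB _ hk) _ hu₀)
    have h1 := eq_one_of_mem_U_of_mem_H S _ hxU hx
    have e : k * u₀ * k⁻¹ = u₀ * (u₀⁻¹ * (k * u₀ * k⁻¹)) := by group
    rw [e, h1, mul_one]
  subst hu01
  simpa using hn

end Cfsg.Agent.Lib.Helper19.F4Out
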