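/-
helper19: project F4OUT (helper91, S2128), module [S-SUZ]:
the Suzuki node.  An automorphism commuting with the torus elements `hd l` acts on a root subgroup of
Suzuki type `{xb t u}` as `(t, u) ↦ (c t, c σ(c) u)`.
-/
import Mathlib

set_option autoImplicit false

namespace Cfsg.Agent.Lib.Helper19.F4Out

variable {Γ : Type*} [Group Γ]

section Suz

variable {K : Type*} [Field K] [Finite K] [CharP K 2]

/-- [S-SUZ] the Suzuki node. -/
theorem suzuki_node (σ : K ≃+* K) (hσ : ∃ t, σ t ≠ t) (hbij : Function.Bijective fun t : K => t * σ t)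
    (xb : K → K → Γ) (hinj : ∀ t u t' u', xb t u = xb t' u' → t = t' ∧ u = u')
    (hmul : ∀ t u t' u', xb t u * xb t' u' = xb (t + t') (u + u' + σ t * t'))
    (hd : Kˣ → Γ)
    (hact : ∀ (l : Kˣ) (t u : K), hd l * xb t u * (hd l)⁻¹ = xb ((l : K)⁻¹ * t) (((l : K) * σ l)⁻¹ * u))
    (θ : Γ ≃* Γ) (hθd : ∀ l, θ (hd l) = hd l) (hθX : ∀ t u, ∃ t' u', θ (xb t u) = xb t' u') :
    ∃ c : Kˣ, ∀ t u, θ (xb t u) = xb ((c : K) * t) ((c : K) * σ c * u) := by
  have h00 : xb 0 0 = 1 := by
    have h := hmul 0 0 0 0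
    simpa using h
  have hsq : ∀ t u, xb t u * xb t u = xb 0 (σ t * t) := by
    intro t u
    rw [hmul, CharTwo.add_self_eq_zero, CharTwo.add_self_eq_zero, zero_add]
  have hθact : ∀ (l : Kˣ) (t u : K),
      hd l * θ (xb t u) * (hd l)⁻¹ = θ (xb ((l : K)⁻¹ * t) (((l : K) * σ l)⁻¹ * u)) := by
    intro l t u
    rw [← hact, map_mul, map_mul, map_inv, hθd]
  -- (1) the centre `{xb 0 u}`
  have h1 : ∀ u, ∃ b, θ (xb 0 u) = xb 0 b := by
    intro u
    obtain ⟨a, b, hab⟩ := hθX 0 u
    have h : θ (xb 0 u * xb 0 u) = xb a b * xb a b := by rw [map_mul, hab]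
    rw [hsq, hsq, map_zero, zero_mul, h00, map_one, ← h00] at h
    have h0 := (hinj _ _ _ _ h).2
    have ha : a = 0 := by
      rcases mul_eq_zero.1 h0.symm with h | h
      · simpa using h
      · exact h
    exact ⟨b, by rw [hab, ha]⟩
  choose φ hφ using h1
  have hφadd : ∀ u u', φ (u + u') = φ u + φ u' := by
    intro u u'
    have e : xb 0 u * xb 0 u' = xb 0 (u + u') := by
      rw [hmul, map_zero, zero_mul, add_zero, add_zero]
    have h := congrArg θ e
    rw [map_mul, hφ, hφ, hφ, hmul, map_zero, zero_mul, add_zero, add_zero] at h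
    exact ((hinj _ _ _ _ h).2).symm
  have hφ0 : φ 0 = 0 := by
    have h := hφadd 0 0
    rw [add_zero] at h
    exact left_eq_add.mp h
  have hφinj : ∀ u u', φ u = φ u' → u = u' := by
    intro u u' h
    have h2 : θ (xb 0 u) = θ (xb 0 u') := by rw [hφ, hφ, h]
    exact (hinj _ _ _ _ (θ.injective h2)).2
  have hφl : ∀ (l : Kˣ) (u : K), φ (((l : K) * σ l)⁻¹ * u) = ((l : K) * σ l)⁻¹ * φ u := by
    intro l u
    have h := hθact l 0 u
    rw [mul_zero, hφ, hφ, hact, mul_zero] at h
    exact ((hinj _ _ _ _ h).2).symm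
  have hφν : ∀ ν u : K, φ (ν * u) = ν * φ u := by
    intro ν u
    by_cases hν : ν = 0
    · rw [hν, zero_mul, zero_mul, hφ0]
    · obtain ⟨l, hl⟩ := hbij.2 ν⁻¹
      have hl' : l * σ l = ν⁻¹ := hl
      have hl0 : l ≠ 0 := by
        rintro rfl
        rw [zero_mul] at hl'
        exact hν (inv_eq_zero.mp hl'.symm)
      have h := hφl (Units.mk0 l hl0) u
      rw [Units.val_mk0, hl', inv_inv] at h
      exact h
  have hφc : ∀ u, φ u = φ 1 * u := by
    intro u
    have h := hφν u 1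
    rw [mul_one] at h
    rw [h, mul_comm]
  have hc'0 : φ 1 ≠ 0 := by
    intro h
    have := hφinj 1 0 (by rw [h, hφ0])
    exact one_ne_zero this
  -- (2) `θ (xb t 0) = xb (f t) (g t)`
  have h2 : ∀ t, ∃ a b, θ (xb t 0) = xb a b := fun t => hθX t 0
  choose f g hfg using h2
  have hN : ∀ t, σ (f t) * f t = φ 1 * (σ t * t) := by
    intro t
    have h := congrArg θ (hsq t 0)
    rw [map_mul, hfg, hsq, hφ, hφc] at h
    exact (hinj _ _ _ _ h).2
  obtain ⟨c, hc⟩ := hbij.2 (φ 1)
  have hc' : c * σ c = φ 1 := hc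
  have hc0 : c ≠ 0 := by
    rintro rfl
    rw [zero_mul] at hc'
    exact hc'0 hc'.symm
  have hf : ∀ t, f t = c * t := by
    intro t
    apply hbij.1
    show f t * σ (f t) = c * t * σ (c * t)
    rw [map_mul, mul_comm (f t), hN, ← hc']
    ring
  -- (3) `g` is additive
  have hgadd : ∀ t t', g (t + t') = g t + g t' := by
    intro t t'
    have e : xb t 0 * xb t' 0 = xb (t + t') 0 * xb 0 (σ t * t') := by
      rw [hmul, hmul]; simp
    have h := congrArg θ e
    rw [map_mul, map_mul, hfg, hfg, hfg, hφ, hmul, hmul, hφc, hf, hf, hf] at h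
    have h3 := (hinj _ _ _ _ h).2
    rw [map_mul, ← hc'] at h3
    linear_combination (-1 : K) * h3
  have hg0 : g 0 = 0 := by
    have h := hgadd 0 0
    rw [add_zero] at h
    exact left_eq_add.mp h
  -- (4) `g` is semilinear, hence zero
  have hgl : ∀ (l : Kˣ) (t : K), g ((l : K)⁻¹ * t) = ((l : K) * σ l)⁻¹ * g t := by
    intro l t
    have h := hθact l t 0
    rw [mul_zero, hfg, hfg, hact] at h
    exact ((hinj _ _ _ _ h).2).symm
  have hgN : ∀ lam : K, g lam = lam * σ lam * g 1 := by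
    intro lam
    by_cases hl : lam = 0
    · rw [hl, hg0, zero_mul, zero_mul]
    · have h := hgl (Units.mk0 lam hl)⁻¹ 1
      rw [Units.val_inv_eq_inv_val, Units.val_mk0, inv_inv, mul_one, map_inv₀, ← mul_inv, inv_inv] at h
      exact h
  have hg1 : g 1 = 0 := by
    obtain ⟨lam, hlam⟩ := hσ
    have h := hgadd lam 1
    rw [hgN (lam + 1), hgN lam, map_add, map_one] at h
    have h3 : (lam + σ lam) * g 1 = 0 := by linear_combination h
    rcases mul_eq_zero.1 h3 with h4 | h4
    · exfalso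
      apply hlam
      have h5 : σ lam = -lam := by linear_combination h4
      rw [h5, CharTwo.neg_eq]
    · exact h4
  have hgz : ∀ t, g t = 0 := by
    intro t
    rw [hgN, hg1, mul_zero]
  -- (5)
  refine ⟨Units.mk0 c hc0, ?_⟩
  intro t u
  have e : xb t u = xb t 0 * xb 0 u := by
    rw [hmul, mul_zero, add_zero, add_zero, zero_add]
  rw [e, map_mul, hfg, hφ, hmul, hf, hgz, hφc, Units.val_mk0, hc', mul_zero, add_zero, add_zero,
    zero_add]

end Suz

end Cfsg.Agent.Lib.Helper19.F4Out
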