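import Cfsg.Agent.Lib.Helper6.BNBruhat
import Cfsg.Agent.Lib.Helper19.FHDefs

/-!
# Hecke matrices of a BN-pair on `ℝ[G ⧸ B]` (definitions)

`heckeMat P g` is the `0/1` matrix of the double coset `B g B` acting on functions on `G ⧸ B`:
its `(xB, yB)` entry is `1` iff `x⁻¹ y ∈ B g B`.  `qIdx P g = |B g B / B|`.
-/

set_option autoImplicit false

namespace Cfsg.Agent.Lib.Helper19.FH

open Matrix Cfsg Cfsg.Agent.Lib.Helper6

variable {G : Type*} [Group G] (P : Cfsg.BNPair G) [Fintype (G ⧸ P.B)] [DecidableEq (G ⧸ P.B)]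

open Classical in
/-- the Hecke matrix of the double coset `B g B` acting on functions on `G ⧸ B` -/
noncomputable def heckeMat (g : G) : Matrix (G ⧸ P.B) (G ⧸ P.B) ℝ :=
  fun x y => if InDC P g (x.out⁻¹ * y.out) then 1 else 0

omit [Fintype (G ⧸ P.B)] [DecidableEq (G ⧸ P.B)] in
/-- `InDC` only depends on the left cosets of the two factors. -/
theorem inDC_out_iff (g x y : G) :
    InDC P g ((QuotientGroup.mk x : G ⧸ P.B).out⁻¹ * (QuotientGroup.mk y : G ⧸ P.B).out) ↔
      InDC P g (x⁻¹ * y) := by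
  have hx : x⁻¹ * (QuotientGroup.mk x : G ⧸ P.B).out ∈ P.B := QuotientGroup.mk_out_eq_mul P.B x |>.choose_spec ▸ by
    simp
  have hy : y⁻¹ * (QuotientGroup.mk y : G ⧸ P.B).out ∈ P.B := QuotientGroup.mk_out_eq_mul P.B y |>.choose_spec ▸ by
    simp
  set x' := (QuotientGroup.mk x : G ⧸ P.B).out
  set y' := (QuotientGroup.mk y : G ⧸ P.B).out
  constructor
  · intro h
    have e : x⁻¹ * y = (x⁻¹ * x') * (x'⁻¹ * y') * (y⁻¹ * y')⁻¹ := by group
    rw [e]
    exact inDC_mul_right P (P.B.inv_mem hy) (inDC_mul_left P hx h)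
  · intro h
    have e : x'⁻¹ * y' = (x⁻¹ * x')⁻¹ * (x⁻¹ * y) * (y⁻¹ * y') := by group
    rw [e]
    exact inDC_mul_right P hy (inDC_mul_left P (P.B.inv_mem hx) h)

omit [Fintype (G ⧸ P.B)] [DecidableEq (G ⧸ P.B)] in
open Classical in
theorem heckeMat_mk (g x y : G) :
    heckeMat P g (QuotientGroup.mk x) (QuotientGroup.mk y) =
      if InDC P g (x⁻¹ * y) then 1 else 0 := by
  unfold heckeMat
  simp only [inDC_out_iff]

/-- the index parameter `q_g = |B g B / B|` -/
noncomputable def qIdx (g : G) : ℕ := Nat.card {y : G ⧸ P.B // InDC P g y.out}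

end Cfsg.Agent.Lib.Helper19.FH
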