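import Cfsg.Agent.S0320
import Cfsg.Agent.Lib.Helper19.FHHeckeDefs
import Cfsg.Agent.Lib.Helper66.FHDihB

/-!
# Feit–Higman (S1142): the Weyl group of a rank 2 BN-pair is dihedral; alternating words
-/

set_option autoImplicit false
set_option linter.unusedSectionVars false
set_option linter.unusedSimpArgs false

namespace Cfsg.Agent.Lib.Helper19.FH

open Cfsg Cfsg.Agent.Lib.Helper6 Cfsg.Agent.Lib.Helper19.Exch Cfsg.Agent.Lib.Helper66.FHDih
  Cfsg.Agent.Lib.Helper66.FHAlg

theorem map_altProd {M M' : Type*} [Monoid M] [Monoid M'] (f : M →* M') (a b : M) (k : ℕ) :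
    f (altProd a b k) = altProd (f a) (f b) k := by
  induction k generalizing a b with
  | zero => simp [altProd]
  | succ k ih => rw [altProd, altProd, map_mul, ih]

section BN

variable {G : Type*} [Group G] (P : Cfsg.BNPair G)

theorem normal_T : ((P.B ⊓ P.N).subgroupOf P.N).Normal := by
  constructor
  intro t ht n
  rw [Subgroup.mem_subgroupOf] at ht ⊢
  have := conj_mem_T P n.2 ht
  simpa using this

/-- the Weyl group -/
abbrev Weyl : Type _ := P.N ⧸ (P.B ⊓ P.N).subgroupOf P.N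

instance : ((P.B ⊓ P.N).subgroupOf P.N).Normal := normal_T P

/-- image of `g ∈ N` in the Weyl group -/
def wmk (g : G) (hg : g ∈ P.N) : Weyl P := QuotientGroup.mk (⟨g, hg⟩ : P.N)

theorem wmk_eq_iff {g g' : G} (hg : g ∈ P.N) (hg' : g' ∈ P.N) :
    wmk P g hg = wmk P g' hg' ↔ Rel P g g' :=
  Cfsg.Agent.S0320.mk_eq_iff_rel P hg hg'

theorem wmk_eq_one_iff {g : G} (hg : g ∈ P.N) : wmk P g hg = 1 ↔ g ∈ P.B := by
  unfold wmk
  rw [QuotientGroup.eq_one_iff, Subgroup.mem_subgroupOf]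
  exact ⟨fun h => h.1, fun h => ⟨h, hg⟩⟩

theorem altProd_mem_N {s t : G} (hs : s ∈ P.N) (ht : t ∈ P.N) (k : ℕ) : altProd s t k ∈ P.N := by
  induction k generalizing s t with
  | zero => exact P.N.one_mem
  | succ k ih => exact P.N.mul_mem hs (ih ht hs)

theorem wmk_altProd {s t : G} (hs : s ∈ P.N) (ht : t ∈ P.N) (k : ℕ) :
    wmk P (altProd s t k) (altProd_mem_N P hs ht k) = altProd (wmk P s hs) (wmk P t ht) k := by
  have h1 := map_altProd (QuotientGroup.mk' ((P.B ⊓ P.N).subgroupOf P.N))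
    (⟨s, hs⟩ : P.N) ⟨t, ht⟩ k
  have h2 := map_altProd P.N.subtype (⟨s, hs⟩ : P.N) ⟨t, ht⟩ k
  simp only [Subgroup.coe_subtype] at h2
  unfold wmk
  rw [← QuotientGroup.mk'_apply, ← QuotientGroup.mk'_apply, ← QuotientGroup.mk'_apply, ← h1]
  congr 1
  exact Subtype.ext h2.symm

end BN

end Cfsg.Agent.Lib.Helper19.FH
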