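import Cfsg.Agent.Lib.Helper19.FHBN1

/-!
# Feit–Higman (S1142): rank 2 — the dihedral Weyl group, lengths of alternating words
-/

set_option autoImplicit false
set_option linter.unusedSectionVars false
set_option linter.unusedSimpArgs false

namespace Cfsg.Agent.Lib.Helper19.FH

open Cfsg Cfsg.Agent.Lib.Helper6 Cfsg.Agent.Lib.Helper19.Exch Cfsg.Agent.Lib.Helper66.FHDih
  Cfsg.Agent.Lib.Helper66.FHAlg

variable {G : Type*} [Group G] (P : Cfsg.BNPair G)

/-- `S = {s, t}` with `s ≠ t` -/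
structure Rank2 (s t : G) : Prop where
  hs : s ∈ P.S
  ht : t ∈ P.S
  hne : s ≠ t
  hS : ∀ r ∈ P.S, r = s ∨ r = t

theorem exists_rank2 (h2 : P.rank = 2) : ∃ s t : G, Rank2 P s t := by
  unfold BNPair.rank at h2
  obtain ⟨x, y, hxy, huniv⟩ := Nat.card_eq_two_iff.1 h2
  refine ⟨x.1, y.1, x.2, y.2, fun h => hxy (Subtype.ext h), ?_⟩
  intro r hr
  have : (⟨r, hr⟩ : P.S) ∈ ({x, y} : Set P.S) := by rw [huniv]; exact Set.mem_univ _
  rcases this with h | h
  · left; exact congrArg Subtype.val h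
  · right; exact congrArg Subtype.val h

theorem prod_alt (a b : G) (k : ℕ) : (alt a b k).prod = altProd a b k := by
  induction k generalizing a b with
  | zero => rfl
  | succ k ih => rw [alt, List.prod_cons, ih, altProd]

namespace Rank2

variable {P} {s t : G} (h : Rank2 P s t)
include h

theorem symm : Rank2 P t s := ⟨h.ht, h.hs, h.hne.symm, fun r hr => (h.hS r hr).symm⟩

theorem sN : s ∈ P.N := P.subset h.hs
theorem tN : t ∈ P.N := P.subset h.ht

/-- the two generators of the Weyl group -/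
def x (h : Rank2 P s t) : Weyl P := wmk P s h.sN
def y (h : Rank2 P s t) : Weyl P := wmk P t h.tN

theorem x_sq : h.x * h.x = 1 := (Cfsg.Agent.S0320.exchSys P).sq ⟨s, h.hs⟩
theorem y_sq : h.y * h.y = 1 := (Cfsg.Agent.S0320.exchSys P).sq ⟨t, h.ht⟩

theorem x_ne_one : h.x ≠ 1 := fun h1 => S_not_mem_B P h.hs ((wmk_eq_one_iff P h.sN).1 h1)
theorem y_ne_one : h.y ≠ 1 := fun h1 => S_not_mem_B P h.ht ((wmk_eq_one_iff P h.tN).1 h1)

theorem x_ne_y : h.x ≠ h.y := fun h1 => by
  have := (Cfsg.Agent.S0320.exchSys P).inj (a₁ := ⟨s, h.hs⟩) (a₂ := ⟨t, h.ht⟩) h1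
  exact h.hne (congrArg Subtype.val this)

theorem wgen_eq (b : P.S) : Cfsg.Agent.S0320.wgen P b = h.x ∨ Cfsg.Agent.S0320.wgen P b = h.y := by
  rcases h.hS b.1 b.2 with hb | hb
  · left
    have : b = ⟨s, h.hs⟩ := Subtype.ext hb
    rw [this]; rfl
  · right
    have : b = ⟨t, h.ht⟩ := Subtype.ext hb
    rw [this]; rfl

theorem closure_xy : Subgroup.closure ({h.x, h.y} : Set (Weyl P)) = ⊤ := by
  rw [eq_top_iff, ← Cfsg.Agent.S0320.wgen_closure P]
  apply Subgroup.closure_mono
  rintro _ ⟨b, rfl⟩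
  rcases h.wgen_eq b with hb | hb
  · rw [hb]; exact Set.mem_insert _ _
  · rw [hb]; exact Set.mem_insert_of_mem _ rfl

/-- the Coxeter number -/
noncomputable def n (h : Rank2 P s t) : ℕ := orderOf (h.x * h.y)

theorem n_symm : h.symm.n = h.n := by
  unfold n
  exact orderOf_swap h.x h.y

/-- the alternating list `s, t, s, …` of length `k` -/
theorem isWord_alt (k : ℕ) : IsWord P.S (alt s t k) := by
  induction k generalizing s t with
  | zero => intro g hg; simp [alt] at hg
  | succ k ih =>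
    intro g hg
    simp only [alt, List.mem_cons] at hg
    rcases hg with rfl | hg
    · exact h.hs
    · exact ih h.symm g hg

theorem len_le (k : ℕ) : len P (altProd s t k) ≤ k := by
  have := len_le_of_rep P (rep_prod P (h.isWord_alt k))
  rwa [prod_alt, alt_length] at this

variable [Finite G]

theorem len_eq (k : ℕ) (hk : k ≤ h.n) : len P (altProd s t k) = k := by
  apply le_antisymm (h.len_le k)
  have hgN := altProd_mem_N P h.sN h.tN k
  obtain ⟨l, hrep, hlen⟩ := exists_rep_len P hgN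
  obtain ⟨ω, rfl⟩ := Cfsg.Agent.S0320.exists_lift P hrep.1
  have h1 : wprod (Cfsg.Agent.S0320.wgen P) ω = altProd h.x h.y k := by
    rw [Cfsg.Agent.S0320.wprod_wgen]
    exact ((wmk_eq_iff P _ hgN).2 hrep.2).trans (wmk_altProd P h.sN h.tN k)
  have h2 := dihedral_reduced h.x h.y h.x_sq h.y_sq h.x_ne_one h.y_ne_one h.x_ne_y k hk
    (ω.map (Cfsg.Agent.S0320.wgen P)) (by
      intro g hg
      obtain ⟨b, _, rfl⟩ := List.mem_map.1 hg
      exact h.wgen_eq b) h1
  rw [← hlen]
  simpa [Cfsg.Agent.S0320.uw] using h2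

/-- `s` is good for the alternating word `t s t …` of length `k < n` -/
theorem good (k : ℕ) (hk : k + 1 ≤ h.n) : Good P s (altProd t s k) := by
  apply good_of_len_le' P (altProd_mem_N P h.tN h.sN k) h.hs
  have h1 : s * altProd t s k = altProd s t (k + 1) := rfl
  rw [h1, h.len_eq (k + 1) hk, h.symm.len_eq k (by rw [h.n_symm]; omega)]
  omega

theorem two_le_n : 2 ≤ h.n :=
  (dihedral_card h.x h.y h.x_sq h.y_sq h.x_ne_one h.y_ne_one h.x_ne_y h.closure_xy).2

theorem card_weyl : Nat.card (Weyl P) = 2 * h.n :=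
  (dihedral_card h.x h.y h.x_sq h.y_sq h.x_ne_one h.y_ne_one h.x_ne_y h.closure_xy).1

/-- the braid relation modulo `T` -/
theorem rel_braid : Rel P (altProd s t h.n) (altProd t s h.n) := by
  rw [← wmk_eq_iff P (altProd_mem_N P h.sN h.tN _) (altProd_mem_N P h.tN h.sN _),
    wmk_altProd, wmk_altProd]
  exact dihedral_braid h.x h.y h.x_sq h.y_sq

/-- `(s t)^k ∉ B` for `1 ≤ k`, `2 k ≤ n` -/
theorem altProd_not_mem_B (k : ℕ) (hk1 : 1 ≤ k) (hk : 2 * k ≤ h.n) : altProd s t (2 * k) ∉ P.B := by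
  intro hB
  have h1 := (wmk_eq_one_iff P (altProd_mem_N P h.sN h.tN (2 * k))).2 hB
  rw [wmk_altProd P h.sN h.tN, altProd_two_mul] at h1
  have h2 : 2 ≤ h.n := h.two_le_n
  have h3 : k < orderOf (h.x * h.y) := by
    have := hk
    unfold n at this h2
    omega
  exact pow_ne_one_of_lt_orderOf (by omega) h3 h1

end Rank2

end Cfsg.Agent.Lib.Helper19.FH
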