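import Cfsg.Agent.Lib.Helper19.FHBN2
import Cfsg.Agent.Lib.Helper61.FHHeckeA
import Cfsg.Agent.Lib.Helper73.FHHeckeB
import Cfsg.Agent.Lib.Helper1.FHHeckeD
import Cfsg.Agent.Lib.Helper53.FHHeckeE

/-!
# Feit–Higman (S1142): the Hecke data of a finite rank 2 BN-pair
-/

set_option autoImplicit false
set_option linter.unusedSectionVars false
set_option linter.unusedSimpArgs false

namespace Cfsg.Agent.Lib.Helper19.FH

open Matrix Cfsg Cfsg.Agent.Lib.Helper6 Cfsg.Agent.Lib.Helper19.Exch Cfsg.Agent.Lib.Helper66.FHDih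
  Cfsg.Agent.Lib.Helper66.FHAlg Cfsg.Agent.Lib.Helper61.FHHeckeA Cfsg.Agent.Lib.Helper73.FHHecke
  Cfsg.Agent.Lib.Helper1.FHHeckeD

variable {G : Type*} [Group G] {P : Cfsg.BNPair G} [Fintype (G ⧸ P.B)] [DecidableEq (G ⧸ P.B)]

theorem qIdx_congr {g g' : G} (hgg : heckeMat P g = heckeMat P g') : qIdx P g = qIdx P g' := by
  have e1 := heckeMat_mulVec_one P g
  have e2 := heckeMat_mulVec_one P g'
  rw [hgg, e2] at e1
  have := congrFun e1 (QuotientGroup.mk 1)
  exact_mod_cast this.symm

namespace Rank2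

variable [Finite G] {s t : G} (h : Rank2 P s t)
include h

/-- Hecke matrices of alternating words -/
theorem heckeMat_altProd (k : ℕ) (hk : k ≤ h.n) :
    altProd (heckeMat P s) (heckeMat P t) k = heckeMat P (altProd s t k) := by
  induction k generalizing s t with
  | zero => exact (heckeMat_one P).symm
  | succ k ih =>
    rw [altProd, ih h.symm (by rw [h.n_symm]; omega)]
    exact heckeMat_mul_of_good P h.hs (altProd_mem_N P h.tN h.sN k) (h.good k hk)

theorem hecke_braid :
    altProd (heckeMat P s) (heckeMat P t) h.n = altProd (heckeMat P t) (heckeMat P s) h.n := by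
  rw [h.heckeMat_altProd h.n le_rfl, h.symm.heckeMat_altProd h.n (by rw [h.n_symm])]
  exact heckeMat_congr P (rel_inDC P h.rel_braid)

theorem hecke_tr_ab (k : ℕ) (hk1 : 1 ≤ k) (hk : 2 * k ≤ h.n) :
    ((heckeMat P s * heckeMat P t) ^ k).trace = 0 := by
  rw [← altProd_two_mul, h.heckeMat_altProd (2 * k) hk]
  exact heckeMat_trace P (h.altProd_not_mem_B k hk1 hk)

theorem qIdx_altProd (k : ℕ) (hk : k ≤ h.n) :
    qIdx P (altProd s t k) = qq (qIdx P s) (qIdx P t) k := by
  induction k generalizing s t with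
  | zero => simp [altProd, qq, qIdx_one]
  | succ k ih =>
    have hmul : heckeMat P s * heckeMat P (altProd t s k) = heckeMat P (s * altProd t s k) :=
      heckeMat_mul_of_good P h.hs (altProd_mem_N P h.tN h.sN k) (h.good k hk)
    have h1 := qIdx_mul P hmul
    show qIdx P (s * altProd t s k) = _
    rw [h1, ih h.symm (by rw [h.n_symm]; omega)]
    unfold qq
    have e1 : (k + 1 + 1) / 2 = k / 2 + 1 := by omega
    rw [e1, pow_succ]; ring

theorem u_eq_v_of_odd (ho : Odd h.n) : qIdx P s = qIdx P t := by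
  obtain ⟨m, hm⟩ := ho
  have h1 : qIdx P (altProd s t h.n) = qIdx P (altProd t s h.n) :=
    qIdx_congr (heckeMat_congr P (rel_inDC P h.rel_braid))
  rw [h.qIdx_altProd h.n le_rfl, h.symm.qIdx_altProd h.n (by rw [h.n_symm]), hm] at h1
  unfold qq at h1
  have e1 : (2 * m + 1 + 1) / 2 = m + 1 := by omega
  have e2 : (2 * m + 1) / 2 = m := by omega
  rw [e1, e2] at h1
  have hu : 2 ≤ qIdx P s := two_le_qIdx P h.hs
  have hv : 2 ≤ qIdx P t := two_le_qIdx P h.ht
  have hpos : 0 < qIdx P s ^ m * qIdx P t ^ m := by positivity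
  apply Nat.eq_of_mul_eq_mul_right hpos
  rw [pow_succ, pow_succ] at h1
  nlinarith [h1]

/-! ### injectivity of the alternating words modulo `T` -/

theorem rel_altProd_iff (k l : ℕ) :
    Rel P (altProd s t k) (altProd s t l) ↔ altProd h.x h.y k = altProd h.x h.y l := by
  rw [← wmk_eq_iff P (altProd_mem_N P h.sN h.tN _) (altProd_mem_N P h.sN h.tN _),
    wmk_altProd, wmk_altProd]
  rfl

theorem rel_altProd_swap_iff (k l : ℕ) :
    Rel P (altProd s t k) (altProd t s l) ↔ altProd h.x h.y k = altProd h.y h.x l := by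
  rw [← wmk_eq_iff P (altProd_mem_N P h.sN h.tN _) (altProd_mem_N P h.tN h.sN _),
    wmk_altProd, wmk_altProd]
  rfl

theorem inj1 {k l : ℕ} (hk : k < h.n) (hl : l < h.n)
    (hr : Rel P (altProd s t k) (altProd s t l)) : k = l :=
  (dihedral_inj h.x h.y h.x_sq h.y_sq h.x_ne_one h.y_ne_one h.x_ne_y).1 k l hk hl
    ((h.rel_altProd_iff k l).1 hr)

theorem inj2 {k l : ℕ} (hk : k < h.n) (hl : l < h.n)
    (hr : Rel P (altProd t s (k + 1)) (altProd t s (l + 1))) : k = l := by
  have h1 := (h.symm.rel_altProd_iff (k + 1) (l + 1)).1 hr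
  have h2 := (dihedral_inj h.x h.y h.x_sq h.y_sq h.x_ne_one h.y_ne_one h.x_ne_y).2.1 (k + 1) (l + 1)
    (by omega) (by unfold n at hk; omega) (by omega) (by unfold n at hl; omega) h1
  omega

theorem not_rel {k l : ℕ} (hk : k < h.n) (hl : l < h.n) :
    ¬ Rel P (altProd s t k) (altProd t s (l + 1)) := fun hr =>
  (dihedral_inj h.x h.y h.x_sq h.y_sq h.x_ne_one h.y_ne_one h.x_ne_y).2.2 k (l + 1) hk (by omega)
    (by unfold n at hl; omega) ((h.rel_altProd_swap_iff k (l + 1)).1 hr)

theorem hecke_card : Fintype.card (G ⧸ P.B) =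
    ∑ k ∈ Finset.range h.n, qq (qIdx P s) (qIdx P t) k +
      ∑ k ∈ Finset.range h.n, qq (qIdx P t) (qIdx P s) (k + 1) := by
  classical
  set R1 : Finset G := (Finset.range h.n).image (fun k => altProd s t k) with hR1
  set R2 : Finset G := (Finset.range h.n).image (fun k => altProd t s (k + 1)) with hR2
  have hsum := Cfsg.Agent.Lib.Helper53.FH.heckeMat_sum P (R1 ∪ R2) ?_ ?_ ?_
  · -- evaluate the row sums
    have e1 := congrArg (fun M : Matrix (G ⧸ P.B) (G ⧸ P.B) ℝ =>
      M.mulVec (fun _ => (1 : ℝ)) (QuotientGroup.mk 1)) hsum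
    simp only [Matrix.sum_mulVec, Finset.sum_apply, heckeMat_mulVec_one] at e1
    have e2 : (Matrix.of (fun _ _ => (1 : ℝ)) : Matrix (G ⧸ P.B) (G ⧸ P.B) ℝ).mulVec
        (fun _ => (1 : ℝ)) (QuotientGroup.mk 1) = (Fintype.card (G ⧸ P.B) : ℝ) := by
      simp [Matrix.mulVec, dotProduct]
    rw [e2] at e1
    have hdisj : Disjoint R1 R2 := by
      rw [Finset.disjoint_left]
      intro w hw1 hw2
      obtain ⟨k, hk, rfl⟩ := Finset.mem_image.1 hw1
      obtain ⟨l, hl, hl'⟩ := Finset.mem_image.1 hw2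
      apply h.not_rel (Finset.mem_range.1 hk) (Finset.mem_range.1 hl)
      rw [hl']
      exact rel_refl P _
    rw [Finset.sum_union hdisj, Finset.sum_image, Finset.sum_image] at e1
    · have e3 : ∀ k ∈ Finset.range h.n,
          ((qIdx P (altProd s t k) : ℕ) : ℝ) = ((qq (qIdx P s) (qIdx P t) k : ℕ) : ℝ) := by
        intro k hk
        rw [h.qIdx_altProd k (Finset.mem_range.1 hk).le]
      have e4 : ∀ k ∈ Finset.range h.n,
          ((qIdx P (altProd t s (k + 1)) : ℕ) : ℝ) =
            ((qq (qIdx P t) (qIdx P s) (k + 1) : ℕ) : ℝ) := by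
        intro k hk
        rw [h.symm.qIdx_altProd (k + 1) (by rw [h.n_symm]; have := Finset.mem_range.1 hk; omega)]
      rw [Finset.sum_congr rfl e3, Finset.sum_congr rfl e4] at e1
      exact_mod_cast e1.symm
    · intro k hk l hl hkl
      simp only [Finset.coe_range, Set.mem_Iio] at hk hl
      apply h.inj2 hk hl
      simp only at hkl
      rw [hkl]
      exact rel_refl P _
    · intro k hk l hl hkl
      simp only [Finset.coe_range, Set.mem_Iio] at hk hl
      apply h.inj1 hk hl
      simp only at hkl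
      rw [hkl]
      exact rel_refl P _
  · -- members lie in `N`
    intro w hw
    rcases Finset.mem_union.1 hw with hw | hw
    · obtain ⟨k, _, rfl⟩ := Finset.mem_image.1 hw
      exact altProd_mem_N P h.sN h.tN k
    · obtain ⟨k, _, rfl⟩ := Finset.mem_image.1 hw
      exact altProd_mem_N P h.tN h.sN (k + 1)
  · -- every element of `N` is represented
    intro g hg
    rcases dihedral_exists h.x h.y h.x_sq h.y_sq h.closure_xy (wmk P g hg) with
      ⟨k, hk, hgk⟩ | ⟨k, hk1, hk, hgk⟩
    · refine ⟨altProd s t k, Finset.mem_union_left _ (Finset.mem_image.2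
        ⟨k, Finset.mem_range.2 hk, rfl⟩), ?_⟩
      rw [← wmk_eq_iff P (altProd_mem_N P h.sN h.tN k) hg, wmk_altProd, hgk]
      rfl
    · refine ⟨altProd t s k, Finset.mem_union_right _ (Finset.mem_image.2
        ⟨k - 1, Finset.mem_range.2 (by unfold n; omega), by
          show altProd t s (k - 1 + 1) = altProd t s k
          congr 1; omega⟩), ?_⟩
      rw [← wmk_eq_iff P (altProd_mem_N P h.tN h.sN k) hg, wmk_altProd, hgk]
      rfl
  · -- representatives are pairwise inequivalent
    intro w hw w' hw' hr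
    rcases Finset.mem_union.1 hw with hw | hw <;> rcases Finset.mem_union.1 hw' with hw' | hw'
    · obtain ⟨k, hk, rfl⟩ := Finset.mem_image.1 hw
      obtain ⟨l, hl, rfl⟩ := Finset.mem_image.1 hw'
      rw [h.inj1 (Finset.mem_range.1 hk) (Finset.mem_range.1 hl) hr]
    · obtain ⟨k, hk, rfl⟩ := Finset.mem_image.1 hw
      obtain ⟨l, hl, rfl⟩ := Finset.mem_image.1 hw'
      exact absurd hr (h.not_rel (Finset.mem_range.1 hk) (Finset.mem_range.1 hl))
    · obtain ⟨k, hk, rfl⟩ := Finset.mem_image.1 hw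
      obtain ⟨l, hl, rfl⟩ := Finset.mem_image.1 hw'
      exact absurd (rel_symm P hr) (h.not_rel (Finset.mem_range.1 hl) (Finset.mem_range.1 hk))
    · obtain ⟨k, hk, rfl⟩ := Finset.mem_image.1 hw
      obtain ⟨l, hl, rfl⟩ := Finset.mem_image.1 hw'
      rw [h.inj2 (Finset.mem_range.1 hk) (Finset.mem_range.1 hl) hr]

theorem heckeData :
    HeckeData h.n (qIdx P s) (qIdx P t) (heckeMat P s) (heckeMat P t) where
  a_symm := heckeMat_isSymm P h.hs
  b_symm := heckeMat_isSymm P h.ht
  a_sq := heckeMat_sq P h.hs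
  b_sq := heckeMat_sq P h.ht
  braid := h.hecke_braid
  tr_ab := h.hecke_tr_ab
  tr_a := heckeMat_trace P (S_not_mem_B P h.hs)
  tr_b := heckeMat_trace P (S_not_mem_B P h.ht)
  a_one := heckeMat_mulVec_one P s
  b_one := heckeMat_mulVec_one P t
  const := fun f ha hb => heckeMat_const P f (fun r hr => by
    rcases h.hS r hr with rfl | rfl
    · exact ha
    · exact hb)
  card := h.hecke_card

end Rank2

end Cfsg.Agent.Lib.Helper19.FH
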