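import Cfsg.Agent.Lib.Helper19.FHSpectral
import Cfsg.Agent.Lib.Helper1.FHArith
import Cfsg.Agent.Lib.Helper25.FHDftOdd
import Cfsg.Agent.Lib.Helper48.FHDftEven

/-!
# Feit–Higman (S1142): the linear-algebra core

`core`: Hecke data with parameters `n, u, v` force `n ∈ {2, 3, 4, 6, 8}`.
-/

set_option autoImplicit false

namespace Cfsg.Agent.Lib.Helper19.FH

open Matrix Real

theorem core {ι : Type*} [Fintype ι] [DecidableEq ι] {n u v : ℕ} {a b : Matrix ι ι ℝ}
    (hn : 2 ≤ n) (hu : 2 ≤ u) (hv : 2 ≤ v) (hodd : Odd n → u = v) (h : HeckeData n u v a b) :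
    n = 2 ∨ n = 3 ∨ n = 4 ∨ n = 6 ∨ n = 8 := by
  obtain ⟨c00, c10, c01, mult, hE, hTa, hTb, hc⟩ := spectral (by omega) hu hv h
  set N₀ := Fintype.card ι with hN₀def
  have hNform := h.card
  have hN₀pos : 0 < N₀ := by
    rw [hN₀def, hNform]
    have : 0 < qq u v 0 := by simp [qq]
    have h1 : qq u v 0 ≤ ∑ k ∈ Finset.range n, qq u v k :=
      Finset.single_le_sum (f := fun k => qq u v k) (fun _ _ => Nat.zero_le _)
        (Finset.mem_range.mpr (by omega))
    omega
  have hE' : ∀ k : ℕ, 2 * k ≤ n → ((u : ℝ) * v) ^ k + c00 + c10 * (-(u : ℝ)) ^ k + c01 * (-(v : ℝ)) ^ k +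
        ∑ j ∈ angles n, (mult j : ℝ) * (2 * (Real.sqrt ((u : ℝ) * v)) ^ k *
          Real.cos (2 * π * j * k / (n : ℝ))) = if k = 0 then (N₀ : ℝ) else 0 := by
    intro k hk
    rw [← hE k]
    by_cases hk0 : k = 0
    · subst hk0
      simp [hN₀def]
    · rw [if_neg hk0]
      exact h.tr_ab k (by omega) hk
  apply Cfsg.Agent.Lib.Helper1.FHArith.fh_arith n u v hn hu hv hodd N₀ hN₀pos mult
  rcases Nat.even_or_odd n with he | ho
  · obtain ⟨m, hm⟩ := he
    have hm2 : n = 2 * m := by omega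
    subst hm2
    refine Cfsg.Agent.Lib.Helper48.mult_formula_even m u v (by omega) hu hv N₀ hNform c00 c10 c01 mult ?_ ?_ ?_
    · intro k hk
      exact hE' k (by omega)
    · rw [← hTa, h.tr_a]
    · rw [← hTb, h.tr_b]
  · obtain ⟨hh, hh2⟩ := ho
    have huv := hodd ⟨hh, hh2⟩
    subst huv
    subst hh2
    obtain ⟨h10, h01⟩ := hc ⟨hh, rfl⟩
    subst h10 h01
    refine Cfsg.Agent.Lib.Helper25.FH.mult_formula_odd hh u (by omega) hu N₀ hNform c00 mult ?_ ?_
    · intro k hk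
      have := hE' k (by omega)
      simpa using this
    · have := hTa
      rw [h.tr_a] at this
      simpa using this

end Cfsg.Agent.Lib.Helper19.FH
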