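import Cfsg.Agent.Lib.Helper19.FHDefs

/-!
# Feit–Higman (S1142): abstract "two projections" algebra

`P, Q` idempotents of a ring with a (compressed) unit `e`, `D = P - Q`, `D * D = κ • e`.
-/

set_option autoImplicit false
set_option linter.unusedSectionVars false
set_option linter.unusedSimpArgs false

namespace Cfsg.Agent.Lib.Helper19.FH

section Ring
variable {R : Type*} [Ring R] [Algebra ℝ R]

/-- two idempotents `P, Q` living under an idempotent `e` -/
structure CProj (P Q e : R) : Prop where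
  PP : P * P = P
  QQ : Q * Q = Q
  ee : e * e = e
  eP : e * P = P
  Pe : P * e = P
  eQ : e * Q = Q
  Qe : Q * e = Q

namespace CProj
variable {P Q e : R} (h : CProj P Q e)
include h

theorem PP' (x : R) : P * (P * x) = P * x := by rw [← mul_assoc, h.PP]
theorem QQ' (x : R) : Q * (Q * x) = Q * x := by rw [← mul_assoc, h.QQ]
theorem ee' (x : R) : e * (e * x) = e * x := by rw [← mul_assoc, h.ee]
theorem eP' (x : R) : e * (P * x) = P * x := by rw [← mul_assoc, h.eP]
theorem Pe' (x : R) : P * (e * x) = P * x := by rw [← mul_assoc, h.Pe]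
theorem eQ' (x : R) : e * (Q * x) = Q * x := by rw [← mul_assoc, h.eQ]
theorem Qe' (x : R) : Q * (e * x) = Q * x := by rw [← mul_assoc, h.Qe]

/-- `C D + D C = 0` for `C = P + Q - e`, `D = P - Q` -/
theorem anticomm : (P + Q - e) * (P - Q) + (P - Q) * (P + Q - e) = 0 := by
  simp only [sub_mul, mul_sub, add_mul, mul_add, h.PP, h.QQ, h.eP, h.Pe, h.eQ, h.Qe]
  abel

/-- `C² + D² = e` -/
theorem sq_add_sq : (P + Q - e) * (P + Q - e) + (P - Q) * (P - Q) = e := by
  simp only [sub_mul, mul_sub, add_mul, mul_add, h.PP, h.QQ, h.eP, h.Pe, h.eQ, h.Qe, h.ee]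
  abel

/-- in the commuting case `D²` is idempotent, so `κ ∈ {0, 1}` -/
theorem kappa_of_comm (hc : Q * P = P * Q) (he : e ≠ 0) {κ : ℝ}
    (hD : (P - Q) * (P - Q) = κ • e) : κ = 0 ∨ κ = 1 := by
  have hc' : ∀ x : R, Q * (P * x) = P * (Q * x) := fun x => by rw [← mul_assoc, hc, mul_assoc]
  have hF : ((P - Q) * (P - Q)) * ((P - Q) * (P - Q)) = (P - Q) * (P - Q) := by
    simp only [sub_mul, mul_sub, mul_assoc, h.PP, h.QQ, hc, hc', h.PP', h.QQ']
    abel
  rw [hD] at hF
  rw [smul_mul_smul_comm, h.ee] at hF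
  have h2 : (κ * κ - κ) • e = 0 := by rw [sub_smul, hF, sub_self]
  rcases smul_eq_zero.1 h2 with h3 | h3
  · have : κ * (κ - 1) = 0 := by linarith
    rcases mul_eq_zero.1 this with h4 | h4
    · left; exact h4
    · right; linarith
  · exact absurd h3 he

/-- in the commuting case with `κ = 1`: `P Q = 0` and `P + Q = e` -/
theorem orth_of_comm_one (hc : Q * P = P * Q) (hD : (P - Q) * (P - Q) = e) :
    P * Q = 0 ∧ Q * P = 0 ∧ P + Q = e := by
  have hc' : ∀ x : R, Q * (P * x) = P * (Q * x) := fun x => by rw [← mul_assoc, hc, mul_assoc]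
  have h1 : P * Q * ((P - Q) * (P - Q)) = 0 := by
    simp only [sub_mul, mul_sub, mul_assoc, h.PP, h.QQ, hc, hc', h.PP', h.QQ']
    abel
  rw [hD, mul_assoc, h.Qe] at h1
  refine ⟨h1, by rw [hc, h1], ?_⟩
  have h2 : (P - Q) * (P - Q) = P + Q - P * Q - Q * P := by
    simp only [sub_mul, mul_sub, h.PP, h.QQ]
    abel
  rw [hD, hc, h1] at h2
  rw [h2]; abel

/-- traces in the generic case `κ ≠ 0, 1` -/
theorem trace_generic (τ : R →ₗ[ℝ] ℝ) (hτ : ∀ x y, τ (x * y) = τ (y * x)) {κ : ℝ}
    (hD : (P - Q) * (P - Q) = κ • e) (h0 : κ ≠ 0) (h1 : κ ≠ 1) :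
    τ Q = τ P ∧ τ e = 2 * τ P ∧ τ (P * Q) = (1 - κ) * τ P := by
  have hC : (P + Q - e) * (P + Q - e) = (1 - κ) • e := by
    have := h.sq_add_sq
    rw [hD] at this
    rw [sub_smul, one_smul]
    exact eq_sub_of_add_eq this
  have hanti : (P + Q - e) * (P - Q) = -((P - Q) * (P + Q - e)) :=
    eq_neg_of_add_eq_zero_left h.anticomm
  -- τ(C D D) = 0
  have hCe : (P + Q - e) * e = P + Q - e := by
    simp only [sub_mul, add_mul, h.Pe, h.Qe, h.ee]
  have hDe : (P - Q) * e = P - Q := by
    simp only [sub_mul, h.Pe, h.Qe]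
  have e1 : τ ((P + Q - e) * ((P - Q) * (P - Q))) = κ * τ (P + Q - e) := by
    rw [hD, mul_smul_comm, hCe, map_smul, smul_eq_mul]
  have e2 : τ ((P + Q - e) * ((P - Q) * (P - Q))) = -τ ((P + Q - e) * ((P - Q) * (P - Q))) := by
    conv_lhs => rw [← mul_assoc, hanti, neg_mul, map_neg, mul_assoc, hτ]
    rw [mul_assoc]
  have hCtr : τ (P + Q - e) = 0 := by
    have : κ * τ (P + Q - e) = 0 := by linarith
    rcases mul_eq_zero.1 this with h | h
    · exact absurd h h0
    · exact h
  have e3 : τ ((P - Q) * ((P + Q - e) * (P + Q - e))) = (1 - κ) * τ (P - Q) := by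
    rw [hC, mul_smul_comm, hDe, map_smul, smul_eq_mul]
  have hanti' : (P - Q) * (P + Q - e) = -((P + Q - e) * (P - Q)) := by
    rw [hanti, neg_neg]
  have e4 : τ ((P - Q) * ((P + Q - e) * (P + Q - e))) =
      -τ ((P - Q) * ((P + Q - e) * (P + Q - e))) := by
    conv_lhs => rw [← mul_assoc, hanti', neg_mul, map_neg, mul_assoc, hτ]
    rw [mul_assoc]
  have hDtr : τ (P - Q) = 0 := by
    have : (1 - κ) * τ (P - Q) = 0 := by linarith
    rcases mul_eq_zero.1 this with h | h
    · exact absurd (by linarith : κ = 1) h1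
    · exact h
  rw [map_sub] at hDtr
  rw [map_sub, map_add] at hCtr
  have hPQ : τ Q = τ P := by linarith
  have he : τ e = 2 * τ P := by linarith
  refine ⟨hPQ, he, ?_⟩
  have h2 : (P - Q) * (P - Q) = P + Q - P * Q - Q * P := by
    simp only [sub_mul, mul_sub, h.PP, h.QQ]
    abel
  have h3 := congrArg τ h2
  rw [hD, map_smul, smul_eq_mul, map_sub, map_sub, map_add, hτ Q P] at h3
  rw [he, hPQ] at h3
  linarith

end CProj

/-- eigenvector powers -/
theorem pow_mul_eigen (M x : R) (μ : ℝ) (hM : M * x = μ • x) (k : ℕ) : M ^ k * x = μ ^ k • x := by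
  induction k with
  | zero => simp
  | succ k ih => rw [pow_succ, mul_assoc, hM, mul_smul_comm, ih, smul_smul, pow_succ, mul_comm]

/-- alternating products on a joint eigenvector -/
theorem altProd_mul_eigen (a b x : R) (α β : ℝ) (ha : a * x = α • x) (hb : b * x = β • x)
    (k : ℕ) :
    altProd a b k * x = (α ^ ((k + 1) / 2) * β ^ (k / 2)) • x ∧
    altProd b a k * x = (β ^ ((k + 1) / 2) * α ^ (k / 2)) • x := by
  induction k with
  | zero => simp [altProd]
  | succ k ih =>
    have e1 : (k + 1 + 1) / 2 = k / 2 + 1 := by omega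
    constructor
    · rw [altProd, mul_assoc, ih.2, mul_smul_comm, ha, smul_smul, e1, pow_succ]
      congr 1; ring
    · rw [altProd, mul_assoc, ih.1, mul_smul_comm, hb, smul_smul, e1, pow_succ]
      congr 1; ring

/-- alternating products commute with whatever commutes with both letters -/
theorem altProd_comm (a b e : R) (ha : a * e = e * a) (hb : b * e = e * b) (k : ℕ) :
    altProd a b k * e = e * altProd a b k ∧ altProd b a k * e = e * altProd b a k := by
  induction k with
  | zero => simp [altProd]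
  | succ k ih =>
    constructor
    · rw [altProd, mul_assoc, ih.2, ← mul_assoc, ha, mul_assoc]
    · rw [altProd, mul_assoc, ih.1, ← mul_assoc, hb, mul_assoc]

theorem pow_comm_of_comm (M e : R) (hM : M * e = e * M) (k : ℕ) : M ^ k * e = e * M ^ k := by
  have : Commute M e := hM
  exact (this.pow_left k)

end Ring

end Cfsg.Agent.Lib.Helper19.FH
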