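import Cfsg.Agent.Lib.Helper19.FHPieceA
import Cfsg.Agent.Lib.Helper65.FHCheb
import Cfsg.Agent.Lib.Helper66.FHAlg
import Cfsg.Agent.Lib.Helper73.FHProj

/-!
# Feit–Higman (S1142): one spectral piece of `ζ` — basic facts and the dichotomy
-/

set_option autoImplicit false
set_option linter.unusedSectionVars false
set_option linter.unusedSimpArgs false

namespace Cfsg.Agent.Lib.Helper19.FH

open Matrix Cfsg.Agent.Lib.Helper65.FHCheb Cfsg.Agent.Lib.Helper66.FHAlg
  Cfsg.Agent.Lib.Helper73.FHProj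

variable {ι : Type*} [Fintype ι] [DecidableEq ι]

theorem trace_mul_transpose_self' (X : Matrix ι ι ℝ) :
    (X * Xᵀ).trace = ∑ i, ∑ j, X i j * X i j := by
  simp [Matrix.trace, Matrix.mul_apply]

theorem trace_mul_transpose_self_nonneg' (X : Matrix ι ι ℝ) : 0 ≤ (X * Xᵀ).trace := by
  rw [trace_mul_transpose_self']
  exact Finset.sum_nonneg fun i _ => Finset.sum_nonneg fun j _ => mul_self_nonneg _

theorem eq_zero_of_trace_mul_transpose_self' (X : Matrix ι ι ℝ) (h : (X * Xᵀ).trace = 0) :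
    X = 0 := by
  rw [trace_mul_transpose_self'] at h
  ext i j
  have h1 := (Finset.sum_eq_zero_iff_of_nonneg
    (fun i _ => Finset.sum_nonneg fun j _ => mul_self_nonneg (X i j))).1 h i (Finset.mem_univ _)
  have h2 := (Finset.sum_eq_zero_iff_of_nonneg
    (fun j _ => mul_self_nonneg (X i j))).1 h1 j (Finset.mem_univ _)
  exact mul_self_eq_zero.1 h2

/-- a symmetric matrix whose square is zero vanishes -/
theorem eq_zero_of_symm_of_sq (X : Matrix ι ι ℝ) (hs : Xᵀ = X) (h : X * X = 0) : X = 0 := by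
  apply eq_zero_of_trace_mul_transpose_self'
  rw [hs, h, Matrix.trace_zero]

/-- a nonzero symmetric idempotent has positive trace -/
theorem trace_pos_of_symm_idem (e : Matrix ι ι ℝ) (hs : eᵀ = e) (hi : e * e = e) (hne : e ≠ 0) :
    0 < e.trace := by
  have h0 : 0 ≤ (e * eᵀ).trace := trace_mul_transpose_self_nonneg' e
  rw [hs, hi] at h0
  rcases h0.lt_or_eq with h | h
  · exact h
  · exfalso
    apply hne
    apply eq_zero_of_trace_mul_transpose_self'
    rw [hs, hi, ← h]

/-- powers of `M` on a piece where `M² = y M - c` -/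
theorem pow_mul_of_quadratic {R : Type*} [Ring R] [Algebra ℝ R] (M e : R) (y c : ℝ)
    (h : M * (M * e) = y • (M * e) - c • e) (k : ℕ) :
    M ^ (k + 1) * e = pSeq y c (k + 1) • (M * e) - (c * pSeq y c k) • e := by
  induction k with
  | zero => simp
  | succ k ih =>
    rw [pow_succ', mul_assoc, ih, mul_sub, mul_smul_comm, mul_smul_comm, h, pSeq_add_two]
    module

/-- `d_{k+1} = y p_{k+1} - 2 c p_k` -/
theorem dSeq_eq_pSeq (y c : ℝ) (k : ℕ) :
    dSeq y c (k + 1) = y * pSeq y c (k + 1) - 2 * c * pSeq y c k ∧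
    dSeq y c (k + 2) = y * pSeq y c (k + 2) - 2 * c * pSeq y c (k + 1) := by
  induction k with
  | zero =>
    refine ⟨by simp, ?_⟩
    rw [dSeq_add_two, pSeq_add_two]; simp; ring
  | succ k ih =>
    refine ⟨ih.2, ?_⟩
    rw [dSeq_add_two, ih.2, ih.1, pSeq_add_two y c (k + 1), pSeq_add_two y c k]
    ring

/-- hypotheses on one spectral piece (real parameters) -/
structure Piece (U V : ℝ) (a b e : Matrix ι ι ℝ) (y : ℝ) : Prop where
  hU : 2 ≤ U
  hV : 2 ≤ V
  a_symm : a.IsSymm
  b_symm : b.IsSymm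
  a_sq : a * a = U • (1 : Matrix ι ι ℝ) + (U - 1) • a
  b_sq : b * b = V • (1 : Matrix ι ι ℝ) + (V - 1) • b
  e_symm : e.IsSymm
  e_idem : e * e = e
  e_ne : e ≠ 0
  comm_a : a * e = e * a
  comm_b : b * e = e * b
  eig : zeta U V a b * e = y • e

namespace Piece

variable {U V : ℝ} {a b e : Matrix ι ι ℝ} {y : ℝ} (hp : Piece U V a b e y)
include hp

theorem hU1 : 1 + U ≠ 0 := by have := hp.hU; intro h; linarith
theorem hV1 : 1 + V ≠ 0 := by have := hp.hV; intro h; linarith

theorem P_comm : projP U a * e = e * projP U a := by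
  unfold projP
  rw [smul_mul_assoc, mul_smul_comm, add_mul, mul_add, hp.comm_a, one_mul, mul_one]

theorem Q_comm : projP V b * e = e * projP V b := by
  unfold projP
  rw [smul_mul_assoc, mul_smul_comm, add_mul, mul_add, hp.comm_b, one_mul, mul_one]

theorem PP : projP U a * projP U a = projP U a := projP_idem U a hp.hU1 hp.a_sq
theorem QQ : projP V b * projP V b = projP V b := projP_idem V b hp.hV1 hp.b_sq

theorem cproj : CProj (projP U a * e) (projP V b * e) e where
  PP := by rw [mul_assoc, ← mul_assoc e, ← hp.P_comm, mul_assoc, hp.e_idem, ← mul_assoc, hp.PP]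
  QQ := by rw [mul_assoc, ← mul_assoc e, ← hp.Q_comm, mul_assoc, hp.e_idem, ← mul_assoc, hp.QQ]
  ee := hp.e_idem
  eP := by rw [← mul_assoc, ← hp.P_comm, mul_assoc, hp.e_idem]
  Pe := by rw [mul_assoc, hp.e_idem]
  eQ := by rw [← mul_assoc, ← hp.Q_comm, mul_assoc, hp.e_idem]
  Qe := by rw [mul_assoc, hp.e_idem]

/-- `κ = (1 + UV - y) / ((1+U)(1+V))` -/
noncomputable def kap (_hp : Piece U V a b e y) : ℝ := ((1 + U) * (1 + V))⁻¹ * (1 + U * V - y)

theorem DD : (projP U a * e - projP V b * e) * (projP U a * e - projP V b * e) = hp.kap • e := by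
  have h1 := projP_sub_sq U V a b hp.hU1 hp.hV1 hp.a_sq hp.b_sq
  have h2 : (projP U a * e - projP V b * e) * (projP U a * e - projP V b * e) =
      (projP U a - projP V b) * (projP U a - projP V b) * e := by
    rw [← sub_mul]
    have hc : e * (projP U a - projP V b) = (projP U a - projP V b) * e := by
      rw [mul_sub, sub_mul, hp.P_comm, hp.Q_comm]
    rw [mul_assoc, ← mul_assoc e, hc, mul_assoc (projP U a - projP V b) e e, hp.e_idem, mul_assoc]
  rw [h2, h1, smul_mul_assoc, sub_mul, smul_mul_assoc, one_mul, hp.eig, kap, ← sub_smul, smul_smul]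

theorem a_mul_e : a * e = (1 + U) • (projP U a * e) - e := by
  conv_lhs => rw [eq_projP U a hp.hU1]
  rw [sub_mul, smul_mul_assoc, one_mul]

theorem b_mul_e : b * e = (1 + V) • (projP V b * e) - e := by
  conv_lhs => rw [eq_projP V b hp.hV1]
  rw [sub_mul, smul_mul_assoc, one_mul]

/-- `a x = U x` when `P x = x` -/
theorem a_mul_of_P (x : Matrix ι ι ℝ) (hx : projP U a * x = x) : a * x = U • x := by
  rw [← hx, ← mul_assoc, mul_projP U a hp.hU1 hp.a_sq, smul_mul_assoc]

theorem b_mul_of_Q (x : Matrix ι ι ℝ) (hx : projP V b * x = x) : b * x = V • x := by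
  rw [← hx, ← mul_assoc, mul_projP V b hp.hV1 hp.b_sq, smul_mul_assoc]

/-- `a x = -x` when `P x = 0` -/
theorem a_mul_of_P_zero (x : Matrix ι ι ℝ) (hx : projP U a * x = 0) : a * x = -x := by
  conv_lhs => rw [eq_projP U a hp.hU1]
  rw [sub_mul, smul_mul_assoc, hx, smul_zero, one_mul, zero_sub]

theorem b_mul_of_Q_zero (x : Matrix ι ι ℝ) (hx : projP V b * x = 0) : b * x = -x := by
  conv_lhs => rw [eq_projP V b hp.hV1]
  rw [sub_mul, smul_mul_assoc, hx, smul_zero, one_mul, zero_sub]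

theorem M_comm : a * b * e = e * (a * b) := by
  rw [mul_assoc, hp.comm_b, ← mul_assoc, hp.comm_a, mul_assoc]

theorem M_quad : a * b * (a * b * e) = y • (a * b * e) - (U * V) • e := by
  rw [← mul_assoc, ab_mul_ab U V a b hp.a_sq hp.b_sq, sub_mul, smul_mul_assoc, one_mul,
    mul_assoc, hp.M_comm, ← mul_assoc, hp.eig, smul_mul_assoc, ← hp.M_comm]

theorem pow_piece (k : ℕ) :
    (a * b) ^ (k + 1) * e =
      pSeq y (U * V) (k + 1) • (a * b * e) - (U * V * pSeq y (U * V) k) • e :=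
  pow_mul_of_quadratic (a * b) e y (U * V) hp.M_quad k

theorem pow_comm (k : ℕ) : (a * b) ^ k * e = e * (a * b) ^ k :=
  pow_comm_of_comm (a * b) e hp.M_comm k

theorem abe_transpose : (a * b * e)ᵀ = b * a * e := by
  rw [transpose_mul, transpose_mul, hp.e_symm.eq, hp.a_symm.eq, hp.b_symm.eq, ← mul_assoc,
    ← hp.comm_b, mul_assoc, ← hp.comm_a, ← mul_assoc]

/-- the dichotomy: `p_n(y) (ab - ba) e = 0` -/
theorem dichotomy (n : ℕ) (hn : 1 ≤ n) (hbr : altProd a b n = altProd b a n) :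
    pSeq y (U * V) n • (a * b * e - b * a * e) = 0 := by
  obtain ⟨m, rfl⟩ : ∃ m, n = m + 1 := ⟨n - 1, by omega⟩
  have hT := altProd_symm a b (m + 1) hp.a_symm hp.b_symm hbr
  have hTT := altProd_mul_self a b (m + 1) hbr
  have hsym : ((a * b) ^ (m + 1))ᵀ = (a * b) ^ (m + 1) := by
    rw [← hTT, transpose_mul, hT.eq]
  have hX : ((a * b) ^ (m + 1) * e)ᵀ = (a * b) ^ (m + 1) * e := by
    rw [transpose_mul, hsym, hp.e_symm.eq, ← hp.pow_comm]
  rw [hp.pow_piece m, transpose_sub, transpose_smul, transpose_smul, hp.abe_transpose,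
    hp.e_symm.eq] at hX
  rw [smul_sub]
  have h3 := sub_left_injective hX
  rw [h3, sub_self]

end Piece

end Cfsg.Agent.Lib.Helper19.FH
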