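import Cfsg.Agent.Lib.Helper19.FHPieceB

/-!
# Feit–Higman (S1142): one spectral piece of `ζ` — the commuting cases `y = 1 + uv`, `y = -(u+v)`
-/

set_option autoImplicit false
set_option linter.unusedSectionVars false
set_option linter.unusedSimpArgs false

namespace Cfsg.Agent.Lib.Helper19.FH

open Matrix Cfsg.Agent.Lib.Helper65.FHCheb Cfsg.Agent.Lib.Helper66.FHAlg
  Cfsg.Agent.Lib.Helper73.FHProj

variable {ι : Type*} [Fintype ι] [DecidableEq ι]

namespace Piece

variable {U V : ℝ} {a b e : Matrix ι ι ℝ} {y : ℝ} (hp : Piece U V a b e y)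
include hp

theorem Pe_symm : (projP U a * e)ᵀ = projP U a * e := by
  rw [transpose_mul, hp.e_symm.eq, (projP_symm U a hp.a_symm).eq, hp.P_comm]

theorem Qe_symm : (projP V b * e)ᵀ = projP V b * e := by
  rw [transpose_mul, hp.e_symm.eq, (projP_symm V b hp.b_symm).eq, hp.Q_comm]

theorem P_mul_Pe : projP U a * (projP U a * e) = projP U a * e := by
  rw [← mul_assoc, hp.PP]

theorem Q_mul_Qe : projP V b * (projP V b * e) = projP V b * e := by
  rw [← mul_assoc, hp.QQ]

theorem PeQe : projP U a * e * (projP V b * e) = projP U a * (projP V b * e) := by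
  rw [mul_assoc, hp.cproj.eQ]

theorem QePe : projP V b * e * (projP U a * e) = projP V b * (projP U a * e) := by
  rw [mul_assoc, hp.cproj.eP]

/-- in the commuting case the compressed projections commute -/
theorem comm_PQ (hc : a * b * e = b * a * e) :
    projP V b * e * (projP U a * e) = projP U a * e * (projP V b * e) := by
  rw [hp.PeQe, hp.QePe]
  unfold projP
  simp only [smul_mul_assoc, mul_smul_comm, add_mul, mul_add, one_mul, mul_one, smul_add,
    smul_smul]
  rw [← mul_assoc b a e, ← mul_assoc a b e, hc]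
  rw [mul_comm (1 + V)⁻¹ (1 + U)⁻¹]
  abel

theorem kappa_cases (hc : a * b * e = b * a * e) : hp.kap = 0 ∨ hp.kap = 1 :=
  hp.cproj.kappa_of_comm (hp.comm_PQ hc) hp.e_ne hp.DD

theorem pos_c : 0 < (1 + U) * (1 + V) := by
  have := hp.hU; have := hp.hV; positivity

theorem y_of_kap_zero (h : hp.kap = 0) : y = 1 + U * V := by
  unfold kap at h
  rcases mul_eq_zero.1 h with h1 | h1
  · exact absurd (inv_eq_zero.1 h1) hp.pos_c.ne'
  · linarith

theorem y_of_kap_one (h : hp.kap = 1) : y = -(U + V) := by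
  unfold kap at h
  have h1 := (inv_mul_eq_iff_eq_mul₀ hp.pos_c.ne').1 h
  linarith

/-! ### Case A: `κ = 0` -/

theorem caseA_eq (hκ : hp.kap = 0) : projP U a * e = projP V b * e := by
  have h1 := hp.DD
  rw [hκ, zero_smul] at h1
  have hs : (projP U a * e - projP V b * e)ᵀ = projP U a * e - projP V b * e := by
    rw [transpose_sub, hp.Pe_symm, hp.Qe_symm]
  exact sub_eq_zero.1 (eq_zero_of_symm_of_sq _ hs h1)

/-- the joint top eigen-piece `x = P e`: `a x = U x`, `b x = V x` -/
theorem caseA_eigen (hκ : hp.kap = 0) :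
    a * (projP U a * e) = U • (projP U a * e) ∧ b * (projP U a * e) = V • (projP U a * e) := by
  refine ⟨hp.a_mul_of_P _ hp.P_mul_Pe, ?_⟩
  rw [hp.caseA_eq hκ]
  exact hp.b_mul_of_Q _ hp.Q_mul_Qe

theorem caseA (hκ : hp.kap = 0) :
    ∃ c11 c00 : ℕ, (projP U a * e).trace = c11 ∧
      (∀ k : ℕ, ((a * b) ^ k * e).trace = c11 * (U * V) ^ k + c00) ∧
      (a * e).trace = U * c11 - c00 ∧ (b * e).trace = V * c11 - c00 := by
  set x := projP U a * e with hx
  set z := e - x with hz
  have hxx : x * x = x := hp.cproj.PP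
  have hzz : z * z = z := by
    rw [hz, sub_mul, mul_sub, mul_sub, hp.e_idem, hp.cproj.eP, hp.cproj.Pe, hxx]; abel
  obtain ⟨c11, h11⟩ := idem_trace_nat x hxx
  obtain ⟨c00, h00⟩ := idem_trace_nat z hzz
  obtain ⟨hax, hbx⟩ := hp.caseA_eigen hκ
  have hPz : projP U a * z = 0 := by
    rw [hz, mul_sub, hx, hp.P_mul_Pe, sub_self]
  have hQz : projP V b * z = 0 := by
    rw [hz, mul_sub, hx, hp.caseA_eq hκ, hp.Q_mul_Qe, sub_self]
  have haz : a * z = -z := hp.a_mul_of_P_zero z hPz
  have hbz : b * z = -z := hp.b_mul_of_Q_zero z hQz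
  have hMx : a * b * x = (U * V) • x := by
    rw [mul_assoc, hbx, mul_smul_comm, hax, smul_smul, mul_comm]
  have hMz : a * b * z = (1 : ℝ) • z := by
    rw [mul_assoc, hbz, mul_neg, haz, neg_neg, one_smul]
  have he : e = x + z := by rw [hz]; abel
  refine ⟨c11, c00, h11, ?_, ?_, ?_⟩
  · intro k
    rw [he, mul_add, pow_mul_eigen _ _ _ hMx k, pow_mul_eigen _ _ _ hMz k, trace_add, trace_smul,
      trace_smul, h11, h00, one_pow, smul_eq_mul, smul_eq_mul]
    ring
  · rw [he, mul_add, hax, haz, trace_add, trace_smul, trace_neg, h11, h00, smul_eq_mul]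
    ring
  · rw [he, mul_add, hbx, hbz, trace_add, trace_smul, trace_neg, h11, h00, smul_eq_mul]
    ring

/-! ### Case B: `κ = 1` -/

theorem caseB (hc : a * b * e = b * a * e) (hκ : hp.kap = 1) (n : ℕ)
    (hbr : altProd a b n = altProd b a n) :
    ∃ c10 c01 : ℕ,
      (∀ k : ℕ, ((a * b) ^ k * e).trace = c10 * (-U) ^ k + c01 * (-V) ^ k) ∧
      (a * e).trace = U * c10 - c01 ∧ (b * e).trace = V * c01 - c10 ∧
      (Odd n → c10 = 0 ∧ c01 = 0) := by
  have hD := hp.DD
  rw [hκ, one_smul] at hD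
  obtain ⟨hPQ, hQP, hsum⟩ := hp.cproj.orth_of_comm_one (hp.comm_PQ hc) hD
  set x := projP U a * e with hx
  set z := projP V b * e with hz
  have hxx : x * x = x := hp.cproj.PP
  have hzz : z * z = z := hp.cproj.QQ
  obtain ⟨c10, h10⟩ := idem_trace_nat x hxx
  obtain ⟨c01, h01⟩ := idem_trace_nat z hzz
  have hPz : projP U a * z = 0 := by rw [← hPQ, hx, hz, hp.PeQe]
  have hQx : projP V b * x = 0 := by rw [← hQP, hx, hz, hp.QePe]
  have hax : a * x = U • x := hp.a_mul_of_P _ hp.P_mul_Pe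
  have hbz : b * z = V • z := hp.b_mul_of_Q _ hp.Q_mul_Qe
  have haz : a * z = (-1 : ℝ) • z := by rw [hp.a_mul_of_P_zero z hPz, neg_smul, one_smul]
  have hbx : b * x = (-1 : ℝ) • x := by rw [hp.b_mul_of_Q_zero x hQx, neg_smul, one_smul]
  have hMx : a * b * x = (-U) • x := by
    rw [mul_assoc, hbx, mul_smul_comm, hax, smul_smul]; congr 1; ring
  have hMz : a * b * z = (-V) • z := by
    rw [mul_assoc, hbz, mul_smul_comm, haz, smul_smul]; congr 1; ring
  have he : e = x + z := hsum.symm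
  refine ⟨c10, c01, ?_, ?_, ?_, ?_⟩
  · intro k
    rw [he, mul_add, pow_mul_eigen _ _ _ hMx k, pow_mul_eigen _ _ _ hMz k, trace_add, trace_smul,
      trace_smul, h10, h01, smul_eq_mul, smul_eq_mul]
    ring
  · rw [he, mul_add, hax, haz, trace_add, trace_smul, trace_smul, h10, h01, smul_eq_mul,
      smul_eq_mul]
    ring
  · rw [he, mul_add, hbx, hbz, trace_add, trace_smul, trace_smul, h10, h01, smul_eq_mul,
      smul_eq_mul]
    ring
  · rintro ⟨m, rfl⟩
    have hU := hp.hU
    have hV := hp.hV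
    have e1 : (2 * m + 1 + 1) / 2 = m + 1 := by omega
    have e2 : (2 * m + 1) / 2 = m := by omega
    constructor
    · obtain ⟨h1, h2⟩ := altProd_mul_eigen a b x U (-1) hax hbx (2 * m + 1)
      rw [hbr, h2, e1, e2] at h1
      have h3 : (((-1 : ℝ)) ^ (m + 1) * U ^ m - U ^ (m + 1) * (-1) ^ m) • x = 0 := by
        rw [sub_smul, h1, sub_self]
      rcases smul_eq_zero.1 h3 with h4 | h4
      · exfalso
        have h5 : ((-1 : ℝ)) ^ (m + 1) * U ^ m - U ^ (m + 1) * (-1) ^ m =
            -((-1) ^ m * U ^ m * (1 + U)) := by ring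
        rw [h5, neg_eq_zero] at h4
        have h6 : ((-1 : ℝ)) ^ m ≠ 0 := pow_ne_zero _ (by norm_num)
        have h7 : U ^ m ≠ 0 := pow_ne_zero _ (by linarith)
        exact mul_ne_zero (mul_ne_zero h6 h7) hp.hU1 h4
      · rw [h4, trace_zero] at h10
        exact_mod_cast h10.symm
    · obtain ⟨h1, h2⟩ := altProd_mul_eigen a b z (-1) V haz hbz (2 * m + 1)
      rw [hbr, h2, e1, e2] at h1
      have h3 : (V ^ (m + 1) * (-1 : ℝ) ^ m - (-1) ^ (m + 1) * V ^ m) • z = 0 := by
        rw [sub_smul, h1, sub_self]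
      rcases smul_eq_zero.1 h3 with h4 | h4
      · exfalso
        have h5 : V ^ (m + 1) * (-1 : ℝ) ^ m - (-1) ^ (m + 1) * V ^ m =
            (-1) ^ m * V ^ m * (1 + V) := by ring
        rw [h5] at h4
        have h6 : ((-1 : ℝ)) ^ m ≠ 0 := pow_ne_zero _ (by norm_num)
        have h7 : V ^ m ≠ 0 := pow_ne_zero _ (by linarith)
        exact mul_ne_zero (mul_ne_zero h6 h7) hp.hV1 h4
      · rw [h4, trace_zero] at h01
        exact_mod_cast h01.symm

end Piece

end Cfsg.Agent.Lib.Helper19.FH
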