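import Cfsg.Agent.Lib.Helper19.FHPieceC
import Cfsg.Agent.Lib.Helper1.FHArith

/-!
# Feit–Higman (S1142): one spectral piece of `ζ` — the generic case `p_n(y) = 0`
-/

set_option autoImplicit false
set_option linter.unusedSectionVars false
set_option linter.unusedSimpArgs false

namespace Cfsg.Agent.Lib.Helper19.FH

open Matrix Cfsg.Agent.Lib.Helper65.FHCheb Cfsg.Agent.Lib.Helper66.FHAlg
  Cfsg.Agent.Lib.Helper73.FHProj

variable {ι : Type*} [Fintype ι] [DecidableEq ι]

namespace Piece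

variable {U V : ℝ} {a b e : Matrix ι ι ℝ} {y : ℝ} (hp : Piece U V a b e y)
include hp

theorem a_mul (X : Matrix ι ι ℝ) : a * X = (1 + U) • (projP U a * X) - X := by
  have h := congrArg (fun M => M * X) (eq_projP U a hp.hU1)
  simp only [sub_mul, smul_mul_assoc, one_mul] at h
  exact h

/-- traces on a piece with `0 < κ < 1` -/
theorem trace_generic' (h0 : hp.kap ≠ 0) (h1 : hp.kap ≠ 1) :
    ∃ p : ℕ, (projP U a * e).trace = p ∧ e.trace = 2 * p ∧ (a * e).trace = (U - 1) * p ∧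
      (b * e).trace = (V - 1) * p ∧ (a * b * e).trace = p * y := by
  obtain ⟨hQ, he, hPQ⟩ := hp.cproj.trace_generic (Matrix.traceLinearMap ι ℝ ℝ)
    (fun x y => Matrix.trace_mul_comm x y) hp.DD h0 h1
  simp only [Matrix.traceLinearMap_apply] at hQ he hPQ
  obtain ⟨p, hpn⟩ := idem_trace_nat (projP U a * e) hp.cproj.PP
  rw [hpn] at hQ he hPQ
  refine ⟨p, hpn, he, ?_, ?_, ?_⟩
  · rw [hp.a_mul_e, trace_sub, trace_smul, hpn, he, smul_eq_mul]; ring
  · rw [hp.b_mul_e, trace_sub, trace_smul, hQ, he, smul_eq_mul]; ring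
  · have h2 : a * b * e = ((1 + U) * (1 + V)) • (projP U a * e * (projP V b * e))
        - (1 + V) • (projP V b * e) - (1 + U) • (projP U a * e) + e := by
      rw [hp.PeQe, mul_assoc a b e, hp.b_mul_e, mul_sub, mul_smul_comm, hp.a_mul_e,
        hp.a_mul (projP V b * e), smul_sub, smul_smul, mul_comm (1 + V) (1 + U)]
      abel
    have hk : hp.kap * ((1 + U) * (1 + V)) = 1 + U * V - y := by
      unfold kap
      rw [mul_comm, ← mul_assoc, mul_inv_cancel₀ hp.pos_c.ne', one_mul]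
    rw [h2, trace_add, trace_sub, trace_sub, trace_smul, trace_smul, trace_smul, hPQ, hQ, hpn, he,
      smul_eq_mul, smul_eq_mul, smul_eq_mul]
    linear_combination (-(p : ℝ)) * hk

theorem caseG (n : ℕ) (hn : 1 ≤ n) (hbr : altProd a b n = altProd b a n)
    (h0 : pSeq y (U * V) n = 0) :
    ∃ j ∈ angles n, y = 2 * Real.sqrt (U * V) * Real.cos (2 * Real.pi * j / n) ∧
      y ≠ 1 + U * V ∧ ∃ p : ℕ, (∀ k : ℕ, ((a * b) ^ k * e).trace =
          p * (2 * Real.sqrt (U * V) ^ k * Real.cos (2 * Real.pi * j * k / n))) ∧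
        (a * e).trace = (U - 1) * p ∧ (b * e).trace = (V - 1) * p := by
  have hU := hp.hU
  have hV := hp.hV
  set r := Real.sqrt (U * V) with hr
  have hUV : 0 < U * V := by positivity
  have hr0 : 0 < r := Real.sqrt_pos.2 hUV
  have hr2 : r ^ 2 = U * V := Real.sq_sqrt hUV.le
  rw [← hr2] at h0
  obtain ⟨j, hj1, hjn, hy, hsign⟩ := pSeq_root r y hr0 n hn h0
  obtain ⟨m, rfl⟩ : ∃ m, n = m + 1 := ⟨n - 1, by omega⟩
  have hpow : (a * b) ^ (m + 1) * e = (r ^ (m + 1) * (-1) ^ j) • e := by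
    rw [hp.pow_piece m, ← hr2, h0, zero_smul, zero_sub, ← neg_smul]
    congr 1
  have hT := altProd_symm a b (m + 1) hp.a_symm hp.b_symm hbr
  have hTT := altProd_mul_self a b (m + 1) hbr
  have hTe := (altProd_comm a b e hp.comm_a hp.comm_b (m + 1)).1
  have hXX : (altProd a b (m + 1) * e) * (altProd a b (m + 1) * e)ᵀ = (a * b) ^ (m + 1) * e := by
    rw [transpose_mul, hp.e_symm.eq, hT.eq, ← hTe, mul_assoc, ← mul_assoc e, ← hTe, mul_assoc,
      hp.e_idem, ← mul_assoc, hTT]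
  have hnn : 0 ≤ ((a * b) ^ (m + 1) * e).trace := by
    rw [← hXX]; exact trace_mul_transpose_self_nonneg' _
  rw [hpow, trace_smul, smul_eq_mul] at hnn
  have htr : 0 < e.trace := trace_pos_of_symm_idem e hp.e_symm.eq hp.e_idem hp.e_ne
  have hje : Even j := by
    by_contra hodd
    rw [Nat.not_even_iff_odd] at hodd
    rw [hodd.neg_one_pow] at hnn
    have : 0 < r ^ (m + 1) := pow_pos hr0 _
    nlinarith
  obtain ⟨j', hj'⟩ := hje
  have hmem : j' ∈ angles (m + 1) := mem_angles.2 ⟨by omega, by omega⟩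
  have hy' : y = 2 * r * Real.cos (2 * Real.pi * j' / ((m + 1 : ℕ) : ℝ)) := by
    rw [hy, hj']; congr 2; push_cast; ring
  refine ⟨j', hmem, hy', ?_⟩
  rw [and_comm]
  obtain ⟨hc1, hc2⟩ := Cfsg.Agent.Lib.Helper1.FHArith.cos_bounds hmem
  set c := Real.cos (2 * Real.pi * j' / ((m + 1 : ℕ) : ℝ)) with hc
  have hB : 2 * r ≤ U + V := by
    by_contra hlt
    rw [not_le] at hlt
    nlinarith [sq_nonneg (U - V)]
  have hk0 : hp.kap ≠ 0 := by
    intro hk
    have := hp.y_of_kap_zero hk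
    rw [hy', ← hr2] at this
    nlinarith [sq_nonneg (1 - r), mul_pos hr0 (by linarith : 0 < 1 - c)]
  have hk1 : hp.kap ≠ 1 := by
    intro hk
    have := hp.y_of_kap_one hk
    rw [hy'] at this
    nlinarith [mul_pos hr0 (by linarith : 0 < 1 + c)]
  obtain ⟨p, hP, he, hae, hbe, habe⟩ := hp.trace_generic' hk0 hk1
  have hyA : y ≠ 1 + U * V := fun h => hk0 (by unfold kap; rw [h]; simp)
  refine ⟨⟨p, ?_, hae, hbe⟩, hyA⟩
  intro k
  have hd : ((a * b) ^ k * e).trace = p * dSeq y (U * V) k := by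
    rcases k with _ | k
    · simp [he]; ring
    · rw [hp.pow_piece k, trace_sub, trace_smul, trace_smul, habe, he, smul_eq_mul, smul_eq_mul,
        (dSeq_eq_pSeq y (U * V) k).1]
      ring
  rw [hd, ← hr2, hy', dSeq_cos]
  congr 2
  congr 1
  push_cast
  ring

end Piece

end Cfsg.Agent.Lib.Helper19.FH
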