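import Cfsg.Agent.Lib.Helper19.FHPieceD

/-!
# Feit–Higman (S1142): uniform output of one spectral piece
-/

set_option autoImplicit false
set_option linter.unusedSectionVars false
set_option linter.unusedSimpArgs false

namespace Cfsg.Agent.Lib.Helper19.FH

open Matrix Cfsg.Agent.Lib.Helper65.FHCheb Cfsg.Agent.Lib.Helper66.FHAlg
  Cfsg.Agent.Lib.Helper73.FHProj

variable {ι : Type*} [Fintype ι] [DecidableEq ι]

/-- the contribution of one spectral piece, in uniform shape -/
def PieceOut (n : ℕ) (U V : ℝ) (a b e : Matrix ι ι ℝ) (y : ℝ) : Prop :=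
  ∃ (c11 c00 c10 c01 : ℕ) (mu : ℕ → ℕ),
    (∀ k : ℕ, ((a * b) ^ k * e).trace =
      c11 * (U * V) ^ k + c00 + c10 * (-U) ^ k + c01 * (-V) ^ k +
        ∑ j ∈ angles n, (mu j : ℝ) *
          (2 * Real.sqrt (U * V) ^ k * Real.cos (2 * Real.pi * j * k / n))) ∧
    (a * e).trace = U * (c11 + c10) - (c00 + c01) + (U - 1) * ∑ j ∈ angles n, (mu j : ℝ) ∧
    (b * e).trace = V * (c11 + c01) - (c00 + c10) + (V - 1) * ∑ j ∈ angles n, (mu j : ℝ) ∧
    (Odd n → c10 = 0 ∧ c01 = 0) ∧
    (y ≠ 1 + U * V → c11 = 0) ∧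
    (y = 1 + U * V → (c11 : ℝ) = (projP U a * e).trace ∧
      a * (projP U a * e) = U • (projP U a * e) ∧ b * (projP U a * e) = V • (projP U a * e))

theorem Piece.out {U V : ℝ} {a b e : Matrix ι ι ℝ} {y : ℝ} (hp : Piece U V a b e y)
    (n : ℕ) (hn : 1 ≤ n) (hbr : altProd a b n = altProd b a n) : PieceOut n U V a b e y := by
  have hU := hp.hU
  have hV := hp.hV
  by_cases hpn : pSeq y (U * V) n = 0
  · obtain ⟨j, hj, hy, hyA, p, hk, hae, hbe⟩ := hp.caseG n hn hbr hpn
    refine ⟨0, 0, 0, 0, fun i => if i = j then p else 0, ?_, ?_, ?_, ?_, ?_, ?_⟩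
    · intro k
      rw [hk k]
      simp only [Nat.cast_zero, zero_mul, add_zero, zero_add, Nat.cast_ite, ite_mul]
      rw [Finset.sum_ite_eq' (angles n) j, if_pos hj]
    · rw [hae]
      simp only [Nat.cast_zero, add_zero, mul_zero, sub_zero, zero_add, Nat.cast_ite]
      rw [Finset.sum_ite_eq' (angles n) j, if_pos hj]
    · rw [hbe]
      simp only [Nat.cast_zero, add_zero, mul_zero, sub_zero, zero_add, Nat.cast_ite]
      rw [Finset.sum_ite_eq' (angles n) j, if_pos hj]
    · intro _; exact ⟨rfl, rfl⟩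
    · intro _; rfl
    · intro h; exact absurd h hyA
  · have hc : a * b * e = b * a * e := by
      rcases smul_eq_zero.1 (hp.dichotomy n hn hbr) with h | h
      · exact absurd h hpn
      · exact sub_eq_zero.1 h
    rcases hp.kappa_cases hc with hκ | hκ
    · obtain ⟨c11, c00, h11, hk, hae, hbe⟩ := hp.caseA hκ
      refine ⟨c11, c00, 0, 0, fun _ => 0, ?_, ?_, ?_, ?_, ?_, ?_⟩
      · intro k
        rw [hk k]; simp
      · rw [hae]; simp
      · rw [hbe]; simp
      · intro _; exact ⟨rfl, rfl⟩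
      · intro h; exact absurd (hp.y_of_kap_zero hκ) h
      · intro _; exact ⟨h11.symm, hp.caseA_eigen hκ⟩
    · obtain ⟨c10, c01, hk, hae, hbe, hodd⟩ := hp.caseB hc hκ n hbr
      have hy := hp.y_of_kap_one hκ
      refine ⟨0, 0, c10, c01, fun _ => 0, ?_, ?_, ?_, hodd, ?_, ?_⟩
      · intro k
        rw [hk k]; simp
      · rw [hae]; simp
      · rw [hbe]; simp
      · intro _; rfl
      · intro h
        exfalso
        rw [hy] at h
        nlinarith
end Cfsg.Agent.Lib.Helper19.FH
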