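import Cfsg.Agent.Lib.Helper19.FHPieceE

/-!
# Feit–Higman (S1142): the spectral decomposition of the Hecke data

`spectral`: traces of `(ab)^k`, `a`, `b` in terms of natural-number multiplicities.
-/

set_option autoImplicit false
set_option linter.unusedSectionVars false
set_option linter.unusedSimpArgs false

namespace Cfsg.Agent.Lib.Helper19.FH

open Matrix Cfsg.Agent.Lib.Helper65.FHCheb Cfsg.Agent.Lib.Helper66.FHAlg
  Cfsg.Agent.Lib.Helper73.FHProj

variable {ι : Type*} [Fintype ι] [DecidableEq ι]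

/-- a symmetric matrix whose columns are joint top eigenvectors and which fixes the all-ones
vector has trace `1` -/
theorem trace_eq_one_of_const {n u v : ℕ} {a b : Matrix ι ι ℝ} (h : HeckeData n u v a b)
    (i0 : ι) (E : Matrix ι ι ℝ) (hEs : Eᵀ = E) (haE : a * E = (u : ℝ) • E)
    (hbE : b * E = (v : ℝ) • E)
    (hE1 : E.mulVec (fun _ => (1 : ℝ)) = fun _ => (1 : ℝ)) : E.trace = 1 := by
  have hcol : ∀ j i i', E i j = E i' j := by
    intro j
    have h1 : a.mulVec (fun i => E i j) = (u : ℝ) • (fun i => E i j) := by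
      ext i
      have := congrFun (congrFun haE i) j
      simpa [Matrix.mul_apply, Matrix.mulVec, dotProduct] using this
    have h2 : b.mulVec (fun i => E i j) = (v : ℝ) • (fun i => E i j) := by
      ext i
      have := congrFun (congrFun hbE i) j
      simpa [Matrix.mul_apply, Matrix.mulVec, dotProduct] using this
    exact h.const _ h1 h2
  have hsym : ∀ i j, E i j = E j i := fun i j => by
    have := congrFun (congrFun hEs j) i
    simpa using this
  have hall : ∀ i j i' j', E i j = E i' j' := by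
    intro i j i' j'
    rw [hcol j i i', hsym i' j, hcol i' j j', hsym j' i']
  have hrow := congrFun hE1 i0
  simp only [Matrix.mulVec, dotProduct, mul_one] at hrow
  unfold Matrix.trace
  simp only [Matrix.diag]
  rw [← hrow]
  exact Finset.sum_congr rfl fun j _ => hall j j i0 j

theorem a_mulVec_one {n u v : ℕ} {a b : Matrix ι ι ℝ} (h : HeckeData n u v a b) :
    a.mulVec (fun _ => (1 : ℝ)) = (u : ℝ) • (fun _ : ι => (1 : ℝ)) := by
  rw [h.a_one]; ext i; simp

theorem b_mulVec_one {n u v : ℕ} {a b : Matrix ι ι ℝ} (h : HeckeData n u v a b) :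
    b.mulVec (fun _ => (1 : ℝ)) = (v : ℝ) • (fun _ : ι => (1 : ℝ)) := by
  rw [h.b_one]; ext i; simp

theorem zeta_mulVec_one {n u v : ℕ} {a b : Matrix ι ι ℝ} (h : HeckeData n u v a b) :
    (zeta (u : ℝ) v a b).mulVec (fun _ => (1 : ℝ)) =
      (1 + (u : ℝ) * v) • (fun _ : ι => (1 : ℝ)) := by
  have ha := a_mulVec_one h
  have hb := b_mulVec_one h
  unfold zeta
  rw [Matrix.add_mulVec, Matrix.sub_mulVec, Matrix.sub_mulVec, Matrix.add_mulVec,
    ← Matrix.mulVec_mulVec, ← Matrix.mulVec_mulVec, Matrix.smul_mulVec, Matrix.smul_mulVec,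
    Matrix.smul_mulVec, Matrix.one_mulVec, ha, hb, Matrix.mulVec_smul, Matrix.mulVec_smul, ha, hb]
  ext i
  simp only [Pi.add_apply, Pi.sub_apply, Pi.smul_apply, smul_eq_mul, mul_one]
  ring

theorem projP_mulVec_one {n u v : ℕ} {a b : Matrix ι ι ℝ} (h : HeckeData n u v a b)
    (hu : 2 ≤ u) :
    (projP (u : ℝ) a).mulVec (fun _ => (1 : ℝ)) = fun _ : ι => (1 : ℝ) := by
  have ha := a_mulVec_one h
  unfold projP
  rw [Matrix.smul_mulVec, Matrix.add_mulVec, Matrix.one_mulVec, ha]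
  ext i
  simp only [Pi.add_apply, Pi.smul_apply, smul_eq_mul, mul_one]
  have : (1 + (u : ℝ)) ≠ 0 := by positivity
  field_simp

/-- trace via a partition of unity -/
theorem trace_eq_sum_pieces (Y : Finset ℝ) (pr : ℝ → Matrix ι ι ℝ) (hsum : ∑ y ∈ Y, pr y = 1)
    (X : Matrix ι ι ℝ) : X.trace = ∑ y ∈ Y, (X * pr y).trace := by
  rw [← Matrix.trace_sum, ← Finset.mul_sum, hsum, mul_one]

theorem spectral {n u v : ℕ} {a b : Matrix ι ι ℝ}
    (hn : 1 ≤ n) (hu : 2 ≤ u) (hv : 2 ≤ v) (h : HeckeData n u v a b) :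
    ∃ (c00 c10 c01 : ℕ) (mult : ℕ → ℕ),
      (∀ k : ℕ, ((a * b) ^ k).trace =
        ((u : ℝ) * v) ^ k + c00 + c10 * (-(u : ℝ)) ^ k + c01 * (-(v : ℝ)) ^ k +
        ∑ j ∈ angles n, (mult j : ℝ) * (2 * (Real.sqrt ((u : ℝ) * v)) ^ k *
          Real.cos (2 * Real.pi * j * k / (n : ℝ)))) ∧
      a.trace = u * (1 + c10) - (c00 + c01) + ((u : ℝ) - 1) * ∑ j ∈ angles n, (mult j : ℝ) ∧
      b.trace = v * (1 + c01) - (c00 + c10) + ((v : ℝ) - 1) * ∑ j ∈ angles n, (mult j : ℝ) ∧
      (Odd n → c10 = 0 ∧ c01 = 0) := by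
  classical
  have hU : (2 : ℝ) ≤ (u : ℝ) := by exact_mod_cast hu
  have hV : (2 : ℝ) ≤ (v : ℝ) := by exact_mod_cast hv
  have hzs := zeta_symm (u : ℝ) v a b h.a_symm h.b_symm
  obtain ⟨Y, pr, hY, hsum⟩ := exists_spectral_projections (zeta (u : ℝ) v a b) hzs
  have hca := zeta_comm_a (u : ℝ) v a b h.a_sq
  have hcb := zeta_comm_b (u : ℝ) v a b h.b_sq
  have hpiece : ∀ y ∈ Y, Piece (u : ℝ) v a b (pr y) y := fun y hy => by
    obtain ⟨h1, h2, h3, h4, h5⟩ := hY y hy
    exact ⟨hU, hV, h.a_symm, h.b_symm, h.a_sq, h.b_sq, h1, h2, h3, h5 a hca.symm,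
      h5 b hcb.symm, h4⟩
  have hout : ∀ y ∈ Y, PieceOut n (u : ℝ) v a b (pr y) y :=
    fun y hy => (hpiece y hy).out n hn h.braid
  unfold PieceOut at hout
  choose! c11 c00 c10 c01 mu hk hae hbe hodd hne heq using hout
  -- the index set is nonempty
  have hcard : 0 < Fintype.card ι := by
    rw [h.card]
    have h1 : qq u v 0 ≤ ∑ k ∈ Finset.range n, qq u v k :=
      Finset.single_le_sum (f := fun k => qq u v k) (fun _ _ => Nat.zero_le _)
        (Finset.mem_range.mpr (by omega))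
    have : 0 < qq u v 0 := by simp [qq]
    omega
  obtain ⟨i0⟩ : Nonempty ι := Fintype.card_pos_iff.1 hcard
  set one : ι → ℝ := fun _ => (1 : ℝ) with hone
  have hone_ne : one ≠ 0 := fun h0 => by
    have := congrFun h0 i0
    simp [hone] at this
  -- the pieces with `y ≠ A` kill the all-ones vector
  set A : ℝ := 1 + (u : ℝ) * v with hA
  have hkill : ∀ y ∈ Y, y ≠ A → (pr y).mulVec one = 0 := by
    intro y hy hyA
    obtain ⟨h1, h2, h3, h4, h5⟩ := hY y hy
    have hcomm : zeta (u : ℝ) v a b * pr y = pr y * zeta (u : ℝ) v a b := h5 _ rfl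
    have e1 : (pr y * zeta (u : ℝ) v a b).mulVec one = A • (pr y).mulVec one := by
      rw [← Matrix.mulVec_mulVec, zeta_mulVec_one h, Matrix.mulVec_smul]
    have e2 : (pr y * zeta (u : ℝ) v a b).mulVec one = y • (pr y).mulVec one := by
      rw [← hcomm, h4, Matrix.smul_mulVec]
    have e3 : (y - A) • (pr y).mulVec one = 0 := by
      rw [sub_smul, ← e1, ← e2, sub_self]
    rcases smul_eq_zero.1 e3 with h6 | h6
    · exact absurd (sub_eq_zero.1 h6) hyA
    · exact h6
  have hone_sum : one = ∑ y ∈ Y, (pr y).mulVec one := by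
    rw [← Matrix.sum_mulVec, hsum, Matrix.one_mulVec]
  have hAY : A ∈ Y := by
    by_contra hAn
    apply hone_ne
    rw [hone_sum]
    exact Finset.sum_eq_zero fun y hy => hkill y hy (fun h' => hAn (h' ▸ hy))
  have hprA : (pr A).mulVec one = one := by
    conv_rhs => rw [hone_sum]
    rw [Finset.sum_eq_single_of_mem A hAY (fun y hy hyA => hkill y hy hyA)]
  -- `c11 A = 1`
  have hc11A : c11 A = 1 := by
    obtain ⟨e1, e2, e3⟩ := heq A hAY rfl
    have hE1 : (projP (u : ℝ) a * pr A).mulVec one = one := by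
      rw [← Matrix.mulVec_mulVec, hprA, projP_mulVec_one h hu]
    have := trace_eq_one_of_const h i0 (projP (u : ℝ) a * pr A) (hpiece A hAY).Pe_symm e2 e3 hE1
    rw [this] at e1
    exact_mod_cast e1
  have hc11 : ∑ y ∈ Y, c11 y = 1 := by
    rw [Finset.sum_eq_single_of_mem A hAY (fun y hy hyA => hne y hy hyA), hc11A]
  have hc11' : ∑ y ∈ Y, (c11 y : ℝ) = 1 := by exact_mod_cast hc11
  refine ⟨∑ y ∈ Y, c00 y, ∑ y ∈ Y, c10 y, ∑ y ∈ Y, c01 y, fun j => ∑ y ∈ Y, mu y j, ?_, ?_, ?_, ?_⟩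
  · intro k
    rw [trace_eq_sum_pieces Y pr hsum, Finset.sum_congr rfl (fun y hy => hk y hy k)]
    simp only [Finset.sum_add_distrib, ← Finset.sum_mul, hc11', one_mul, Nat.cast_sum]
    congr 1
    rw [Finset.sum_comm]
    simp only [Finset.sum_mul]
  · rw [trace_eq_sum_pieces Y pr hsum, Finset.sum_congr rfl (fun y hy => hae y hy)]
    simp only [Finset.sum_add_distrib, Finset.sum_sub_distrib, ← Finset.mul_sum, hc11',
      Nat.cast_sum]
    congr 2
    rw [Finset.sum_comm]
  · rw [trace_eq_sum_pieces Y pr hsum, Finset.sum_congr rfl (fun y hy => hbe y hy)]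
    simp only [Finset.sum_add_distrib, Finset.sum_sub_distrib, ← Finset.mul_sum, hc11',
      Nat.cast_sum]
    congr 2
    rw [Finset.sum_comm]
  · intro hoddn
    exact ⟨Finset.sum_eq_zero fun y hy => (hodd y hy hoddn).1,
      Finset.sum_eq_zero fun y hy => (hodd y hy hoddn).2⟩

end Cfsg.Agent.Lib.Helper19.FH
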