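/-
helper19: project FW (helper2, S3211), module [FW-U]: basic facts on `b = n a n⁻¹` and `u = a * b`.
-/
import Mathlib
import Cfsg.Agent.Lib.Helper2.FWDefs

set_option autoImplicit false

namespace Cfsg.Agent.Lib.Helper19.FW

open Cfsg.Agent.Lib.Helper2.FW

variable {G : Type*} [Group G] {L₁ L₂ : Subgroup G} {j n : G}

/-- [FW-U] basic facts on `b = n a n⁻¹` and `u = a * b`. -/
theorem u_facts (H : Hyp L₁ L₂ j n) {a : G} (ha : a ∈ L₁) (haa : a * a = j) :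
    n * a * n⁻¹ ∈ L₂ ∧ (n * a * n⁻¹) * (n * a * n⁻¹) = j ∧
    (a * (n * a * n⁻¹)) * j = j * (a * (n * a * n⁻¹)) ∧
    (a * (n * a * n⁻¹)) * (a * (n * a * n⁻¹)) = 1 ∧
    a * (n * a * n⁻¹) ≠ 1 ∧ a * (n * a * n⁻¹) ≠ j ∧
    n * (a * (n * a * n⁻¹)) = (a * (n * a * n⁻¹)) * n := by
  have hb : n * a * n⁻¹ ∈ L₂ := H.swap₁ a ha
  have hnj : n * j * n⁻¹ = j := by
    rw [H.n_comm]; group
  have hbb : (n * a * n⁻¹) * (n * a * n⁻¹) = j := by
    have e : (n * a * n⁻¹) * (n * a * n⁻¹) = n * (a * a) * n⁻¹ := by group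
    rw [e, haa, hnj]
  have hab : a * (n * a * n⁻¹) = (n * a * n⁻¹) * a := H.comm a ha _ hb
  have haj : a * j = j * a := H.cent₁ a ha
  have hbj : (n * a * n⁻¹) * j = j * (n * a * n⁻¹) := H.cent₂ _ hb
  have huu : (a * (n * a * n⁻¹)) * (a * (n * a * n⁻¹)) = 1 := by
    calc (a * (n * a * n⁻¹)) * (a * (n * a * n⁻¹))
        = a * ((n * a * n⁻¹) * a) * (n * a * n⁻¹) := by group
      _ = a * (a * (n * a * n⁻¹)) * (n * a * n⁻¹) := by rw [← hab]
      _ = (a * a) * ((n * a * n⁻¹) * (n * a * n⁻¹)) := by group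
      _ = 1 := by rw [haa, hbb, H.j_sq]
  -- `b ∉ L₁`
  have hbL : n * a * n⁻¹ ∉ L₁ := by
    intro hb1
    rcases H.inter _ hb1 hb with h | h
    · rw [h, one_mul] at hbb
      exact H.j_ne hbb.symm
    · rw [h, H.j_sq] at hbb
      exact H.j_ne hbb.symm
  refine ⟨hb, hbb, ?_, huu, ?_, ?_, ?_⟩
  · calc (a * (n * a * n⁻¹)) * j = a * ((n * a * n⁻¹) * j) := by group
      _ = a * (j * (n * a * n⁻¹)) := by rw [hbj]
      _ = (a * j) * (n * a * n⁻¹) := by group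
      _ = (j * a) * (n * a * n⁻¹) := by rw [haj]
      _ = j * (a * (n * a * n⁻¹)) := by group
  · intro h
    apply hbL
    have e : n * a * n⁻¹ = a⁻¹ * (a * (n * a * n⁻¹)) := by group
    rw [e, h, mul_one]
    exact L₁.inv_mem ha
  · intro h
    apply hbL
    have e : n * a * n⁻¹ = a⁻¹ * (a * (n * a * n⁻¹)) := by group
    rw [e, h]
    exact L₁.mul_mem (L₁.inv_mem ha) H.j_mem₁
  · have hnn : n * (n * a * n⁻¹) * n⁻¹ = a := by
      have e : n * (n * a * n⁻¹) * n⁻¹ = (n * n) * a * (n * n)⁻¹ := by group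
      rw [e, H.n_sq]
      have : j * a * j⁻¹ = (j * a) * j⁻¹ := by group
      rw [this, ← haj]
      group
    have e1 : n * (a * (n * a * n⁻¹)) = ((n * a * n⁻¹) * (n * (n * a * n⁻¹) * n⁻¹)) * n := by group
    rw [e1, hnn, ← hab]

end Cfsg.Agent.Lib.Helper19.FW
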