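/-
helper19: project FW (helper2, S3211), module [FW-F2] (hedge): square roots of `u` inside `L₁L₂` lie in
one coset of `{1, j, u, uj}`.
-/
import Mathlib
import Cfsg.Agent.Lib.Helper2.FWDefs
import Cfsg.Agent.Lib.Helper19.FWU

set_option autoImplicit false

namespace Cfsg.Agent.Lib.Helper19.FW

open Cfsg.Agent.Lib.Helper2.FW

variable {G : Type*} [Group G] {L₁ L₂ : Subgroup G} {j n : G}

/-- [FW-F2] square roots of `u` inside `L₁L₂` lie in one coset of `{1, j, u, uj}`. -/
theorem roots_in_L (H : Hyp L₁ L₂ j n) {a : G} (ha : a ∈ L₁) (haa : a * a = j) {s k : G}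
    (hs : InL L₁ L₂ s) (hk : InL L₁ L₂ k) (hss : s * s = a * (n * a * n⁻¹))
    (hkk : k * k = a * (n * a * n⁻¹)) :
    k = s ∨ k = s * j ∨ k = s * (a * (n * a * n⁻¹)) ∨ k = s * ((a * (n * a * n⁻¹)) * j) := by
  obtain ⟨hb, hbb, huj, -, -, -, -⟩ := u_facts H ha haa
  set b : G := n * a * n⁻¹ with hbdef
  have hjinv : j⁻¹ = j := by
    have : j⁻¹ = j⁻¹ * (j * j) := by rw [H.j_sq, mul_one]
    rw [this]; group
  have haj : a * j = j * a := H.cent₁ a ha
  have hbj : b * j = j * b := H.cent₂ b hb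
  have hbjb : b⁻¹ * j * b = j := by
    calc b⁻¹ * j * b = b⁻¹ * (j * b) := by group
      _ = b⁻¹ * (b * j) := by rw [hbj]
      _ = j := by group
  -- Lemma A
  have A : ∀ x ∈ L₁, ∀ y ∈ L₂, (x * y) * (x * y) = a * b →
      ∃ ε, (ε = 1 ∨ ε = j) ∧ x * x = a * ε ∧ y * y = ε * b ∧ x * a = a * x ∧ y * b = b * y := by
    intro x hx y hy h
    have hxy : x * y = y * x := H.comm x hx y hy
    have h1 : (x * x) * (y * y) = a * b := by
      rw [← h]
      calc (x * x) * (y * y) = x * (x * y) * y := by group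
        _ = x * (y * x) * y := by rw [hxy]
        _ = (x * y) * (x * y) := by group
    obtain ⟨ε, hεdef⟩ : ∃ ε, ε = a⁻¹ * (x * x) := ⟨_, rfl⟩
    have hε1 : ε ∈ L₁ := by
      rw [hεdef]; exact L₁.mul_mem (L₁.inv_mem ha) (L₁.mul_mem hx hx)
    have hε2 : ε ∈ L₂ := by
      have e : ε = b * (y * y)⁻¹ := by
        calc ε = a⁻¹ * ((x * x) * (y * y)) * (y * y)⁻¹ := by rw [hεdef]; group
          _ = a⁻¹ * (a * b) * (y * y)⁻¹ := by rw [h1]
          _ = b * (y * y)⁻¹ := by group
      rw [e]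
      exact L₂.mul_mem hb (L₂.inv_mem (L₂.mul_mem hy hy))
    have hxx : x * x = a * ε := by rw [hεdef]; group
    have hyy : y * y = ε⁻¹ * b := by
      calc y * y = (x * x)⁻¹ * ((x * x) * (y * y)) := by group
        _ = (x * x)⁻¹ * (a * b) := by rw [h1]
        _ = ε⁻¹ * b := by rw [hεdef]; group
    have hxj : x * j = j * x := H.cent₁ x hx
    have hyj : y * j = j * y := H.cent₂ y hy
    rcases H.inter _ hε1 hε2 with he | he
    · rw [he, mul_one] at hxx
      rw [he, inv_one, one_mul] at hyy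
      refine ⟨1, Or.inl rfl, by rw [hxx, mul_one], by rw [hyy, one_mul], ?_, ?_⟩
      · rw [← hxx]; group
      · rw [← hyy]; group
    · rw [he] at hxx
      rw [he, hjinv] at hyy
      refine ⟨j, Or.inr rfl, hxx, hyy, ?_, ?_⟩
      · have haE : a = (x * x) * j := by
          rw [hxx]
          calc a = a * (j * j) := by rw [H.j_sq, mul_one]
            _ = a * j * j := by group
        calc x * a = x * ((x * x) * j) := by rw [← haE]
          _ = (x * x) * (x * j) := by group
          _ = (x * x) * (j * x) := by rw [hxj]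
          _ = ((x * x) * j) * x := by group
          _ = a * x := by rw [← haE]
      · have hbE : b = j * (y * y) := by
          rw [hyy]
          calc b = (j * j) * b := by rw [H.j_sq, one_mul]
            _ = j * (j * b) := by group
        calc y * b = y * (j * (y * y)) := by rw [← hbE]
          _ = (y * j) * (y * y) := by group
          _ = (j * y) * (y * y) := by rw [hyj]
          _ = (j * (y * y)) * y := by group
          _ = b * y := by rw [← hbE]
  obtain ⟨x, hx, y, hy, rfl⟩ := hs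
  obtain ⟨x', hx', y', hy', rfl⟩ := hk
  obtain ⟨ε, hε, hxx, hyy, hxa, hyb⟩ := A x hx y hy hss
  obtain ⟨ε', hε', hxx', hyy', hxa', hyb'⟩ := A x' hx' y' hy' hkk
  have hxc : x * x' = x' * x := H.abel₁ a ha haa x hx x' hx' hxa hxa'
  have hyc : y * y' = y' * y := H.abel₂ b hb hbb y hy y' hy' hyb hyb'
  obtain ⟨p, hpdef⟩ : ∃ p, p = x⁻¹ * x' := ⟨_, rfl⟩
  obtain ⟨q, hqdef⟩ : ∃ q, q = y⁻¹ * y' := ⟨_, rfl⟩
  have hp : p ∈ L₁ := by rw [hpdef]; exact L₁.mul_mem (L₁.inv_mem hx) hx'
  have hq : q ∈ L₂ := by rw [hqdef]; exact L₂.mul_mem (L₂.inv_mem hy) hy'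
  have hkeq : x' * y' = (x * y) * (p * q) := by
    have hpy : p * y = y * p := H.comm p hp y hy
    calc x' * y' = x * (p * y) * q := by rw [hpdef, hqdef]; group
      _ = x * (y * p) * q := by rw [hpy]
      _ = (x * y) * (p * q) := by group
  have hxinv : x' * x⁻¹ = x⁻¹ * x' := by
    calc x' * x⁻¹ = x⁻¹ * (x * x') * x⁻¹ := by group
      _ = x⁻¹ * (x' * x) * x⁻¹ := by rw [hxc]
      _ = x⁻¹ * x' := by group
  have hyinv : y' * y⁻¹ = y⁻¹ * y' := by
    calc y' * y⁻¹ = y⁻¹ * (y * y') * y⁻¹ := by group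
      _ = y⁻¹ * (y' * y) * y⁻¹ := by rw [hyc]
      _ = y⁻¹ * y' := by group
  have hpp : p * p = ε⁻¹ * ε' := by
    calc p * p = x⁻¹ * (x' * x⁻¹) * x' := by rw [hpdef]; group
      _ = x⁻¹ * (x⁻¹ * x') * x' := by rw [hxinv]
      _ = (x * x)⁻¹ * (x' * x') := by group
      _ = (a * ε)⁻¹ * (a * ε') := by rw [hxx, hxx']
      _ = ε⁻¹ * ε' := by group
  have hqq : q * q = b⁻¹ * (ε⁻¹ * ε') * b := by
    calc q * q = y⁻¹ * (y' * y⁻¹) * y' := by rw [hqdef]; group
      _ = y⁻¹ * (y⁻¹ * y') * y' := by rw [hyinv]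
      _ = (y * y)⁻¹ * (y' * y') := by group
      _ = (ε * b)⁻¹ * (ε' * b) := by rw [hyy, hyy']
      _ = b⁻¹ * (ε⁻¹ * ε') * b := by group
  have hη : (p * p = 1 ∧ q * q = 1) ∨ (p * p = j ∧ q * q = j) := by
    rcases hε with rfl | rfl <;> rcases hε' with rfl | rfl
    · left
      refine ⟨by rw [hpp]; group, by rw [hqq]; group⟩
    · right
      refine ⟨by rw [hpp]; group, ?_⟩
      rw [hqq, inv_one, one_mul, hbjb]
    · right
      refine ⟨by rw [hpp, mul_one, hjinv], ?_⟩
      rw [hqq, mul_one, hjinv, hbjb]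
    · left
      refine ⟨by rw [hpp]; group, by rw [hqq]; group⟩
  rw [hkeq]
  rcases hη with ⟨h1, h2⟩ | ⟨h1, h2⟩
  · rcases H.invol₁ p hp h1 with rfl | rfl <;> rcases H.invol₂ q hq h2 with rfl | rfl
    · left; rw [mul_one, mul_one]
    · right; left; rw [one_mul]
    · right; left; rw [mul_one]
    · left; rw [H.j_sq, mul_one]
  · -- `p ∈ {a, j a}`, `q ∈ {b, j b}`
    have hpa : p * a = a * p := by
      have hxia : x⁻¹ * a = a * x⁻¹ := by
        calc x⁻¹ * a = x⁻¹ * (a * x) * x⁻¹ := by group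
          _ = x⁻¹ * (x * a) * x⁻¹ := by rw [hxa]
          _ = a * x⁻¹ := by group
      calc p * a = x⁻¹ * (x' * a) := by rw [hpdef]; group
        _ = x⁻¹ * (a * x') := by rw [hxa']
        _ = (x⁻¹ * a) * x' := by group
        _ = (a * x⁻¹) * x' := by rw [hxia]
        _ = a * p := by rw [hpdef]; group
    have hqb : q * b = b * q := by
      have hyib : y⁻¹ * b = b * y⁻¹ := by
        calc y⁻¹ * b = y⁻¹ * (b * y) * y⁻¹ := by group
          _ = y⁻¹ * (y * b) * y⁻¹ := by rw [hyb]
          _ = b * y⁻¹ := by group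
      calc q * b = y⁻¹ * (y' * b) := by rw [hqdef]; group
        _ = y⁻¹ * (b * y') := by rw [hyb']
        _ = (y⁻¹ * b) * y' := by group
        _ = (b * y⁻¹) * y' := by rw [hyib]
        _ = b * q := by rw [hqdef]; group
    have hpa1 : (p * a⁻¹) * (p * a⁻¹) = 1 := by
      have hpai : a⁻¹ * p = p * a⁻¹ := by
        calc a⁻¹ * p = a⁻¹ * (p * a) * a⁻¹ := by group
          _ = a⁻¹ * (a * p) * a⁻¹ := by rw [hpa]
          _ = p * a⁻¹ := by group
      calc (p * a⁻¹) * (p * a⁻¹) = p * (a⁻¹ * p) * a⁻¹ := by group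
        _ = p * (p * a⁻¹) * a⁻¹ := by rw [hpai]
        _ = (p * p) * (a * a)⁻¹ := by group
        _ = 1 := by rw [h1, haa, mul_inv_cancel]
    have hqb1 : (q * b⁻¹) * (q * b⁻¹) = 1 := by
      have hqbi : b⁻¹ * q = q * b⁻¹ := by
        calc b⁻¹ * q = b⁻¹ * (q * b) * b⁻¹ := by group
          _ = b⁻¹ * (b * q) * b⁻¹ := by rw [hqb]
          _ = q * b⁻¹ := by group
      calc (q * b⁻¹) * (q * b⁻¹) = q * (b⁻¹ * q) * b⁻¹ := by group
        _ = q * (q * b⁻¹) * b⁻¹ := by rw [hqbi]
        _ = (q * q) * (b * b)⁻¹ := by group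
        _ = 1 := by rw [h2, hbb, mul_inv_cancel]
    have hpcases : p = a ∨ p = j * a := by
      rcases H.invol₁ (p * a⁻¹) (L₁.mul_mem hp (L₁.inv_mem ha)) hpa1 with h | h
      · left
        calc p = (p * a⁻¹) * a := by group
          _ = a := by rw [h, one_mul]
      · right
        calc p = (p * a⁻¹) * a := by group
          _ = j * a := by rw [h]
    have hqcases : q = b ∨ q = j * b := by
      rcases H.invol₂ (q * b⁻¹) (L₂.mul_mem hq (L₂.inv_mem hb)) hqb1 with h | h
      · left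
        calc q = (q * b⁻¹) * b := by group
          _ = b := by rw [h, one_mul]
      · right
        calc q = (q * b⁻¹) * b := by group
          _ = j * b := by rw [h]
    rcases hpcases with hp' | hp' <;> rcases hqcases with hq' | hq'
    · right; right; left
      rw [hp', hq']
    · right; right; right
      rw [hp', hq']
      congr 1
      calc a * (j * b) = a * (b * j) := by rw [hbj]
        _ = (a * b) * j := by group
    · right; right; right
      rw [hp', hq']
      congr 1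
      calc (j * a) * b = j * (a * b) := by group
        _ = (a * b) * j := by rw [← huj]
    · right; right; left
      rw [hp', hq']
      congr 1
      calc (j * a) * (j * b) = (j * a) * (b * j) := by rw [hbj]
        _ = j * (a * b) * j := by group
        _ = (a * b) * j * j := by rw [← huj]
        _ = (a * b) * (j * j) := by group
        _ = a * b := by rw [H.j_sq, mul_one]

end Cfsg.Agent.Lib.Helper19.FW
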