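/-
helper19: project FW (helper2, S3211), module [FW-F3]: four square roots of `j` inside `L₁L₂`.
-/
import Mathlib
import Cfsg.Agent.Lib.Helper2.FWDefs
import Cfsg.Agent.Lib.Helper19.FWU

set_option autoImplicit false

namespace Cfsg.Agent.Lib.Helper19.FW

open Cfsg.Agent.Lib.Helper2.FW

variable {G : Type*} [Group G] {L₁ L₂ : Subgroup G} {j n : G}

/-- [FW-F3] four square roots of `j` inside `L₁L₂`. -/
theorem four_roots (H : Hyp L₁ L₂ j n) {a : G} (ha : a ∈ L₁) (haa : a * a = j) :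
    ({a, a⁻¹, n * a * n⁻¹, (n * a * n⁻¹)⁻¹} : Set G) ⊆
        Roots j (a * (n * a * n⁻¹)) j ∩ {k | InL L₁ L₂ k} ∧
      ({a, a⁻¹, n * a * n⁻¹, (n * a * n⁻¹)⁻¹} : Set G).ncard = 4 := by
  obtain ⟨hb, hbb, -, -, -, -, -⟩ := u_facts H ha haa
  set b : G := n * a * n⁻¹ with hbdef
  have hab : a * b = b * a := H.comm a ha b hb
  have haj : a * j = j * a := H.cent₁ a ha
  have hbj : b * j = j * b := H.cent₂ b hb
  have hjinv : j⁻¹ = j := by
    have : j⁻¹ = j⁻¹ * (j * j) := by rw [H.j_sq, mul_one]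
    rw [this]; group
  -- `b ∉ L₁`, `a ∉ L₂`
  have hbL : b ∉ L₁ := by
    intro hb1
    rcases H.inter _ hb1 hb with h | h
    · rw [h, one_mul] at hbb
      exact H.j_ne hbb.symm
    · rw [h, H.j_sq] at hbb
      exact H.j_ne hbb.symm
  have hbinvL : b⁻¹ ∉ L₁ := fun h => hbL (by simpa using L₁.inv_mem h)
  have ha1 : a ≠ a⁻¹ := by
    intro h
    have : a * a = 1 := by
      calc a * a = a * a⁻¹ := by rw [← h]
        _ = 1 := mul_inv_cancel a
    rw [haa] at this
    exact H.j_ne this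
  have hb1 : b ≠ b⁻¹ := by
    intro h
    have : b * b = 1 := by
      calc b * b = b * b⁻¹ := by rw [← h]
        _ = 1 := mul_inv_cancel b
    rw [hbb] at this
    exact H.j_ne this
  -- closure of the conditions under inverses
  have key : ∀ k : G, k * j = j * k → k * (a * b) = (a * b) * k → k * k = j →
      k⁻¹ * j = j * k⁻¹ ∧ k⁻¹ * (a * b) = (a * b) * k⁻¹ ∧ k⁻¹ * k⁻¹ = j := by
    intro k h1 h2 h3
    refine ⟨?_, ?_, ?_⟩
    · calc k⁻¹ * j = k⁻¹ * (j * k) * k⁻¹ := by group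
        _ = k⁻¹ * (k * j) * k⁻¹ := by rw [h1]
        _ = j * k⁻¹ := by group
    · calc k⁻¹ * (a * b) = k⁻¹ * ((a * b) * k) * k⁻¹ := by group
        _ = k⁻¹ * (k * (a * b)) * k⁻¹ := by rw [h2]
        _ = (a * b) * k⁻¹ := by group
    · calc k⁻¹ * k⁻¹ = (k * k)⁻¹ := by group
        _ = j := by rw [h3, hjinv]
  have hau : a * (a * b) = (a * b) * a := by
    calc a * (a * b) = a * (b * a) := by rw [hab]
      _ = (a * b) * a := by group
  have hbu : b * (a * b) = (a * b) * b := by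
    calc b * (a * b) = (b * a) * b := by group
      _ = (a * b) * b := by rw [hab]
  constructor
  · intro k hk
    simp only [Set.mem_insert_iff, Set.mem_singleton_iff] at hk
    rcases hk with rfl | rfl | rfl | rfl
    · exact ⟨⟨haj, hau, haa⟩, ⟨k, ha, 1, L₂.one_mem, (mul_one k).symm⟩⟩
    · exact ⟨key a haj hau haa, ⟨a⁻¹, L₁.inv_mem ha, 1, L₂.one_mem, (mul_one _).symm⟩⟩
    · exact ⟨⟨hbj, hbu, hbb⟩, ⟨1, L₁.one_mem, b, hb, (one_mul _).symm⟩⟩
    · exact ⟨key b hbj hbu hbb, ⟨1, L₁.one_mem, b⁻¹, L₂.inv_mem hb, (one_mul _).symm⟩⟩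
  · have h3 : b ∉ ({b⁻¹} : Set G) := by
      simpa using hb1
    have h2 : a⁻¹ ∉ ({b, b⁻¹} : Set G) := by
      simp only [Set.mem_insert_iff, Set.mem_singleton_iff, not_or]
      constructor
      · intro h
        exact hbL (h ▸ L₁.inv_mem ha)
      · intro h
        exact hbinvL (h ▸ L₁.inv_mem ha)
    have h1 : a ∉ ({a⁻¹, b, b⁻¹} : Set G) := by
      simp only [Set.mem_insert_iff, Set.mem_singleton_iff, not_or]
      refine ⟨ha1, ?_, ?_⟩
      · intro h
        exact hbL (h ▸ ha)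
      · intro h
        exact hbinvL (h ▸ ha)
    rw [Set.ncard_insert_of_notMem h1, Set.ncard_insert_of_notMem h2, Set.ncard_insert_of_notMem h3,
      Set.ncard_singleton]

end Cfsg.Agent.Lib.Helper19.FW
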