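import Mathlib

set_option autoImplicit false

namespace Cfsg.Agent.Lib.Helper19

open Matrix

section Block

variable {F : Type*} [Field F] {α β γ : Type*} [Fintype α] [DecidableEq α] [Fintype β]
  [DecidableEq β] [Fintype γ] [DecidableEq γ] (e : α ⊕ β ≃ γ)

/-- Block-diagonal embedding `(X, A) ↦ diag(X, A)`, reindexed along `e`, as a monoid hom. -/
noncomputable def blk : Matrix α α F × Matrix β β F →* Matrix γ γ F where
  toFun p := reindexAlgEquiv F F e (fromBlocks p.1 0 0 p.2)
  map_one' := by
    simp only [Prod.fst_one, Prod.snd_one, fromBlocks_one, map_one]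
  map_mul' p q := by
    simp only [Prod.fst_mul, Prod.snd_mul]
    rw [← map_mul, fromBlocks_multiply]
    simp

theorem blk_apply (p : Matrix α α F × Matrix β β F) :
    blk e p = reindexAlgEquiv F F e (fromBlocks p.1 0 0 p.2) := rfl

theorem blk_injective : Function.Injective (blk (F := F) e) := by
  intro p q h
  have h1 := (reindexAlgEquiv F F e).injective h
  rw [fromBlocks_inj] at h1
  exact Prod.ext h1.1 h1.2.2.2

/-- The diagonal involution `diag(-1, 1)` as a unit of the product monoid. -/
noncomputable def tU : (Matrix α α F × Matrix β β F)ˣ :=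
  MulEquiv.prodUnits.symm (-1, 1)

/-- The involution `diag(-1, 1)` in `GL`. -/
noncomputable def tGL : GL γ F := Units.map (blk (F := F) e) tU

theorem tGL_val : ((tGL (F := F) e : GL γ F) : Matrix γ γ F) =
    reindexAlgEquiv F F e (fromBlocks (-1 : Matrix α α F) 0 0 (1 : Matrix β β F)) := by
  rfl

theorem tGL_sq : (tGL (F := F) e) ^ 2 = 1 := by
  have h : (tU : (Matrix α α F × Matrix β β F)ˣ) ^ 2 = 1 := by
    rw [tU, ← map_pow]
    have : ((-1, 1) : (Matrix α α F)ˣ × (Matrix β β F)ˣ) ^ 2 = 1 := by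
      ext <;> simp
    rw [this, map_one]
  rw [tGL, ← map_pow, h, map_one]

theorem eq_zero_of_eq_neg {m n : Type*} (h2 : (2 : F) ≠ 0) (X : Matrix m n F) (hX : X = -X) :
    X = 0 := by
  ext i j
  have h3 : X i j = -X i j := by
    have := congrFun (congrFun hX i) j
    simpa using this
  have h4 : (2 : F) * X i j = 0 := by
    rw [two_mul]
    nth_rewrite 1 [h3]
    exact neg_add_cancel _
  rcases mul_eq_zero.1 h4 with h5 | h5
  · exact absurd h5 h2
  · simpa using h5

/-- A matrix commuting with `diag(-1, 1)` is block diagonal (characteristic not two). -/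
theorem exists_blk_of_commute (h2 : (2 : F) ≠ 0) (M : Matrix γ γ F)
    (hM : M * ((tGL (F := F) e : GL γ F) : Matrix γ γ F) =
      ((tGL (F := F) e : GL γ F) : Matrix γ γ F) * M) :
    ∃ p : Matrix α α F × Matrix β β F, blk e p = M := by
  set R := reindexAlgEquiv F F e with hR
  set M' := R.symm M with hM'
  have hMM : M = R M' := by rw [hM', AlgEquiv.apply_symm_apply]
  rw [tGL_val, ← hR, hMM, ← map_mul, ← map_mul] at hM
  have h1 := R.injective hM
  rw [← fromBlocks_toBlocks M', fromBlocks_multiply, fromBlocks_multiply, fromBlocks_inj] at h1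
  obtain ⟨-, hB, hC, -⟩ := h1
  simp only [Matrix.mul_zero, Matrix.mul_one, zero_add, Matrix.neg_mul, Matrix.one_mul,
    Matrix.zero_mul, add_zero, Matrix.mul_neg] at hB hC
  have hB0 : M'.toBlocks₁₂ = 0 := eq_zero_of_eq_neg h2 _ hB
  have hC0 : M'.toBlocks₂₁ = 0 := eq_zero_of_eq_neg h2 _ hC.symm
  refine ⟨(M'.toBlocks₁₁, M'.toBlocks₂₂), ?_⟩
  rw [blk_apply, hMM, ← hR]
  congr 1
  rw [← fromBlocks_toBlocks M']
  simp only [toBlocks_fromBlocks₁₁, toBlocks_fromBlocks₂₂]
  rw [fromBlocks_inj]
  refine ⟨?_, ?_, ?_, ?_⟩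
  · simp
  · simpa using hB0.symm
  · simpa using hC0.symm
  · simp

/-- Every element of `GL` commuting with `diag(-1, 1)` comes from a unit of the product. -/
theorem exists_unit_of_commute (h2 : (2 : F) ≠ 0) (g : GL γ F)
    (hg : g * tGL (F := F) e = tGL (F := F) e * g) :
    ∃ u : (Matrix α α F × Matrix β β F)ˣ, Units.map (blk (F := F) e) u = g := by
  have h1 : (g : Matrix γ γ F) * ((tGL (F := F) e : GL γ F) : Matrix γ γ F) =
      ((tGL (F := F) e : GL γ F) : Matrix γ γ F) * (g : Matrix γ γ F) := by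
    have := congrArg (fun x : GL γ F => (x : Matrix γ γ F)) hg
    simpa using this
  have hg' : g⁻¹ * tGL (F := F) e = tGL (F := F) e * g⁻¹ := by
    have : g⁻¹ * (g * tGL (F := F) e) * g⁻¹ = g⁻¹ * (tGL (F := F) e * g) * g⁻¹ := by rw [hg]
    simpa [mul_assoc] using this.symm
  have h1' : ((g⁻¹ : GL γ F) : Matrix γ γ F) * ((tGL (F := F) e : GL γ F) : Matrix γ γ F) =
      ((tGL (F := F) e : GL γ F) : Matrix γ γ F) * ((g⁻¹ : GL γ F) : Matrix γ γ F) := by
    have := congrArg (fun x : GL γ F => (x : Matrix γ γ F)) hg'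
    simpa using this
  obtain ⟨p, hp⟩ := exists_blk_of_commute e h2 _ h1
  obtain ⟨q, hq⟩ := exists_blk_of_commute e h2 _ h1'
  have hpq : p * q = 1 := by
    apply blk_injective (F := F) e
    rw [map_mul, hp, hq, map_one]
    exact g.mul_inv
  have hqp : q * p = 1 := by
    apply blk_injective (F := F) e
    rw [map_mul, hp, hq, map_one]
    exact g.inv_mul
  refine ⟨⟨p, q, hpq, hqp⟩, ?_⟩
  apply Units.ext
  exact hp

/-- The embedding `A ↦ diag(1, A)` of `SL` into the product of units. -/
noncomputable def psi0 : SpecialLinearGroup β F →* (Matrix α α F × Matrix β β F)ˣ :=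
  (MulEquiv.prodUnits (M := Matrix α α F) (N := Matrix β β F)).symm.toMonoidHom.comp
    ((1 : SpecialLinearGroup β F →* (Matrix α α F)ˣ).prod SpecialLinearGroup.toGL)

/-- The embedding `A ↦ diag(1, A)` of `SL` into `GL`. -/
noncomputable def psi1 : SpecialLinearGroup β F →* GL γ F :=
  (Units.map (blk (F := F) e)).comp psi0

theorem psi1_injective : Function.Injective (psi1 (F := F) (α := α) (β := β) e) := by
  intro A B h
  have h1 : psi0 (α := α) A = psi0 (α := α) B := Units.map_injective (blk_injective (F := F) e) h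
  have h2 := (MulEquiv.prodUnits (M := Matrix α α F) (N := Matrix β β F)).symm.injective h1
  have h3 : SpecialLinearGroup.toGL A = SpecialLinearGroup.toGL B := congrArg Prod.snd h2
  exact SpecialLinearGroup.toGL_injective h3

theorem psi0_commute (A : SpecialLinearGroup β F) :
    psi0 (α := α) A * tU = tU * psi0 (α := α) A := by
  rw [psi0, tU]
  simp only [MonoidHom.comp_apply, MulEquiv.coe_toMonoidHom, ← map_mul]
  congr 1
  ext <;> simp

theorem psi1_commute (A : SpecialLinearGroup β F) :
    psi1 (α := α) e A * tGL (F := F) e = tGL (F := F) e * psi1 (α := α) e A := by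
  rw [psi1, tGL, MonoidHom.comp_apply, ← map_mul, ← map_mul, psi0_commute]

/-- Conjugating `diag(1, A)` by a unit of the product stays in the image. -/
theorem exists_psi0_conj (u : (Matrix α α F × Matrix β β F)ˣ) (A : SpecialLinearGroup β F) :
    ∃ A' : SpecialLinearGroup β F, psi0 (α := α) A' = u * psi0 (α := α) A * u⁻¹ := by
  set x := (MulEquiv.prodUnits u).1 with hx
  set b : GL β F := (MulEquiv.prodUnits u).2 with hb
  have hu : u = MulEquiv.prodUnits.symm (x, b) := by
    rw [hx, hb, Prod.mk.eta, MulEquiv.symm_apply_apply]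
  have hdet : ((b * SpecialLinearGroup.toGL A * b⁻¹ : GL β F) : Matrix β β F).det = 1 := by
    have h1 : GeneralLinearGroup.det (b * SpecialLinearGroup.toGL A * b⁻¹) = 1 := by
      rw [map_mul, map_mul, map_inv, mul_comm (GeneralLinearGroup.det b), mul_assoc,
        mul_inv_cancel, mul_one]
      apply Units.ext
      simp [SpecialLinearGroup.toGL]
    have h2 := congrArg (fun z : Fˣ => (z : F)) h1
    simp only [GeneralLinearGroup.val_det_apply, Units.val_one] at h2
    exact h2
  refine ⟨⟨((b * SpecialLinearGroup.toGL A * b⁻¹ : GL β F) : Matrix β β F), hdet⟩, ?_⟩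
  rw [hu]
  show MulEquiv.prodUnits.symm ((1 : (Matrix α α F)ˣ), SpecialLinearGroup.toGL
      (⟨((b * SpecialLinearGroup.toGL A * b⁻¹ : GL β F) : Matrix β β F), hdet⟩ :
        SpecialLinearGroup β F)) =
    MulEquiv.prodUnits.symm (x, b) *
      MulEquiv.prodUnits.symm ((1 : (Matrix α α F)ˣ), SpecialLinearGroup.toGL A) *
      (MulEquiv.prodUnits.symm (x, b))⁻¹
  rw [← map_inv, ← map_mul, ← map_mul]
  congr 1
  refine Prod.ext ?_ ?_
  · simp
  · apply Units.ext
    simp [SpecialLinearGroup.toGL]

end Block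

end Cfsg.Agent.Lib.Helper19
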