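import Mathlib
import Cfsg.Agent.Lib.Helper76.GOut.GlueDefs
import Cfsg.Agent.Lib.Helper92.GOutSM
import Cfsg.Agent.Lib.Helper53.FrattiniAut

/-! # GOUT-[GL-AB] kit (project GOUT = S3066, coordinator helper76)

General lemmas: a group of exponent 2 generated by three elements has order dividing 8; the action of
`MulAut P` on `P ⧸ frattini P`; odd-order automorphisms of a 2-group trivial modulo the Frattini
subgroup are trivial; solvable quotient gives `SolvMod ⊤ N`.
-/

set_option autoImplicit false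
set_option linter.unusedSectionVars false

namespace Cfsg.Agent.Lib.Helper19.GOutGL

open Cfsg.Agent.Lib.Helper76.GOut

/-- A finite group in which all squares are trivial has 2-power order. -/
theorem exists_card_eq_two_pow {Q : Type*} [Group Q] [Finite Q] (hsq : ∀ q : Q, q * q = 1) :
    ∃ n : ℕ, Nat.card Q = 2 ^ n := by
  have hP : IsPGroup 2 Q := fun q => ⟨1, by rw [pow_one, pow_two]; exact hsq q⟩
  exact IsPGroup.iff_card.1 hP

theorem card_dvd_four_of_closure_pair {Q : Type*} [Group Q] [Finite Q] (hsq : ∀ q : Q, q * q = 1)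
    (u v : Q) (hgen : Subgroup.closure ({u, v} : Set Q) = ⊤) : Nat.card Q ∣ 4 := by
  have h4 := Cfsg.Agent.Lib.Helper53.card_le_four_of_closure_pair hsq u v hgen
  obtain ⟨n, hn⟩ := exists_card_eq_two_pow hsq
  rw [hn] at h4 ⊢
  have hn2 : n ≤ 2 := by
    by_contra hcon
    push Not at hcon
    have : 2 ^ 3 ≤ 2 ^ n := Nat.pow_le_pow_right (by norm_num) hcon
    omega
  exact pow_dvd_pow 2 hn2

/-- A group generated by three elements in which all squares are trivial has order dividing `8`. -/
theorem card_dvd_eight_of_closure_triple {Q : Type*} [Group Q] [Finite Q]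
    (hsq : ∀ q : Q, q * q = 1) (u v w : Q)
    (hgen : Subgroup.closure ({u, v, w} : Set Q) = ⊤) : Nat.card Q ∣ 8 := by
  classical
  have hinv : ∀ q : Q, q⁻¹ = q := fun q => inv_eq_of_mul_eq_one_right (hsq q)
  have hcomm : ∀ x y : Q, x * y = y * x := by
    intro x y
    have h2 : x * y = (x * y)⁻¹ := (hinv _).symm
    rw [h2, mul_inv_rev, hinv, hinv]
  let _ : CommGroup Q := { (inferInstance : Group Q) with mul_comm := hcomm }
  have hu2 : u ^ 2 = 1 := by rw [pow_two]; exact hsq u
  have hv2 : v ^ 2 = 1 := by rw [pow_two]; exact hsq v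
  have hw2 : w ^ 2 = 1 := by rw [pow_two]; exact hsq w
  have hall : ∀ q : Q, ∃ i j k : ℕ, q = u ^ i * v ^ j * w ^ k := by
    intro q
    have hq : q ∈ Subgroup.closure ({u, v, w} : Set Q) := by rw [hgen]; exact Subgroup.mem_top q
    induction hq using Subgroup.closure_induction with
    | mem x hx =>
      rcases hx with rfl | rfl | rfl
      · exact ⟨1, 0, 0, by simp⟩
      · exact ⟨0, 1, 0, by simp⟩
      · exact ⟨0, 0, 1, by simp⟩
    | one => exact ⟨0, 0, 0, by simp⟩
    | mul x y _ _ hx hy =>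
      obtain ⟨i, j, k, rfl⟩ := hx
      obtain ⟨i', j', k', rfl⟩ := hy
      refine ⟨i + i', j + j', k + k', ?_⟩
      rw [mul_mul_mul_comm, mul_mul_mul_comm (u ^ i), ← pow_add, ← pow_add, ← pow_add]
    | inv x _ hx =>
      obtain ⟨i, j, k, rfl⟩ := hx
      exact ⟨i, j, k, hinv _⟩
  have hsurj : Function.Surjective
      (fun t : Fin 2 × Fin 2 × Fin 2 => u ^ t.1.val * v ^ t.2.1.val * w ^ t.2.2.val) := by
    intro q
    obtain ⟨i, j, k, rfl⟩ := hall q
    refine ⟨(⟨i % 2, Nat.mod_lt _ (by norm_num)⟩, ⟨j % 2, Nat.mod_lt _ (by norm_num)⟩,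
      ⟨k % 2, Nat.mod_lt _ (by norm_num)⟩), ?_⟩
    show u ^ (i % 2) * v ^ (j % 2) * w ^ (k % 2) = u ^ i * v ^ j * w ^ k
    rw [← pow_eq_pow_mod i hu2, ← pow_eq_pow_mod j hv2, ← pow_eq_pow_mod k hw2]
  have h8 : Nat.card Q ≤ 8 := by
    have h1 := Nat.card_le_card_of_surjective _ hsurj
    have h2 : Nat.card (Fin 2 × Fin 2 × Fin 2) = 8 := by
      rw [Nat.card_eq_fintype_card]; rfl
    omega
  obtain ⟨n, hn⟩ := exists_card_eq_two_pow hsq
  rw [hn] at h8 ⊢
  have hn3 : n ≤ 3 := by
    by_contra hcon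
    push Not at hcon
    have : 2 ^ 4 ≤ 2 ^ n := Nat.pow_le_pow_right (by norm_num) hcon
    omega
  exact pow_dvd_pow 2 hn3

section autQuot

variable (P : Type*) [Group P]

/-- The action of `MulAut P` on `P ⧸ frattini P`. -/
noncomputable def autQuot : MulAut P →* MulAut (P ⧸ frattini P) where
  toFun α := QuotientGroup.congr (frattini P) (frattini P) α
    (Subgroup.characteristic_iff_map_eq.1 frattini_characteristic α)
  map_one' := by
    ext x
    induction x using QuotientGroup.induction_on with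
    | H x => rfl
  map_mul' α β := by
    ext x
    induction x using QuotientGroup.induction_on with
    | H x => rfl

variable {P}

theorem autQuot_mk (α : MulAut P) (x : P) :
    autQuot P α (QuotientGroup.mk x) = QuotientGroup.mk (α x) := rfl

theorem mem_ker_autQuot (α : MulAut P) :
    α ∈ (autQuot P).ker ↔ ∀ x : P, x⁻¹ * α x ∈ frattini P := by
  rw [MonoidHom.mem_ker]
  constructor
  · intro h x
    have h1 : autQuot P α (QuotientGroup.mk x) = QuotientGroup.mk x := by rw [h]; rfl
    rw [autQuot_mk] at h1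
    exact QuotientGroup.eq.1 h1.symm
  · intro h
    ext x
    induction x using QuotientGroup.induction_on with
    | H x =>
      rw [autQuot_mk]
      exact (QuotientGroup.eq.2 (h x)).symm

/-- An automorphism of odd order of a finite `2`-group, trivial modulo the Frattini subgroup, is
trivial. -/
theorem eq_one_of_odd_of_mem_ker [Finite P] (hP : IsPGroup 2 P) (ψ : MulAut P)
    (hodd : Odd (orderOf ψ)) (hψ : ψ ∈ (autQuot P).ker) : ψ = 1 := by
  by_contra hne
  have hfin : Finite (MulAut P) :=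
    Finite.of_injective (fun φ : MulAut P => (φ : P → P)) DFunLike.coe_injective
  have hn1 : orderOf ψ ≠ 1 := fun h => hne (orderOf_eq_one_iff.1 h)
  obtain ⟨q, hq, hqd⟩ := Nat.exists_prime_and_dvd hn1
  have : Fact q.Prime := ⟨hq⟩
  have hq2 : q ≠ 2 := by
    rintro rfl
    have : ¬ Even (orderOf ψ) := Nat.not_even_iff_odd.2 hodd
    exact this (even_iff_two_dvd.2 hqd)
  obtain ⟨m, hm⟩ := hqd
  have h1 : (ψ ^ m) ^ q = 1 := by
    rw [← pow_mul, mul_comm, ← hm, pow_orderOf_eq_one]
  have h2 : ψ ^ m ∈ (autQuot P).ker := Subgroup.pow_mem _ hψ m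
  have h3 := Cfsg.Agent.Lib.Helper53.aut_eq_one_of_trivial_mod_frattini hP (ψ ^ m) q hq2 h1
    ((mem_ker_autQuot _).1 h2)
  have h4 : orderOf ψ ∣ m := orderOf_dvd_of_pow_eq_one h3
  have hpos : 0 < orderOf ψ := orderOf_pos ψ
  have hmpos : 0 < m := by
    rcases Nat.eq_zero_or_pos m with h0 | h0
    · rw [h0, mul_zero] at hm; omega
    · exact h0
  have h5 : orderOf ψ ≤ m := Nat.le_of_dvd hmpos h4
  have h6 : 2 ≤ q := hq.two_le
  nlinarith

end autQuot

/-- A solvable quotient gives `SolvMod ⊤ N`. -/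
theorem solvMod_top_of_isSolvable_quotient {A : Type*} [Group A] (N : Subgroup A) [N.Normal]
    (h : Group.IsSolvable (A ⧸ N)) : SolvMod (⊤ : Subgroup A) N := by
  have hs : Group.IsSolvable ↥((⊤ : Subgroup A).map (QuotientGroup.mk' N)) :=
    Group.isSolvable_of_isSolvable_injective
      (f := ((⊤ : Subgroup A).map (QuotientGroup.mk' N)).subtype) (Subgroup.subtype_injective _)
  have h1 := solvMod_of_isSolvable hs ⊥
  have h2 := SolvMod.of_map _ h1
  have e : (⊥ : Subgroup (A ⧸ N)).comap (QuotientGroup.mk' N) = N := by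
    rw [MonoidHom.comap_bot, QuotientGroup.ker_mk']
  rw [e] at h2
  exact h2

end Cfsg.Agent.Lib.Helper19.GOutGL
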