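import Mathlib
import Cfsg.Prelude.Def_KGroupFacts
import Cfsg.Agent.Lib.Helper76.GOut.GlueDefs
import Cfsg.Agent.Lib.Helper92.GOutSM
import Cfsg.Agent.Lib.Helper19.GOutGLAbKit
import Cfsg.Agent.S0144

/-! # GOUT-[GL-AB] (project GOUT = S3066, coordinator helper76), `_of` form

Cases (a) and (b): `N_A(S)` is solvable modulo the kernel on `S/Φ(S)` and the inner automorphisms.
The statements of [GL-AUT8] (`card_mulAut_dvd_168`, `card_mulAut_dvd_six`) and [GL-L168]
(`card_eq_168_of_not_isSolvable`) are taken as hypotheses.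
-/

set_option autoImplicit false
set_option linter.unusedSectionVars false

universe u

namespace Cfsg.Agent.Lib.Helper19.GOutGL

open Cfsg Cfsg.Agent.Lib.Helper76.GOut

variable {G : Type u} [Group G]

/-- The action of `N_A(S)` on `S/Φ(S)`. -/
noncomputable def frattAct (Ss : Subgroup G) : ↥(stabAut Ss) →* MulAut (↥Ss ⧸ frattini ↥Ss) :=
  (autQuot ↥Ss).comp (resAut Ss)

theorem mem_ker_frattAct {Ss : Subgroup G} (φ : ↥(stabAut Ss)) :
    φ ∈ (frattAct Ss).ker ↔ resAut Ss φ ∈ (autQuot ↥Ss).ker := Iff.rfl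

theorem map_ker_frattAct_le (Ss : Subgroup G) :
    (frattAct Ss).ker.map (stabAut Ss).subtype ≤ phiKer Ss := by
  rintro _ ⟨φ, hφ, rfl⟩
  have h1 : resAut Ss φ ∈ (autQuot ↥Ss).ker := hφ
  rw [mem_ker_autQuot] at h1
  refine ⟨φ.2, fun s hs => ?_⟩
  have h2 := h1 ⟨s, hs⟩
  exact ⟨_, h2, rfl⟩

/-- The inner automorphisms inside `N_A(S)`. -/
abbrev inn0 (Ss : Subgroup G) : Subgroup ↥(stabAut Ss) := (Inn G).subgroupOf (stabAut Ss)

/-- **GOUT-[GL-AB]**, `_of` form. -/
theorem solvMod_stabAut_phiKer_of [Finite G]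
    (hAut168 : ∀ (Q : Type u) [Group Q] [Finite Q], (∀ x : Q, x ^ 2 = 1) → Nat.card Q ∣ 8 →
      Nat.card (MulAut Q) ∣ 168)
    (hAut6 : ∀ (Q : Type u) [Group Q] [Finite Q], (∀ x : Q, x ^ 2 = 1) → Nat.card Q ∣ 4 →
      Nat.card (MulAut Q) ∣ 6)
    (hL168 : ∀ (H : Type u) [Group H] [Finite H], Nat.card H ∣ 168 → ¬ Group.IsSolvable H →
      Nat.card H = 168)
    (S : Sylow 2 G)
    (h : (∃ a b : ↥S, Subgroup.closure ({a, b} : Set ↥S) = ⊤) ∨
      ((∃ a b c : ↥S, Subgroup.closure ({a, b, c} : Set ↥S) = ⊤) ∧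
        ∃ g ∈ Subgroup.normalizer ((S : Subgroup G) : Set G), Odd (orderOf g) ∧
          g ∉ Subgroup.centralizer ((S : Subgroup G) : Set G))) :
    SolvMod (stabAut (S : Subgroup G))
      (phiKer (S : Subgroup G) ⊔ (stabAut (S : Subgroup G) ⊓ Inn G)) := by
  have hfinA : Finite (MulAut G) :=
    Finite.of_injective (fun φ : MulAut G => (φ : G → G)) DFunLike.coe_injective
  have hS2 : IsPGroup 2 ↥(S : Subgroup G) := S.2
  have hQsq : ∀ x : ↥(S : Subgroup G) ⧸ frattini ↥(S : Subgroup G), x * x = 1 := by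
    intro x
    induction x using QuotientGroup.induction_on with
    | H p =>
      rw [← QuotientGroup.mk_mul, ← pow_two]
      exact (QuotientGroup.eq_one_iff _).2 (Cfsg.Agent.Lib.Helper53.pow_prime_mem_frattini' hS2 p)
  have hQ2 : ∀ x : ↥(S : Subgroup G) ⧸ frattini ↥(S : Subgroup G), x ^ 2 = 1 :=
    fun x => by rw [pow_two]; exact hQsq x
  have hmk : Function.Surjective (QuotientGroup.mk' (frattini ↥(S : Subgroup G))) :=
    QuotientGroup.mk'_surjective _
  have hKM : (frattAct (S : Subgroup G)).ker ≤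
      (frattAct (S : Subgroup G)).ker ⊔ inn0 (S : Subgroup G) := le_sup_left
  have hKidx : (frattAct (S : Subgroup G)).ker.index ∣
      Nat.card (MulAut (↥(S : Subgroup G) ⧸ frattini ↥(S : Subgroup G))) := by
    rw [Subgroup.index_ker]
    exact Subgroup.card_subgroup_dvd_card _
  have hidx : ((frattAct (S : Subgroup G)).ker ⊔ inn0 (S : Subgroup G)).index ∣
      Nat.card (MulAut (↥(S : Subgroup G) ⧸ frattini ↥(S : Subgroup G))) :=
    (Subgroup.index_dvd_of_le hKM).trans hKidx
  have hsolv : Group.IsSolvable (↥(stabAut (S : Subgroup G)) ⧸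
      ((frattAct (S : Subgroup G)).ker ⊔ inn0 (S : Subgroup G))) := by
    rcases h with ⟨a, b, hab⟩ | ⟨⟨a, b, c, habc⟩, g, hgN, hgodd, hgC⟩
    · -- case (a)
      have hgen : Subgroup.closure ({QuotientGroup.mk' (frattini ↥(S : Subgroup G)) a,
          QuotientGroup.mk' (frattini ↥(S : Subgroup G)) b} :
          Set (↥(S : Subgroup G) ⧸ frattini ↥(S : Subgroup G))) = ⊤ := by
        have hab' : Subgroup.closure ({a, b} : Set ↥(S : Subgroup G)) = ⊤ := hab
        rw [← Set.image_pair, ← MonoidHom.map_closure, hab', Subgroup.map_top_of_surjective _ hmk]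
      have h4 := card_dvd_four_of_closure_pair hQsq _ _ hgen
      have h6 := hAut6 _ hQ2 h4
      have hcard : Nat.card (↥(stabAut (S : Subgroup G)) ⧸
          ((frattAct (S : Subgroup G)).ker ⊔ inn0 (S : Subgroup G))) ∣ 6 := by
        rw [← Subgroup.index_eq_card]; exact hidx.trans h6
      obtain ⟨a', b', hab'⟩ : ∃ a' b' : ℕ, Nat.card (↥(stabAut (S : Subgroup G)) ⧸
          ((frattAct (S : Subgroup G)).ker ⊔ inn0 (S : Subgroup G))) = 2 ^ a' * 3 ^ b' := by
        have hle := Nat.le_of_dvd (by norm_num) hcard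
        generalize Nat.card (↥(stabAut (S : Subgroup G)) ⧸
          ((frattAct (S : Subgroup G)).ker ⊔ inn0 (S : Subgroup G))) = n at hcard hle
        interval_cases n
        · exfalso; norm_num at hcard
        · exact ⟨0, 0, rfl⟩
        · exact ⟨1, 0, rfl⟩
        · exact ⟨0, 1, rfl⟩
        · exfalso; norm_num at hcard
        · exfalso; norm_num at hcard
        · exact ⟨1, 1, rfl⟩
      exact Cfsg.Agent.S0144.result 2 3 a' b' Nat.prime_two Nat.prime_three hab'
    · -- case (b)
      by_contra hns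
      have hgen : Subgroup.closure ({QuotientGroup.mk' (frattini ↥(S : Subgroup G)) a,
          QuotientGroup.mk' (frattini ↥(S : Subgroup G)) b,
          QuotientGroup.mk' (frattini ↥(S : Subgroup G)) c} :
          Set (↥(S : Subgroup G) ⧸ frattini ↥(S : Subgroup G))) = ⊤ := by
        have habc' : Subgroup.closure ({a, b, c} : Set ↥(S : Subgroup G)) = ⊤ := habc
        have e : ({QuotientGroup.mk' (frattini ↥(S : Subgroup G)) a,
            QuotientGroup.mk' (frattini ↥(S : Subgroup G)) b,
            QuotientGroup.mk' (frattini ↥(S : Subgroup G)) c} :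
            Set (↥(S : Subgroup G) ⧸ frattini ↥(S : Subgroup G))) =
            (QuotientGroup.mk' (frattini ↥(S : Subgroup G))) '' {a, b, c} := by
          rw [Set.image_insert_eq, Set.image_pair]
        rw [e, ← MonoidHom.map_closure, habc', Subgroup.map_top_of_surjective _ hmk]
      have h8 := card_dvd_eight_of_closure_triple hQsq _ _ _ hgen
      have h168 := hAut168 _ hQ2 h8
      have hcard : Nat.card (↥(stabAut (S : Subgroup G)) ⧸
          ((frattAct (S : Subgroup G)).ker ⊔ inn0 (S : Subgroup G))) ∣ 168 := by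
        rw [← Subgroup.index_eq_card]; exact hidx.trans h168
      have h168' := hL168 _ hcard hns
      rw [← Subgroup.index_eq_card] at h168'
      have hKidx' : (frattAct (S : Subgroup G)).ker.index ∣ 168 := hKidx.trans h168
      have hrel := Subgroup.relIndex_mul_index hKM
      rw [h168'] at hrel
      have hrel1 : (frattAct (S : Subgroup G)).ker.relIndex
          ((frattAct (S : Subgroup G)).ker ⊔ inn0 (S : Subgroup G)) = 1 := by
        obtain ⟨t, ht⟩ := hKidx'
        rw [← hrel] at ht
        have h3 : (frattAct (S : Subgroup G)).ker.relIndex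
            ((frattAct (S : Subgroup G)).ker ⊔ inn0 (S : Subgroup G)) * t = 1 := by nlinarith
        exact Nat.eq_one_of_mul_eq_one_right h3
      have hle : (frattAct (S : Subgroup G)).ker ⊔ inn0 (S : Subgroup G) ≤
          (frattAct (S : Subgroup G)).ker := Subgroup.relIndex_eq_one.1 hrel1
      have hN0K : inn0 (S : Subgroup G) ≤ (frattAct (S : Subgroup G)).ker :=
        le_sup_right.trans hle
      have hcg : MulAut.conj g ∈ stabAut (S : Subgroup G) := by
        intro s
        rw [MulAut.conj_apply]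
        exact ((Subgroup.mem_normalizer_iff.1 hgN) s).symm
      have hcN0 : (⟨MulAut.conj g, hcg⟩ : ↥(stabAut (S : Subgroup G))) ∈ inn0 (S : Subgroup G) :=
        Subgroup.mem_subgroupOf.2 ⟨g, rfl⟩
      have hψ : resAut (S : Subgroup G) ⟨MulAut.conj g, hcg⟩ ∈ (autQuot ↥(S : Subgroup G)).ker :=
        hN0K hcN0
      have hψodd : Odd (orderOf (resAut (S : Subgroup G) ⟨MulAut.conj g, hcg⟩)) := by
        have h1 : (resAut (S : Subgroup G) ⟨MulAut.conj g, hcg⟩) ^ (orderOf g) = 1 := by
          rw [← map_pow]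
          have h2 : (⟨MulAut.conj g, hcg⟩ : ↥(stabAut (S : Subgroup G))) ^ orderOf g = 1 := by
            apply Subtype.ext
            rw [Subgroup.coe_pow]
            show (MulAut.conj g) ^ orderOf g = 1
            rw [← map_pow, pow_orderOf_eq_one, map_one]
          rw [h2, map_one]
        exact Odd.of_dvd_nat hgodd (orderOf_dvd_of_pow_eq_one h1)
      have hψ1 := eq_one_of_odd_of_mem_ker hS2 _ hψodd hψ
      apply hgC
      rw [Subgroup.mem_centralizer_iff]
      intro s hs
      have h2 := congrArg (fun ψ : MulAut ↥(S : Subgroup G) =>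
        ((ψ ⟨s, hs⟩ : ↥(S : Subgroup G)) : G)) hψ1
      simp only [resAut_apply, MulAut.one_apply] at h2
      rw [MulAut.conj_apply] at h2
      calc s * g = (g * s * g⁻¹) * g := by rw [h2]
        _ = g * s := by group
  have h1 := solvMod_top_of_isSolvable_quotient _ hsolv
  have h2 := SolvMod.map (stabAut (S : Subgroup G)).subtype h1
  have e1 : (⊤ : Subgroup ↥(stabAut (S : Subgroup G))).map (stabAut (S : Subgroup G)).subtype =
      stabAut (S : Subgroup G) := by
    rw [← MonoidHom.range_eq_map, Subgroup.range_subtype]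
  rw [e1, Subgroup.map_sup] at h2
  refine h2.mono_right (sup_le_sup (map_ker_frattAct_le _) ?_)
  rw [Subgroup.subgroupOf_map_subtype, inf_comm]

end Cfsg.Agent.Lib.Helper19.GOutGL
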