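import Mathlib
import Cfsg.Prelude.Def_KGroupFacts
import Cfsg.Prelude.Def_Transfer
import Cfsg.Agent.Lib.Helper76.GOut.GlueDefs
import Cfsg.Agent.Lib.Helper95.GOut.GLAut8
import Cfsg.Agent.Lib.Helper95.GOut.GL168
import Cfsg.Agent.Lib.Helper19.GOutGLAbOf

/-! # GOUT-[GL-AB] (project GOUT = S3066, coordinator helper76): exact skeleton statement -/

set_option autoImplicit false
set_option linter.unusedSectionVars false

namespace Cfsg.Agent.Lib.Helper76.GOut

open Cfsg

variable {G : Type*} [Group G] [Finite G]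

/-- If `S` is generated by three elements and some odd-order element of `N_G(S)` does not centralize
`S`, or if `S` is generated by two elements, then `N_A(S)` is solvable modulo the kernel on `S/Φ(S)`
and the inner automorphisms. -/
theorem solvMod_stabAut_phiKer (S : Sylow 2 G)
    (h : (∃ a b : ↥S, Subgroup.closure ({a, b} : Set ↥S) = ⊤) ∨
      ((∃ a b c : ↥S, Subgroup.closure ({a, b, c} : Set ↥S) = ⊤) ∧
        ∃ g ∈ Subgroup.normalizer ((S : Subgroup G) : Set G), Odd (orderOf g) ∧
          g ∉ Subgroup.centralizer ((S : Subgroup G) : Set G))) :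
    SolvMod (stabAut (S : Subgroup G))
      (phiKer (S : Subgroup G) ⊔ (stabAut (S : Subgroup G) ⊓ Inn G)) :=
  Cfsg.Agent.Lib.Helper19.GOutGL.solvMod_stabAut_phiKer_of
    (fun Q _ _ h2 h8 => card_mulAut_dvd_168 Q h2 h8)
    (fun Q _ _ h2 h4 => card_mulAut_dvd_six Q h2 h4)
    (fun _ _ _ hd hns => card_eq_168_of_not_isSolvable hd hns) S h

end Cfsg.Agent.Lib.Helper76.GOut
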