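import Mathlib
import Cfsg.Agent.Lib.Helper76.GOut.GlueDefs
import Cfsg.Agent.Lib.Helper76.ThompsonAB

/-! # GOUT-[GL-AXB] (project GOUT = S3066, coordinator helper76), `_of` form

Thompson `A × B` inside `MulAut G`.  The statement of [GL-TWOQ] (`solvMod_of_odd_mem`, at
`A := MulAut G`) is taken as a hypothesis.
-/

set_option autoImplicit false
set_option linter.unusedSectionVars false

namespace Cfsg.Agent.Lib.Helper19.GOutGL

open Cfsg.Agent.Lib.Helper76.GOut

variable {G : Type*} [Group G]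

theorem mulAut_finite_h19 [Finite G] : Finite (MulAut G) :=
  Finite.of_injective (fun φ : MulAut G => (φ : G → G)) DFunLike.coe_injective

/-- `φ ∘ conj g = conj (φ g) ∘ φ`. -/
theorem mul_conj_eq (φ : MulAut G) (g : G) : φ * MulAut.conj g = MulAut.conj (φ g) * φ := by
  ext x
  simp [MulAut.mul_apply, MulAut.conj_apply]

theorem mul_conj_mul_inv (φ : MulAut G) (g : G) :
    φ * MulAut.conj g * φ⁻¹ = MulAut.conj (φ g) := by
  rw [mul_conj_eq, mul_assoc, mul_inv_cancel, mul_one]

/-- `conj` is injective when the centre is trivial. -/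
theorem conj_injective_of_center (hZ : Subgroup.center G = ⊥) {a b : G}
    (h : MulAut.conj a = MulAut.conj b) : a = b := by
  have hmem : b⁻¹ * a ∈ Subgroup.center G := by
    rw [Subgroup.mem_center_iff]
    intro x
    have h1 : MulAut.conj a x = MulAut.conj b x := by rw [h]
    rw [MulAut.conj_apply, MulAut.conj_apply] at h1
    -- a x a⁻¹ = b x b⁻¹
    have h2 : a * x = b * x * b⁻¹ * a := by
      rw [← h1]; group
    calc x * (b⁻¹ * a) = b⁻¹ * (b * x * b⁻¹ * a) := by group
      _ = b⁻¹ * (a * x) := by rw [h2]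
      _ = b⁻¹ * a * x := by group
  rw [hZ, Subgroup.mem_bot] at hmem
  calc a = b * (b⁻¹ * a) := by group
    _ = b := by rw [hmem, mul_one]

/-- The core of [GL-AXB]: an automorphism of odd order stabilizing `S` and fixing `C_S(E)` fixes `S`. -/
theorem mem_fixAut_of_odd [Finite G] (hZ : Subgroup.center G = ⊥) (S : Sylow 2 G) (E : Subgroup G)
    (hES : E ≤ (S : Subgroup G)) (hE : ∀ a ∈ E, ∀ b ∈ E, a * b = b * a) (φ : MulAut G)
    (hφS : φ ∈ stabAut (S : Subgroup G))
    (hφT : φ ∈ fixAut ((S : Subgroup G) ⊓ Subgroup.centralizer (E : Set G)))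
    (hodd : Odd (orderOf φ)) : φ ∈ fixAut (S : Subgroup G) := by
  have : Finite (MulAut G) := mulAut_finite_h19
  have hET : E ≤ (S : Subgroup G) ⊓ Subgroup.centralizer (E : Set G) := by
    intro e he
    refine Subgroup.mem_inf.2 ⟨hES he, ?_⟩
    rw [Subgroup.mem_centralizer_iff]
    intro x hx
    exact hE x hx e he
  have hφE : ∀ e ∈ E, φ e = e := fun e he => hφT e (hET he)
  have hS2 : IsPGroup 2 (S : Subgroup G) := S.2
  have key := Cfsg.Agent.Lib.Helper76.thompson_AxB (W := MulAut G) (p := 2) φ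
    (Nat.Coprime.symm (Nat.coprime_two_left.2 hodd))
    (E.map (MulAut.conj : G →* MulAut G)) ((S : Subgroup G).map (MulAut.conj : G →* MulAut G))
    ((hS2.to_le hES).map _) (hS2.map _)
    (by
      rintro b ⟨e, he, rfl⟩
      rw [mul_conj_eq, hφE e he])
    (by
      rintro x ⟨s, hs, rfl⟩
      rw [mul_conj_mul_inv]
      exact ⟨φ s, (hφS s).2 hs, rfl⟩)
    (by
      rintro b ⟨e, he, rfl⟩ x ⟨s, hs, rfl⟩
      refine ⟨e * s * e⁻¹, ?_, ?_⟩
      · exact (S : Subgroup G).mul_mem ((S : Subgroup G).mul_mem (hES he) hs)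
          ((S : Subgroup G).inv_mem (hES he))
      · rw [map_mul, map_mul, map_inv])
    (by
      rintro x ⟨s, hs, rfl⟩ hcomm
      have hsT : s ∈ (S : Subgroup G) ⊓ Subgroup.centralizer (E : Set G) := by
        refine Subgroup.mem_inf.2 ⟨hs, ?_⟩
        rw [Subgroup.mem_centralizer_iff]
        intro e he
        have h1 := hcomm _ ⟨e, he, rfl⟩
        rw [← map_mul, ← map_mul] at h1
        exact conj_injective_of_center hZ h1
      rw [mul_conj_eq, hφT s hsT])
  intro s hs
  have h1 := key _ ⟨s, hs, rfl⟩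
  rw [mul_conj_eq] at h1
  exact conj_injective_of_center hZ (mul_right_cancel h1)

/-- **GOUT-[GL-AXB]**, `_of` form (hypothesis = [GL-TWOQ] at `A := MulAut G`). -/
theorem solvMod_fixAut_centralizer_of [Finite G]
    (hTwoQ : ∀ (X K : Subgroup (MulAut G)), (∀ x ∈ X, ∀ k ∈ K, x * k * x⁻¹ ∈ K) →
      (∀ x ∈ X, Odd (orderOf x) → x ∈ K) → SolvMod X K)
    (hZ : Subgroup.center G = ⊥) (S : Sylow 2 G) (E : Subgroup G)
    (hES : E ≤ (S : Subgroup G)) (hE : ∀ a ∈ E, ∀ b ∈ E, a * b = b * a) :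
    SolvMod (stabAut (S : Subgroup G) ⊓
        fixAut ((S : Subgroup G) ⊓ Subgroup.centralizer (E : Set G)))
      (fixAut (S : Subgroup G)) := by
  apply hTwoQ
  · rintro x ⟨hxS, -⟩ k hk s hs
    have hxs : x⁻¹ s ∈ (S : Subgroup G) := (((stabAut (S : Subgroup G)).inv_mem hxS) s).2 hs
    show x (k (x⁻¹ s)) = s
    rw [hk _ hxs, MulAut.apply_inv_self]
  · rintro x ⟨hxS, hxT⟩ hodd
    exact mem_fixAut_of_odd hZ S E hES hE x hxS hxT hodd

end Cfsg.Agent.Lib.Helper19.GOutGL
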