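import Mathlib
import Cfsg.Prelude.Def_KGroupFacts
import Cfsg.Prelude.Def_Transfer
import Cfsg.Agent.Lib.Helper76.GOut.GlueDefs
import Cfsg.Agent.Lib.Helper87.GOut.GLTwoQ
import Cfsg.Agent.Lib.Helper19.GOutGLAxBOf

/-! # GOUT-[GL-AXB] (project GOUT = S3066, coordinator helper76): exact skeleton statement -/

set_option autoImplicit false
set_option linter.unusedSectionVars false

namespace Cfsg.Agent.Lib.Helper76.GOut

open Cfsg

variable {G : Type*} [Group G] [Finite G]

/-- For an abelian `E ≤ S`: modulo the automorphisms fixing `S`, the automorphisms stabilizing `S` and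
fixing `C_S(E)` pointwise form a `2`-group. -/
theorem solvMod_fixAut_centralizer (hZ : Subgroup.center G = ⊥) (S : Sylow 2 G) (E : Subgroup G)
    (hES : E ≤ (S : Subgroup G)) (hE : ∀ a ∈ E, ∀ b ∈ E, a * b = b * a) :
    SolvMod (stabAut (S : Subgroup G) ⊓
        fixAut ((S : Subgroup G) ⊓ Subgroup.centralizer (E : Set G)))
      (fixAut (S : Subgroup G)) :=
  have : Finite (MulAut G) := Cfsg.Agent.Lib.Helper19.GOutGL.mulAut_finite_h19
  Cfsg.Agent.Lib.Helper19.GOutGL.solvMod_fixAut_centralizer_of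
    (fun X K hK h => solvMod_of_odd_mem X K hK h) hZ S E hES hE

end Cfsg.Agent.Lib.Helper76.GOut
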