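import Mathlib
import Cfsg.Agent.Lib.Helper76.GOut.GlueDefs
import Cfsg.Agent.Lib.Helper92.GOutSM

/-! # GOUT-[GL-PLAPP] (project GOUT = S3066, coordinator helper76), `_of` form

Application of block PL.  The statement of `PL_main` (at `T := ↥(S ⊓ C_G(Ω₁ S))`) is taken as a
hypothesis.  (The hypothesis `hcomm` of the skeleton is not needed.)
-/

set_option autoImplicit false
set_option linter.unusedSectionVars false

namespace Cfsg.Agent.Lib.Helper19.GOutGL

open Cfsg.Agent.Lib.Helper76.GOut

variable {G : Type*} [Group G]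

/-- Automorphisms stabilizing `S` and fixing `E` pointwise stabilize `C_S(E)`. -/
theorem le_stabAut_inf_centralizer (Ss E : Subgroup G) :
    stabAut Ss ⊓ fixAut E ≤ stabAut (Ss ⊓ Subgroup.centralizer (E : Set G)) := by
  have key : ∀ φ ∈ stabAut Ss ⊓ fixAut E, ∀ t ∈ Ss ⊓ Subgroup.centralizer (E : Set G),
      φ t ∈ Ss ⊓ Subgroup.centralizer (E : Set G) := by
    rintro φ ⟨hφS, hφE⟩ t ht
    obtain ⟨htS, htC⟩ := Subgroup.mem_inf.1 ht
    refine Subgroup.mem_inf.2 ⟨(hφS t).2 htS, ?_⟩
    rw [Subgroup.mem_centralizer_iff] at htC ⊢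
    intro e he
    have h1 := htC e he
    have h2 := congrArg φ h1
    rw [map_mul, map_mul, hφE e he] at h2
    exact h2
  intro φ hφ t
  constructor
  · intro h
    have h1 := key φ⁻¹ (Subgroup.inv_mem _ hφ) _ h
    rwa [MulAut.inv_apply_self] at h1
  · exact key φ hφ t

/-- **GOUT-[GL-PLAPP]**, `_of` form (hypothesis = `PL_main` for `↥(S ⊓ C_G(Ω₁ S))`). -/
theorem solvMod_fixAut_omega_of (S : Sylow 2 G)
    (hPL : IsPGroup 2 ↥((S : Subgroup G) ⊓
        Subgroup.centralizer ((omega (S : Subgroup G) : Subgroup G) : Set G)) →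
      (∀ x : ↥((S : Subgroup G) ⊓
        Subgroup.centralizer ((omega (S : Subgroup G) : Subgroup G) : Set G)), x ^ 2 = 1 →
          x ∈ Subgroup.center ↥((S : Subgroup G) ⊓
            Subgroup.centralizer ((omega (S : Subgroup G) : Subgroup G) : Set G))) →
      Group.IsSolvable (cOmega ↥((S : Subgroup G) ⊓
        Subgroup.centralizer ((omega (S : Subgroup G) : Subgroup G) : Set G)))) :
    SolvMod (stabAut (S : Subgroup G) ⊓ fixAut (omega (S : Subgroup G)))
      (fixAut ((S : Subgroup G) ⊓
        Subgroup.centralizer ((omega (S : Subgroup G) : Subgroup G) : Set G))) := by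
  have hXT := le_stabAut_inf_centralizer (S : Subgroup G) (omega (S : Subgroup G))
  have hT2 : IsPGroup 2 ↥((S : Subgroup G) ⊓
      Subgroup.centralizer ((omega (S : Subgroup G) : Subgroup G) : Set G)) := S.2.to_le inf_le_left
  have hmemE : ∀ x : ↥((S : Subgroup G) ⊓
      Subgroup.centralizer ((omega (S : Subgroup G) : Subgroup G) : Set G)), x ^ 2 = 1 →
      (x : G) ∈ omega (S : Subgroup G) := by
    intro x hx
    refine Subgroup.subset_closure ⟨(Subgroup.mem_inf.1 x.2).1, ?_⟩
    have h1 := congrArg Subtype.val hx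
    simpa using h1
  have hc : ∀ x : ↥((S : Subgroup G) ⊓
      Subgroup.centralizer ((omega (S : Subgroup G) : Subgroup G) : Set G)), x ^ 2 = 1 →
      x ∈ Subgroup.center ↥((S : Subgroup G) ⊓
        Subgroup.centralizer ((omega (S : Subgroup G) : Subgroup G) : Set G)) := by
    intro x hx
    rw [Subgroup.mem_center_iff]
    intro y
    have hyC := (Subgroup.mem_inf.1 y.2).2
    rw [Subgroup.mem_centralizer_iff] at hyC
    apply Subtype.ext
    exact (hyC _ (hmemE x hx)).symm
  have hsolv := hPL hT2 hc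
  have hmap : ((stabAut (S : Subgroup G) ⊓ fixAut (omega (S : Subgroup G))).subgroupOf
      (stabAut ((S : Subgroup G) ⊓
        Subgroup.centralizer ((omega (S : Subgroup G) : Subgroup G) : Set G)))).map
      (resAut ((S : Subgroup G) ⊓
        Subgroup.centralizer ((omega (S : Subgroup G) : Subgroup G) : Set G))) ≤ cOmega _ := by
    rintro _ ⟨φ, hφ, rfl⟩
    intro x hx
    have hφX : (φ : MulAut G) ∈ stabAut (S : Subgroup G) ⊓ fixAut (omega (S : Subgroup G)) := hφ
    apply Subtype.ext
    rw [resAut_apply]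
    exact hφX.2 _ (hmemE x hx)
  have hs' : Group.IsSolvable ↥(((stabAut (S : Subgroup G) ⊓
      fixAut (omega (S : Subgroup G))).subgroupOf
      (stabAut ((S : Subgroup G) ⊓
        Subgroup.centralizer ((omega (S : Subgroup G) : Subgroup G) : Set G)))).map
      (resAut ((S : Subgroup G) ⊓
        Subgroup.centralizer ((omega (S : Subgroup G) : Subgroup G) : Set G)))) :=
    Group.isSolvable_of_isSolvable_injective (f := Subgroup.inclusion hmap) (Subgroup.inclusion_injective hmap)
  have h1 := solvMod_of_isSolvable hs' ⊥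
  have h2 := SolvMod.of_map _ h1
  have h3 := SolvMod.map (stabAut ((S : Subgroup G) ⊓
        Subgroup.centralizer ((omega (S : Subgroup G) : Subgroup G) : Set G))).subtype h2
  rw [Subgroup.map_subgroupOf_eq_of_le hXT] at h3
  refine h3.mono_right ?_
  rintro _ ⟨φ, hφ, rfl⟩
  intro t ht
  have h4 : resAut _ φ = 1 := hφ
  have h5 := congrArg (fun ψ : MulAut ↥((S : Subgroup G) ⊓
        Subgroup.centralizer ((omega (S : Subgroup G) : Subgroup G) : Set G)) =>
      ((ψ ⟨t, ht⟩ : ↥((S : Subgroup G) ⊓
        Subgroup.centralizer ((omega (S : Subgroup G) : Subgroup G) : Set G))) : G)) h4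
  simpa using h5

end Cfsg.Agent.Lib.Helper19.GOutGL
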