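import Mathlib
import Cfsg.Agent.Lib.Helper76.GOut.QFDefs
import Cfsg.Agent.Lib.Helper65.GOutQFRad
import Cfsg.Agent.Lib.Helper47.GOutQFK
import Cfsg.Agent.Lib.Helper47.GOutQFT
import Cfsg.Agent.Lib.Helper98.GOutQFInv

/-! # GOUT-[QF-V4] (project GOUT = S3066, coordinator helper76), `_of` form

No Klein four-group: two commuting involutions acting nontrivially act in the same way.
The statements of [QF-SURJ] (`commRange_eq_comm_smul`, `exists_inv_of_comm`) and of [QF-TW]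
(`map_comm_apply_commRange`) are taken as hypotheses; everything else is on main.
-/

set_option autoImplicit false
set_option linter.unusedSectionVars false
set_option linter.unusedVariables false

namespace Cfsg.Agent.Lib.Helper19.GOutV4

open Cfsg.Agent.Lib.Helper76.GOut

variable {V : Type*} [AddCommGroup V] [Module (ZMod 2) V] [Finite V]
variable {R : Type*} [Group R]

omit [Finite V] in
/-- char 2: `x + y = 0 ↔ x = y`. -/
theorem add_eq_zero_iff_eq_c2 {x y : V} : x + y = 0 ↔ x = y := by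
  constructor
  · intro h
    have : x = -y := eq_neg_iff_add_eq_zero.2 h
    rw [this, neg_eq_iff_add_eq_zero]; exact add_self' y
  · rintro rfl; exact add_self' x

omit [Finite V] in
theorem apply_apply_of_invol {ρ : R →* (V ≃ₗ[ZMod 2] V)} {g : R} (hg : g * g = 1) (u : V) :
    ρ g (ρ g u) = u := by
  have : ρ g (ρ g u) = (ρ g * ρ g) u := rfl
  rw [this, ← map_mul, hg, map_one]; rfl

omit [Finite V] in
/-- `N₁ N₂ = 0` for commuting involutions. -/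
theorem comm_comm_eq_zero {ρ : R →* (V ≃ₗ[ZMod 2] V)} (han : Aniso ρ) (g₁ g₂ : R)
    (h₂ : g₂ * g₂ = 1) (hc : g₁ * g₂ = g₂ * g₁) (u : V) :
    (u + ρ g₂ u) + ρ g₁ (u + ρ g₂ u) = 0 := by
  by_contra hne
  obtain ⟨q, hq, hqv⟩ := han _ hne
  apply hqv
  rw [hq.map_add_apply g₁ (u + ρ g₂ u)]
  apply polar_fixed_commRange hq g₂ h₂
  · exact apply_eq_of_mem_commRange_h98 g₂ h₂ _ (add_apply_mem_commRange_h98 ρ g₂ u)
  · rw [mem_commRange_iff_h98]
    refine ⟨ρ g₁ u, ?_⟩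
    rw [map_add]
    congr 1
    have e1 : ρ g₂ (ρ g₁ u) = (ρ g₂ * ρ g₁) u := rfl
    have e2 : ρ g₁ (ρ g₂ u) = (ρ g₁ * ρ g₂) u := rfl
    rw [e1, e2, ← map_mul, ← map_mul, hc]

omit [Finite V] in
theorem fixed_of_mem_commRange {ρ : R →* (V ≃ₗ[ZMod 2] V)} (han : Aniso ρ) (g₁ g₂ : R)
    (h₂ : g₂ * g₂ = 1) (hc : g₁ * g₂ = g₂ * g₁) (x : V) (hx : x ∈ commRange ρ g₂) :
    ρ g₁ x = x := by
  obtain ⟨u, rfl⟩ := mem_commRange_iff_h98.1 hx
  exact (add_eq_zero_iff_eq_c2.1 (comm_comm_eq_zero han g₁ g₂ h₂ hc u)).symm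

/-- A submodule on which every invariant form is additive has at most `|L|` elements. -/
theorem card_le_card_inv_of_additive {ρ : R →* (V ≃ₗ[ZMod 2] V)} (h : Hyp ρ)
    (W : Submodule (ZMod 2) V)
    (hW : ∀ q : V → ZMod 2, IsInv ρ q → ∀ w ∈ W, ∀ w' ∈ W, q (w + w') = q w + q w') :
    Nat.card W ≤ Nat.card {q : V → ZMod 2 // IsInv ρ q} := by
  have hL : Nat.card {q : V → ZMod 2 // IsInv ρ q} = Nat.card (invForms_h98 ρ) := rfl
  rw [hL, ← card_dual_h98 (invForms_h98 ρ)]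
  let ev : W → Module.Dual (ZMod 2) (invForms_h98 ρ) := fun v =>
    { toFun := fun q => q.1 v.1
      map_add' := fun q q' => rfl
      map_smul' := fun c q => rfl }
  have : Finite (Module.Dual (ZMod 2) (invForms_h98 ρ)) :=
    Finite.of_injective (fun f => (f : invForms_h98 ρ → ZMod 2)) DFunLike.coe_injective
  apply Nat.card_le_card_of_injective ev
  intro v v' hvv
  have hq : ∀ q : V → ZMod 2, IsInv ρ q → q v.1 = q v'.1 := by
    intro q hq
    have := LinearMap.congr_fun hvv (⟨q, hq⟩ : invForms_h98 ρ)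
    exact this
  apply Subtype.ext
  by_contra hne
  have hne0 : v.1 + v'.1 ≠ 0 := fun h0 => hne (add_eq_zero_iff_eq_c2.1 h0)
  obtain ⟨q, hqi, hqv⟩ := h.aniso _ hne0
  apply hqv
  rw [hW q hqi _ v.2 _ v'.2, hq q hqi]
  exact zmod2_add_self _

theorem submodule_eq_of_le_of_card_le (A B : Submodule (ZMod 2) V) (hAB : A ≤ B)
    (hcard : Nat.card B ≤ Nat.card A) : A = B := by
  apply SetLike.coe_injective
  apply Set.eq_of_subset_of_ncard_le hAB _ (Set.toFinite _)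
  exact hcard

/-- `[V,g₁] = [V,g₂]`. -/
theorem commRange_eq_of_commute {ρ : R →* (V ≃ₗ[ZMod 2] V)} (h : Hyp ρ)
    (g₁ g₂ : R) (h₁ : g₁ * g₁ = 1) (h₂ : g₂ * g₂ = 1) (hc : g₁ * g₂ = g₂ * g₁)
    (h₁1 : ρ g₁ ≠ 1) (h₂1 : ρ g₂ ≠ 1) : commRange ρ g₁ = commRange ρ g₂ := by
  have hW : ∀ q : V → ZMod 2, IsInv ρ q → ∀ w ∈ commRange ρ g₁ ⊔ commRange ρ g₂,
      ∀ w' ∈ commRange ρ g₁ ⊔ commRange ρ g₂, q (w + w') = q w + q w' := by
    intro q hq w hw w' hw'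
    obtain ⟨x, hx, y, hy, rfl⟩ := Submodule.mem_sup.1 hw
    obtain ⟨x', hx', y', hy', rfl⟩ := Submodule.mem_sup.1 hw'
    have key : ∀ x ∈ commRange ρ g₁, ∀ y ∈ commRange ρ g₂, q (x + y) = q x + q y := by
      intro x hx y hy
      rw [hq.1.map_add, polar_fixed_commRange hq g₂ h₂ x
        (fixed_of_mem_commRange h.aniso g₂ g₁ h₁ hc.symm x hx) y hy, add_zero]
    have e : x + y + (x' + y') = (x + x') + (y + y') := by abel
    rw [e, key _ (Submodule.add_mem _ hx hx') _ (Submodule.add_mem _ hy hy'), key x hx y hy,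
      key x' hx' y' hy', map_add_of_mem_commRange hq g₁ h₁ x x' hx hx',
      map_add_of_mem_commRange hq g₂ h₂ y y' hy hy']
    ring
  have hcard : Nat.card ↥(commRange ρ g₁ ⊔ commRange ρ g₂) ≤ Nat.card (Comm ρ) :=
    (card_le_card_inv_of_additive h _ hW).trans (card_inv_le h)
  have e1 := submodule_eq_of_le_of_card_le (commRange ρ g₁) _ le_sup_left
    (hcard.trans (card_comm_le_card_commRange h g₁ h₁1))
  have e2 := submodule_eq_of_le_of_card_le (commRange ρ g₂) _ le_sup_right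
    (hcard.trans (card_comm_le_card_commRange h g₂ h₂1))
  rw [e1]; exact e2.symm

/-- The fixed space of an involution is the orthogonal of `[V,g]` for a nonzero invariant form. -/
theorem fixed_iff_perp {ρ : R →* (V ≃ₗ[ZMod 2] V)} (h : Hyp ρ) {q₀ : V → ZMod 2}
    (hq₀ : IsInv ρ q₀) (hq₀0 : ∃ v : V, q₀ v ≠ 0) (g : R) (hg : g * g = 1) (c : V) :
    ρ g c = c ↔ ∀ w ∈ commRange ρ g, polar q₀ c w = 0 := by
  constructor
  · intro hc w hw; exact polar_fixed_commRange hq₀ g hg c hc w hw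
  · intro hperp
    by_contra hne
    have hne0 : c + ρ g c ≠ 0 := fun h0 => hne (add_eq_zero_iff_eq_c2.1 h0).symm
    obtain ⟨x, hx⟩ := polar_nondeg h hq₀ hq₀0 _ hne0
    apply hx
    rw [hq₀.1.polar_add_left]
    have h1 := hperp (x + ρ g x) (add_apply_mem_commRange_h98 ρ g x)
    rw [hq₀.1.polar_add_right] at h1
    have e : polar q₀ c (ρ g x) = polar q₀ (ρ g c) x := by
      have h2 := hq₀.polar_map g (ρ g c) x
      rw [apply_apply_of_invol hg] at h2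
      exact h2
    rw [e] at h1
    exact h1

/-- **GOUT-[QF-V4]**, `_of` form. -/
theorem eq_of_commute_involutions_of {ρ : R →* (V ≃ₗ[ZMod 2] V)} (h : Hyp ρ)
    (hSmul : ∀ (g : R), g * g = 1 → ρ g ≠ 1 → ∀ v ∈ commRange ρ g, v ≠ 0 →
      ∀ w ∈ commRange ρ g, ∃ a ∈ Comm ρ, w = a v)
    (hSurj : ∀ {q₀ : V → ZMod 2}, IsInv ρ q₀ → (∃ v : V, q₀ v ≠ 0) →
      ∀ {a : Module.End (ZMod 2) V}, a ∈ Comm ρ →
        ∃ q : V → ZMod 2, IsInv ρ q ∧ ∀ u v : V, polar q u v = polar q₀ (a u) v)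
    (hTw : ∀ {q : V → ZMod 2}, IsInv ρ q → ∀ {a : Module.End (ZMod 2) V}, a ∈ Comm ρ →
      ∀ (g : R), g * g = 1 → ρ g ≠ 1 → ∀ u : V,
        q (a (u + ρ g u)) = polar q u ((a * a) (u + ρ g u)))
    (g₁ g₂ : R) (h₁ : g₁ * g₁ = 1) (h₂ : g₂ * g₂ = 1) (hc : g₁ * g₂ = g₂ * g₁)
    (h₁1 : ρ g₁ ≠ 1) (h₂1 : ρ g₂ ≠ 1) : ρ g₁ = ρ g₂ := by
  -- a nonzero invariant form
  have hV : ∃ v : V, v ≠ 0 := by
    by_contra hcon
    push Not at hcon
    have hsub : Subsingleton V := ⟨fun x y => by rw [hcon x, hcon y]⟩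
    have h1 : Nat.card V ≤ 1 := Finite.card_le_one_iff_subsingleton.2 hsub
    have h2 := h.card
    omega
  obtain ⟨v₀, hv₀⟩ := hV
  obtain ⟨q₀, hq₀, hq₀v⟩ := h.aniso v₀ hv₀
  have hq₀0 : ∃ v : V, q₀ v ≠ 0 := ⟨v₀, hq₀v⟩
  have hI := commRange_eq_of_commute h g₁ g₂ h₁ h₂ hc h₁1 h₂1
  have hK : ∀ c : V, ρ g₁ c = c ↔ ρ g₂ c = c := fun c => by
    rw [fixed_iff_perp h hq₀ hq₀0 g₁ h₁, fixed_iff_perp h hq₀ hq₀0 g₂ h₂, hI]
  obtain ⟨u, hu⟩ : ∃ u : V, ρ g₁ u ≠ u := by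
    by_contra hcon
    push Not at hcon
    exact h₁1 (by ext x; exact hcon x)
  have hvI : u + ρ g₁ u ∈ commRange ρ g₁ := add_apply_mem_commRange_h98 ρ g₁ u
  have hv0 : u + ρ g₁ u ≠ 0 := fun h0 => hu (add_eq_zero_iff_eq_c2.1 h0).symm
  have hw2 : u + ρ g₂ u ∈ commRange ρ g₁ := by
    rw [hI]; exact add_apply_mem_commRange_h98 ρ g₂ u
  obtain ⟨a, ha, hav⟩ := hSmul g₁ h₁ h₁1 _ hvI hv0 _ hw2
  -- decomposition `V = K + k u`
  have hdec : ∀ x : V, ∃ b ∈ Comm ρ, ρ g₁ (x + b u) = x + b u ∧ x + ρ g₁ x = b (u + ρ g₁ u) := by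
    intro x
    obtain ⟨b, hb, hbv⟩ := hSmul g₁ h₁ h₁1 _ hvI hv0 _ (add_apply_mem_commRange_h98 ρ g₁ x)
    refine ⟨b, hb, ?_, hbv⟩
    rw [map_add, ← hb g₁ u]
    rw [map_add] at hbv
    apply add_eq_zero_iff_eq_c2.1
    have h3 := add_eq_zero_iff_eq_c2.2 hbv
    calc ρ g₁ x + b (ρ g₁ u) + (x + b u) = x + ρ g₁ x + (b u + b (ρ g₁ u)) := by abel
      _ = 0 := h3
  have hN2 : ∀ x : V, ∀ b ∈ Comm ρ, ρ g₁ (x + b u) = x + b u →
      x + ρ g₂ x = b (a (u + ρ g₁ u)) := by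
    intro x b hb hfix
    have hfix2 : ρ g₂ (x + b u) = x + b u := (hK _).1 hfix
    rw [map_add, ← hb g₂ u] at hfix2
    rw [← hav, map_add]
    apply add_eq_zero_iff_eq_c2.1
    have h3 := add_eq_zero_iff_eq_c2.2 hfix2
    calc x + ρ g₂ x + (b u + b (ρ g₂ u)) = ρ g₂ x + b (ρ g₂ u) + (x + b u) := by abel
      _ = 0 := h3
  have hkey : ∀ q : V → ZMod 2, IsInv ρ q →
      polar q u (a (u + ρ g₁ u) + a (a (u + ρ g₁ u))) = 0 := by
    intro q hq
    have e1 : q (a (u + ρ g₁ u)) = polar q u (a (u + ρ g₁ u)) := by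
      rw [← hav, hq.map_add_apply g₂ u, hq.1.polar_add_right, hq.1.polar_self, zero_add]
    have e2 : q (a (u + ρ g₁ u)) = polar q u (a (a (u + ρ g₁ u))) := by
      have h3 := hTw hq ha g₁ h₁ h₁1 u
      rw [Module.End.mul_apply] at h3
      exact h3
    rw [hq.1.polar_add_right, ← e1, ← e2]
    exact zmod2_add_self _
  have haI : a (u + ρ g₁ u) ∈ commRange ρ g₁ := comm_apply_mem_commRange_h98 ha g₁ _ hvI
  have hv'I : a (u + ρ g₁ u) + a (a (u + ρ g₁ u)) ∈ commRange ρ g₁ :=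
    Submodule.add_mem _ haI (comm_apply_mem_commRange_h98 ha g₁ _ haI)
  have hv'0 : a (u + ρ g₁ u) + a (a (u + ρ g₁ u)) = 0 := by
    by_contra hne
    obtain ⟨x, hx⟩ := polar_nondeg h hq₀ hq₀0 _ hne
    apply hx
    obtain ⟨b, hb, hfix, -⟩ := hdec x
    have hx' : x = (x + b u) + b u := by rw [add_assoc, add_self', add_zero]
    rw [hx', hq₀.1.polar_add_right]
    have t1 : polar q₀ (a (u + ρ g₁ u) + a (a (u + ρ g₁ u))) (x + b u) = 0 := by
      rw [polar_comm]; exact polar_fixed_commRange hq₀ g₁ h₁ _ hfix _ hv'I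
    have t2 : polar q₀ (a (u + ρ g₁ u) + a (a (u + ρ g₁ u))) (b u) = 0 := by
      obtain ⟨qb, hqb, hqbp⟩ := hSurj hq₀ hq₀0 hb
      rw [polar_comm, ← hqbp u _]; exact hkey qb hqb
    rw [t1, t2, add_zero]
  have haa : a (a (u + ρ g₁ u)) = a (u + ρ g₁ u) := (add_eq_zero_iff_eq_c2.1 hv'0).symm
  have haa' : a * a = a :=
    comm_apply_injective_h98 h.irr hv0 (mul_mem_comm ha ha) ha
      (by rw [Module.End.mul_apply]; exact haa)
  have ha0 : a ≠ 0 := by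
    rintro rfl
    apply h₂1
    ext x
    obtain ⟨b, hb, hfix, -⟩ := hdec x
    have h3 := hN2 x b hb hfix
    rw [LinearMap.zero_apply, map_zero] at h3
    exact (add_eq_zero_iff_eq_c2.1 h3).symm
  have hainj := comm_injective_h98 h.irr ha ha0
  have ha1 : ∀ y : V, a y = y := fun y => hainj (by rw [← Module.End.mul_apply, haa'])
  ext x
  obtain ⟨b, hb, hfix, hbv⟩ := hdec x
  have e2 := hN2 x b hb hfix
  rw [ha1] at e2
  have h3 : x + ρ g₁ x = x + ρ g₂ x := hbv.trans e2.symm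
  exact add_left_cancel h3

end Cfsg.Agent.Lib.Helper19.GOutV4
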