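import Mathlib
import Cfsg.Agent.Lib.Helper76.GOut.QFDefs
import Cfsg.Agent.Lib.Helper98.GOutQFInv
import Cfsg.Agent.Lib.Helper47.GOutQFSurj
import Cfsg.Agent.Lib.Helper19.GOutQFV4Of

/-! # GOUT-[QF-V4] (project GOUT = S3066, coordinator helper76): exact skeleton statement

Uses helper47's hedge copies of [QF-SURJ] (`H47.commRange_eq_comm_smul'`, `H47.exists_inv_of_comm'`)
and [QF-TW] (`map_comm_apply_commRange`).
-/

set_option autoImplicit false
set_option linter.unusedSectionVars false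

namespace Cfsg.Agent.Lib.Helper76.GOut

variable {V : Type*} [AddCommGroup V] [Module (ZMod 2) V] [Finite V]
variable {R : Type*} [Group R]

/-- No Klein four-group: two commuting involutions acting nontrivially act in the same way. -/
theorem eq_of_commute_involutions {ρ : R →* (V ≃ₗ[ZMod 2] V)} (h : Hyp ρ)
    (g₁ g₂ : R) (h₁ : g₁ * g₁ = 1) (h₂ : g₂ * g₂ = 1) (hc : g₁ * g₂ = g₂ * g₁)
    (h₁1 : ρ g₁ ≠ 1) (h₂1 : ρ g₂ ≠ 1) : ρ g₁ = ρ g₂ :=
  Cfsg.Agent.Lib.Helper19.GOutV4.eq_of_commute_involutions_of h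
    (fun g hg hg1 v hv hv0 w hw => H47.commRange_eq_comm_smul' h g hg hg1 v hv hv0 w hw)
    (fun hq₀ hq₀0 _ ha => H47.exists_inv_of_comm' h ⟨g₁, h₁, h₁1⟩ hq₀ hq₀0 ha)
    (fun hq _ ha g hg hg1 u => map_comm_apply_commRange h hq ha g hg hg1 u)
    g₁ g₂ h₁ h₂ hc h₁1 h₂1

end Cfsg.Agent.Lib.Helper76.GOut
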