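import Mathlib
import Cfsg.Agent.Lib.Helper58.IP26.Defs
import Cfsg.Agent.Lib.Helper36.IP26Ext
import Cfsg.Agent.Lib.Helper78.CharOrtho

/-!
# Project IP26 (helper58): module [FIN] in `_of` form (helper19)

`CE.hasAbelian_of_perfect_of`: the hypotheses `hcount`, `hbeta`, `hperf3` are the conclusions of the
modules [COUNT], [BETA], [PERF] for `G`.
-/

set_option autoImplicit false

namespace Cfsg.Agent.Lib.Helper19.IP26

open Cfsg Cfsg.Agent.Lib.Helper58.IP26
open scoped commutatorElement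

universe u

/-- arithmetic: `b⁴ (β!)² ≤ 3 (b!)²` for `b ≥ 3`, `2β ≤ b` -/
theorem arith_bound {b β : ℕ} (hb : 3 ≤ b) (hβ : 2 * β ≤ b) :
    b ^ 4 * (Nat.factorial β) ^ 2 ≤ 3 * (Nat.factorial b) ^ 2 := by
  obtain ⟨c, rfl⟩ : ∃ c, b = c + 2 := ⟨b - 2, by omega⟩
  -- `(c+2)! = (c+2)(c+1) c!`
  have hfac : Nat.factorial (c + 2) = (c + 2) * (c + 1) * Nat.factorial c := by
    rw [Nat.factorial_succ, Nat.factorial_succ]; ring
  rcases Nat.lt_or_ge c 2 with hc | hc
  · -- b = 3
    have hc1 : c = 1 := by omega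
    subst hc1
    have hβ1 : β ≤ 1 := by omega
    interval_cases β <;> norm_num [Nat.factorial]
  · have hβc : β ≤ c := by omega
    have hle : Nat.factorial β ≤ Nat.factorial c := Nat.factorial_le hβc
    rw [hfac]
    have h1 : (c + 2) ^ 2 ≤ 3 * (c + 1) ^ 2 := by nlinarith
    have h2 : (Nat.factorial β) ^ 2 ≤ (Nat.factorial c) ^ 2 := Nat.pow_le_pow_left hle 2
    calc (c + 2) ^ 4 * (Nat.factorial β) ^ 2
        ≤ (c + 2) ^ 4 * (Nat.factorial c) ^ 2 := Nat.mul_le_mul_left _ h2
      _ = (c + 2) ^ 2 * ((c + 2) ^ 2 * (Nat.factorial c) ^ 2) := by ring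
      _ ≤ (c + 2) ^ 2 * (3 * (c + 1) ^ 2 * (Nat.factorial c) ^ 2) := by
          apply Nat.mul_le_mul_left
          exact Nat.mul_le_mul_right _ h1
      _ = 3 * ((c + 2) * (c + 1) * Nat.factorial c) ^ 2 := by ring

variable {G : Type u} [Group G] [Finite G] {b : ℕ}

/-- every finite group has a largest irreducible character degree, as soon as the degrees are bounded -/
theorem exists_isMaxDeg (H : Type u) [Group H] [Finite H] (B : ℕ)
    (hB : ∀ ψ : IrrCharacter H, charDegree (ψ : H → ℂ) ≤ B) : ∃ β, IsMaxDeg H β ∧ β ≤ B := by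
  classical
  have hne : Nonempty (IrrCharacter H) := by
    have := Fintype.ofFinite H
    have h1 : Nat.card (IrrCharacter H) = Nat.card (ConjClasses H) :=
      Cfsg.Agent.Lib.Helper78.card_irrCharacter
    have h2 : 0 < Nat.card (ConjClasses H) := Nat.card_pos
    rw [← h1] at h2
    exact (Nat.card_pos_iff.1 h2).1
  obtain ⟨ψ₀⟩ := hne
  set S : Set ℕ := {d : ℕ | ∃ χ : IrrCharacter H, charDegree (χ : H → ℂ) = d} with hS
  have hSne : S.Nonempty := ⟨_, ψ₀, rfl⟩
  have hSbdd : BddAbove S := ⟨B, by rintro d ⟨χ, rfl⟩; exact hB χ⟩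
  refine ⟨sSup S, ⟨Nat.sSup_mem hSne hSbdd, fun d hd => le_csSup hSbdd hd⟩, ?_⟩
  exact csSup_le hSne (by rintro d ⟨χ, rfl⟩; exact hB χ)

/-- IP26-[FIN] in `_of` form. -/
theorem hasAbelian_of_perfect_of
    (hperf : ⁅commutator G, commutator G⁆ = commutator G)
    (hcount : Nat.card G ≤ b ^ 4 * Nat.card (Subgroup.centralizer (commutator G : Set G)))
    (hbeta : commutator G ≠ ⊥ → ∀ η : IrrCharacter (Subgroup.centralizer (commutator G : Set G)),
      2 * charDegree (η : Subgroup.centralizer (commutator G : Set G) → ℂ) ≤ b)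
    (hperf3 : commutator G ≠ ⊥ → 3 ≤ b)
    (IH : ∀ (H : Subgroup G) (b' : ℕ), b' < b → IsMaxDeg H b' → HasAbelian H b') :
    HasAbelian G b := by
  classical
  set P : Subgroup G := commutator G with hP
  by_cases hPbot : P = ⊥
  · -- `G` is abelian
    refine ⟨⊤, ?_, ?_⟩
    · intro x _ y _
      have h1 : ⁅x, y⁆ ∈ P := by
        rw [hP, commutator_def]
        exact Subgroup.commutator_mem_commutator (Subgroup.mem_top x) (Subgroup.mem_top y)
      rw [hPbot, Subgroup.mem_bot, commutatorElement_eq_one_iff_mul_comm] at h1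
      exact h1
    · rw [Subgroup.index_top]
      exact Nat.one_le_iff_ne_zero.2 (by positivity)
  · have h3 : 3 ≤ b := hperf3 hPbot
    set C : Subgroup G := Subgroup.centralizer (P : Set G) with hC
    -- the largest degree of `C`
    obtain ⟨β, hβmax, hβle⟩ := exists_isMaxDeg ↥C (b / 2) (by
      intro η
      have := hbeta hPbot η
      omega)
    have hβ2 : 2 * β ≤ b := by omega
    have hβlt : β < b := by omega
    obtain ⟨A₀, hA₀comm, hA₀idx⟩ := IH C β hβlt hβmax
    -- `Z = P ⊓ C`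
    set Z : Subgroup G := P ⊓ C with hZ
    have hZcent : ∀ z ∈ Z, ∀ c ∈ C, z * c = c * z := by
      intro z hz c hc
      exact (Subgroup.mem_centralizer_iff.1 hc z hz.1)
    -- an element `y ∈ P` with `y ∉ Z`, `y² ∉ Z`
    have hy : ∃ y ∈ P, y ∉ Z ∧ y ^ 2 ∉ Z := by
      by_contra hcon
      push Not at hcon
      have hsq : ∀ y ∈ P, y ^ 2 ∈ Z := by
        intro y hy
        by_cases hyZ : y ∈ Z
        · exact Z.pow_mem hyZ 2
        · exact hcon y hy hyZ
      -- `⁅P,P⁆ ≤ Z`
      have hcomm : ⁅P, P⁆ ≤ Z := by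
        rw [Subgroup.commutator_le]
        intro x hx y hy
        have hx2 := hsq x hx
        have hy2 := hsq y hy
        have hxy2 := hsq (x * y) (P.mul_mem hx hy)
        -- `x⁻²` commutes with `y`
        have hc1 : (x ^ 2)⁻¹ * y⁻¹ = y⁻¹ * (x ^ 2)⁻¹ := by
          have hyinvC : y⁻¹ ∈ P := P.inv_mem hy
          have hx2inv : (x ^ 2)⁻¹ ∈ Z := Z.inv_mem hx2
          have := Subgroup.mem_centralizer_iff.1 hx2inv.2 y⁻¹ hyinvC
          exact this.symm
        have heq : ⁅x, y⁆ = (x * y) ^ 2 * ((x ^ 2)⁻¹ * (y ^ 2)⁻¹) := by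
          rw [pow_two x] at hc1
          rw [commutatorElement_def, pow_two, pow_two, pow_two]
          have h6 : y * (x * x)⁻¹ * y⁻¹ = (x * x)⁻¹ := by
            calc y * (x * x)⁻¹ * y⁻¹ = y * ((x * x)⁻¹ * y⁻¹) := by group
              _ = y * (y⁻¹ * (x * x)⁻¹) := by rw [hc1]
              _ = (x * x)⁻¹ := by group
          have h5 : x * y * (x * y) * ((x * x)⁻¹ * (y * y)⁻¹)
              = x * y * x * (y * (x * x)⁻¹ * y⁻¹) * y⁻¹ := by group
          rw [h5, h6]; group
        rw [heq]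
        exact Z.mul_mem hxy2 (Z.mul_mem (Z.inv_mem hx2) (Z.inv_mem hy2))
      rw [hperf] at hcomm
      -- `P ≤ C`, so `P` is abelian and `⁅P,P⁆ = ⊥`
      have hPC : P ≤ C := hcomm.trans inf_le_right
      have hbot : ⁅P, P⁆ = ⊥ := by
        rw [Subgroup.commutator_eq_bot_iff_le_centralizer]
        exact hPC
      rw [hperf] at hbot
      exact hPbot hbot
    obtain ⟨y, hyP, hyZ, hy2Z⟩ := hy
    -- the abelian subgroup
    set A₀' : Subgroup G := A₀.map C.subtype with hA₀'
    have hA₀'C : A₀' ≤ C := by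
      rintro _ ⟨a, _, rfl⟩
      exact a.2
    have hA₀'comm : ∀ u ∈ A₀', ∀ v ∈ A₀', u * v = v * u := by
      rintro _ ⟨u, hu, rfl⟩ _ ⟨v, hv, rfl⟩
      have := hA₀comm u hu v hv
      exact congrArg Subtype.val this
    set A : Subgroup G := A₀' ⊔ Z with hA
    have hAC : A ≤ C := sup_le hA₀'C inf_le_right
    set S : Set G := (A₀' : Set G) ∪ (Z : Set G) ∪ {y} with hSdef
    set AB : Subgroup G := Subgroup.closure S with hAB
    have hyC : ∀ c ∈ C, y * c = c * y := fun c hc => Subgroup.mem_centralizer_iff.1 hc y hyP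
    have hScomm : ∀ u ∈ S, ∀ v ∈ S, u * v = v * u := by
      intro u hu v hv
      rcases hu with (hu | hu) | hu <;> rcases hv with (hv | hv) | hv
      · exact hA₀'comm u hu v hv
      · exact (hZcent v hv u (hA₀'C hu)).symm
      · rw [Set.mem_singleton_iff.1 hv]; exact (hyC u (hA₀'C hu)).symm
      · exact hZcent u hu v (hA₀'C hv)
      · exact hZcent u hu v hv.2
      · rw [Set.mem_singleton_iff.1 hv]; exact (hyC u hu.2).symm
      · rw [Set.mem_singleton_iff.1 hu]; exact hyC v (hA₀'C hv)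
      · rw [Set.mem_singleton_iff.1 hu]; exact hyC v hv.2
      · rw [Set.mem_singleton_iff.1 hu, Set.mem_singleton_iff.1 hv]
    have hABcomm : ∀ u ∈ AB, ∀ v ∈ AB, u * v = v * u := by
      have h1 : AB ≤ Subgroup.centralizer S := by
        rw [hAB, Subgroup.closure_le]
        intro u hu
        rw [SetLike.mem_coe, Subgroup.mem_centralizer_iff]
        intro v hv
        exact hScomm v hv u hu
      have h2 : AB ≤ Subgroup.centralizer (AB : Set G) := by
        intro u hu
        rw [Subgroup.mem_centralizer_iff]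
        intro v hv
        -- `v ∈ closure S`, `u` commutes with `S`
        have hu' := h1 hu
        have : Subgroup.closure S ≤ Subgroup.centralizer ({u} : Set G) := by
          rw [Subgroup.closure_le]
          intro s hs
          rw [SetLike.mem_coe, Subgroup.mem_centralizer_iff]
          rintro _ rfl
          exact (Subgroup.mem_centralizer_iff.1 hu' s hs).symm
        have := Subgroup.mem_centralizer_iff.1 (this hv) u rfl
        exact this.symm
      intro u hu v hv
      exact (Subgroup.mem_centralizer_iff.1 (h2 hv) u hu)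
    have hA_AB : A ≤ AB := by
      rw [hA]
      apply sup_le
      · intro u hu; exact Subgroup.subset_closure (Or.inl (Or.inl hu))
      · intro u hu; exact Subgroup.subset_closure (Or.inl (Or.inr hu))
    have hyAB : y ∈ AB := Subgroup.subset_closure (Or.inr rfl)
    -- `y, y² ∉ A`
    have hyA : y ∉ A := fun h => hyZ ⟨hyP, hAC h⟩
    have hy2A : y ^ 2 ∉ A := fun h => hy2Z ⟨P.pow_mem hyP 2, hAC h⟩
    -- `|AB : A| ≥ 3`
    have hrel : 3 ≤ A.relIndex AB := by
      have hne0 : A.relIndex AB ≠ 0 := by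
        show (A.subgroupOf AB).index ≠ 0
        exact Subgroup.index_ne_zero_of_finite
      have hne1 : A.relIndex AB ≠ 1 := by
        intro h1
        have := Subgroup.relIndex_eq_one.1 h1
        exact hyA (this hyAB)
      have hne2 : A.relIndex AB ≠ 2 := by
        intro h2
        have := Subgroup.sq_mem_of_index_two (H := A.subgroupOf AB) h2 ⟨y, hyAB⟩
        rw [Subgroup.mem_subgroupOf] at this
        exact hy2A (by simpa using this)
      omega
    -- counting
    refine ⟨AB, hABcomm, ?_⟩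
    have hcardAB : Nat.card ↥A * A.relIndex AB = Nat.card ↥AB := by
      have h1 := Subgroup.card_mul_index (A.subgroupOf AB)
      rw [Nat.card_congr (Subgroup.subgroupOfEquivOfLe hA_AB).toEquiv] at h1
      exact h1
    have hcardA₀ : Nat.card ↥A₀' = Nat.card ↥A₀ :=
      Nat.card_congr (A₀.equivMapOfInjective C.subtype (Subgroup.subtype_injective C)).symm.toEquiv
    have hA₀A : Nat.card ↥A₀' ≤ Nat.card ↥A := Subgroup.card_le_of_le le_sup_left
    have hC : Nat.card ↥C = Nat.card ↥A₀ * A₀.index := (Subgroup.card_mul_index A₀).symm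
    have hG : Nat.card ↥AB * AB.index = Nat.card G := Subgroup.card_mul_index AB
    have hABpos : 0 < Nat.card ↥AB := Nat.card_pos
    have hA₀pos : 0 < Nat.card ↥A₀ := Nat.card_pos
    -- `3 |A₀| ≤ |AB|`
    have h3A : 3 * Nat.card ↥A₀ ≤ Nat.card ↥AB := by
      rw [← hcardAB, ← hcardA₀]
      calc 3 * Nat.card ↥A₀' ≤ A.relIndex AB * Nat.card ↥A := Nat.mul_le_mul hrel hA₀A
        _ = Nat.card ↥A * A.relIndex AB := mul_comm _ _
    -- `|AB| * index ≤ b⁴ (β!)² |A₀|`
    have hmain : Nat.card ↥AB * AB.index ≤ b ^ 4 * (Nat.factorial β) ^ 2 * Nat.card ↥A₀ := by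
      rw [hG]
      calc Nat.card G ≤ b ^ 4 * Nat.card ↥C := hcount
        _ = b ^ 4 * (Nat.card ↥A₀ * A₀.index) := by rw [hC]
        _ ≤ b ^ 4 * (Nat.card ↥A₀ * (Nat.factorial β) ^ 2) := by
            apply Nat.mul_le_mul_left
            exact Nat.mul_le_mul_left _ hA₀idx
        _ = b ^ 4 * (Nat.factorial β) ^ 2 * Nat.card ↥A₀ := by ring
    have harith := arith_bound h3 hβ2
    -- conclude
    by_contra hgt
    push Not at hgt
    have h7 : (Nat.factorial b) ^ 2 + 1 ≤ AB.index := hgt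
    have h8 : 3 * Nat.card ↥A₀ * ((Nat.factorial b) ^ 2 + 1)
        ≤ b ^ 4 * (Nat.factorial β) ^ 2 * Nat.card ↥A₀ :=
      le_trans (Nat.mul_le_mul h3A h7) hmain
    have h9 : b ^ 4 * (Nat.factorial β) ^ 2 * Nat.card ↥A₀
        ≤ 3 * (Nat.factorial b) ^ 2 * Nat.card ↥A₀ := Nat.mul_le_mul_right _ harith
    nlinarith

end Cfsg.Agent.Lib.Helper19.IP26
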