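import Mathlib
import Cfsg.Prelude.Def_GeometricClasses
import Cfsg.Agent.Lib.Helper19.AltEven

/-!
# Project ASCHOE (helper55), module ASCHOE-[G-EVEN] (helper19)
Characteristic 2: a subspace on which the polar form of a quadratic form is non-degenerate has even dimension.
-/

set_option autoImplicit false
set_option linter.unusedSectionVars false

namespace Cfsg.Agent.Lib.Helper55.Oe

open Cfsg Cfsg.Geo
open scoped MatrixGroups Matrix Kronecker

variable {n : ℕ} {F : Type*} [Field F] [Fintype F]

/-- ASCHOE-[G-EVEN] -/
theorem even_finrank_of_nondegenerate_char_two {Q : (Fin n → F) → F} (hQ : IsNondegenerateQuadraticForm Q)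
    (h2 : (2 : F) = 0) (W : Submodule F (Fin n → F)) (hW : IsNondegenerateOn (QuadraticMap.polar Q) W) :
    Even (Module.finrank F W) := by
  set B : LinearMap.BilinForm F (Fin n → F) :=
    LinearMap.mk₂ F (QuadraticMap.polar Q) hQ.polar_bilinear.add_left hQ.polar_bilinear.smul_left
      hQ.polar_bilinear.add_right hQ.polar_bilinear.smul_right with hB
  have halt : ∀ x, B x x = 0 := by
    intro x
    show QuadraticMap.polar Q x x = 0
    unfold QuadraticMap.polar
    have h1 : x + x = (2 : F) • x := by rw [two_smul]
    rw [h1, hQ.smul, h2]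
    have h3 : Q x + Q x = 0 := by
      have : Q x + Q x = (2 : F) * Q x := by ring
      rw [this, h2, zero_mul]
    linear_combination -h3
  have hnd : Cfsg.Agent.Lib.Helper19.AltEven.NdOn B W := by
    intro x hxW hx
    by_contra hx0
    obtain ⟨y, hyW, hy⟩ := (hW x hxW hx0).2
    exact hy (hx y hyW)
  exact Cfsg.Agent.Lib.Helper19.AltEven.even_finrank_of_ndOn halt _ W rfl hnd

end Cfsg.Agent.Lib.Helper55.Oe
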