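import Mathlib
import Cfsg.Prelude.Def_GeometricClasses

/-!
# Project ASCHOE (helper55), module ASCHOE-[G-PERP] (helper19)
The orthogonal complement of a non-degenerate subspace of a non-degenerate quadratic space.
-/

set_option autoImplicit false
set_option linter.unusedSectionVars false

namespace Cfsg.Agent.Lib.Helper55.Oe

open Cfsg Cfsg.Geo
open scoped MatrixGroups Matrix Kronecker

variable {n : ℕ} {F : Type*} [Field F] [Fintype F]

/-- ASCHOE-[G-PERP] -/
theorem exists_perp_of_nondegenerate {Q : (Fin n → F) → F} (hQ : IsNondegenerateQuadraticForm Q)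
    (W : Submodule F (Fin n → F)) (hW : IsNondegenerateOn (QuadraticMap.polar Q) W) :
    ∃ W' : Submodule F (Fin n → F), IsNondegenerateOn (QuadraticMap.polar Q) W' ∧
      AreOrthogonalFor (QuadraticMap.polar Q) W W' ∧ W ⊓ W' = ⊥ ∧ W ⊔ W' = ⊤ ∧
      Module.finrank F W + Module.finrank F W' = n ∧
      (∀ v : Fin n → F, (∀ w ∈ W, QuadraticMap.polar Q w v = 0) → v ∈ W') ∧
      subspaceStabilizer W ⊓ isometryGroup F Q ≤ subspaceStabilizer W' := by
  set B : LinearMap.BilinForm F (Fin n → F) :=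
    LinearMap.mk₂ F (QuadraticMap.polar Q) hQ.polar_bilinear.add_left hQ.polar_bilinear.smul_left
      hQ.polar_bilinear.add_right hQ.polar_bilinear.smul_right with hB
  have hBp : ∀ u v, B u v = QuadraticMap.polar Q u v := fun u v => rfl
  have hsymm : ∀ u v, QuadraticMap.polar Q u v = QuadraticMap.polar Q v u :=
    fun u v => QuadraticMap.polar_comm Q u v
  have hrefl : B.IsRefl := by
    intro x y hxy
    rw [hBp] at hxy ⊢
    rw [hsymm]; exact hxy
  have hmem : ∀ v, v ∈ B.orthogonal W ↔ ∀ w ∈ W, QuadraticMap.polar Q w v = 0 := fun v => Iff.rfl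
  have hdisj : Disjoint W (B.orthogonal W) := by
    rw [Submodule.disjoint_def]
    intro v hvW hvW'
    by_contra hv0
    obtain ⟨x, hxW, hx⟩ := (hW v hvW hv0).1
    exact hx ((hmem v).1 hvW' x hxW)
  have hcompl : IsCompl W (B.orthogonal W) :=
    (LinearMap.BilinForm.isCompl_orthogonal_iff_disjoint hrefl).2 hdisj
  refine ⟨B.orthogonal W, ?_, ?_, hcompl.inf_eq_bot, hcompl.sup_eq_top, ?_, ?_, ?_⟩
  · -- non-degenerate on the complement
    intro v hvW' hv0
    obtain ⟨y, hy⟩ := (hQ.nondegenerate v hv0).1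
    have hy_top : y ∈ W ⊔ B.orthogonal W := by rw [hcompl.sup_eq_top]; trivial
    obtain ⟨y₁, hy₁, y₂, hy₂, rfl⟩ := Submodule.mem_sup.1 hy_top
    have h1 : QuadraticMap.polar Q y₁ v = 0 := (hmem v).1 hvW' y₁ hy₁
    rw [hQ.polar_bilinear.add_left, h1, zero_add] at hy
    exact ⟨⟨y₂, hy₂, hy⟩, ⟨y₂, hy₂, by rw [hsymm]; exact hy⟩⟩
  · intro u hu v hv
    exact (hmem v).1 hv u hu
  · have := Submodule.finrank_add_eq_of_isCompl hcompl
    rw [this]; simp
  · intro v hv
    exact (hmem v).2 hv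
  · intro g hg
    obtain ⟨hgW, hgI⟩ := hg
    have hiso : ∀ w, Q ((g : Matrix (Fin n) (Fin n) F) *ᵥ w) = Q w := fun w => hgI w w
    have hpol : ∀ u v, QuadraticMap.polar Q ((g : Matrix (Fin n) (Fin n) F) *ᵥ u)
        ((g : Matrix (Fin n) (Fin n) F) *ᵥ v) = QuadraticMap.polar Q u v := by
      intro u v
      unfold QuadraticMap.polar
      rw [← Matrix.mulVec_add, hiso, hiso, hiso]
    have hgW' : ∀ v, v ∈ W ↔ (g : Matrix (Fin n) (Fin n) F) *ᵥ v ∈ W := hgW
    intro v
    show v ∈ B.orthogonal W ↔ (g : Matrix (Fin n) (Fin n) F) *ᵥ v ∈ B.orthogonal W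
    rw [hmem, hmem]
    constructor
    · intro hv w hw
      have hw0 : ((g⁻¹ : GL (Fin n) F) : Matrix (Fin n) (Fin n) F) *ᵥ w ∈ W := by
        rw [hgW', Matrix.mulVec_mulVec, ← Units.val_mul, mul_inv_cancel, Units.val_one,
          Matrix.one_mulVec]
        exact hw
      have hw1 : w = (g : Matrix (Fin n) (Fin n) F) *ᵥ
          (((g⁻¹ : GL (Fin n) F) : Matrix (Fin n) (Fin n) F) *ᵥ w) := by
        rw [Matrix.mulVec_mulVec, ← Units.val_mul, mul_inv_cancel, Units.val_one, Matrix.one_mulVec]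
      rw [hw1, hpol]
      exact hv _ hw0
    · intro hv w hw
      rw [← hpol]
      exact hv _ ((hgW' w).1 hw)

end Cfsg.Agent.Lib.Helper55.Oe
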