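import Mathlib
import Cfsg.Prelude.Def_GeometricClasses
import Cfsg.Agent.Lib.Helper44.EichlerGeom
import Cfsg.Agent.Lib.Helper44.EichlerOdd
import Cfsg.Agent.Lib.Helper44.Witt
import Cfsg.Agent.Lib.Helper14.OmegaCenter
import Cfsg.Agent.Lib.Helper94.OrthBridge
import Cfsg.Agent.Lib.Helper94.OrthSiegel

/-!
# Project ASCHOE (helper55), module ASCHOE-[P-IRR] (helper19)
`Ω(Q)` acts irreducibly in dimension `≥ 7` (finite field, any characteristic).
Abstract form: a subspace invariant under the Eichler group `KE Q` is `⊥` or `⊤` (dimension `≥ 5`).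
-/

set_option autoImplicit false
set_option linter.unusedSectionVars false

namespace Cfsg.Agent.Lib.Helper19.OePIrr

open Cfsg.Agent.Lib.Helper44 Cfsg.Agent.Lib.Helper36 Cfsg.Agent.Lib.Helper13 Module

variable {F V : Type*} [Field F] [AddCommGroup V] [Module F V]

local notation "pol" => QuadraticMap.polar

/-- a `KE`-invariant subspace is trivial or everything -/
theorem KE_invariant_eq_bot_or_top [Finite F] [FiniteDimensional F V] (Q : QuadraticForm F V)
    (hQ : (QuadraticMap.polarBilin Q).Nondegenerate) (h5 : 5 ≤ finrank F V)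
    (W : Submodule F V) (hW : ∀ k ∈ KE Q, ∀ w ∈ W, (k : V ≃ₗ[F] V) w ∈ W) : W = ⊥ ∨ W = ⊤ := by
  by_cases hW0 : W = ⊥
  · exact Or.inl hW0
  right
  obtain ⟨w, hwW, hw0⟩ := (Submodule.ne_bot_iff W).1 hW0
  -- Step 1: a non-zero singular vector in `W`
  have h1 : ∃ a ∈ W, a ≠ 0 ∧ Q a = 0 := by
    by_cases hQw : Q w = 0
    · exact ⟨w, hwW, hw0, hQw⟩
    · obtain ⟨p, hp0, hQp, hwp, _⟩ := Cfsg.Agent.Lib.Helper14.exists_sing_perp_two Q h5 w w
      have hx : ∀ c : F, w ≠ c • p := by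
        intro c hc
        apply hQw
        rw [hc, QuadraticMap.map_smul, hQp, smul_zero]
      obtain ⟨z, hpz, hwz⟩ := dual2 Q hQ p w hp0 hx 0 1
      have hk := eichG_mem_KE Q p z hQp hpz
      have hkw := hW _ hk w hwW
      rw [eichG_apply, siegelLin_apply] at hkw
      have hpw : pol (⇑Q) p w = 0 := by rw [QuadraticMap.polar_comm]; exact hwp
      have hzw : pol (⇑Q) z w = 1 := by rw [QuadraticMap.polar_comm]; exact hwz
      rw [hpw, hzw, mul_zero, sub_zero, one_smul, zero_smul, sub_zero] at hkw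
      refine ⟨p, ?_, hp0, hQp⟩
      have : p = (w + p) - w := by abel
      rw [this]
      exact W.sub_mem hkw hwW
  obtain ⟨a, haW, ha0, hQa⟩ := h1
  -- Step 2: every singular vector lies in `W`
  have h2 : ∀ a' : V, Q a' = 0 → a' ∈ W := by
    intro a' hQa'
    by_cases hc : ∃ c : F, a' = c • a
    · obtain ⟨c, rfl⟩ := hc
      exact W.smul_mem c haW
    · push Not at hc
      obtain ⟨k, hk, hka⟩ := KE_trans_sing Q hQ h5 a a' ha0 hQa hQa' hc
      rw [← hka]
      exact hW k hk a haW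
  -- Step 3: singular vectors span
  obtain ⟨b, hQb, hab⟩ := exists_hyp_partner Q hQ a ha0 hQa
  have hba : pol (⇑Q) b a = 1 := by rw [QuadraticMap.polar_comm]; exact hab
  have haa : pol (⇑Q) a a = 0 := by rw [QuadraticMap.polar_self, hQa, smul_zero]
  have hbb : pol (⇑Q) b b = 0 := by rw [QuadraticMap.polar_self, hQb, smul_zero]
  have hbW : b ∈ W := h2 b hQb
  rw [eq_top_iff]
  intro x _
  set y : V := x - pol (⇑Q) x b • a - pol (⇑Q) x a • b with hy
  have hya : pol (⇑Q) y a = 0 := by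
    rw [hy, QuadraticMap.polar_sub_left, QuadraticMap.polar_sub_left, QuadraticMap.polar_smul_left,
      QuadraticMap.polar_smul_left, haa, hba]
    simp
  have hyb : pol (⇑Q) y b = 0 := by
    rw [hy, QuadraticMap.polar_sub_left, QuadraticMap.polar_sub_left, QuadraticMap.polar_smul_left,
      QuadraticMap.polar_smul_left, hab, hbb]
    simp
  have hs : Q (y + (b + (-(Q y)) • a)) = 0 := by
    rw [QuadraticMap.map_add Q y, QuadraticMap.map_add Q b, QuadraticMap.map_smul Q,
      QuadraticMap.polar_add_right, QuadraticMap.polar_smul_right, QuadraticMap.polar_smul_right,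
      hQa, hQb, hya, hyb, hba]
    simp
  have hsW := h2 _ hs
  have hyW : y ∈ W := by
    have : y = (y + (b + (-(Q y)) • a)) - (b + (-(Q y)) • a) := by abel
    rw [this]
    exact W.sub_mem hsW (W.add_mem hbW (W.smul_mem _ haW))
  have hx : x = y + (pol (⇑Q) x b • a + pol (⇑Q) x a • b) := by rw [hy]; abel
  rw [hx]
  exact W.add_mem hyW (W.add_mem (W.smul_mem _ haW) (W.smul_mem _ hbW))

end Cfsg.Agent.Lib.Helper19.OePIrr

namespace Cfsg.Agent.Lib.Helper55.Oe

open Cfsg Cfsg.Geo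
open scoped MatrixGroups Matrix Kronecker

variable {n : ℕ} {F : Type*} [Field F] [Fintype F]

/-- ASCHOE-[P-IRR] -/
theorem omegaGL_irreducible {Q : (Fin n → F) → F} (hQ : IsNondegenerateQuadraticForm Q) (hn : 7 ≤ n) :
    ActsIrreducibly (matrixSet (omegaGL Q)) := by
  classical
  intro W hW
  have hD := Cfsg.Agent.Lib.Helper94.quadData_polarBilin hQ
  have hnd := Cfsg.Agent.Lib.Helper94.nondeg_polarBilin hQ
  have hfr : Module.finrank F (Fin n → F) = n := Module.finrank_fin_fun F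
  have hQF := hD.nondeg_toQF hnd
  apply Cfsg.Agent.Lib.Helper19.OePIrr.KE_invariant_eq_bot_or_top hD.toQF hQF (by rw [hfr]; omega) W
  intro k hk w hw
  have hKE := Cfsg.Agent.Lib.Helper44.commutator_eq_KE hD.toQF hQF (by rw [hfr]; omega)
  have h1 : (k : (Fin n → F) ≃ₗ[F] (Fin n → F)) ∈
      ⁅Cfsg.Agent.Lib.Helper36.isoGroup hD.toQF, Cfsg.Agent.Lib.Helper36.isoGroup hD.toQF⁆ := by
    rw [← Subgroup.map_subtype_commutator, hKE]
    exact ⟨k, hk, rfl⟩
  have hOG : Cfsg.Agent.Lib.Helper94.OG Q = Cfsg.Agent.Lib.Helper36.isoGroup hD.toQF := by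
    ext g; exact Iff.rfl
  have h1' : (k : (Fin n → F) ≃ₗ[F] (Fin n → F)) ∈
      (omegaGL Q).map (Cfsg.Agent.Lib.Helper94.glEquiv (Fin n) F).toMonoidHom := by
    rw [Cfsg.Agent.Lib.Helper94.map_omegaGL, hOG]
    exact h1
  obtain ⟨g, hg, hgk⟩ := h1'
  have h2 := hW (g : Matrix (Fin n) (Fin n) F) ⟨g, hg, rfl⟩
  have h3 : (k : (Fin n → F) ≃ₗ[F] (Fin n → F)) w = (g : Matrix (Fin n) (Fin n) F) *ᵥ w := by
    rw [← hgk]
    exact Cfsg.Agent.Lib.Helper94.glEquiv_apply g w
  rw [h3]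
  apply h2
  exact ⟨w, hw, by simp [Matrix.toLin'_apply]⟩

end Cfsg.Agent.Lib.Helper55.Oe
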