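import Mathlib
import Cfsg.Prelude.Def_GeometricClasses
import Cfsg.Agent.Lib.Helper24.OeKit
import Cfsg.Agent.Lib.Helper94.TensorBasic
import Cfsg.Agent.Lib.Helper14.OmegaCenter

/-!
# Project ASCHOE (helper55), module ASCHOE-[P-TENSOR] (helper19, hedge)
`Ω(Q)` (dimension `≥ 7`) lies in no tensor product subgroup.
Proof: `Ω` is transitive on singular vectors, one of them is a pure tensor `a = x ⊗ y`, so all are; a singular `r ⊥ a`
has `a + r` singular, hence pure, hence `r ∈ x ⊗ V₂` or `r ∈ V₁ ⊗ y`; the singular vectors of `a^⊥` span `a^⊥`, so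
`n - 1 ≤ n₁ + n₂ - 1`.
-/

set_option autoImplicit false
set_option linter.unusedSectionVars false
set_option linter.unusedVariables false

namespace Cfsg.Agent.Lib.Helper19.OePTensor

open Cfsg Cfsg.Geo Cfsg.Agent.Lib.Helper94 Cfsg.Agent.Lib.Helper24.OeKit
open scoped MatrixGroups Matrix Kronecker

variable {F : Type*} [Field F] {n₁ n₂ : ℕ}

/-- if a sum of two pure tensors is pure then all `2 × 2` "mixed minors" vanish -/
theorem minors_of_pure_sum {u u' u'' : Fin n₁ → F} {w w' w'' : Fin n₂ → F}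
    (h : pureT u w + pureT u' w' = pureT u'' w'') (i k : Fin n₁) (j l : Fin n₂) :
    (u i * u' k - u' i * u k) * (w j * w' l - w l * w' j) = 0 := by
  have h1 := congrFun h (i, j)
  have h2 := congrFun h (k, l)
  have h3 := congrFun h (i, l)
  have h4 := congrFun h (k, j)
  simp only [Pi.add_apply, pureT_apply] at h1 h2 h3 h4
  have : (u i * w j + u' i * w' j) * (u k * w l + u' k * w' l) =
      (u i * w l + u' i * w' l) * (u k * w j + u' k * w' j) := by
    rw [h1, h2, h3, h4]; ring
  linear_combination this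

/-- a sum of two non-zero pure tensors that is pure has a pair of parallel factors -/
theorem parallel_of_pure_sum {u u' u'' : Fin n₁ → F} {w w' w'' : Fin n₂ → F}
    (h : pureT u w + pureT u' w' = pureT u'' w'') (hu : u ≠ 0) (hw : w ≠ 0) :
    (∃ c : F, u' = c • u) ∨ (∃ c : F, w' = c • w) := by
  by_cases hex : ∃ i k, u i * u' k - u' i * u k ≠ 0
  · right
    obtain ⟨i, k, hik⟩ := hex
    obtain ⟨j₀, hj₀⟩ := exists_ne_zero_of_ne_zero hw
    refine ⟨w' j₀ / w j₀, ?_⟩
    ext l
    have := minors_of_pure_sum h i k j₀ l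
    rcases mul_eq_zero.1 this with h' | h'
    · exact absurd h' hik
    · simp only [Pi.smul_apply, smul_eq_mul]
      field_simp
      linear_combination h'
  · left
    push Not at hex
    obtain ⟨i₀, hi₀⟩ := exists_ne_zero_of_ne_zero hu
    refine ⟨u' i₀ / u i₀, ?_⟩
    ext k
    have := hex i₀ k
    simp only [Pi.smul_apply, smul_eq_mul]
    field_simp
    linear_combination this


/-- pure vectors of a tensor structure -/
def IsPure {n : ℕ} (e : Fin n ≃ Fin n₁ × Fin n₂) (P : GL (Fin n) F) (v : Fin n → F) : Prop :=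
  ∃ (u : Fin n₁ → F) (w : Fin n₂ → F), v = tensPhi e P (pureT u w)

end Cfsg.Agent.Lib.Helper19.OePTensor

namespace Cfsg.Agent.Lib.Helper55.Oe

open Cfsg Cfsg.Geo Cfsg.Agent.Lib.Helper94 Cfsg.Agent.Lib.Helper24.OeKit Cfsg.Agent.Lib.Helper19.OePTensor
open scoped MatrixGroups Matrix Kronecker

variable {n : ℕ} {F : Type*} [Field F] [Fintype F]

local notation "pol" => QuadraticMap.polar

/-- ASCHOE-[P-TENSOR] -/
theorem not_omegaGL_le_tensorProductSubgroup {Q : (Fin n → F) → F} (hQ : IsNondegenerateQuadraticForm Q)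
    (hn : 7 ≤ n) (n₁ n₂ : ℕ) (h1 : 2 ≤ n₁) (h2 : 2 ≤ n₂) (e : Fin n ≃ Fin n₁ × Fin n₂) (P : GL (Fin n) F) :
    ¬ omegaGL Q ≤ tensorProductSubgroup n₁ n₂ e P := by
  classical
  intro hle
  have hcard : n = n₁ * n₂ := by
    have := Fintype.card_congr e
    simpa using this
  have hfr : Module.finrank F (Fin n → F) = n := Module.finrank_fin_fun F
  have h5 : 5 ≤ Module.finrank F (Fin n → F) := by rw [hfr]; omega
  have hQF := qf_nondeg hQ
  have hQadd : ∀ u v : Fin n → F, Q (u + v) = pol Q u v + Q u + Q v := by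
    intro u v; unfold QuadraticMap.polar; ring
  -- (A) `Ω` preserves pure vectors
  have hA : ∀ g ∈ omegaGL Q, ∀ v, IsPure e P v → IsPure e P ((g : Matrix (Fin n) (Fin n) F) *ᵥ v) := by
    rintro g hg v ⟨u, w, hv⟩
    obtain ⟨A, B, hAB⟩ := exists_of_mem_tensorProductSubgroup (hle hg)
    refine ⟨(A : Matrix (Fin n₁) (Fin n₁) F) *ᵥ u, (B : Matrix (Fin n₂) (Fin n₂) F) *ᵥ w, ?_⟩
    rw [hv, hAB, kronecker_mulVec_pureT]
  -- (B) a pure non-zero singular vector
  have hB : ∃ a : Fin n → F, a ≠ 0 ∧ Q a = 0 ∧ IsPure e P a := by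
    have h3 : 3 ≤ n₁ ∨ 3 ≤ n₂ := by
      by_contra hcon
      push Not at hcon
      have e1 : n₁ = 2 := by omega
      have e2 : n₂ = 2 := by omega
      rw [e1, e2] at hcard
      omega
    rcases h3 with h3 | h3
    · set w₀ : Fin n₂ → F := Pi.single ⟨0, by omega⟩ 1 with hw₀
      have hw₀0 : w₀ ⟨0, by omega⟩ ≠ 0 := by simp [hw₀]
      set f : (Fin n₁ → F) →ₗ[F] (Fin n → F) :=
        ((tensPhi e P : (Fin n₁ × Fin n₂ → F) ≃ₗ[F] (Fin n → F)) :
          (Fin n₁ × Fin n₂ → F) →ₗ[F] (Fin n → F)) ∘ₗ pureRight w₀ with hf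
      have hinj : Function.Injective f := by
        intro u u' huu
        have h' : pureT u w₀ = pureT u' w₀ := (tensPhi e P).injective huu
        have := pureT_cancel_right h' hw₀0
        rw [this, div_self hw₀0, one_smul]
      have hfrW : Module.finrank F (LinearMap.range f) = n₁ := by
        rw [LinearMap.finrank_range_of_inj hinj, Module.finrank_fin_fun]
      obtain ⟨v, hvW, hv0, hQv⟩ := exists_singular_mem hQ (LinearMap.range f) (by omega)
      obtain ⟨u, rfl⟩ := hvW
      exact ⟨_, hv0, hQv, u, w₀, rfl⟩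
    · set u₀ : Fin n₁ → F := Pi.single ⟨0, by omega⟩ 1 with hu₀
      have hu₀0 : u₀ ⟨0, by omega⟩ ≠ 0 := by simp [hu₀]
      set f : (Fin n₂ → F) →ₗ[F] (Fin n → F) :=
        ((tensPhi e P : (Fin n₁ × Fin n₂ → F) ≃ₗ[F] (Fin n → F)) :
          (Fin n₁ × Fin n₂ → F) →ₗ[F] (Fin n → F)) ∘ₗ pureLeft u₀ with hf
      have hinj : Function.Injective f := by
        intro w w' hww
        have h' : pureT u₀ w = pureT u₀ w' := (tensPhi e P).injective hww
        have := pureT_cancel_left h' hu₀0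
        rw [this, div_self hu₀0, one_smul]
      have hfrW : Module.finrank F (LinearMap.range f) = n₂ := by
        rw [LinearMap.finrank_range_of_inj hinj, Module.finrank_fin_fun]
      obtain ⟨v, hvW, hv0, hQv⟩ := exists_singular_mem hQ (LinearMap.range f) (by omega)
      obtain ⟨w, rfl⟩ := hvW
      exact ⟨_, hv0, hQv, u₀, w, rfl⟩
  obtain ⟨a, ha0, hQa, x, y, hax⟩ := hB
  have hx0 : x ≠ 0 := by
    rintro rfl
    rw [pureT_zero_left, map_zero] at hax
    exact ha0 hax
  have hy0 : y ≠ 0 := by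
    rintro rfl
    rw [pureT_zero_right, map_zero] at hax
    exact ha0 hax
  -- (C) every singular vector is pure
  have hC : ∀ a' : Fin n → F, Q a' = 0 → IsPure e P a' := by
    intro a' hQa'
    by_cases hc : ∃ c : F, a' = c • a
    · obtain ⟨c, rfl⟩ := hc
      exact ⟨c • x, y, by rw [hax, pureT_smul_left, map_smul]⟩
    · push Not at hc
      obtain ⟨g, hg, hga⟩ := exists_omega_map hQ hn a a' ha0 hQa hQa' hc
      rw [← hga]
      exact hA g hg a ⟨x, y, hax⟩
  -- the two subspaces
  set f₁ : (Fin n₂ → F) →ₗ[F] (Fin n → F) :=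
    ((tensPhi e P : (Fin n₁ × Fin n₂ → F) ≃ₗ[F] (Fin n → F)) :
      (Fin n₁ × Fin n₂ → F) →ₗ[F] (Fin n → F)) ∘ₗ pureLeft x with hf₁
  set f₂ : (Fin n₁ → F) →ₗ[F] (Fin n → F) :=
    ((tensPhi e P : (Fin n₁ × Fin n₂ → F) ≃ₗ[F] (Fin n → F)) :
      (Fin n₁ × Fin n₂ → F) →ₗ[F] (Fin n → F)) ∘ₗ pureRight y with hf₂
  have hf₁a : ∀ w, f₁ w = tensPhi e P (pureT x w) := fun w => rfl
  have hf₂a : ∀ u, f₂ u = tensPhi e P (pureT u y) := fun u => rfl
  set L : Submodule F (Fin n → F) := LinearMap.range f₁ ⊔ LinearMap.range f₂ with hL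
  -- (E) singular vectors orthogonal to `a` lie in `L`
  have hE : ∀ r : Fin n → F, Q r = 0 → pol Q a r = 0 → r ∈ L := by
    intro r hQr har
    obtain ⟨u', w', hr⟩ := hC r hQr
    have hQar : Q (a + r) = 0 := by rw [hQadd, har, hQa, hQr]; ring
    obtain ⟨u'', w'', har'⟩ := hC (a + r) hQar
    have hsum : pureT x y + pureT u' w' = pureT u'' w'' := by
      apply (tensPhi e P).injective
      rw [map_add, ← hax, ← hr, har']
    rcases parallel_of_pure_sum hsum hx0 hy0 with ⟨c, hc⟩ | ⟨c, hc⟩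
    · apply Submodule.mem_sup_left
      refine ⟨c • w', ?_⟩
      rw [hf₁a, hr, hc, pureT_smul_left, pureT_smul_right]
    · apply Submodule.mem_sup_right
      refine ⟨c • u', ?_⟩
      rw [hf₂a, hr, hc, pureT_smul_left, pureT_smul_right]
  -- (F) all of `a^⊥` lies in `L`
  obtain ⟨b, hQb, hab⟩ := Cfsg.Agent.Lib.Helper44.exists_hyp_partner (qf hQ) hQF a ha0 hQa
  obtain ⟨p, hp0, hQp, hap, hbp⟩ := Cfsg.Agent.Lib.Helper14.exists_sing_perp_two (qf hQ) h5 a b
  have hpa : pol (⇑(qf hQ)) p a = 0 := by rw [QuadraticMap.polar_comm]; exact hap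
  have hanp : ∀ c : F, a ≠ c • p := by
    intro c hc
    have h' : pol (⇑(qf hQ)) a b = 0 := by
      rw [hc, QuadraticMap.polar_smul_left, QuadraticMap.polar_comm, hbp, smul_zero]
    rw [hab] at h'
    exact one_ne_zero h'
  obtain ⟨p', hQp', hpp', hap'⟩ :=
    Cfsg.Agent.Lib.Helper44.exists_sing_partner_perp (qf hQ) hQF p a hp0 hanp hQp hpa
  have hp'p : pol (⇑(qf hQ)) p' p = 1 := by rw [QuadraticMap.polar_comm]; exact hpp'
  have hpp : pol (⇑(qf hQ)) p p = 0 := by
    rw [QuadraticMap.polar_self, hQp, smul_zero]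
  have hp'p'0 : pol (⇑(qf hQ)) p' p' = 0 := by
    rw [QuadraticMap.polar_self, hQp', smul_zero]
  have hpL : p ∈ L := hE p hQp hap
  have hp'L : p' ∈ L := hE p' hQp' hap'
  have hF : ∀ v : Fin n → F, pol (⇑(qf hQ)) a v = 0 → v ∈ L := by
    intro v hav
    set u : Fin n → F := v - pol (⇑(qf hQ)) v p' • p - pol (⇑(qf hQ)) v p • p' with hu
    have hup : pol (⇑(qf hQ)) u p = 0 := by
      rw [hu, QuadraticMap.polar_sub_left, QuadraticMap.polar_sub_left, QuadraticMap.polar_smul_left,
        QuadraticMap.polar_smul_left, hpp, hp'p]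
      simp
    have hup' : pol (⇑(qf hQ)) u p' = 0 := by
      rw [hu, QuadraticMap.polar_sub_left, QuadraticMap.polar_sub_left, QuadraticMap.polar_smul_left,
        QuadraticMap.polar_smul_left, hpp', hp'p'0]
      simp
    have hau : pol (⇑(qf hQ)) a u = 0 := by
      rw [hu, QuadraticMap.polar_sub_right, QuadraticMap.polar_sub_right, QuadraticMap.polar_smul_right,
        QuadraticMap.polar_smul_right, hav, hap, hap']
      simp
    have hs : (qf hQ) (u + (p' + (-((qf hQ) u)) • p)) = 0 := by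
      rw [QuadraticMap.map_add (qf hQ) u, QuadraticMap.map_add (qf hQ) p', QuadraticMap.map_smul (qf hQ),
        QuadraticMap.polar_add_right, QuadraticMap.polar_smul_right, QuadraticMap.polar_smul_right,
        hQp, hQp', hup, hup', hp'p]
      simp
    have has : pol (⇑(qf hQ)) a (u + (p' + (-((qf hQ) u)) • p)) = 0 := by
      rw [QuadraticMap.polar_add_right, QuadraticMap.polar_add_right, QuadraticMap.polar_smul_right,
        hau, hap', hap]
      simp
    have hsL := hE _ hs has
    have huL : u ∈ L := by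
      have : u = (u + (p' + (-((qf hQ) u)) • p)) - (p' + (-((qf hQ) u)) • p) := by abel
      rw [this]
      exact L.sub_mem hsL (L.add_mem hp'L (L.smul_mem _ hpL))
    have hv : v = u + (pol (⇑(qf hQ)) v p' • p + pol (⇑(qf hQ)) v p • p') := by rw [hu]; abel
    rw [hv]
    exact L.add_mem huL (L.add_mem (L.smul_mem _ hpL) (L.smul_mem _ hp'L))
  -- (G) dimension count
  have hkerle : LinearMap.ker (QuadraticMap.polarBilin (qf hQ) a) ≤ L := by
    intro v hv
    exact hF v (LinearMap.mem_ker.1 hv)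
  have hker : n ≤ Module.finrank F (LinearMap.ker (QuadraticMap.polarBilin (qf hQ) a)) + 1 := by
    have h' := LinearMap.finrank_range_add_finrank_ker (QuadraticMap.polarBilin (qf hQ) a)
    have h'' : Module.finrank F (LinearMap.range (QuadraticMap.polarBilin (qf hQ) a)) ≤ 1 := by
      have := Submodule.finrank_le (LinearMap.range (QuadraticMap.polarBilin (qf hQ) a))
      rwa [Module.finrank_self] at this
    rw [hfr] at h'
    omega
  have hL1 : Module.finrank F (LinearMap.range f₁) ≤ n₂ := by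
    have := LinearMap.finrank_range_le f₁
    rwa [Module.finrank_fin_fun] at this
  have hL2 : Module.finrank F (LinearMap.range f₂) ≤ n₁ := by
    have := LinearMap.finrank_range_le f₂
    rwa [Module.finrank_fin_fun] at this
  have hinf : 1 ≤ Module.finrank F (LinearMap.range f₁ ⊓ LinearMap.range f₂ : Submodule F (Fin n → F)) := by
    rw [Submodule.one_le_finrank_iff]
    intro hbot
    have : a ∈ (LinearMap.range f₁ ⊓ LinearMap.range f₂ : Submodule F (Fin n → F)) :=
      ⟨⟨y, by rw [hf₁a, hax]⟩, ⟨x, by rw [hf₂a, hax]⟩⟩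
    rw [hbot, Submodule.mem_bot] at this
    exact ha0 this
  have hsupinf := Submodule.finrank_sup_add_finrank_inf_eq (LinearMap.range f₁) (LinearMap.range f₂)
  have hLle := Submodule.finrank_mono hkerle
  have hfin : n + 1 ≤ n₁ + n₂ + 1 := by
    have : Module.finrank F L = Module.finrank F (LinearMap.range f₁ ⊔ LinearMap.range f₂ : Submodule F (Fin n → F)) := rfl
    omega
  rw [hcard] at hfin hn
  nlinarith [mul_le_mul h1 h2 (by omega) (by omega)]

end Cfsg.Agent.Lib.Helper55.Oe
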