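import Mathlib
import Cfsg.Prelude.Def_GeometricClasses

/-!
# Project ASCHOE (helper55), module ASCHOE-[T-BLOCKS] (helper19)
An orthogonal decomposition into blocks of plus type is of plus type.
-/

set_option autoImplicit false
set_option linter.unusedSectionVars false

namespace Cfsg.Agent.Lib.Helper19.OeTBlocks

variable {K V : Type*} [Field K] [AddCommGroup V] [Module K V]

/-- the dimension of the span of finitely many independent subspaces is the sum of the dimensions -/
theorem finrank_biSup_of_indep [FiniteDimensional K V] {ι : Type*} [DecidableEq ι]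
    (p : ι → Submodule K V) (hp : iSupIndep p) (S : Finset ι) :
    Module.finrank K (⨆ i ∈ S, p i : Submodule K V) = ∑ i ∈ S, Module.finrank K (p i) := by
  induction S using Finset.induction_on with
  | empty => simp
  | insert a S ha ih =>
    rw [Finset.iSup_insert, Finset.sum_insert ha, ← ih]
    have hdisj : Disjoint (p a) (⨆ i ∈ S, p i) := by
      have := hp.disjoint_biSup (x := a) (y := (S : Set ι)) (by simpa using ha)
      simpa using this
    have h := Submodule.finrank_sup_add_finrank_inf_eq (p a) (⨆ i ∈ S, p i)
    rw [hdisj.eq_bot, finrank_bot, add_zero] at h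
    exact h

theorem finrank_iSup_of_indep [FiniteDimensional K V] {ι : Type*} [Fintype ι] [DecidableEq ι]
    (p : ι → Submodule K V) (hp : iSupIndep p) :
    Module.finrank K (⨆ i, p i : Submodule K V) = ∑ i, Module.finrank K (p i) := by
  have := finrank_biSup_of_indep p hp Finset.univ
  have h2 : (⨆ i ∈ (Finset.univ : Finset ι), p i : Submodule K V) = ⨆ i, p i := by
    apply le_antisymm
    · exact iSup₂_le fun i _ => le_iSup p i
    · exact iSup_le fun i => le_iSup₂ (f := fun i (_ : i ∈ (Finset.univ : Finset ι)) => p i) i (Finset.mem_univ i)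
  rw [h2] at this
  exact this

end Cfsg.Agent.Lib.Helper19.OeTBlocks

namespace Cfsg.Agent.Lib.Helper55.Oe

open Cfsg Cfsg.Geo Cfsg.Agent.Lib.Helper19.OeTBlocks
open scoped MatrixGroups Matrix Kronecker

variable {n : ℕ} {F : Type*} [Field F] [Fintype F]

/-- ASCHOE-[T-BLOCKS] -/
theorem isPlusTypeOn_top_of_blocks {Q : (Fin n → F) → F} (hQ : IsNondegenerateQuadraticForm Q)
    {t : ℕ} (m : ℕ) (D : Fin t → Submodule F (Fin n → F))
    (hD : IsNondegenerateMDecomposition (QuadraticMap.polar Q) m D) (hp : ∀ i, IsPlusTypeOn Q (D i)) :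
    IsPlusTypeOn Q ⊤ := by
  classical
  choose U hUle hUts hUfr using hp
  have hpb := hQ.polar_bilinear
  have hp0l : ∀ y, QuadraticMap.polar Q 0 y = 0 := fun y => by
    have := hpb.smul_left 0 0 y
    simpa using this
  have hp0r : ∀ x, QuadraticMap.polar Q x 0 = 0 := fun x => by
    have := hpb.smul_right 0 x 0
    simpa using this
  have hQ0 : Q 0 = 0 := by
    have := hQ.smul 0 0
    simpa using this
  -- Step A
  have hA0 : ∀ i j, ∀ x ∈ U i, ∀ y ∈ U j, QuadraticMap.polar Q x y = 0 := by
    intro i j x hx y hy
    by_cases hij : i = j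
    · subst hij
      unfold QuadraticMap.polar
      rw [hUts i _ ((U i).add_mem hx hy), hUts i x hx, hUts i y hy]; ring
    · exact hD.orthogonal i j hij x (hUle i hx) y (hUle j hy)
  have hA : ∀ x ∈ (⨆ i, U i), ∀ j, ∀ y ∈ U j, QuadraticMap.polar Q x y = 0 := by
    intro x hx
    induction hx using Submodule.iSup_induction' with
    | mem i x hx => exact fun j y hy => hA0 i j x hx y hy
    | zero => exact fun j y _ => hp0l y
    | add x x' _ _ ihx ihx' =>
      intro j y hy
      rw [hpb.add_left, ihx j y hy, ihx' j y hy, add_zero]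
  have hB : ∀ x ∈ (⨆ i, U i), ∀ y ∈ (⨆ i, U i), QuadraticMap.polar Q x y = 0 := by
    intro x hx y hy
    induction hy using Submodule.iSup_induction' with
    | mem j y hy => exact hA x hx j y hy
    | zero => exact hp0r x
    | add y y' _ _ ihy ihy' => rw [hpb.add_right, ihy, ihy', add_zero]
  have hC : ∀ x ∈ (⨆ i, U i), Q x = 0 := by
    intro x hx
    induction hx using Submodule.iSup_induction' with
    | mem i x hx => exact hUts i x hx
    | zero => exact hQ0
    | add x y hx hy ihx ihy =>
      have := hB x hx y hy
      unfold QuadraticMap.polar at this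
      rw [ihx, ihy] at this
      linear_combination this
  refine ⟨⨆ i, U i, le_top, hC, ?_⟩
  have hUind : iSupIndep U := hD.decomp.indep.mono hUle
  rw [finrank_iSup_of_indep U hUind, ← hD.decomp.iSup_eq_top, finrank_iSup_of_indep D hD.decomp.indep,
    Finset.mul_sum]
  exact Finset.sum_congr rfl fun i _ => hUfr i

end Cfsg.Agent.Lib.Helper55.Oe
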