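import Cfsg.Agent.S0989
import Cfsg.Agent.S0991
import Cfsg.Agent.Lib.Helper17.SimpleIndex
import Cfsg.Agent.Lib.Helper17.SylowCard
import Cfsg.Agent.Lib.Helper17.OrderCount
import Mathlib.GroupTheory.Perm.Centralizer
import Mathlib.Data.Nat.Prime.Factorial
import Mathlib.Data.Nat.Multiplicity
import Mathlib.Data.Finite.Perm
import Mathlib.Tactic.Ring

set_option autoImplicit false

namespace Cfsg.Agent.Lib.Helper19

open Cfsg.Agent.Lib.Helper17 Equiv.Perm Subgroup

/-- In the symmetric group on `n` letters with `p ≤ n < 2p`, the number of elements of order `p`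
times `p * (n - p)!` is `n!`. -/
theorem card_orderOf_eq_mul_of_lt_two_mul {α : Type*} [Fintype α] [DecidableEq α] (p : ℕ)
    [hp : Fact p.Prime] (h1 : p ≤ Fintype.card α) (h2 : Fintype.card α < 2 * p) :
    Nat.card {g : Equiv.Perm α // orderOf g = p} * (p * (Fintype.card α - p).factorial) =
      (Fintype.card α).factorial := by
  have h1' : Nat.card {g : Equiv.Perm α // orderOf g = p} =
      (Finset.univ.filter (fun g : Equiv.Perm α => g.cycleType = {p})).card := by
    rw [Nat.card_eq_fintype_card, Fintype.card_subtype]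
    congr 1
    ext g
    simp only [Finset.mem_filter, Finset.mem_univ, true_and]
    exact Cfsg.Agent.S0989.orderOf_eq_prime_iff_cycleType hp.out h2 g
  have h3 := card_of_cycleType_mul_eq α ({p} : Multiset ℕ)
  have hcond : ({p} : Multiset ℕ).sum ≤ Fintype.card α ∧ ∀ a ∈ ({p} : Multiset ℕ), 2 ≤ a := by
    constructor
    · simpa only [Multiset.sum_singleton] using h1
    · intro a ha
      rw [Multiset.mem_singleton] at ha
      rw [ha]; exact hp.out.two_le
  rw [if_pos hcond] at h3
  simp only [Multiset.sum_singleton, Multiset.prod_singleton, Multiset.toFinset_singleton,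
    Finset.prod_singleton, Multiset.count_singleton_self, Nat.factorial_one, mul_one] at h3
  rw [h1', ← h3]
  ring

/-- In the symmetric group on `n` letters, `p ≤ n < 2p`, `p` prime, the normalizer of a Sylow
`p`-subgroup has order `p * (p - 1) * (n - p)!`. -/
theorem card_normalizer_sylow_perm_of_lt_two_mul {α : Type*} [Fintype α] [DecidableEq α] (p : ℕ)
    [hp : Fact p.Prime] (h1 : p ≤ Fintype.card α) (h2 : Fintype.card α < 2 * p)
    (P : Sylow p (Equiv.Perm α)) :
    Nat.card ↥(normalizer ((P : Subgroup (Equiv.Perm α)) : Set (Equiv.Perm α))) =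
      p * (p - 1) * (Fintype.card α - p).factorial := by
  have hpp : p.Prime := hp.out
  -- `p` divides `n!` exactly once
  have hdvd : p ∣ (Fintype.card α).factorial := (Nat.Prime.dvd_factorial hpp).2 h1
  have hsq : ¬ p ^ 2 ∣ (Fintype.card α).factorial := by
    intro h
    have hlog : Nat.log p (Fintype.card α) < 2 := by
      apply Nat.log_lt_of_lt_pow (by have := hpp.two_le; omega)
      calc Fintype.card α < 2 * p := h2
        _ ≤ p * p := Nat.mul_le_mul_right p hpp.two_le
        _ = p ^ 2 := (sq p).symm
    have h3 := (Nat.Prime.pow_dvd_factorial_iff hpp (n := Fintype.card α) (r := 2)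
      (b := 2) hlog).1 h
    -- sum over i in Ico 1 2 of n / p^i = n / p = 1
    rw [Finset.sum_eq_single_of_mem 1 (by simp) (by
      intro b hb hb1
      rw [Finset.mem_Ico] at hb
      omega)] at h3
    rw [pow_one] at h3
    have : Fintype.card α / p < 2 := Nat.div_lt_of_lt_mul (by rw [mul_comm]; exact h2)
    omega
  obtain ⟨m, hm⟩ := hdvd
  have hpm : ¬ p ∣ m := by
    intro h
    apply hsq
    rw [hm, sq]
    exact Nat.mul_dvd_mul_left p h
  have hcard : Nat.card (Equiv.Perm α) = p ^ 1 * m := by
    rw [Nat.card_perm, Nat.card_eq_fintype_card (α := α), hm, pow_one]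
  have hcards : ∀ Q : Sylow p (Equiv.Perm α), Nat.card (Q : Subgroup (Equiv.Perm α)) = p := by
    intro Q
    rw [sylow_card_of_card_eq Q hcard hpm, pow_one]
  have hE := card_orderOf_eq_prime hcards
  have hEp := card_orderOf_eq_mul_of_lt_two_mul (α := α) p h1 h2
  have hN := card_sylow_mul_card_normalizer P
  rw [Nat.card_perm, Nat.card_eq_fintype_card (α := α), ← hEp, hE] at hN
  have hpos : 0 < Nat.card (Sylow p (Equiv.Perm α)) := Nat.card_pos
  have : Nat.card (Sylow p (Equiv.Perm α)) *
      Nat.card ↥(normalizer ((P : Subgroup (Equiv.Perm α)) : Set (Equiv.Perm α))) =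
      Nat.card (Sylow p (Equiv.Perm α)) * (p * (p - 1) * (Fintype.card α - p).factorial) := by
    rw [hN]; ring
  exact Nat.eq_of_mul_eq_mul_left hpos this

/-- If a finite group `G` of order divisible by `p` acts faithfully on `n` points, `p ≤ n < 2p`,
then the normalizer of a Sylow `p`-subgroup has order dividing `p * (p - 1) * (n - p)!`. -/
theorem card_normalizer_dvd_of_injective_perm' {G α : Type*} [Group G] [Finite G] [Fintype α]
    [DecidableEq α] (p : ℕ) [hp : Fact p.Prime]
    (h1 : p ≤ Fintype.card α) (h2 : Fintype.card α < 2 * p) (φ : G →* Equiv.Perm α)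
    (hφ : Function.Injective φ) (P : Sylow p G) (hP : p ∣ Nat.card G) :
    Nat.card (normalizer ((P : Subgroup G) : Set G)) ∣
      p * (p - 1) * (Fintype.card α - p).factorial := by
  have hpp : p.Prime := hp.out
  have hpg : IsPGroup p ((P : Subgroup G).map φ) := P.isPGroup'.map φ
  obtain ⟨Q, hQ⟩ := hpg.exists_le_sylow
  have hNQ := card_normalizer_sylow_perm_of_lt_two_mul p h1 h2 Q
  have hfac : ¬ p ∣ (Fintype.card α - p).factorial := by
    intro h
    have := (Nat.Prime.dvd_factorial hpp).1 h
    omega
  have hQdvd : Nat.card (Q : Subgroup (Equiv.Perm α)) ∣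
      p * (p - 1) * (Fintype.card α - p).factorial := by
    rw [← hNQ]
    exact Subgroup.card_dvd_of_le le_normalizer
  obtain ⟨k, hk⟩ := IsPGroup.iff_card.mp Q.isPGroup'
  have hcardP : Nat.card ((P : Subgroup G).map φ) = Nat.card (P : Subgroup G) :=
    Subgroup.card_map_of_injective hφ
  have hPdvd : p ∣ Nat.card (P : Subgroup G) := P.dvd_card_of_dvd_card hP
  have hPQ : Nat.card (P : Subgroup G) ∣ Nat.card (Q : Subgroup (Equiv.Perm α)) := by
    rw [← hcardP]
    exact Subgroup.card_dvd_of_le hQ
  have hk1 : k ≤ 1 := by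
    by_contra hlt
    replace hlt : 2 ≤ k := by omega
    have h3 : p ^ 2 ∣ p * ((p - 1) * (Fintype.card α - p).factorial) := by
      refine dvd_trans (pow_dvd_pow p hlt) ?_
      rw [← hk, ← mul_assoc]
      exact hQdvd
    rw [pow_two] at h3
    have h4 : p ∣ (p - 1) * (Fintype.card α - p).factorial :=
      Nat.dvd_of_mul_dvd_mul_left hpp.pos h3
    rcases (Nat.Prime.dvd_mul hpp).1 h4 with h5 | h5
    · have h6 : p ≤ p - 1 := Nat.le_of_dvd (by have := hpp.two_le; omega) h5
      have := hpp.two_le
      omega
    · exact hfac h5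
  have hQp : Nat.card (Q : Subgroup (Equiv.Perm α)) = p := by
    have hk0 : k ≠ 0 := by
      rintro rfl
      rw [pow_zero] at hk
      rw [hk] at hPQ
      have := Nat.dvd_one.1 (dvd_trans hPdvd hPQ)
      exact hpp.one_lt.ne' this
    have : k = 1 := by omega
    rw [hk, this, pow_one]
  have hPp : Nat.card (P : Subgroup G) = p := by
    rw [hQp] at hPQ
    rcases (Nat.dvd_prime hpp).1 hPQ with h | h
    · rw [h] at hPdvd
      exact absurd (Nat.dvd_one.1 hPdvd) hpp.one_lt.ne'
    · exact h
  have hmapeq : (P : Subgroup G).map φ = (Q : Subgroup (Equiv.Perm α)) := by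
    apply Subgroup.eq_of_le_of_card_ge hQ
    rw [hcardP, hPp, hQp]
  have hle : (normalizer ((P : Subgroup G) : Set G)).map φ ≤
      normalizer ((Q : Subgroup (Equiv.Perm α)) : Set (Equiv.Perm α)) := by
    rw [← hmapeq]
    exact Subgroup.le_normalizer_map φ
  have h3 : Nat.card ((normalizer ((P : Subgroup G) : Set G)).map φ) =
      Nat.card (normalizer ((P : Subgroup G) : Set G)) := Subgroup.card_map_of_injective hφ
  rw [← h3, ← hNQ]
  exact Subgroup.card_dvd_of_le hle

/-- In a non-commutative simple group with a proper subgroup of index `n`, `p ≤ n < 2p`, where `p`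
divides `|G|`, the normalizer of a Sylow `p`-subgroup has order dividing
`p * (p - 1) * (n - p)!`. -/
theorem card_normalizer_dvd_of_index_of_simple' {G : Type*} [Group G] [Finite G] [IsSimpleGroup G]
    (hG : ¬ IsMulCommutative G) (p : ℕ) [hp : Fact p.Prime] (H : Subgroup G) (hH : H ≠ ⊤)
    (h1 : p ≤ H.index) (h2 : H.index < 2 * p) (P : Sylow p G) (hP : p ∣ Nat.card G) :
    Nat.card (normalizer ((P : Subgroup G) : Set G)) ∣ p * (p - 1) * (H.index - p).factorial := by
  classical
  obtain ⟨f, hf⟩ := Cfsg.Agent.S0991.result hG H hH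
  let φ : G →* Equiv.Perm (Fin H.index) := (alternatingGroup (Fin H.index)).subtype.comp f
  have hφ : Function.Injective φ := fun a b hab => hf (Subtype.ext hab)
  have := card_normalizer_dvd_of_injective_perm' p (α := Fin H.index) (by simpa using h1)
    (by simpa using h2) φ hφ P hP
  simpa using this

end Cfsg.Agent.Lib.Helper19
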