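/-
Helper library (helper19): basic consequences of `Cfsg.IsRankOneSetup`.
-/
import Mathlib
import Cfsg.Prelude.Def_LieRecognition

set_option autoImplicit false

namespace Cfsg.Agent.Lib.Helper19

open MulAction

section RankOne

variable {G Ω : Type*} [Group G] [MulAction G Ω] {a : Ω} {t : G} {Q : Subgroup G}

/-- usable form of 2-transitivity -/
theorem ro_two_trans (hS : Cfsg.IsRankOneSetup G Ω a t Q) {b c d e : Ω} (h1 : b ≠ c) (h2 : d ≠ e) :
    ∃ g : G, g • b = d ∧ g • c = e :=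
  (MulAction.is_two_pretransitive_iff.1 hS.two_transitive) h1 h2

theorem ro_tinv (hS : Cfsg.IsRankOneSetup G Ω a t Q) : t⁻¹ = t :=
  inv_eq_of_mul_eq_one_left hS.mul_self

theorem ro_ta_ne (hS : Cfsg.IsRankOneSetup G Ω a t Q) : t • a ≠ a := by
  intro h
  exact hS.not_mem (MulAction.mem_stabilizer_iff.2 h)

theorem ro_tta (hS : Cfsg.IsRankOneSetup G Ω a t Q) : t • t • a = a := by
  rw [smul_smul, hS.mul_self, one_smul]

/-- The two point stabiliser. -/
abbrev roD (G : Type*) {Ω : Type*} [Group G] [MulAction G Ω] (a : Ω) (t : G) : Subgroup G :=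
  MulAction.stabilizer G a ⊓ MulAction.stabilizer G (t • a)

/-- every element of `G_a` is `q * d`. -/
theorem ro_mem_stab_iff (hS : Cfsg.IsRankOneSetup G Ω a t Q) (g : G) :
    g ∈ MulAction.stabilizer G a ↔ ∃ q ∈ Q, ∃ d ∈ roD G a t, g = q * d := by
  constructor
  · intro hg
    rw [← hS.sup_eq] at hg
    -- closure induction
    have key : ∀ g ∈ Q ⊔ roD G a t, ∃ q ∈ Q, ∃ d ∈ roD G a t, g = q * d := by
      intro g hg
      rw [Subgroup.sup_eq_closure] at hg
      induction hg using Subgroup.closure_induction with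
      | mem x hx =>
        rcases hx with hx | hx
        · exact ⟨x, hx, 1, Subgroup.one_mem _, by simp⟩
        · exact ⟨1, Subgroup.one_mem _, x, hx, by simp⟩
      | one => exact ⟨1, Subgroup.one_mem _, 1, Subgroup.one_mem _, by simp⟩
      | mul x y _ _ ihx ihy =>
        obtain ⟨q1, hq1, d1, hd1, rfl⟩ := ihx
        obtain ⟨q2, hq2, d2, hd2, rfl⟩ := ihy
        refine ⟨q1 * (d1 * q2 * d1⁻¹), Q.mul_mem hq1 (hS.conj_mem d1 hd1.1 q2 hq2), d1 * d2,
          Subgroup.mul_mem _ hd1 hd2, by group⟩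
      | inv x _ ihx =>
        obtain ⟨q1, hq1, d1, hd1, rfl⟩ := ihx
        refine ⟨d1⁻¹ * q1⁻¹ * d1⁻¹⁻¹, hS.conj_mem d1⁻¹ (Subgroup.inv_mem _ hd1.1) q1⁻¹ (Q.inv_mem hq1),
          d1⁻¹, Subgroup.inv_mem _ hd1, by group⟩
    exact key g hg
  · rintro ⟨q, hq, d, hd, rfl⟩
    exact Subgroup.mul_mem _ (hS.le hq) hd.1

/-- `Q` is transitive on the points other than `a`. -/
theorem ro_Q_trans (hS : Cfsg.IsRankOneSetup G Ω a t Q) {c : Ω} (hc : c ≠ a) :
    ∃ x ∈ Q, x • (t • a) = c := by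
  obtain ⟨g, hga, hgb⟩ := ro_two_trans hS (ro_ta_ne hS).symm hc.symm
  obtain ⟨q, hq, d, hd, rfl⟩ := (ro_mem_stab_iff hS g).1 (MulAction.mem_stabilizer_iff.2 hga)
  refine ⟨q, hq, ?_⟩
  have : d • (t • a) = t • a := MulAction.mem_stabilizer_iff.1 hd.2
  rw [mul_smul, this] at hgb
  exact hgb

/-- elements of `Q` do not move `a` -/
theorem ro_Q_fix (hS : Cfsg.IsRankOneSetup G Ω a t Q) {x : G} (hx : x ∈ Q) : x • a = a :=
  MulAction.mem_stabilizer_iff.1 (hS.le hx)

/-- elements of `Q` keep points other than `a` away from `a` -/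
theorem ro_Q_smul_ne (hS : Cfsg.IsRankOneSetup G Ω a t Q) {x : G} (hx : x ∈ Q) {c : Ω} (hc : c ≠ a) :
    x • c ≠ a := by
  intro h
  apply hc
  have h1 : x⁻¹ • (x • c) = c := by rw [smul_smul, inv_mul_cancel, one_smul]
  rw [h, ro_Q_fix hS (Q.inv_mem hx)] at h1
  exact h1.symm

/-- a non-identity element of `Q` fixes no point other than `a`. -/
theorem ro_Q_free (hS : Cfsg.IsRankOneSetup G Ω a t Q) {x : G} (hx : x ∈ Q) {c : Ω} (hc : c ≠ a)
    (hxc : x • c = c) : x = 1 := by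
  obtain ⟨y, hy, rfl⟩ := ro_Q_trans hS hc
  have h1 : (y⁻¹ * x * y) • (t • a) = t • a := by
    rw [mul_smul, mul_smul, hxc, smul_smul, inv_mul_cancel, one_smul]
  have h2 : y⁻¹ * x * y ∈ Q := Q.mul_mem (Q.mul_mem (Q.inv_mem hy) hx) hy
  have h3 : y⁻¹ * x * y ∈ Q ⊓ MulAction.stabilizer G (t • a) := ⟨h2, MulAction.mem_stabilizer_iff.2 h1⟩
  rw [hS.inf_eq_bot, Subgroup.mem_bot] at h3
  have : x = y * (y⁻¹ * x * y) * y⁻¹ := by group
  rw [this, h3]; group

/-- Fixed points of a non-identity element of `Q`. -/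
theorem ro_Q_fix_iff (hS : Cfsg.IsRankOneSetup G Ω a t Q) {x : G} (hx : x ∈ Q) (hx1 : x ≠ 1) (c : Ω) :
    x • c = c ↔ c = a := by
  constructor
  · intro h
    by_contra hc
    exact hx1 (ro_Q_free hS hx hc h)
  · rintro rfl
    exact ro_Q_fix hS hx

/-- `Q` is regular on the points other than `a`. -/
theorem ro_regular (hS : Cfsg.IsRankOneSetup G Ω a t Q) {b c : Ω} (hb : b ≠ a) (hc : c ≠ a) :
    ∃! x : Q, (x : G) • b = c := by
  obtain ⟨y, hy, rfl⟩ := ro_Q_trans hS hb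
  obtain ⟨z, hz, rfl⟩ := ro_Q_trans hS hc
  refine ⟨⟨z * y⁻¹, Q.mul_mem hz (Q.inv_mem hy)⟩, ?_, ?_⟩
  · simp only
    rw [smul_smul, mul_assoc, inv_mul_cancel, mul_one]
  · rintro ⟨w, hw⟩ hwe
    simp only at hwe
    apply Subtype.ext
    simp only
    have h1 : (z⁻¹ * w * y) • (t • a) = t • a := by
      rw [mul_smul, mul_smul, hwe, smul_smul, inv_mul_cancel, one_smul]
    have h2 : z⁻¹ * w * y ∈ Q ⊓ MulAction.stabilizer G (t • a) :=
      ⟨Q.mul_mem (Q.mul_mem (Q.inv_mem hz) hw) hy, MulAction.mem_stabilizer_iff.2 h1⟩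
    rw [hS.inf_eq_bot, Subgroup.mem_bot] at h2
    have : w = z * (z⁻¹ * w * y) * y⁻¹ := by group
    rw [this, h2]; group


/-- `|G_a| = |Q| |D|`. -/
theorem ro_card_stab (hS : Cfsg.IsRankOneSetup G Ω a t Q) :
    Nat.card (MulAction.stabilizer G a) = Nat.card Q * Nat.card (roD G a t) := by
  let f : Q × roD G a t → MulAction.stabilizer G a :=
    fun p => ⟨(p.1 : G) * (p.2 : G), Subgroup.mul_mem _ (hS.le p.1.2) p.2.2.1⟩
  have hf : Function.Bijective f := by
    constructor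
    · rintro ⟨⟨q1, hq1⟩, ⟨d1, hd1⟩⟩ ⟨⟨q2, hq2⟩, ⟨d2, hd2⟩⟩ h
      have h' : q1 * d1 = q2 * d2 := congrArg Subtype.val h
      have h1 : q2⁻¹ * q1 = d2 * d1⁻¹ := by
        calc q2⁻¹ * q1 = q2⁻¹ * (q1 * d1) * d1⁻¹ := by group
          _ = d2 * d1⁻¹ := by rw [h']; group
      have h2 : q2⁻¹ * q1 ∈ Q ⊓ MulAction.stabilizer G (t • a) := by
        refine ⟨Q.mul_mem (Q.inv_mem hq2) hq1, ?_⟩
        rw [h1]
        exact Subgroup.mul_mem _ hd2.2 (Subgroup.inv_mem _ hd1.2)
      rw [hS.inf_eq_bot, Subgroup.mem_bot] at h2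
      have e1 : q1 = q2 := by
        calc q1 = q2 * (q2⁻¹ * q1) := by group
          _ = q2 := by rw [h2, mul_one]
      subst e1
      have e2 : d1 = d2 := mul_left_cancel h'
      subst e2
      rfl
    · rintro ⟨g, hg⟩
      obtain ⟨q, hq, d, hd, rfl⟩ := (ro_mem_stab_iff hS g).1 hg
      exact ⟨(⟨q, hq⟩, ⟨d, hd⟩), rfl⟩
  rw [← Nat.card_eq_of_bijective f hf, Nat.card_prod]

theorem ro_pretransitive (hS : Cfsg.IsRankOneSetup G Ω a t Q) : MulAction.IsPretransitive G Ω := by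
  have := hS.two_transitive
  exact MulAction.isPretransitive_of_is_two_pretransitive


/-- canonical form of the elements outside `G_a`. -/
theorem ro_canonical (hS : Cfsg.IsRankOneSetup G Ω a t Q) {g : G} (hg : g ∉ MulAction.stabilizer G a) :
    ∃! p : G × G, p.1 ∈ MulAction.stabilizer G a ∧ p.2 ∈ Q ∧ g = p.1 * t * p.2 := by
  have hne : g⁻¹ • a ≠ a := by
    intro h
    apply hg
    rw [MulAction.mem_stabilizer_iff]
    calc g • a = g • (g⁻¹ • a) := by rw [h]
      _ = a := by rw [smul_smul, mul_inv_cancel, one_smul]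
  obtain ⟨⟨y', hy'⟩, hy'e, hy'u⟩ := ro_regular hS (ro_ta_ne hS) hne
  simp only at hy'e
  refine ⟨(g * y' * t, y'⁻¹), ⟨?_, Q.inv_mem hy', ?_⟩, ?_⟩
  · rw [MulAction.mem_stabilizer_iff]
    simp only
    rw [mul_smul, mul_smul, hy'e, smul_smul, mul_inv_cancel, one_smul]
  · simp only
    calc g = g * y' * (t * t) * y'⁻¹ := by rw [hS.mul_self]; group
      _ = g * y' * t * t * y'⁻¹ := by group
  · rintro ⟨x2, y2⟩ ⟨hx2, hy2, hge⟩
    simp only at hx2 hy2 hge
    have h1 : (y2⁻¹ : G) • (t • a) = g⁻¹ • a := by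
      rw [hge]
      have hx2a : x2⁻¹ • a = a := MulAction.mem_stabilizer_iff.1 (Subgroup.inv_mem _ hx2)
      have : (x2 * t * y2)⁻¹ = y2⁻¹ * t⁻¹ * x2⁻¹ := by group
      rw [this, mul_smul, mul_smul, hx2a, ro_tinv hS]
    have h2 := hy'u ⟨y2⁻¹, Q.inv_mem hy2⟩ h1
    have h3 : y2⁻¹ = y' := congrArg Subtype.val h2
    have h4 : y2 = y'⁻¹ := by rw [← h3, inv_inv]
    have h5 : x2 = g * y' * t := by
      rw [hge, h4]
      calc x2 = x2 * (t * t) := by rw [hS.mul_self, mul_one]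
        _ = x2 * t * y'⁻¹ * y' * t := by group
    rw [h4, h5]

section Counting

variable [Finite G]

/-- `Ω` has `|Q| + 1` points. -/
theorem ro_card_Omega (hS : Cfsg.IsRankOneSetup G Ω a t Q) : Nat.card Ω = Nat.card Q + 1 := by
  let f : Option Q → Ω := fun o => match o with
    | none => a
    | some x => (x : G) • (t • a)
  have hf : Function.Bijective f := by
    constructor
    · intro o1 o2 h
      match o1, o2 with
      | none, none => rfl
      | none, some x =>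
        exfalso
        have h' : a = (x : G) • (t • a) := h
        exact ro_Q_smul_ne hS x.2 (ro_ta_ne hS) h'.symm
      | some x, none =>
        exfalso
        have h' : (x : G) • (t • a) = a := h
        exact ro_Q_smul_ne hS x.2 (ro_ta_ne hS) h'
      | some x, some y =>
        have h' : (x : G) • (t • a) = (y : G) • (t • a) := h
        have hne : (y : G) • (t • a) ≠ a := ro_Q_smul_ne hS y.2 (ro_ta_ne hS)
        obtain ⟨z, _, hz⟩ := ro_regular hS (ro_ta_ne hS) hne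
        rw [hz x h', hz y rfl]
    · intro c
      by_cases hc : c = a
      · exact ⟨none, hc.symm⟩
      · obtain ⟨x, hx, hxc⟩ := ro_Q_trans hS hc
        exact ⟨some ⟨x, hx⟩, hxc⟩
  rw [← Nat.card_eq_of_bijective f hf, Finite.card_option]

theorem ro_finite_Omega (hS : Cfsg.IsRankOneSetup G Ω a t Q) : Finite Ω := by
  apply Nat.finite_of_card_ne_zero
  rw [ro_card_Omega hS]
  omega

/-- `|G| = |Q| |D| (|Q| + 1)`. -/
theorem ro_card_G (hS : Cfsg.IsRankOneSetup G Ω a t Q) :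
    Nat.card G = Nat.card Q * Nat.card (roD G a t) * (Nat.card Q + 1) := by
  have := ro_pretransitive hS
  rw [← ro_card_stab hS, ← ro_card_Omega hS, ← MulAction.index_stabilizer_of_transitive G a,
    Subgroup.card_mul_index]

/-- `|Q|` is positive -/
theorem ro_card_Q_pos (Q : Subgroup G) : 0 < Nat.card Q := Nat.card_pos

/-- There is a Sylow 2-subgroup of `G` inside `Q`. -/
theorem ro_exists_sylow (hS : Cfsg.IsRankOneSetup G Ω a t Q) : ∃ P : Sylow 2 G, (P : Subgroup G) ≤ Q := by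
  have : Fact (Nat.Prime 2) := ⟨Nat.prime_two⟩
  obtain ⟨P0⟩ : Nonempty (Sylow 2 Q) := inferInstance
  have hP1 : IsPGroup 2 ((P0 : Subgroup Q).map Q.subtype) := P0.2.map Q.subtype
  have hidx : ((P0 : Subgroup Q).map Q.subtype).index = (P0 : Subgroup Q).index * Q.index :=
    Subgroup.index_map_subtype _
  have h1 : ¬ 2 ∣ (P0 : Subgroup Q).index := P0.not_dvd_index
  have h2 : ¬ 2 ∣ Q.index := by
    have hQi : Nat.card Q * Q.index = Nat.card G := Subgroup.card_mul_index Q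
    rw [ro_card_G hS, mul_assoc] at hQi
    have hQi' : Q.index = Nat.card (roD G a t) * (Nat.card Q + 1) :=
      Nat.eq_of_mul_eq_mul_left Nat.card_pos hQi
    rw [hQi']
    have hd := hS.odd_card
    have hq := hS.even_card
    have : Odd (Nat.card (roD G a t) * (Nat.card Q + 1)) := hd.mul (hq.add_one)
    rw [← Nat.not_even_iff_odd, even_iff_two_dvd] at this
    exact this
  have h3 : ¬ 2 ∣ ((P0 : Subgroup Q).map Q.subtype).index := by
    rw [hidx]
    intro h
    rcases (Nat.Prime.dvd_mul Nat.prime_two).1 h with h | h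
    · exact h1 h
    · exact h2 h
  refine ⟨hP1.toSylow h3, ?_⟩
  rw [IsPGroup.toSylow_coe]
  exact Subgroup.map_subtype_le _


omit [Finite G] in
/-- an element of `D` whose square is trivial is trivial (as `|D|` is odd). -/
theorem ro_D_sq_eq_one (hS : Cfsg.IsRankOneSetup G Ω a t Q) {d : G} (hd : d ∈ roD G a t) (h2 : d * d = 1) :
    d = 1 := by
  have h1 : orderOf (⟨d, hd⟩ : roD G a t) ∣ 2 := by
    apply orderOf_dvd_of_pow_eq_one
    apply Subtype.ext
    simp [pow_two, h2]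
  have h3 : orderOf (⟨d, hd⟩ : roD G a t) ∣ Nat.card (roD G a t) := orderOf_dvd_natCard _
  have hodd := hS.odd_card
  have h4 : orderOf (⟨d, hd⟩ : roD G a t) = 1 := by
    rcases (Nat.dvd_prime Nat.prime_two).1 h1 with h | h
    · exact h
    · exfalso
      rw [h] at h3
      rw [← Nat.not_even_iff_odd, even_iff_two_dvd] at hodd
      exact hodd h3
  rw [orderOf_eq_one_iff] at h4
  exact congrArg Subtype.val h4

omit [Finite G] in
/-- involutions (and the identity) of `G_a` lie in `Q`. -/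
theorem ro_invol_mem_Q (hS : Cfsg.IsRankOneSetup G Ω a t Q) {s : G} (hs : s ∈ MulAction.stabilizer G a)
    (h2 : s * s = 1) : s ∈ Q := by
  obtain ⟨q, hq, d, hd, rfl⟩ := (ro_mem_stab_iff hS s).1 hs
  have e : d * d = (q * (d * q * d⁻¹))⁻¹ := by
    apply eq_inv_of_mul_eq_one_right
    calc q * (d * q * d⁻¹) * (d * d) = q * d * (q * d) := by group
      _ = 1 := h2
  have hdd : d * d ∈ Q ⊓ MulAction.stabilizer G (t • a) := by
    refine ⟨?_, Subgroup.mul_mem _ hd.2 hd.2⟩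
    rw [e]
    exact Q.inv_mem (Q.mul_mem hq (hS.conj_mem d hd.1 q hq))
  rw [hS.inf_eq_bot, Subgroup.mem_bot] at hdd
  rw [ro_D_sq_eq_one hS hd hdd, mul_one]
  exact hq

/-- every involution is conjugate into `Q`. -/
theorem ro_invol_conj_Q (hS : Cfsg.IsRankOneSetup G Ω a t Q) {u : G} (h2 : u * u = 1) :
    ∃ g : G, g⁻¹ * u * g ∈ Q := by
  have : Fact (Nat.Prime 2) := ⟨Nat.prime_two⟩
  obtain ⟨P, hP⟩ := ro_exists_sylow hS
  have hu : IsPGroup 2 (Subgroup.zpowers u) := by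
    rw [IsPGroup.iff_card]
    by_cases h1 : u = 1
    · refine ⟨0, ?_⟩
      rw [h1]; simp
    · refine ⟨1, ?_⟩
      rw [Nat.card_zpowers, pow_one]
      exact orderOf_eq_prime (by rw [pow_two]; exact h2) h1
  obtain ⟨P', hP'⟩ := hu.exists_le_sylow
  obtain ⟨g, hg⟩ := MulAction.exists_smul_eq G P P'
  have huP' : u ∈ (P' : Subgroup G) := hP' (Subgroup.mem_zpowers u)
  rw [← hg, Sylow.coe_subgroup_smul, Subgroup.mem_pointwise_smul_iff_inv_smul_mem] at huP'
  refine ⟨g, hP ?_⟩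
  have e : (MulAut.conj g)⁻¹ • u = g⁻¹ * u * g := by
    simp [MulAut.smul_def]
  rwa [e] at huP'

/-- every involution fixes exactly one point. -/
theorem ro_invol_fix (hS : Cfsg.IsRankOneSetup G Ω a t Q) {u : G} (h1 : u ≠ 1) (h2 : u * u = 1) :
    ∃ c : Ω, ∀ d : Ω, u • d = d ↔ d = c := by
  obtain ⟨g, hg⟩ := ro_invol_conj_Q hS h2
  have hne : g⁻¹ * u * g ≠ 1 := by
    intro h
    apply h1
    calc u = g * (g⁻¹ * u * g) * g⁻¹ := by group
      _ = 1 := by rw [h]; group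
  refine ⟨g • a, fun d => ?_⟩
  have key := ro_Q_fix_iff hS hg hne (g⁻¹ • d)
  constructor
  · intro h
    have : (g⁻¹ * u * g) • (g⁻¹ • d) = g⁻¹ • d := by
      rw [smul_smul, mul_assoc, mul_assoc, mul_inv_cancel, mul_one, mul_smul, h]
    rw [key] at this
    rw [← this, smul_smul, mul_inv_cancel, one_smul]
  · rintro rfl
    have : (g⁻¹ * u * g) • (g⁻¹ • g • a) = g⁻¹ • g • a := by
      rw [key, smul_smul, inv_mul_cancel, one_smul]
    have h3 : g • ((g⁻¹ * u * g) • (g⁻¹ • g • a)) = g • (g⁻¹ • g • a) := by rw [this]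
    simpa [smul_smul, mul_assoc] using h3

end Counting

end RankOne

end Cfsg.Agent.Lib.Helper19
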