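/-
Helper library (helper19): involutions in the rank-one setup `Cfsg.IsRankOneSetup`.
-/
import Mathlib
import Cfsg.Prelude.Def_LieRecognition
import Cfsg.Agent.Lib.Helper19.RankOne

set_option autoImplicit false

namespace Cfsg.Agent.Lib.Helper19

open MulAction

section Dihedral

variable {G : Type*} [Group G]

/-- In a group, if `s`, `u` are involutions, conjugating `s * u` by `s` inverts it. -/
theorem dih_conj_s {s u : G} (hs : s * s = 1) (hu : u * u = 1) : s * (s * u) * s⁻¹ = (s * u)⁻¹ := by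
  have hsi : s⁻¹ = s := inv_eq_of_mul_eq_one_left hs
  have hui : u⁻¹ = u := inv_eq_of_mul_eq_one_left hu
  rw [mul_inv_rev, hsi, hui, ← mul_assoc, hs, one_mul]

theorem dih_conj_u {s u : G} (hs : s * s = 1) (hu : u * u = 1) : u * (s * u) * u⁻¹ = (s * u)⁻¹ := by
  have hsi : s⁻¹ = s := inv_eq_of_mul_eq_one_left hs
  have hui : u⁻¹ = u := inv_eq_of_mul_eq_one_left hu
  rw [mul_inv_rev, hsi, hui, mul_assoc, mul_assoc, hu, mul_one]

/-- If the product of two involutions has odd order, they are conjugate (by a power of the product). -/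
theorem dih_conj_of_odd {s u : G} (hs : s * s = 1) (hu : u * u = 1) {k : ℕ}
    (hk : (s * u) ^ (2 * k + 1) = 1) : (s * u) ^ k * s * ((s * u) ^ k)⁻¹ = u := by
  have hsi : s⁻¹ = s := inv_eq_of_mul_eq_one_left hs
  -- s * r^k * s⁻¹ = (r⁻¹)^k
  have h1 : s * (s * u) ^ k * s⁻¹ = ((s * u)⁻¹) ^ k := by
    rw [← conj_pow, dih_conj_s hs hu]
  -- hence s * (r^k)⁻¹ = r^k * s
  have h2 : s * ((s * u) ^ k)⁻¹ = (s * u) ^ k * s := by
    have h3 : s * ((s * u) ^ k)⁻¹ * s⁻¹ = (s * u) ^ k := by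
      have : s * ((s * u) ^ k)⁻¹ * s⁻¹ = (s * (s * u) ^ k * s⁻¹)⁻¹ := by group
      rw [this, h1, inv_pow, inv_inv]
    calc s * ((s * u) ^ k)⁻¹ = s * ((s * u) ^ k)⁻¹ * s⁻¹ * s := by group
      _ = (s * u) ^ k * s := by rw [h3]
  have h4 : (s * u) ^ k * (s * u) ^ k = (s * u)⁻¹ := by
    rw [← pow_add]
    apply eq_inv_of_mul_eq_one_left
    rw [← pow_succ]
    have : k + k + 1 = 2 * k + 1 := by ring
    rw [this, hk]
  calc (s * u) ^ k * s * ((s * u) ^ k)⁻¹ = (s * u) ^ k * (s * ((s * u) ^ k)⁻¹) := by group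
    _ = (s * u) ^ k * ((s * u) ^ k * s) := by rw [h2]
    _ = ((s * u) ^ k * (s * u) ^ k) * s := by group
    _ = (s * u)⁻¹ * s := by rw [h4]
    _ = u := by
      have hui : u⁻¹ = u := inv_eq_of_mul_eq_one_left hu
      rw [mul_inv_rev, hsi, hui, mul_assoc, hs, mul_one]

/-- The conjugating involution: `w = (s u)^k s` is an involution with `w s w = u`. -/
theorem dih_invol_of_odd {s u : G} (hs : s * s = 1) (hu : u * u = 1) {k : ℕ}
    (hk : (s * u) ^ (2 * k + 1) = 1) :
    ((s * u) ^ k * s) * ((s * u) ^ k * s) = 1 ∧ ((s * u) ^ k * s) * s * ((s * u) ^ k * s)⁻¹ = u := by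
  have hsi : s⁻¹ = s := inv_eq_of_mul_eq_one_left hs
  constructor
  · have h1 : s * (s * u) ^ k * s⁻¹ = ((s * u)⁻¹) ^ k := by
      rw [← conj_pow, dih_conj_s hs hu]
    rw [hsi] at h1
    calc (s * u) ^ k * s * ((s * u) ^ k * s) = (s * u) ^ k * (s * (s * u) ^ k * s) := by group
      _ = 1 := by rw [h1, inv_pow, mul_inv_cancel]
  · have := dih_conj_of_odd hs hu hk
    calc (s * u) ^ k * s * s * ((s * u) ^ k * s)⁻¹
        = (s * u) ^ k * (s * s) * s⁻¹ * ((s * u) ^ k)⁻¹ := by group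
      _ = (s * u) ^ k * s * ((s * u) ^ k)⁻¹ := by rw [hs, hsi]; group
      _ = u := this

end Dihedral

section RankOne

variable {G Ω : Type*} [Group G] [Finite G] [MulAction G Ω] {a : Ω} {t : G} {Q : Subgroup G}

omit [Finite G] in
/-- `Q` has a non-identity element. -/
theorem ro_exists_ne_one (hS : Cfsg.IsRankOneSetup G Ω a t Q) : ∃ x ∈ Q, x ≠ 1 := by
  by_contra h
  have hQ : Q = ⊥ := by
    rw [Subgroup.eq_bot_iff_forall]
    intro x hx
    by_contra hx1
    exact h ⟨x, hx, hx1⟩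
  have := hS.even_card
  rw [hQ, Subgroup.card_bot] at this
  exact absurd this (by decide)

/-- An involution commuting with an involution `u` fixes the fixed point of `u`. -/
theorem ro_comm_fix (hS : Cfsg.IsRankOneSetup G Ω a t Q) {u z : G} (hu1 : u ≠ 1) (hu2 : u * u = 1)
    (hz1 : z ≠ 1) (hz2 : z * z = 1) (hc : u * z = z * u) {c : Ω} (hcu : u • c = c) : z • c = c := by
  obtain ⟨e, he⟩ := ro_invol_fix hS hz1 hz2
  have h1 : z • (u • e) = u • e := by
    rw [smul_smul, ← hc, mul_smul, (he e).2 rfl]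
  have h2 : u • e = e := (he _).1 h1
  obtain ⟨e', he'⟩ := ro_invol_fix hS hu1 hu2
  have h3 : e = e' := (he' e).1 h2
  have h4 : c = e' := (he' c).1 hcu
  rw [h4, ← h3]
  exact (he e).2 rfl

/-- The product of an involution of `G_a` with an involution outside `G_a` has odd order. -/
theorem ro_odd_order (hS : Cfsg.IsRankOneSetup G Ω a t Q) {s u : G}
    (hs : s ∈ MulAction.stabilizer G a) (hs1 : s ≠ 1) (hs2 : s * s = 1)
    (hu : u ∉ MulAction.stabilizer G a) (_hu1 : u ≠ 1) (hu2 : u * u = 1) : Odd (orderOf (s * u)) := by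
  by_contra hodd
  rw [Nat.not_odd_iff_even] at hodd
  obtain ⟨m, hm⟩ := hodd
  have hpos : 0 < orderOf (s * u) := orderOf_pos _
  have hm0 : 0 < m := by omega
  set z := (s * u) ^ m with hz
  have hz1 : z ≠ 1 := by
    apply pow_ne_one_of_lt_orderOf (by omega)
    omega
  have hz2 : z * z = 1 := by
    rw [hz, ← pow_add, ← hm, pow_orderOf_eq_one]
  have hzi : z⁻¹ = z := inv_eq_of_mul_eq_one_left hz2
  have hsz : s * z = z * s := by
    have h1 : s * z * s⁻¹ = z := by
      rw [hz, ← conj_pow, dih_conj_s hs2 hu2, inv_pow, ← hz, hzi]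
    calc s * z = s * z * s⁻¹ * s := by group
      _ = z * s := by rw [h1]
  have huz : u * z = z * u := by
    have h1 : u * z * u⁻¹ = z := by
      rw [hz, ← conj_pow, dih_conj_u hs2 hu2, inv_pow, ← hz, hzi]
    calc u * z = u * z * u⁻¹ * u := by group
      _ = z * u := by rw [h1]
  have hza : z • a = a := ro_comm_fix hS hs1 hs2 hz1 hz2 hsz (MulAction.mem_stabilizer_iff.1 hs)
  -- u fixes the unique fixed point of z, which is a
  obtain ⟨e, he⟩ := ro_invol_fix hS hz1 hz2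
  have hea : a = e := (he a).1 hza
  have h1 : z • (u • a) = u • a := by
    rw [smul_smul, ← huz, mul_smul, hza]
  have h2 : u • a = e := (he _).1 h1
  apply hu
  rw [MulAction.mem_stabilizer_iff, h2, ← hea]

/-- Two involutions with different fixed points are conjugate. -/
theorem ro_invol_conj_of_ne (hS : Cfsg.IsRankOneSetup G Ω a t Q) {u v : G}
    (hu1 : u ≠ 1) (hu2 : u * u = 1) (hv1 : v ≠ 1) (hv2 : v * v = 1) {c : Ω} (hc : u • c = c)
    (hvc : v • c ≠ c) : ∃ g : G, g * u * g⁻¹ = v := by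
  have := ro_pretransitive hS
  obtain ⟨h, hh⟩ := MulAction.exists_smul_eq G c a
  have hu' : h * u * h⁻¹ ∈ MulAction.stabilizer G a := by
    rw [MulAction.mem_stabilizer_iff, ← hh, smul_smul, mul_assoc, mul_assoc, inv_mul_cancel, mul_one,
      mul_smul, hc]
  have hv' : h * v * h⁻¹ ∉ MulAction.stabilizer G a := by
    rw [MulAction.mem_stabilizer_iff, ← hh, smul_smul, mul_assoc, mul_assoc, inv_mul_cancel, mul_one,
      mul_smul]
    intro h1
    exact hvc (smul_left_cancel h h1)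
  have hu'1 : h * u * h⁻¹ ≠ 1 := by
    intro h1
    apply hu1
    calc u = h⁻¹ * (h * u * h⁻¹) * h := by group
      _ = 1 := by rw [h1]; group
  have hv'1 : h * v * h⁻¹ ≠ 1 := by
    intro h1
    apply hv1
    calc v = h⁻¹ * (h * v * h⁻¹) * h := by group
      _ = 1 := by rw [h1]; group
  have hu'2 : (h * u * h⁻¹) * (h * u * h⁻¹) = 1 := by
    calc (h * u * h⁻¹) * (h * u * h⁻¹) = h * (u * u) * h⁻¹ := by group
      _ = 1 := by rw [hu2]; group
  have hv'2 : (h * v * h⁻¹) * (h * v * h⁻¹) = 1 := by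
    calc (h * v * h⁻¹) * (h * v * h⁻¹) = h * (v * v) * h⁻¹ := by group
      _ = 1 := by rw [hv2]; group
  obtain ⟨k, hk⟩ := ro_odd_order hS hu' hu'1 hu'2 hv' hv'1 hv'2
  have hk' : ((h * u * h⁻¹) * (h * v * h⁻¹)) ^ (2 * k + 1) = 1 := by
    rw [← hk, pow_orderOf_eq_one]
  have key := dih_conj_of_odd hu'2 hv'2 hk'
  set g' := ((h * u * h⁻¹) * (h * v * h⁻¹)) ^ k with hg'
  refine ⟨h⁻¹ * g' * h, ?_⟩
  calc h⁻¹ * g' * h * u * (h⁻¹ * g' * h)⁻¹ = h⁻¹ * (g' * (h * u * h⁻¹) * g'⁻¹) * h := by group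
    _ = h⁻¹ * (h * v * h⁻¹) * h := by rw [key]
    _ = v := by group

/-- All involutions are conjugate. -/
theorem ro_invol_conj (hS : Cfsg.IsRankOneSetup G Ω a t Q) {u v : G}
    (hu1 : u ≠ 1) (hu2 : u * u = 1) (hv1 : v ≠ 1) (hv2 : v * v = 1) : ∃ g : G, g * u * g⁻¹ = v := by
  obtain ⟨c, hc⟩ := ro_invol_fix hS hu1 hu2
  have huc : u • c = c := (hc c).2 rfl
  by_cases hvc : v • c = c
  · -- same fixed point: go through a conjugate of u
    have := ro_pretransitive hS
    -- a point different from c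
    obtain ⟨e, hec⟩ : ∃ e : Ω, e ≠ c := by
      by_cases h : a = c
      · exact ⟨t • a, by rw [← h]; exact ro_ta_ne hS⟩
      · exact ⟨a, h⟩
    obtain ⟨h, hh⟩ := MulAction.exists_smul_eq G c e
    set w := h * u * h⁻¹ with hw
    have hw1 : w ≠ 1 := by
      intro h1
      apply hu1
      calc u = h⁻¹ * (h * u * h⁻¹) * h := by group
        _ = 1 := by rw [← hw, h1]; group
    have hw2 : w * w = 1 := by
      calc w * w = h * (u * u) * h⁻¹ := by rw [hw]; group
        _ = 1 := by rw [hu2]; group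
    have hwc : w • c ≠ c := by
      intro h1
      -- then u fixes h⁻¹ • c, so h⁻¹ • c = c, so e = h • c = c
      have h2 : u • (h⁻¹ • c) = h⁻¹ • c := by
        have : h⁻¹ • (w • c) = h⁻¹ • c := by rw [h1]
        rw [hw, smul_smul] at this
        rw [smul_smul]
        rw [← this]
        congr 1
        group
      have h3 : h⁻¹ • c = c := (hc _).1 h2
      apply hec
      rw [← hh]
      calc h • c = h • (h⁻¹ • c) := by rw [h3]
        _ = c := by rw [smul_smul, mul_inv_cancel, one_smul]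
    obtain ⟨g, hg⟩ := ro_invol_conj_of_ne hS hv1 hv2 hw1 hw2 hvc hwc
    -- g v g⁻¹ = w = h u h⁻¹
    refine ⟨g⁻¹ * h, ?_⟩
    calc g⁻¹ * h * u * (g⁻¹ * h)⁻¹ = g⁻¹ * (h * u * h⁻¹) * g := by group
      _ = g⁻¹ * (g * v * g⁻¹) * g := by rw [← hw, hg]
      _ = v := by group
  · exact ro_invol_conj_of_ne hS hu1 hu2 hv1 hv2 huc hvc

end RankOne

end Cfsg.Agent.Lib.Helper19
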