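/-
Helper library (helper19): in the rank-one setup, if `Q` is nilpotent then the involutions of `G_a`
are central in `Q` and closed under products.
-/
import Mathlib
import Cfsg.Prelude.Def_LieRecognition
import Cfsg.Agent.Lib.Helper19.RankOne
import Cfsg.Agent.Lib.Helper19.RankOneInvol
import Cfsg.Agent.S1122
import Cfsg.Agent.S0015

set_option autoImplicit false

namespace Cfsg.Agent.Lib.Helper19

open MulAction

section

variable {G : Type*} [Group G]

/-- A finite nilpotent group of even order has a central involution. -/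
theorem exists_central_invol_of_nilpotent [Finite G] [Group.IsNilpotent G] (heven : Even (Nat.card G)) :
    ∃ z : G, z ∈ Subgroup.center G ∧ z ≠ 1 ∧ z * z = 1 := by
  have : Fact (Nat.Prime 2) := ⟨Nat.prime_two⟩
  obtain ⟨P⟩ : Nonempty (Sylow 2 G) := inferInstance
  have hPn : (P : Subgroup G).Normal := inferInstance
  have hPne : (P : Subgroup G) ≠ ⊥ := by
    intro h
    have hdvd : 2 ∣ Nat.card G := heven.two_dvd
    obtain ⟨x, hx⟩ := exists_prime_orderOf_dvd_card' 2 hdvd
    have hxp : IsPGroup 2 (Subgroup.zpowers x) := by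
      rw [IsPGroup.iff_card]
      exact ⟨1, by rw [Nat.card_zpowers, hx, pow_one]⟩
    obtain ⟨P', hP'⟩ := hxp.exists_le_sylow
    obtain ⟨g, hg⟩ := MulAction.exists_smul_eq G P P'
    have hP'eq : (P' : Subgroup G) = ⊥ := by
      rw [← hg, Sylow.coe_subgroup_smul, h]
      simp
    have hx1 : x ∈ (P' : Subgroup G) := hP' (Subgroup.mem_zpowers x)
    rw [hP'eq, Subgroup.mem_bot] at hx1
    rw [hx1, orderOf_one] at hx
    omega
  obtain ⟨x, hxP, hxZ, hx1⟩ := Cfsg.Agent.S0015.exists_mem_center_of_normal (P : Subgroup G) hPne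
  -- the order of x is a power of 2
  obtain ⟨m, hm⟩ := (IsPGroup.iff_orderOf.1 P.isPGroup') (⟨x, hxP⟩ : (P : Subgroup G))
  have hm' : orderOf x = 2 ^ m := by
    rw [← hm]; exact (Subgroup.orderOf_coe (⟨x, hxP⟩ : (P : Subgroup G)))
  have hm0 : m ≠ 0 := by
    intro h
    rw [h, pow_zero, orderOf_eq_one_iff] at hm'
    exact hx1 hm'
  obtain ⟨n, rfl⟩ := Nat.exists_eq_succ_of_ne_zero hm0
  refine ⟨x ^ (2 ^ n), Subgroup.pow_mem _ hxZ _, ?_, ?_⟩
  · intro h
    have := orderOf_dvd_of_pow_eq_one h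
    rw [hm'] at this
    have h2 : 2 ^ (n + 1) ≤ 2 ^ n := Nat.le_of_dvd (by positivity) this
    have : 2 ^ n < 2 ^ (n + 1) := Nat.pow_lt_pow_right (by norm_num) (by omega)
    omega
  · rw [← pow_add, ← two_mul, ← pow_succ', ← hm', pow_orderOf_eq_one]

end

section

variable {G Ω : Type*} [Group G] [Finite G] [MulAction G Ω] {a : Ω} {t : G} {Q : Subgroup G}

/-- If `Q` is nilpotent, the involutions of `G_a` lie in the centre of `Q`. -/
theorem ro_invol_central (hS : Cfsg.IsRankOneSetup G Ω a t Q) (hnil : Group.IsNilpotent Q)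
    {s : G} (hs : s ∈ Cfsg.involutionsIn (MulAction.stabilizer G a : Set G)) :
    s ∈ Q ∧ ∀ x ∈ Q, s * x = x * s := by
  have hsQ : s ∈ Q := ro_invol_mem_Q hS hs.1 hs.2.2
  refine ⟨hsQ, ?_⟩
  obtain ⟨z, hzZ, hz1, hz2⟩ := exists_central_invol_of_nilpotent (G := Q) hS.even_card
  have hzinv : (z : G) ∈ Cfsg.involutionsIn (MulAction.stabilizer G a : Set G) := by
    refine ⟨hS.le z.2, ?_, ?_⟩
    · intro h; exact hz1 (Subtype.ext h)
    · exact congrArg Subtype.val hz2
  obtain ⟨k, hk, hks⟩ := (Cfsg.Agent.S1122.result hS).2 z hzinv s hs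
  have hka : k ∈ MulAction.stabilizer G a := hk.1.1
  intro x hx
  have hx' : k * x * k⁻¹ ∈ Q := hS.conj_mem k hka x hx
  have hcomm : (z : G) * (k * x * k⁻¹) = (k * x * k⁻¹) * z := by
    have := (Subgroup.mem_center_iff.1 hzZ) ⟨k * x * k⁻¹, hx'⟩
    exact (congrArg Subtype.val this).symm
  rw [← hks]
  calc k⁻¹ * z * k * x = k⁻¹ * (z * (k * x * k⁻¹)) * k := by group
    _ = k⁻¹ * ((k * x * k⁻¹) * z) * k := by rw [hcomm]
    _ = x * (k⁻¹ * z * k) := by group

/-- If `Q` is nilpotent, products of involutions of `G_a` are trivial or involutions of `G_a`. -/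
theorem ro_invol_mul (hS : Cfsg.IsRankOneSetup G Ω a t Q) (hnil : Group.IsNilpotent Q)
    {s s' : G} (hs : s ∈ Cfsg.involutionsIn (MulAction.stabilizer G a : Set G))
    (hs' : s' ∈ Cfsg.involutionsIn (MulAction.stabilizer G a : Set G)) :
    s * s' = 1 ∨ s * s' ∈ Cfsg.involutionsIn (MulAction.stabilizer G a : Set G) := by
  by_cases h : s * s' = 1
  · exact Or.inl h
  · right
    refine ⟨Subgroup.mul_mem _ hs.1 hs'.1, h, ?_⟩
    have hc := (ro_invol_central hS hnil hs).2 s' (ro_invol_central hS hnil hs').1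
    calc s * s' * (s * s') = s * (s' * s) * s' := by group
      _ = s * (s * s') * s' := by rw [hc]
      _ = (s * s) * (s' * s') := by group
      _ = 1 := by rw [hs.2.2, hs'.2.2, one_mul]

end

end Cfsg.Agent.Lib.Helper19
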