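/-
Helper library (helper19): centralisers of subsets of the two-point stabiliser fixing at least three
points, in the rank-one setup `Cfsg.IsRankOneSetup`.
-/
import Mathlib
import Cfsg.Prelude.Def_LieRecognition
import Cfsg.Agent.Lib.Helper19.RankOneInvol

set_option autoImplicit false

namespace Cfsg.Agent.Lib.Helper19

open MulAction

section RankOneFix

variable {G Ω : Type*} [Group G] [MulAction G Ω] {a : Ω} {t : G} {Q : Subgroup G}

/-- the fixed points of a subset `X` of `G`. -/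
def fixSet (Ω : Type*) {G : Type*} [Group G] [MulAction G Ω] (X : Set G) : Set Ω :=
  {f | ∀ x ∈ X, x • f = f}

theorem fixSet_smul {X : Set G} {g : G} (hg : g ∈ Subgroup.centralizer X) {f : Ω} (hf : f ∈ fixSet Ω X) :
    g • f ∈ fixSet Ω X := by
  intro x hx
  rw [smul_smul, (Subgroup.mem_centralizer_iff.1 hg) x hx, mul_smul, hf x hx]

theorem fixSet_a {X : Set G} (hX : X ⊆ (roD G a t : Set G)) : a ∈ fixSet Ω X :=
  fun _ hx => MulAction.mem_stabilizer_iff.1 (hX hx).1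

theorem fixSet_b {X : Set G} (hX : X ⊆ (roD G a t : Set G)) : t • a ∈ fixSet Ω X :=
  fun _ hx => MulAction.mem_stabilizer_iff.1 (hX hx).2

/-- Lemma A: `C_Q(X)` is transitive on the fixed points other than `a`. -/
theorem fix_lemmaA (hS : Cfsg.IsRankOneSetup G Ω a t Q) {X : Set G} (hX : X ⊆ (roD G a t : Set G))
    {f : Ω} (hf : f ∈ fixSet Ω X) (hfa : f ≠ a) :
    ∃ q ∈ Subgroup.centralizer X ⊓ Q, q • (t • a) = f := by
  obtain ⟨q, hq, hqf⟩ := ro_Q_trans hS hfa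
  refine ⟨q, ⟨Subgroup.mem_centralizer_iff.2 ?_, hq⟩, hqf⟩
  intro x hx
  have hxD := hX hx
  have h1 : x * q * x⁻¹ ∈ Q := hS.conj_mem x hxD.1 q hq
  have hxb : x⁻¹ • (t • a) = t • a := MulAction.mem_stabilizer_iff.1 (Subgroup.inv_mem _ hxD.2)
  have h2 : (x * q * x⁻¹) • (t • a) = f := by
    rw [mul_smul, mul_smul, hxb, hqf, hf x hx]
  obtain ⟨z, _, hz⟩ := ro_regular hS (ro_ta_ne hS) hfa
  have e1 : (⟨x * q * x⁻¹, h1⟩ : Q) = ⟨q, hq⟩ := by
    rw [hz ⟨x * q * x⁻¹, h1⟩ h2, hz ⟨q, hq⟩ hqf]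
  have e2 : x * q * x⁻¹ = q := congrArg Subtype.val e1
  calc x * q = (x * q * x⁻¹) * x := by group
    _ = q * x := by rw [e2]

/-- Lemma B: elements of `C(X)` fixing `t • a` and moving `a` to any other fixed point. -/
theorem fix_lemmaB (hS : Cfsg.IsRankOneSetup G Ω a t Q) {X : Set G} (hX : X ⊆ (roD G a t : Set G))
    {f : Ω} (hf : f ∈ fixSet Ω X) (hfb : f ≠ t • a) :
    ∃ g ∈ Subgroup.centralizer X, g • a = f ∧ g • (t • a) = t • a := by
  have htt := hS.mul_self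
  have htf : t • f ≠ a := by
    intro h
    apply hfb
    calc f = t • (t • f) := by rw [smul_smul, htt, one_smul]
      _ = t • a := by rw [h]
  obtain ⟨q, hq, hqf⟩ := ro_Q_trans hS htf
  refine ⟨t * q * t, Subgroup.mem_centralizer_iff.2 ?_, ?_, ?_⟩
  · intro x hx
    have hxD := hX hx
    -- y = t x t ∈ D
    have hyD : t * x * t ∈ roD G a t := by
      refine ⟨MulAction.mem_stabilizer_iff.2 ?_, MulAction.mem_stabilizer_iff.2 ?_⟩
      · rw [mul_smul, mul_smul,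
          MulAction.mem_stabilizer_iff.1 hxD.2, ro_tta hS]
      · rw [mul_smul, mul_smul, ro_tta hS,
          MulAction.mem_stabilizer_iff.1 hxD.1]
    have h1 : (t * x * t) * q * (t * x * t)⁻¹ ∈ Q := hS.conj_mem _ hyD.1 q hq
    have hyb : (t * x * t)⁻¹ • (t • a) = t • a :=
      MulAction.mem_stabilizer_iff.1 (Subgroup.inv_mem _ hyD.2)
    have h2 : ((t * x * t) * q * (t * x * t)⁻¹) • (t • a) = t • f := by
      rw [mul_smul, mul_smul, hyb, hqf, mul_smul, mul_smul, smul_smul t t, htt, one_smul, hf x hx]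
    obtain ⟨z, _, hz⟩ := ro_regular hS (ro_ta_ne hS) htf
    have e1 : (⟨(t * x * t) * q * (t * x * t)⁻¹, h1⟩ : Q) = ⟨q, hq⟩ := by
      rw [hz ⟨_, h1⟩ h2, hz ⟨q, hq⟩ hqf]
    have e2 : (t * x * t) * q * (t * x * t)⁻¹ = q := congrArg Subtype.val e1
    have e3 : (t * x * t) * q = q * (t * x * t) := by
      calc (t * x * t) * q = ((t * x * t) * q * (t * x * t)⁻¹) * (t * x * t) := by group
        _ = q * (t * x * t) := by rw [e2]
    calc x * (t * q * t) = (t * t) * x * (t * q * t) := by rw [htt, one_mul]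
      _ = t * ((t * x * t) * q) * t := by group
      _ = t * (q * (t * x * t)) * t := by rw [e3]
      _ = t * q * t * x * (t * t) := by group
      _ = t * q * t * x := by rw [htt, mul_one]
  · rw [mul_smul, mul_smul, hqf, smul_smul, htt, one_smul]
  · rw [mul_smul, mul_smul, ro_tta hS, ro_Q_fix hS hq]

/-- Lemma C: `C(X)` is transitive on the fixed points (given a third fixed point). -/
theorem fix_lemmaC (hS : Cfsg.IsRankOneSetup G Ω a t Q) {X : Set G} (hX : X ⊆ (roD G a t : Set G))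
    {e : Ω} (he : e ∈ fixSet Ω X) (hea : e ≠ a) (heb : e ≠ t • a)
    {f : Ω} (hf : f ∈ fixSet Ω X) : ∃ g ∈ Subgroup.centralizer X, g • a = f := by
  by_cases hfb : f = t • a
  · obtain ⟨g1, hg1, hg1a, _⟩ := fix_lemmaB hS hX he heb
    obtain ⟨q, hq, hqe⟩ := fix_lemmaA hS hX he hea
    refine ⟨q⁻¹ * g1, Subgroup.mul_mem _ (Subgroup.inv_mem _ hq.1) hg1, ?_⟩
    rw [mul_smul, hg1a, hfb, ← hqe, smul_smul, inv_mul_cancel, one_smul]
  · obtain ⟨g, hg, hga, _⟩ := fix_lemmaB hS hX hf hfb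
    exact ⟨g, hg, hga⟩

/-- Lemma D: `C(X)` is doubly transitive on the fixed points (given a third fixed point). -/
theorem fix_lemmaD (hS : Cfsg.IsRankOneSetup G Ω a t Q) {X : Set G} (hX : X ⊆ (roD G a t : Set G))
    {e : Ω} (he : e ∈ fixSet Ω X) (hea : e ≠ a) (heb : e ≠ t • a)
    {b₁ b₂ c₁ c₂ : Ω} (hb₁ : b₁ ∈ fixSet Ω X) (hb₂ : b₂ ∈ fixSet Ω X) (hc₁ : c₁ ∈ fixSet Ω X)
    (hc₂ : c₂ ∈ fixSet Ω X) (hb : b₁ ≠ b₂) (hc : c₁ ≠ c₂) :
    ∃ g ∈ Subgroup.centralizer X, g • b₁ = c₁ ∧ g • b₂ = c₂ := by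
  obtain ⟨g1, hg1, hg1a⟩ := fix_lemmaC hS hX he hea heb hb₁
  obtain ⟨g2, hg2, hg2a⟩ := fix_lemmaC hS hX he hea heb hc₁
  have h1 : g1⁻¹ • b₂ ∈ fixSet Ω X := fixSet_smul (Subgroup.inv_mem _ hg1) hb₂
  have h2 : g2⁻¹ • c₂ ∈ fixSet Ω X := fixSet_smul (Subgroup.inv_mem _ hg2) hc₂
  have h1a : g1⁻¹ • b₂ ≠ a := by
    intro h
    apply hb
    rw [← hg1a, ← h, smul_smul, mul_inv_cancel, one_smul]
  have h2a : g2⁻¹ • c₂ ≠ a := by
    intro h
    apply hc
    rw [← hg2a, ← h, smul_smul, mul_inv_cancel, one_smul]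
  obtain ⟨q1, hq1, hq1e⟩ := fix_lemmaA hS hX h1 h1a
  obtain ⟨q2, hq2, hq2e⟩ := fix_lemmaA hS hX h2 h2a
  refine ⟨g2 * (q2 * q1⁻¹) * g1⁻¹, ?_, ?_, ?_⟩
  · exact Subgroup.mul_mem _ (Subgroup.mul_mem _ hg2
      (Subgroup.mul_mem _ hq2.1 (Subgroup.inv_mem _ hq1.1))) (Subgroup.inv_mem _ hg1)
  · have e1 : g1⁻¹ • b₁ = a := by rw [← hg1a, smul_smul, inv_mul_cancel, one_smul]
    rw [mul_smul, mul_smul, e1, mul_smul, ro_Q_fix hS (Q.inv_mem hq1.2), ro_Q_fix hS hq2.2, hg2a]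
  · have e1 : q1⁻¹ • (g1⁻¹ • b₂) = t • a := by
      rw [← hq1e, smul_smul, inv_mul_cancel, one_smul]
    rw [mul_smul, mul_smul, mul_smul, e1, hq2e, smul_smul, mul_inv_cancel, one_smul]

/-- an element of `D` of 2-power order is trivial. -/
theorem ro_D_two_pow (hS : Cfsg.IsRankOneSetup G Ω a t Q) {d : G} (hd : d ∈ roD G a t) (e : ℕ)
    (h : d ^ (2 ^ e) = 1) : d = 1 := by
  induction e with
  | zero => simpa using h
  | succ n ih =>
    apply ih
    apply ro_D_sq_eq_one hS (Subgroup.pow_mem _ hd _)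
    rw [← pow_add, ← two_mul, ← pow_succ']
    exact h

variable [Finite G]

/-- Lemma E: an involution of `C(X)` interchanging `a` and `t • a`. -/
theorem fix_lemmaE (hS : Cfsg.IsRankOneSetup G Ω a t Q) {X : Set G} (hX : X ⊆ (roD G a t : Set G))
    {e : Ω} (he : e ∈ fixSet Ω X) (hea : e ≠ a) (heb : e ≠ t • a) :
    ∃ h ∈ Subgroup.centralizer X, h * h = 1 ∧ h • a = t • a := by
  obtain ⟨g, hg, hga, hgb⟩ := fix_lemmaD hS hX he hea heb (fixSet_a hX) (fixSet_b hX) (fixSet_b hX)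
    (fixSet_a hX) (ro_ta_ne hS).symm (ro_ta_ne hS)
  have hn : orderOf g ≠ 0 := (orderOf_pos g).ne'
  obtain ⟨k, m, hm, hkm⟩ := Nat.exists_eq_two_pow_mul_odd hn
  obtain ⟨i, hi⟩ := hm
  -- g² fixes a and t • a
  have hg2a : ∀ j : ℕ, (g ^ (2 * j)) • a = a := by
    intro j
    induction j with
    | zero => simp
    | succ j ih =>
      have : 2 * (j + 1) = 2 * j + 1 + 1 := by ring
      rw [this, pow_succ, pow_succ, mul_smul, mul_smul, hga, hgb, ih]
  have hg2b : ∀ j : ℕ, (g ^ (2 * j)) • (t • a) = t • a := by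
    intro j
    induction j with
    | zero => simp
    | succ j ih =>
      have : 2 * (j + 1) = 2 * j + 1 + 1 := by ring
      rw [this, pow_succ, pow_succ, mul_smul, mul_smul, hgb, hga, ih]
  set h := g ^ m with hh
  have hha : h • a = t • a := by
    rw [hh, hi, pow_succ, mul_smul, hga, hg2b]
  have hhb : h • (t • a) = a := by
    rw [hh, hi, pow_succ, mul_smul, hgb, hg2a]
  have hhC : h ∈ Subgroup.centralizer X := Subgroup.pow_mem _ hg _
  have hh2D : h * h ∈ roD G a t := by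
    refine ⟨MulAction.mem_stabilizer_iff.2 ?_, MulAction.mem_stabilizer_iff.2 ?_⟩
    · rw [mul_smul, hha, hhb]
    · rw [mul_smul, hhb, hha]
  have hpow : (h * h) ^ (2 ^ k) = 1 := by
    rw [← pow_two, ← pow_mul, hh, ← pow_mul]
    have : m * (2 * 2 ^ k) = orderOf g * 2 := by rw [hkm]; ring
    rw [this, pow_mul, pow_orderOf_eq_one, one_pow]
  exact ⟨h, hhC, ro_D_two_pow hS hh2D k hpow, hha⟩

/-- `C_Q(X)` has even order. -/
theorem fix_even (hS : Cfsg.IsRankOneSetup G Ω a t Q) {X : Set G} (hX : X ⊆ (roD G a t : Set G))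
    {e : Ω} (he : e ∈ fixSet Ω X) (hea : e ≠ a) (heb : e ≠ t • a) :
    Even (Nat.card ↥(Subgroup.centralizer X ⊓ Q)) := by
  obtain ⟨u, huC, hu2, hua⟩ := fix_lemmaE hS hX he hea heb
  have hu1 : u ≠ 1 := by
    rintro rfl
    rw [one_smul] at hua
    exact ro_ta_ne hS hua.symm
  obtain ⟨c, hc⟩ := ro_invol_fix hS hu1 hu2
  have hcF : c ∈ fixSet Ω X := by
    intro x hx
    apply (hc _).1
    rw [smul_smul, ← (Subgroup.mem_centralizer_iff.1 huC) x hx, mul_smul, (hc c).2 rfl]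
  obtain ⟨g, hg, hgc⟩ := fix_lemmaC hS hX he hea heb hcF
  -- u' = g⁻¹ u g is an involution of C(X) fixing a
  set u' := g⁻¹ * u * g with hu'
  have hu'C : u' ∈ Subgroup.centralizer X :=
    Subgroup.mul_mem _ (Subgroup.mul_mem _ (Subgroup.inv_mem _ hg) huC) hg
  have hu'2 : u' * u' = 1 := by
    calc u' * u' = g⁻¹ * (u * u) * g := by rw [hu']; group
      _ = 1 := by rw [hu2]; group
  have hu'1 : u' ≠ 1 := by
    intro h
    apply hu1
    calc u = g * (g⁻¹ * u * g) * g⁻¹ := by group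
      _ = 1 := by rw [← hu', h]; group
  have hu'a : u' ∈ MulAction.stabilizer G a := by
    rw [MulAction.mem_stabilizer_iff, hu', mul_smul, mul_smul, hgc, (hc c).2 rfl, ← hgc, smul_smul,
      inv_mul_cancel, one_smul]
  have hu'Q : u' ∈ Q := ro_invol_mem_Q hS hu'a hu'2
  -- so 2 divides the order
  have hord : orderOf (⟨u', hu'C, hu'Q⟩ : ↥(Subgroup.centralizer X ⊓ Q)) = 2 := by
    apply orderOf_eq_prime
    · apply Subtype.ext
      simp [pow_two, hu'2]
    · intro h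
      exact hu'1 (congrArg Subtype.val h)
  rw [even_iff_two_dvd, ← hord]
  exact orderOf_dvd_natCard _

omit [Finite G] in
/-- `C_{G_a}(X) = C_Q(X) C_D(X)`. -/
theorem fix_sup (hS : Cfsg.IsRankOneSetup G Ω a t Q) {X : Set G} (hX : X ⊆ (roD G a t : Set G)) :
    (Subgroup.centralizer X ⊓ Q) ⊔ (Subgroup.centralizer X ⊓ roD G a t) =
      Subgroup.centralizer X ⊓ MulAction.stabilizer G a := by
  apply le_antisymm
  · apply sup_le
    · exact inf_le_inf_left _ hS.le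
    · exact inf_le_inf_left _ inf_le_left
  · rintro g ⟨hgC, hga⟩
    have hga' : g • a = a := MulAction.mem_stabilizer_iff.1 hga
    have hgb : g • (t • a) ∈ fixSet Ω X := fixSet_smul hgC (fixSet_b hX)
    have hgba : g • (t • a) ≠ a := by
      intro h
      apply ro_ta_ne hS
      have : g⁻¹ • (g • (t • a)) = g⁻¹ • a := by rw [h]
      rw [smul_smul, inv_mul_cancel, one_smul] at this
      rw [this]
      exact MulAction.mem_stabilizer_iff.1 (Subgroup.inv_mem _ hga)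
    obtain ⟨q, hq, hqe⟩ := fix_lemmaA hS hX hgb hgba
    have hd : q⁻¹ * g ∈ Subgroup.centralizer X ⊓ roD G a t := by
      refine ⟨Subgroup.mul_mem _ (Subgroup.inv_mem _ hq.1) hgC, MulAction.mem_stabilizer_iff.2 ?_,
        MulAction.mem_stabilizer_iff.2 ?_⟩
      · rw [mul_smul, hga', ro_Q_fix hS (Q.inv_mem hq.2)]
      · rw [mul_smul, ← hqe, smul_smul, inv_mul_cancel, one_smul]
    have : g = q * (q⁻¹ * g) := by group
    rw [this]
    exact Subgroup.mul_mem_sup hq hd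

omit [Finite G] in
/-- among three distinct fixed points one differs from two given points. -/
theorem fix_third {X : Set G}
    (h3 : ∃ b c d : Ω, b ≠ c ∧ b ≠ d ∧ c ≠ d ∧ ∀ x ∈ X, x • b = b ∧ x • c = c ∧ x • d = d) (p q : Ω) :
    ∃ e ∈ fixSet Ω X, e ≠ p ∧ e ≠ q := by
  obtain ⟨b, c, d, hbc, hbd, hcd, hfix⟩ := h3
  have hb : b ∈ fixSet Ω X := fun x hx => (hfix x hx).1
  have hc : c ∈ fixSet Ω X := fun x hx => (hfix x hx).2.1
  have hd : d ∈ fixSet Ω X := fun x hx => (hfix x hx).2.2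
  by_cases h1 : b ≠ p ∧ b ≠ q
  · exact ⟨b, hb, h1⟩
  · by_cases h2 : c ≠ p ∧ c ≠ q
    · exact ⟨c, hc, h2⟩
    · refine ⟨d, hd, ?_, ?_⟩
      · rintro rfl
        by_cases hbq : b = q
        · by_cases hcq : c = q
          · exact hbc (hbq.trans hcq.symm)
          · apply h2
            exact ⟨hcd, hcq⟩
        · apply h1
          exact ⟨hbd, hbq⟩
      · rintro rfl
        by_cases hbp : b = p
        · by_cases hcp : c = p
          · exact hbc (hbp.trans hcp.symm)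
          · apply h2
            exact ⟨hcp, hcd⟩
        · apply h1
          exact ⟨hbp, hbd⟩

/-- `X` is conjugate under `D` into the centraliser of `t`. -/
theorem fix_conj (hS : Cfsg.IsRankOneSetup G Ω a t Q) {X : Set G} (hX : X ⊆ (roD G a t : Set G))
    {e : Ω} (he : e ∈ fixSet Ω X) (hea : e ≠ a) (heb : e ≠ t • a) :
    ∃ k ∈ roD G a t, ∀ x ∈ X, (k * x * k⁻¹) * t = t * (k * x * k⁻¹) := by
  obtain ⟨h, hhC, hh2, hha⟩ := fix_lemmaE hS hX he hea heb
  have htt := hS.mul_self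
  have hti := ro_tinv hS
  have hhi : h⁻¹ = h := inv_eq_of_mul_eq_one_left hh2
  have hhb : h • (t • a) = a := by rw [← hha, smul_smul, hh2, one_smul]
  have ht1 : ∀ x : G, t * (t * x) = x := by
    intro x; rw [← mul_assoc, htt, one_mul]
  set k0 := t * h with hk0
  have hk0D : k0 ∈ roD G a t := by
    refine ⟨MulAction.mem_stabilizer_iff.2 ?_, MulAction.mem_stabilizer_iff.2 ?_⟩
    · rw [hk0, mul_smul, hha, ro_tta hS]
    · rw [hk0, mul_smul, hhb]
  have hk0inv : t * k0 * t⁻¹ = k0⁻¹ := by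
    have : (t * h)⁻¹ = h⁻¹ * t⁻¹ := by group
    rw [hk0, this, hhi, hti]
    simp [ht1]
  obtain ⟨j, hj⟩ := hS.odd_card
  have hk0pow : k0 ^ (2 * j + 1) = 1 := by
    have h0 : (⟨k0, hk0D⟩ : roD G a t) ^ Nat.card (roD G a t) = 1 := pow_card_eq_one'
    have := congrArg Subtype.val h0
    rw [hj] at this
    simpa using this
  set k1 := k0 ^ (j + 1) with hk1
  have hk1D : k1 ∈ roD G a t := Subgroup.pow_mem _ hk0D _
  have hk1sq : k1 * k1 = k0 := by
    rw [hk1, ← pow_add]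
    have : j + 1 + (j + 1) = (2 * j + 1) + 1 := by ring
    rw [this, pow_succ, hk0pow, one_mul]
  have hk1inv : t * k1 * t⁻¹ = k1⁻¹ := by
    rw [hk1, ← conj_pow, hk0inv, inv_pow]
  have hcomm : t * k1 = k1⁻¹ * t := by
    calc t * k1 = (t * k1 * t⁻¹) * t := by group
      _ = k1⁻¹ * t := by rw [hk1inv]
  have hh : h = k1⁻¹ * t * k1 := by
    calc h = t * k0 := by rw [hk0, ht1]
      _ = t * (k1 * k1) := by rw [hk1sq]
      _ = (t * k1) * k1 := by group
      _ = k1⁻¹ * t * k1 := by rw [hcomm]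
  refine ⟨k1, hk1D, fun x hx => ?_⟩
  have hxh : x * h = h * x := (Subgroup.mem_centralizer_iff.1 hhC) x hx
  calc k1 * x * k1⁻¹ * t = k1 * (x * (k1⁻¹ * t * k1)) * k1⁻¹ := by group
    _ = k1 * (x * h) * k1⁻¹ := by rw [← hh]
    _ = k1 * (h * x) * k1⁻¹ := by rw [hxh]
    _ = k1 * (k1⁻¹ * t * k1 * x) * k1⁻¹ := by rw [← hh]
    _ = t * (k1 * x * k1⁻¹) := by group

end RankOneFix

end Cfsg.Agent.Lib.Helper19
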