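/-
Helper library (helper19): in the rank-one setup, `V = C_D(t)` controls `G`-fusion of its subsets.
-/
import Mathlib
import Cfsg.Prelude.Def_LieRecognition
import Cfsg.Agent.Lib.Helper19.RankOne
import Cfsg.Agent.Lib.Helper19.RankOneInvol
import Cfsg.Agent.S1124
import Cfsg.Agent.S1125

set_option autoImplicit false

namespace Cfsg.Agent.Lib.Helper19

open MulAction

section

variable {G Ω : Type*} [Group G] [MulAction G Ω] {a : Ω} {t : G} {Q : Subgroup G}

/-- `t` normalises the two-point stabiliser `D`. -/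
theorem ro_t_conj_D (hS : Cfsg.IsRankOneSetup G Ω a t Q) {x : G} (hx : x ∈ roD G a t) :
    t * x * t⁻¹ ∈ roD G a t := by
  have hxa : x • a = a := MulAction.mem_stabilizer_iff.1 hx.1
  have hxb : x • (t • a) = t • a := MulAction.mem_stabilizer_iff.1 hx.2
  rw [ro_tinv hS]
  refine Subgroup.mem_inf.2 ⟨?_, ?_⟩
  · rw [MulAction.mem_stabilizer_iff, mul_smul, mul_smul, hxb, ro_tta hS]
  · rw [MulAction.mem_stabilizer_iff, mul_smul, mul_smul, ro_tta hS, hxa]

theorem ro_orderOf_t (hS : Cfsg.IsRankOneSetup G Ω a t Q) : orderOf t = 2 :=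
  have : Fact (Nat.Prime 2) := ⟨Nat.prime_two⟩
  orderOf_eq_prime (by rw [pow_two]; exact hS.mul_self) hS.ne_one

/-- an element of odd order commuting with `x` after squaring commutes with `x` -/
theorem commute_of_sq_commute_of_odd {k x : G} {n : ℕ} (hn : k ^ (2 * n + 1) = 1)
    (h : (k * k) * x = x * (k * k)) : k * x = x * k := by
  have hk : k = (k * k) ^ (n + 1) := by
    rw [← pow_two, ← pow_mul]
    have : 2 * (n + 1) = (2 * n + 1) + 1 := by ring
    rw [this, pow_succ, hn, one_mul]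
  have hc : Commute (k * k) x := h
  have := hc.pow_left (n + 1)
  rw [← hk] at this
  exact this

end

section

variable {G Ω : Type*} [Group G] [Finite G] [MulAction G Ω] {a : Ω} {t : G} {Q : Subgroup G}

/-- the fixed point of `t` is fixed by `C_G(t)`, and differs from `a` and `t • a`. -/
theorem ro_t_fix (hS : Cfsg.IsRankOneSetup G Ω a t Q) :
    ∃ c : Ω, c ≠ a ∧ c ≠ t • a ∧ ∀ v ∈ Subgroup.centralizer {t}, v • c = c := by
  obtain ⟨c, hc⟩ := ro_invol_fix hS hS.ne_one hS.mul_self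
  have htc : t • c = c := (hc c).2 rfl
  refine ⟨c, ?_, ?_, ?_⟩
  · rintro rfl
    exact ro_ta_ne hS htc
  · intro h
    have h1 : t • (t • a) = t • a := by rw [← h]; exact htc
    rw [ro_tta hS] at h1
    exact ro_ta_ne hS h1.symm
  · intro v hv
    have hcomm : t * v = v * t := (Subgroup.mem_centralizer_iff.1 hv) t rfl
    apply (hc _).1
    rw [smul_smul, hcomm, mul_smul, htc]

/-- `V = C_D(t)` controls fusion: if `X ⊆ V` and `g X g⁻¹ ⊆ V` then conjugation by `g` on `X` is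
induced by an element of `V`. -/
theorem ro_fusion (hS : Cfsg.IsRankOneSetup G Ω a t Q) (X : Set G)
    (hX : X ⊆ ((roD G a t ⊓ Subgroup.centralizer {t} : Subgroup G) : Set G)) (g : G)
    (hY : (fun x => g * x * g⁻¹) '' X ⊆ ((roD G a t ⊓ Subgroup.centralizer {t} : Subgroup G) : Set G)) :
    ∃ v ∈ roD G a t ⊓ Subgroup.centralizer {t}, ∀ x ∈ X, v * x * v⁻¹ = g * x * g⁻¹ := by
  obtain ⟨c, hca, hcb, hcV⟩ := ro_t_fix hS
  set Y : Set G := (fun x => g * x * g⁻¹) '' X with hYdef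
  have hYD : Y ⊆ (roD G a t : Set G) := fun y hy => (hY hy).1
  have hYa : ∀ y ∈ Y, y • a = a := fun y hy => MulAction.mem_stabilizer_iff.1 (hY hy).1.1
  have hYb : ∀ y ∈ Y, y • (t • a) = t • a := fun y hy => MulAction.mem_stabilizer_iff.1 (hY hy).1.2
  have hYc : ∀ y ∈ Y, y • c = c := fun y hy => hcV y (hY hy).2
  have hXa : ∀ x ∈ X, x • a = a := fun x hx => MulAction.mem_stabilizer_iff.1 (hX hx).1.1
  have hXb : ∀ x ∈ X, x • (t • a) = t • a := fun x hx => MulAction.mem_stabilizer_iff.1 (hX hx).1.2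
  have hYga : ∀ y ∈ Y, y • (g • a) = g • a := by
    rintro y ⟨x, hx, rfl⟩
    show (g * x * g⁻¹) • (g • a) = g • a
    rw [smul_smul, mul_assoc, mul_assoc, inv_mul_cancel, mul_one, mul_smul, hXa x hx]
  have hYgb : ∀ y ∈ Y, y • (g • (t • a)) = g • (t • a) := by
    rintro y ⟨x, hx, rfl⟩
    show (g * x * g⁻¹) • (g • (t • a)) = g • (t • a)
    rw [smul_smul, mul_assoc, mul_assoc, inv_mul_cancel, mul_one, mul_smul, hXb x hx]
  have h3 : ∃ b c d : Ω, b ≠ c ∧ b ≠ d ∧ c ≠ d ∧ ∀ x ∈ Y, x • b = b ∧ x • c = c ∧ x • d = d :=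
    ⟨a, t • a, c, (ro_ta_ne hS).symm, hca.symm, hcb.symm, fun y hy => ⟨hYa y hy, hYb y hy, hYc y hy⟩⟩
  obtain ⟨z, hz, hza, hzb⟩ := (Cfsg.Agent.S1125.result hS Y hYD h3).1 (g • a) (g • (t • a)) a (t • a)
    (fun y hy => ⟨hYga y hy, hYgb y hy, hYa y hy, hYb y hy⟩)
    (fun h => ro_ta_ne hS (smul_left_cancel g h).symm) (ro_ta_ne hS).symm
  -- g' = z * g lies in D and induces the same conjugation on X
  have hg'D : z * g ∈ roD G a t := by
    refine Subgroup.mem_inf.2 ⟨?_, ?_⟩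
    · rw [MulAction.mem_stabilizer_iff, mul_smul, hza]
    · rw [MulAction.mem_stabilizer_iff, mul_smul, hzb]
  have hg'X : ∀ x ∈ X, (z * g) * x * (z * g)⁻¹ = g * x * g⁻¹ := by
    intro x hx
    have hy : g * x * g⁻¹ ∈ Y := ⟨x, hx, rfl⟩
    have hcomm : (g * x * g⁻¹) * z = z * (g * x * g⁻¹) := (Subgroup.mem_centralizer_iff.1 hz) _ hy
    calc (z * g) * x * (z * g)⁻¹ = z * (g * x * g⁻¹) * z⁻¹ := by group
      _ = (g * x * g⁻¹) * z * z⁻¹ := by rw [hcomm]
      _ = g * x * g⁻¹ := by group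
  -- decompose g' = v * k
  have hdec := (Cfsg.Agent.S1124.result t (ro_orderOf_t hS) (roD G a t) hS.odd_card
    (fun x hx => ro_t_conj_D hS hx)).1 (z * g) hg'D
  obtain ⟨⟨v, k⟩, ⟨hv, hk, hvk⟩, _⟩ := hdec
  simp only at hv hk hvk
  refine ⟨v, hv, fun x hx => ?_⟩
  rw [← hg'X x hx, hvk]
  have hti : t⁻¹ = t := ro_tinv hS
  have htv : t * v = v * t := (Subgroup.mem_centralizer_iff.1 hv.2) t rfl
  have htx : t * x = x * t := (Subgroup.mem_centralizer_iff.1 (hX hx).2) t rfl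
  have hty : t * (v * k * x * (v * k)⁻¹) = (v * k * x * (v * k)⁻¹) * t := by
    have hy : v * k * x * (v * k)⁻¹ ∈ Y := by
      refine ⟨x, hx, ?_⟩
      show g * x * g⁻¹ = _
      rw [← hg'X x hx, hvk]
    exact (Subgroup.mem_centralizer_iff.1 (hY hy).2) t rfl
  have hkinv : t * k * t⁻¹ = k⁻¹ := hk.2
  have htk : t * k = k⁻¹ * t := by
    calc t * k = t * k * t⁻¹ * t := by group
      _ = k⁻¹ * t := by rw [hkinv]
  have htki : t * k⁻¹ = k * t := by
    have : t * k⁻¹ * t⁻¹ = k := by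
      have e : t * k⁻¹ * t⁻¹ = (t * k * t⁻¹)⁻¹ := by group
      rw [e, hkinv, inv_inv]
    calc t * k⁻¹ = t * k⁻¹ * t⁻¹ * t := by group
      _ = k * t := by rw [this]
  -- conjugating by t
  have h1 : v * k * x * (v * k)⁻¹ = v * k⁻¹ * x * (v * k⁻¹)⁻¹ := by
    have e : t * (v * k * x * (v * k)⁻¹) * t⁻¹ = v * k⁻¹ * x * (v * k⁻¹)⁻¹ := by
      calc t * (v * k * x * (v * k)⁻¹) * t⁻¹
          = (t * v) * k * x * k⁻¹ * v⁻¹ * t⁻¹ := by group
        _ = v * (t * k) * x * k⁻¹ * v⁻¹ * t⁻¹ := by rw [htv]; group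
        _ = v * k⁻¹ * (t * x) * k⁻¹ * v⁻¹ * t⁻¹ := by rw [htk]; group
        _ = v * k⁻¹ * x * (t * k⁻¹) * v⁻¹ * t⁻¹ := by rw [htx]; group
        _ = v * k⁻¹ * x * k * (t * v⁻¹ * t⁻¹) := by rw [htki]; group
        _ = v * k⁻¹ * x * k * v⁻¹ := by
          have : t * v⁻¹ * t⁻¹ = v⁻¹ := by
            calc t * v⁻¹ * t⁻¹ = v⁻¹ * (v * t) * v⁻¹ * t⁻¹ := by group
              _ = v⁻¹ * (t * v) * v⁻¹ * t⁻¹ := by rw [htv]
              _ = v⁻¹ := by group
          rw [this]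
        _ = v * k⁻¹ * x * (v * k⁻¹)⁻¹ := by group
    rw [← e, hty]; group
  -- hence k * k commutes with x
  have h2 : (k * k) * x = x * (k * k) := by
    have h3 : k * x * k⁻¹ = k⁻¹ * x * k := by
      calc k * x * k⁻¹ = v⁻¹ * (v * k * x * (v * k)⁻¹) * v := by group
        _ = v⁻¹ * (v * k⁻¹ * x * (v * k⁻¹)⁻¹) * v := by rw [h1]
        _ = k⁻¹ * x * k := by group
    calc (k * k) * x = k * (k * x * k⁻¹) * k := by group
      _ = k * (k⁻¹ * x * k) * k := by rw [h3]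
      _ = x * (k * k) := by group
  -- k has odd order
  have hkD : k ∈ roD G a t := hk.1
  have hodd : Odd (orderOf k) := by
    have h1 : orderOf (⟨k, hkD⟩ : roD G a t) ∣ Nat.card (roD G a t) := orderOf_dvd_natCard _
    rw [Subgroup.orderOf_mk] at h1
    exact hS.odd_card.of_dvd_nat h1
  obtain ⟨n, hn⟩ := hodd
  have hkx : k * x = x * k :=
    commute_of_sq_commute_of_odd (n := n) (by rw [← hn, pow_orderOf_eq_one]) h2
  symm
  calc v * k * x * (v * k)⁻¹ = v * (k * x) * k⁻¹ * v⁻¹ := by group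
    _ = v * (x * k) * k⁻¹ * v⁻¹ := by rw [hkx]
    _ = v * x * v⁻¹ := by group

end

end Cfsg.Agent.Lib.Helper19
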