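/-
Helper library (helper19): in the rank-one setup with two commuting involutions, `Q` admits a
fixed-point-free automorphism of prime order (conjugation by an element of `K` of prime order).
-/
import Mathlib
import Cfsg.Prelude.Def_LieRecognition
import Cfsg.Agent.Lib.Helper19.RankOne
import Cfsg.Agent.Lib.Helper19.RankOneInvol
import Cfsg.Agent.S1122
import Cfsg.Agent.S1128

set_option autoImplicit false

namespace Cfsg.Agent.Lib.Helper19

open MulAction

section

variable {G Ω : Type*} [Group G] [Finite G] [MulAction G Ω] {a : Ω} {t : G} {Q : Subgroup G}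

/-- With two commuting involutions in `G`, the stabiliser `G_a` contains two distinct involutions. -/
theorem ro_two_invol_stab (hS : Cfsg.IsRankOneSetup G Ω a t Q)
    (h2 : ∃ x y : G, x ≠ 1 ∧ y ≠ 1 ∧ x ≠ y ∧ x * x = 1 ∧ y * y = 1 ∧ x * y = y * x) :
    ∃ u v : G, u ∈ Cfsg.involutionsIn (MulAction.stabilizer G a : Set G) ∧
      v ∈ Cfsg.involutionsIn (MulAction.stabilizer G a : Set G) ∧ u ≠ v := by
  obtain ⟨x, y, hx1, hy1, hxy, hx2, hy2, hc⟩ := h2
  obtain ⟨c, hc'⟩ := ro_invol_fix hS hx1 hx2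
  have hxc : x • c = c := (hc' c).2 rfl
  have hyc : y • c = c := ro_comm_fix hS hx1 hx2 hy1 hy2 hc hxc
  have := ro_pretransitive hS
  obtain ⟨g, hg⟩ := MulAction.exists_smul_eq G c a
  have key : ∀ z : G, z ≠ 1 → z * z = 1 → z • c = c →
      g * z * g⁻¹ ∈ Cfsg.involutionsIn (MulAction.stabilizer G a : Set G) := by
    intro z hz1 hz2 hzc
    refine ⟨?_, ?_, ?_⟩
    · show g * z * g⁻¹ ∈ MulAction.stabilizer G a
      rw [MulAction.mem_stabilizer_iff, ← hg, smul_smul, mul_assoc, mul_assoc, inv_mul_cancel, mul_one,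
        mul_smul, hzc]
    · intro h1
      apply hz1
      calc z = g⁻¹ * (g * z * g⁻¹) * g := by group
        _ = 1 := by rw [h1]; group
    · calc (g * z * g⁻¹) * (g * z * g⁻¹) = g * (z * z) * g⁻¹ := by group
        _ = 1 := by rw [hz2]; group
  refine ⟨g * x * g⁻¹, g * y * g⁻¹, key x hx1 hx2 hxc, key y hy1 hy2 hyc, ?_⟩
  intro h
  apply hxy
  calc x = g⁻¹ * (g * x * g⁻¹) * g := by group
    _ = g⁻¹ * (g * y * g⁻¹) * g := by rw [h]
    _ = y := by group

/-- With two commuting involutions in `G`, there is a non-identity element of `D` inverted by `t`. -/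
theorem ro_exists_inverted_ne_one (hS : Cfsg.IsRankOneSetup G Ω a t Q)
    (h2 : ∃ x y : G, x ≠ 1 ∧ y ≠ 1 ∧ x ≠ y ∧ x * x = 1 ∧ y * y = 1 ∧ x * y = y * x) :
    ∃ k ∈ Cfsg.invertedBy (MulAction.stabilizer G a ⊓ MulAction.stabilizer G (t • a)) t, k ≠ 1 := by
  obtain ⟨u, v, hu, hv, huv⟩ := ro_two_invol_stab hS h2
  have hcard := (Cfsg.Agent.S1122.result hS).1
  have hnt : Nontrivial (Cfsg.involutionsIn (MulAction.stabilizer G a : Set G)) :=
    ⟨⟨⟨u, hu⟩, ⟨v, hv⟩, fun h => huv (congrArg Subtype.val h)⟩⟩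
  have h1 : 1 < Nat.card (Cfsg.involutionsIn (MulAction.stabilizer G a : Set G)) :=
    Finite.one_lt_card_iff_nontrivial.2 hnt
  rw [← hcard] at h1
  have hnt' := Finite.one_lt_card_iff_nontrivial.1 h1
  obtain ⟨⟨k₁, hk₁⟩, ⟨k₂, hk₂⟩, hne⟩ := hnt'
  by_cases h : k₁ = 1
  · refine ⟨k₂, hk₂, ?_⟩
    intro h'
    apply hne
    apply Subtype.ext
    show k₁ = k₂
    rw [h, h']
  · exact ⟨k₁, hk₁, h⟩

end

section

variable {G : Type*} [Group G]

/-- powers of an element inverted by `t` are inverted by `t`. -/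
theorem invertedBy_pow {D : Subgroup G} {t k : G} (hk : k ∈ Cfsg.invertedBy D t) (n : ℕ) :
    k ^ n ∈ Cfsg.invertedBy D t := by
  refine ⟨D.pow_mem hk.1 n, ?_⟩
  rw [← conj_pow, hk.2, inv_pow]

/-- A non-identity element of a finite group has a power of prime order. -/
theorem exists_pow_prime_order [Finite G] {k : G} (hk : k ≠ 1) :
    ∃ (p : ℕ) (n : ℕ), p.Prime ∧ orderOf (k ^ n) = p := by
  have h1 : orderOf k ≠ 1 := by
    rw [Ne, orderOf_eq_one_iff]; exact hk
  obtain ⟨p, hp, hdvd⟩ := Nat.exists_prime_and_dvd h1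
  refine ⟨p, orderOf k / p, hp, ?_⟩
  have hpos : 0 < orderOf k := orderOf_pos k
  rw [orderOf_pow_of_dvd (by
    intro h
    have := Nat.div_mul_cancel hdvd
    rw [h, zero_mul] at this
    omega) (Nat.div_dvd_of_dvd hdvd)]
  exact Nat.div_div_self hdvd hpos.ne'

/-- Conjugation by an element normalising `Q` (in the weak sense of mapping `Q` into `Q`, also for
the inverse) as an automorphism of `Q`. -/
def conjAut (Q : Subgroup G) (y : G) (h1 : ∀ x ∈ Q, y * x * y⁻¹ ∈ Q) (h2 : ∀ x ∈ Q, y⁻¹ * x * y ∈ Q) :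
    Q ≃* Q where
  toFun q := ⟨y * q * y⁻¹, h1 q q.2⟩
  invFun q := ⟨y⁻¹ * q * y, h2 q q.2⟩
  left_inv q := by
    apply Subtype.ext
    show y⁻¹ * (y * q * y⁻¹) * y = q
    group
  right_inv q := by
    apply Subtype.ext
    show y * (y⁻¹ * q * y) * y⁻¹ = q
    group
  map_mul' p q := by
    apply Subtype.ext
    show y * (p * q) * y⁻¹ = (y * p * y⁻¹) * (y * q * y⁻¹)
    group

@[simp] theorem conjAut_apply (Q : Subgroup G) (y : G) (h1 : ∀ x ∈ Q, y * x * y⁻¹ ∈ Q)
    (h2 : ∀ x ∈ Q, y⁻¹ * x * y ∈ Q) (q : Q) : ((conjAut Q y h1 h2 q : Q) : G) = y * q * y⁻¹ := rfl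

theorem conjAut_pow_apply (Q : Subgroup G) (y : G) (h1 : ∀ x ∈ Q, y * x * y⁻¹ ∈ Q)
    (h2 : ∀ x ∈ Q, y⁻¹ * x * y ∈ Q) (n : ℕ) (q : Q) :
    (((conjAut Q y h1 h2) ^ n) q : G) = y ^ n * q * (y ^ n)⁻¹ := by
  induction n generalizing q with
  | zero => simp
  | succ n ih =>
    rw [pow_succ, MulAut.mul_apply, ih, conjAut_apply, pow_succ]
    group

end

section

universe u v

variable {G : Type u} {Ω : Type v} [Group G] [Finite G] [MulAction G Ω] [FaithfulSMul G Ω] {a : Ω} {t : G}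
  {Q : Subgroup G}

/-- `Q` has a fixed-point-free automorphism of prime order. -/
theorem ro_exists_fpf_aut (hS : Cfsg.IsRankOneSetup G Ω a t Q)
    (h2 : ∃ x y : G, x ≠ 1 ∧ y ≠ 1 ∧ x ≠ y ∧ x * x = 1 ∧ y * y = 1 ∧ x * y = y * x) :
    ∃ (φ : Q ≃* Q) (p : ℕ), MonoidHom.FixedPointFree (φ : Q →* Q) ∧ p.Prime ∧ orderOf φ = p := by
  obtain ⟨k, hk, hk1⟩ := ro_exists_inverted_ne_one hS h2
  obtain ⟨p, n, hp, hord⟩ := exists_pow_prime_order hk1
  set y := k ^ n with hy
  have hyK := invertedBy_pow hk n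
  rw [← hy] at hyK
  have hy1 : y ≠ 1 := by
    intro h
    rw [h, orderOf_one] at hord
    exact hp.one_lt.ne hord
  have hcent := Cfsg.Agent.S1128.result hS h2 y hyK hy1
  have hya : y ∈ MulAction.stabilizer G a := hyK.1.1
  have hyia : y⁻¹ ∈ MulAction.stabilizer G a := Subgroup.inv_mem _ hya
  have h1 : ∀ x ∈ Q, y * x * y⁻¹ ∈ Q := fun x hx => hS.conj_mem y hya x hx
  have h2' : ∀ x ∈ Q, y⁻¹ * x * y ∈ Q := fun x hx => by
    have := hS.conj_mem y⁻¹ hyia x hx
    rwa [inv_inv] at this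
  refine ⟨conjAut Q y h1 h2', p, ?_, hp, ?_⟩
  · intro q hq
    have hq' : y * (q : G) * y⁻¹ = q := congrArg Subtype.val hq
    have hmem : (q : G) ∈ Q ⊓ Subgroup.centralizer {y} := by
      refine Subgroup.mem_inf.2 ⟨q.2, ?_⟩
      rw [Subgroup.mem_centralizer_iff]
      intro z hz
      rw [Set.mem_singleton_iff] at hz
      subst hz
      calc y * (q : G) = y * q * y⁻¹ * y := by group
        _ = q * y := by rw [hq']
    rw [hcent, Subgroup.mem_bot] at hmem
    exact Subtype.ext hmem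
  · have := Fact.mk hp
    apply orderOf_eq_prime
    · ext q
      rw [conjAut_pow_apply, ← hord, pow_orderOf_eq_one]
      simp
    · intro h
      obtain ⟨x, hx, hx1⟩ := ro_exists_ne_one hS
      have hfix : conjAut Q y h1 h2' ⟨x, hx⟩ = ⟨x, hx⟩ := by rw [h]; rfl
      have hx' : y * x * y⁻¹ = x := congrArg Subtype.val hfix
      have hmem : x ∈ Q ⊓ Subgroup.centralizer {y} := by
        refine Subgroup.mem_inf.2 ⟨hx, ?_⟩
        rw [Subgroup.mem_centralizer_iff]
        intro z hz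
        rw [Set.mem_singleton_iff] at hz
        subst hz
        calc y * x = y * x * y⁻¹ * y := by group
          _ = x * y := by rw [hx']
      rw [hcent, Subgroup.mem_bot] at hmem
      exact hx1 hmem

end

end Cfsg.Agent.Lib.Helper19
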