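/-
Helper library (helper19): in the rank-one setup with central involutions, products of two
involutions whose square is not `1`.
-/
import Mathlib
import Cfsg.Prelude.Def_LieRecognition
import Cfsg.Agent.Lib.Helper19.RankOne
import Cfsg.Agent.Lib.Helper19.RankOneInvol
import Cfsg.Agent.S1122
import Cfsg.Agent.S1127
import Cfsg.Agent.S1128

set_option autoImplicit false
set_option linter.unusedSectionVars false

namespace Cfsg.Agent.Lib.Helper19

open MulAction

section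

variable {G : Type*} [Group G]

theorem conj_ne_one' {h z : G} (hz : z ≠ 1) : h * z * h⁻¹ ≠ 1 := by
  intro h1
  apply hz
  calc z = h⁻¹ * (h * z * h⁻¹) * h := by group
    _ = 1 := by rw [h1]; group

theorem conj_mul_self' {h z : G} (hz : z * z = 1) : (h * z * h⁻¹) * (h * z * h⁻¹) = 1 := by
  calc (h * z * h⁻¹) * (h * z * h⁻¹) = h * (z * z) * h⁻¹ := by group
    _ = 1 := by rw [hz]; group

end

section

variable {G Ω : Type*} [Group G] [MulAction G Ω]

theorem conj_smul_fix {h z : G} {c e : Ω} (hzc : z • c = c) (hh : h • c = e) : (h * z * h⁻¹) • e = e := by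
  rw [← hh, smul_smul, mul_assoc, mul_assoc, inv_mul_cancel, mul_one, mul_smul, hzc]

end

section

variable {G Ω : Type*} [Group G] [Finite G] [MulAction G Ω] {a : Ω} {t : G} {Q : Subgroup G}

/-- Two involutions with a common fixed point commute (given that involutions of `G_a` are central
in `Q`). -/
theorem ro_invol_same_fix_commute (hS : Cfsg.IsRankOneSetup G Ω a t Q)
    (hcen : ∀ s ∈ Cfsg.involutionsIn (MulAction.stabilizer G a : Set G), s ∈ Q ∧ ∀ x ∈ Q, s * x = x * s)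
    {u v : G} (hu1 : u ≠ 1) (hu2 : u * u = 1) (hv1 : v ≠ 1) (hv2 : v * v = 1) {c : Ω}
    (huc : u • c = c) (hvc : v • c = c) : u * v = v * u := by
  have := ro_pretransitive hS
  obtain ⟨h, hh⟩ := MulAction.exists_smul_eq G c a
  have hu' : h * u * h⁻¹ ∈ Cfsg.involutionsIn (MulAction.stabilizer G a : Set G) :=
    ⟨MulAction.mem_stabilizer_iff.2 (conj_smul_fix huc hh), conj_ne_one' hu1, conj_mul_self' hu2⟩
  have hv' : h * v * h⁻¹ ∈ Cfsg.involutionsIn (MulAction.stabilizer G a : Set G) :=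
    ⟨MulAction.mem_stabilizer_iff.2 (conj_smul_fix hvc hh), conj_ne_one' hv1, conj_mul_self' hv2⟩
  have hc := (hcen _ hu').2 _ (hcen _ hv').1
  calc u * v = h⁻¹ * ((h * u * h⁻¹) * (h * v * h⁻¹)) * h := by group
    _ = h⁻¹ * ((h * v * h⁻¹) * (h * u * h⁻¹)) * h := by rw [hc]
    _ = v * u := by group

/-- First half: a product of two involutions with different fixed points is conjugate to `u' t`
with `u'` an involution of `G_a`. -/
theorem ro_prod_conj (hS : Cfsg.IsRankOneSetup G Ω a t Q)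
    {u v : G} (hu1 : u ≠ 1) (hu2 : u * u = 1) (hv1 : v ≠ 1) (hv2 : v * v = 1) {cu cv : Ω}
    (hcu : u • cu = cu) (hcv : v • cv = cv) (hne : cu ≠ cv) :
    ∃ g : G, ∃ u' ∈ Cfsg.involutionsIn (MulAction.stabilizer G a : Set G), g * (u * v) * g⁻¹ = u' * t := by
  obtain ⟨c₀, hc₀⟩ := ro_invol_fix hS hS.ne_one hS.mul_self
  have htc : t • c₀ = c₀ := (hc₀ c₀).2 rfl
  have hc₀a : c₀ ≠ a := by
    rintro rfl
    exact ro_ta_ne hS htc
  obtain ⟨g₁, hg₁u, hg₁v⟩ := ro_two_trans hS hne hc₀a.symm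
  -- v₁ = g₁ v g₁⁻¹ fixes c₀
  set v₁ := g₁ * v * g₁⁻¹ with hv₁
  set u₁ := g₁ * u * g₁⁻¹ with hu₁
  have hv₁c : v₁ • c₀ = c₀ := conj_smul_fix hcv hg₁v
  have hu₁a : u₁ • a = a := conj_smul_fix hcu hg₁u
  obtain ⟨h, hhc, hha⟩ := ro_two_trans hS hc₀a (ro_ta_ne hS).symm
  have hv' : h * v₁ * h⁻¹ ∈ Cfsg.involutionsIn (MulAction.stabilizer G a : Set G) :=
    ⟨MulAction.mem_stabilizer_iff.2 (conj_smul_fix hv₁c hhc), conj_ne_one' (conj_ne_one' hv1),
      conj_mul_self' (conj_mul_self' hv2)⟩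
  have ht' : h * t * h⁻¹ ∈ Cfsg.involutionsIn (MulAction.stabilizer G a : Set G) :=
    ⟨MulAction.mem_stabilizer_iff.2 (conj_smul_fix htc hhc), conj_ne_one' hS.ne_one,
      conj_mul_self' hS.mul_self⟩
  obtain ⟨k, hk, hkc⟩ := (Cfsg.Agent.S1122.result hS).2 _ hv' _ ht'
  have hka : k • a = a := MulAction.mem_stabilizer_iff.1 hk.1.1
  have hkb : k • (t • a) = t • a := MulAction.mem_stabilizer_iff.1 hk.1.2
  set d := h⁻¹ * k⁻¹ * h with hd
  have hda : d • a = a := by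
    rw [hd, mul_smul, mul_smul, hha, inv_smul_eq_iff.2 hkb.symm, inv_smul_eq_iff.2 hha.symm]
  have hdv : d * v₁ * d⁻¹ = t := by
    calc d * v₁ * d⁻¹ = h⁻¹ * (k⁻¹ * (h * v₁ * h⁻¹) * k) * h := by rw [hd]; group
      _ = h⁻¹ * (h * t * h⁻¹) * h := by rw [hkc]
      _ = t := by group
  refine ⟨d * g₁, d * u₁ * d⁻¹, ⟨?_, conj_ne_one' (conj_ne_one' hu1), conj_mul_self' (conj_mul_self' hu2)⟩, ?_⟩
  · exact MulAction.mem_stabilizer_iff.2 (conj_smul_fix hu₁a hda)
  · calc d * g₁ * (u * v) * (d * g₁)⁻¹ = (d * u₁ * d⁻¹) * (d * v₁ * d⁻¹) := by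
          rw [hu₁, hv₁]; group
      _ = d * u₁ * d⁻¹ * t := by rw [hdv]

end

section

variable {G Ω : Type*} [Group G] [Finite G] [MulAction G Ω] [FaithfulSMul G Ω] {a : Ω} {t : G}
  {Q : Subgroup G}

/-- A non-identity element inverted by an involution `i` is not centralised by an involution whose
fixed point is moved by `i`. -/
theorem ro_no_invol_cent (hS : Cfsg.IsRankOneSetup G Ω a t Q)
    (h2 : ∃ x y : G, x ≠ 1 ∧ y ≠ 1 ∧ x ≠ y ∧ x * x = 1 ∧ y * y = 1 ∧ x * y = y * x)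
    {x i w : G} (hi2 : i * i = 1) (hinv : i * x * i⁻¹ = x⁻¹) (hx1 : x ≠ 1)
    (hw1 : w ≠ 1) (hw2 : w * w = 1) (hwx : w * x = x * w) {c : Ω} (hwc : w • c = c) (hic : i • c ≠ c) :
    False := by
  obtain ⟨c', hc'⟩ := ro_invol_fix hS hw1 hw2
  have hcc' : c = c' := (hc' c).1 hwc
  have hxc : x • c = c := by
    have : w • (x • c) = x • c := by rw [smul_smul, hwx, mul_smul, hwc]
    rw [(hc' _).1 this, hcc']
  have hii : i⁻¹ = i := inv_eq_of_mul_eq_one_left hi2
  have hxi : x * i = i * x⁻¹ := by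
    have : i * x⁻¹ = i * (i * x * i⁻¹) := by rw [hinv]
    rw [this, hii]
    calc x * i = (i * i) * x * i := by rw [hi2, one_mul]
      _ = i * (i * x * i) := by group
  have hxic : x • (i • c) = i • c := by
    rw [smul_smul, hxi, mul_smul, inv_smul_eq_iff.2 hxc.symm]
  obtain ⟨h, hhc, hhic⟩ := ro_two_trans hS (Ne.symm hic) (ro_ta_ne hS).symm
  set i' := h * i * h⁻¹ with hi'
  set x' := h * x * h⁻¹ with hx'
  set w' := h * w * h⁻¹ with hw'
  have hi'a : i' • a = t • a := by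
    rw [hi', ← hhc, smul_smul, mul_assoc, mul_assoc, inv_mul_cancel, mul_one, mul_smul, hhic, hhc]
  have hi'T : i' ∈ Cfsg.Agent.S1127.T G a t := ⟨conj_mul_self' hi2, hi'a⟩
  have hS' := Cfsg.Agent.S1127.setup_of_mem_T hS hi'T
  have hx'a : x' • a = a := conj_smul_fix hxc hhc
  have hx'b : x' • (i' • a) = i' • a := by
    rw [hi'a]
    exact conj_smul_fix hxic hhic
  have hx'inv : i' * x' * i'⁻¹ = x'⁻¹ := by
    calc i' * x' * i'⁻¹ = h * (i * x * i⁻¹) * h⁻¹ := by rw [hi', hx']; group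
      _ = x'⁻¹ := by rw [hinv, hx']; group
  have hx'K : x' ∈ Cfsg.invertedBy (MulAction.stabilizer G a ⊓ MulAction.stabilizer G (i' • a)) i' :=
    ⟨⟨MulAction.mem_stabilizer_iff.2 hx'a, MulAction.mem_stabilizer_iff.2 hx'b⟩, hx'inv⟩
  have hcent := Cfsg.Agent.S1128.result hS' h2 x' hx'K (conj_ne_one' hx1)
  have hw'a : w' ∈ MulAction.stabilizer G a := MulAction.mem_stabilizer_iff.2 (conj_smul_fix hwc hhc)
  have hw'Q : w' ∈ Q := ro_invol_mem_Q hS hw'a (conj_mul_self' hw2)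
  have hw'x' : x' * w' = w' * x' := by
    calc x' * w' = h * (x * w) * h⁻¹ := by rw [hx', hw']; group
      _ = h * (w * x) * h⁻¹ := by rw [hwx]
      _ = w' * x' := by rw [hx', hw']; group
  have hmem : w' ∈ Q ⊓ Subgroup.centralizer {x'} := by
    refine Subgroup.mem_inf.2 ⟨hw'Q, ?_⟩
    rw [Subgroup.mem_centralizer_iff]
    intro z hz
    rw [Set.mem_singleton_iff] at hz
    subst hz
    exact hw'x'
  rw [hcent, Subgroup.mem_bot] at hmem
  exact conj_ne_one' hw1 hmem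

/-- Second half: the centraliser of a product of two involutions of square `≠ 1` has odd order. -/
theorem ro_prod_cent_odd (hS : Cfsg.IsRankOneSetup G Ω a t Q)
    (h2 : ∃ x y : G, x ≠ 1 ∧ y ≠ 1 ∧ x ≠ y ∧ x * x = 1 ∧ y * y = 1 ∧ x * y = y * x)
    (hcen : ∀ s ∈ Cfsg.involutionsIn (MulAction.stabilizer G a : Set G), s ∈ Q ∧ ∀ x ∈ Q, s * x = x * s)
    {u v : G} (hu1 : u ≠ 1) (hu2 : u * u = 1) (hv1 : v ≠ 1) (hv2 : v * v = 1)
    (hx : (u * v) * (u * v) ≠ 1) : Odd (Nat.card ↥(Subgroup.centralizer {u * v})) := by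
  by_contra hodd
  rw [Nat.not_odd_iff_even] at hodd
  have : Fact (Nat.Prime 2) := ⟨Nat.prime_two⟩
  obtain ⟨⟨w, hwC⟩, hw⟩ := exists_prime_orderOf_dvd_card' (G := ↥(Subgroup.centralizer {u * v})) 2
    hodd.two_dvd
  rw [Subgroup.orderOf_mk] at hw
  have hw1 : w ≠ 1 := by
    rintro rfl
    rw [orderOf_one] at hw
    omega
  have hw2 : w * w = 1 := by
    rw [← pow_two, ← hw, pow_orderOf_eq_one]
  have hwx : w * (u * v) = (u * v) * w := ((Subgroup.mem_centralizer_iff.1 hwC) (u * v) rfl).symm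
  obtain ⟨c, hc⟩ := ro_invol_fix hS hw1 hw2
  have hwc : w • c = c := (hc c).2 rfl
  have hui : u⁻¹ = u := inv_eq_of_mul_eq_one_left hu2
  have hvi : v⁻¹ = v := inv_eq_of_mul_eq_one_left hv2
  have hx1 : u * v ≠ 1 := by
    intro h
    apply hx
    rw [h, one_mul]
  by_cases huc : u • c = c
  · by_cases hvc : v • c = c
    · apply hx
      have hcomm := ro_invol_same_fix_commute hS hcen hu1 hu2 hv1 hv2 huc hvc
      calc u * v * (u * v) = u * (v * u) * v := by group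
        _ = u * (u * v) * v := by rw [hcomm]
        _ = (u * u) * (v * v) := by group
        _ = 1 := by rw [hu2, hv2, one_mul]
    · refine ro_no_invol_cent hS h2 hv2 ?_ hx1 hw1 hw2 hwx hwc hvc
      rw [hvi, mul_inv_rev, hui, hvi]
      calc v * (u * v) * v = v * u * (v * v) := by group
        _ = v * u := by rw [hv2, mul_one]
  · refine ro_no_invol_cent hS h2 hu2 ?_ hx1 hw1 hw2 hwx hwc huc
    rw [hui, mul_inv_rev, hui, hvi]
    calc u * (u * v) * u = (u * u) * v * u := by group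
      _ = v * u := by rw [hu2, one_mul]

/-- Both halves together. -/
theorem ro_prod (hS : Cfsg.IsRankOneSetup G Ω a t Q)
    (h2 : ∃ x y : G, x ≠ 1 ∧ y ≠ 1 ∧ x ≠ y ∧ x * x = 1 ∧ y * y = 1 ∧ x * y = y * x)
    (hcen : ∀ s ∈ Cfsg.involutionsIn (MulAction.stabilizer G a : Set G), s ∈ Q ∧ ∀ x ∈ Q, s * x = x * s)
    {u v : G} (hu1 : u ≠ 1) (hu2 : u * u = 1) (hv1 : v ≠ 1) (hv2 : v * v = 1)
    (hx : (u * v) * (u * v) ≠ 1) :
    (∃ g : G, ∃ u' ∈ Cfsg.involutionsIn (MulAction.stabilizer G a : Set G), g * (u * v) * g⁻¹ = u' * t) ∧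
      Odd (Nat.card ↥(Subgroup.centralizer {u * v})) := by
  refine ⟨?_, ro_prod_cent_odd hS h2 hcen hu1 hu2 hv1 hv2 hx⟩
  obtain ⟨cu, hcu⟩ := ro_invol_fix hS hu1 hu2
  obtain ⟨cv, hcv⟩ := ro_invol_fix hS hv1 hv2
  have hucu : u • cu = cu := (hcu cu).2 rfl
  have hvcv : v • cv = cv := (hcv cv).2 rfl
  have hne : cu ≠ cv := by
    rintro rfl
    apply hx
    have hcomm := ro_invol_same_fix_commute hS hcen hu1 hu2 hv1 hv2 hucu hvcv
    calc u * v * (u * v) = u * (v * u) * v := by group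
      _ = u * (u * v) * v := by rw [hcomm]
      _ = (u * u) * (v * v) := by group
      _ = 1 := by rw [hu2, hv2, one_mul]
  exact ro_prod_conj hS hu1 hu2 hv1 hv2 hucu hvcv hne

end

end Cfsg.Agent.Lib.Helper19
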