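/-
helper19: abstract twisted rank-one machine, part A.
A group `G` with subgroups `U V H N`, a family `U_n⁻ ≤ U` (`Um n`), a subgroup `F` ("fixed points of the twisting
automorphism") all of whose elements have a Bruhat normal form `g = u₀ n u` (`u₀ ∈ U`, `n ∈ N`, `u ∈ U_n⁻`) with
strong uniqueness and whose normal forms have all three factors in `F`, and a subgroup `G¹ ≤ F` containing `U ⊓ F`.
The elements of `N ⊓ F` are assumed to lie in `H` or to be "long" (predicate `L`; then `U_n⁻ = U`).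
Part A: data, the normal form of the elements of `G¹`.
-/
import Mathlib

set_option autoImplicit false

open Pointwise

namespace Cfsg.Agent.Lib.Helper19.ReeAbs

/-- Abstract data for a twisted group of rank one. -/
structure TwData (G : Type*) [Group G] where
  U : Subgroup G
  V : Subgroup G
  H : Subgroup G
  N : Subgroup G
  Um : G → Subgroup G
  L : G → Prop
  F : Subgroup G
  G1 : Subgroup G
  Um_le : ∀ n, Um n ≤ U
  H_le_N : H ≤ N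
  H_comm : ∀ h ∈ H, ∀ h' ∈ H, h * h' = h' * h
  N_norm_H : ∀ n ∈ N, ∀ h ∈ H, n * h * n⁻¹ ∈ H
  H_norm_U : ∀ h ∈ H, ∀ u ∈ U, h * u * h⁻¹ ∈ U
  V_inf_B : ∀ v ∈ V, ∀ u ∈ U, ∀ h ∈ H, v = u * h → v = 1
  ex : ∀ g ∈ F, ∃ u₀ ∈ U, ∃ n ∈ N, ∃ u ∈ Um n, g = u₀ * n * u
  uniq : ∀ u₀ u₀' n n' u u' : G, u₀ ∈ U → u₀' ∈ U → n ∈ N → n' ∈ N → u ∈ Um n → u' ∈ Um n' →
    u₀ * n * u = u₀' * n' * u' → u₀ = u₀' ∧ n = n' ∧ u = u'
  Um_H : ∀ h ∈ H, Um h = ⊥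
  L_Um : ∀ n ∈ N, L n → Um n = U
  long_conj : ∀ n ∈ N, L n → ∀ u ∈ U, n * u * n⁻¹ ∈ V
  long_conj' : ∀ n ∈ N, L n → ∀ v ∈ V, n⁻¹ * v * n ∈ U
  long_inv : ∀ n ∈ N, L n → L n⁻¹
  long_div : ∀ n ∈ N, ∀ n' ∈ N, L n → L n' → n⁻¹ * n' ∈ H
  long_mul_H : ∀ n ∈ N, L n → ∀ h ∈ H, L (h * n)
  long_inverts : ∀ n ∈ N, L n → ∀ h ∈ H, n * h * n⁻¹ = h⁻¹
  F_form : ∀ u₀ ∈ U, ∀ n ∈ N, ∀ u ∈ Um n, u₀ * n * u ∈ F → u₀ ∈ F ∧ n ∈ F ∧ u ∈ F
  fixN : ∀ n ∈ N, n ∈ F → n ∈ H ∨ L n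
  G1_le_F : G1 ≤ F
  fixU_le : ∀ x ∈ U, x ∈ F → x ∈ G1
  exists_nonB : ∃ x ∈ G1, ∀ u ∈ U, ∀ h ∈ H, x ≠ u * h
  U1_ne : ∃ u ∈ U, u ∈ F ∧ u ≠ 1

namespace TwData

variable {G : Type*} [Group G] (T : TwData G)

/-- `U ∩ H = 1`. -/
theorem U_inf_H (x : G) (hU : x ∈ T.U) (hH : x ∈ T.H) : x = 1 := by
  have h1 : (1 : G) ∈ T.Um 1 := one_mem _
  have h2 : (1 : G) ∈ T.Um x := one_mem _
  have := T.uniq x 1 1 x 1 1 hU (one_mem _) (one_mem _) (T.H_le_N hH) h1 h2 (by group)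
  exact this.1

/-- `B ∩ N = H`: an element of `N` of the form `u h` lies in `H`. -/
theorem N_inf_B (n u h : G) (hn : n ∈ T.N) (hu : u ∈ T.U) (hh : h ∈ T.H) (e : n = u * h) : n ∈ T.H := by
  have h1 : (1 : G) ∈ T.Um n := one_mem _
  have h2 : (1 : G) ∈ T.Um h := one_mem _
  have := T.uniq 1 u n h 1 1 (one_mem _) hu hn (T.H_le_N hh) h1 h2 (by rw [e]; group)
  rw [this.2.1]; exact hh

/-- A long element is not in `H` (as `U ∩ F ≠ 1`). -/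
theorem long_not_mem_H (n : G) (hn : n ∈ T.N) (hl : T.L n) : n ∉ T.H := by
  intro hH
  obtain ⟨u, hu, -, hne⟩ := T.U1_ne
  have : u ∈ T.Um n := by rw [T.L_Um n hn hl]; exact hu
  rw [T.Um_H n hH, Subgroup.mem_bot] at this
  exact hne this

/-- The normal form of an element of `G¹` has all its factors in `G¹`. -/
theorem G1_form (x : G) (hx : x ∈ T.G1) :
    ∃ u₀ ∈ T.U, ∃ n ∈ T.N, ∃ u ∈ T.Um n, x = u₀ * n * u ∧ u₀ ∈ T.G1 ∧ n ∈ T.G1 ∧ u ∈ T.G1 := by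
  obtain ⟨u₀, hu₀, n, hn, u, hu, e⟩ := T.ex x (T.G1_le_F hx)
  obtain ⟨f1, f2, f3⟩ := T.F_form u₀ hu₀ n hn u hu (by rw [← e]; exact T.G1_le_F hx)
  have g1 : u₀ ∈ T.G1 := T.fixU_le u₀ hu₀ f1
  have g3 : u ∈ T.G1 := T.fixU_le u (T.Um_le n hu) f3
  have g2 : n ∈ T.G1 := by
    have : n = u₀⁻¹ * x * u⁻¹ := by rw [e]; group
    rw [this]
    exact mul_mem (mul_mem (inv_mem g1) hx) (inv_mem g3)
  exact ⟨u₀, hu₀, n, hn, u, hu, e, g1, g2, g3⟩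

/-- Elements of `N ∩ G¹` are in `H` or long. -/
theorem N1_cases (n : G) (hn : n ∈ T.N) (hn1 : n ∈ T.G1) : n ∈ T.H ∨ T.L n :=
  T.fixN n hn (T.G1_le_F hn1)

/-- There is a long element in `N ∩ G¹`. -/
theorem exists_long : ∃ n₀ ∈ T.N, n₀ ∈ T.G1 ∧ T.L n₀ := by
  obtain ⟨x, hx, hxB⟩ := T.exists_nonB
  obtain ⟨u₀, hu₀, n, hn, u, hu, e, g1, g2, g3⟩ := T.G1_form x hx
  rcases T.N1_cases n hn g2 with hH | hl
  · exfalso
    have hu1 : u = 1 := by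
      have := hu
      rw [T.Um_H n hH, Subgroup.mem_bot] at this
      exact this
    exact hxB u₀ hu₀ n hH (by rw [e, hu1, mul_one])
  · exact ⟨n, hn, g2, hl⟩

/-- An element `u h` of `G¹` has both factors in `G¹`. -/
theorem B1_factors (u h : G) (hu : u ∈ T.U) (hh : h ∈ T.H) (hx : u * h ∈ T.G1) : u ∈ T.G1 ∧ h ∈ T.G1 := by
  obtain ⟨u₀, hu₀, n, hn, u', hu', e, g1, g2, g3⟩ := T.G1_form (u * h) hx
  have h2 : (1 : G) ∈ T.Um h := one_mem _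
  have := T.uniq u u₀ h n 1 u' hu hu₀ (T.H_le_N hh) hn h2 hu' (by rw [← e]; group)
  rw [this.1, this.2.1]
  exact ⟨g1, g2⟩

/-- For a long `n` and `u ∈ U`, if `n u n⁻¹` is of the form `u' h` then `u = 1`. -/
theorem long_conj_not_B (n u u' h : G) (hn : n ∈ T.N) (hl : T.L n) (hu : u ∈ T.U) (hu' : u' ∈ T.U)
    (hh : h ∈ T.H) (e : n * u * n⁻¹ = u' * h) : u = 1 := by
  have h1 := T.V_inf_B _ (T.long_conj n hn hl u hu) u' hu' h hh e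
  have : u = n⁻¹ * (n * u * n⁻¹) * n := by group
  rw [this, h1]; group

/-- The square of a long element lies in `H`. -/
theorem long_sq (n : G) (hn : n ∈ T.N) (hl : T.L n) : n * n ∈ T.H := by
  have := T.long_div n⁻¹ (inv_mem hn) n hn (T.long_inv n hn hl) hl
  rwa [inv_inv] at this

/-- The Borel subgroup `B = U H`. -/
def B : Subgroup G := T.U ⊔ T.H

theorem mem_B_iff (x : G) : x ∈ T.B ↔ ∃ u ∈ T.U, ∃ h ∈ T.H, x = u * h := by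
  constructor
  · intro hx
    have hN : T.H ≤ Subgroup.normalizer (T.U : Set G) := by
      intro h hh
      rw [Subgroup.mem_normalizer_iff]
      intro u
      constructor
      · intro hu; exact T.H_norm_U h hh u hu
      · intro hu
        have := T.H_norm_U h⁻¹ (inv_mem hh) _ hu
        have e : h⁻¹ * (h * u * h⁻¹) * h⁻¹⁻¹ = u := by group
        rwa [e] at this
    have : (T.B : Set G) = (T.U : Set G) * (T.H : Set G) := by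
      unfold B
      rw [Subgroup.coe_mul_of_right_le_normalizer_left]
      exact hN
    have hx' : x ∈ (T.B : Set G) := hx
    rw [this, Set.mem_mul] at hx'
    obtain ⟨u, hu, h, hh, rfl⟩ := hx'
    exact ⟨u, hu, h, hh, rfl⟩
  · rintro ⟨u, hu, h, hh, rfl⟩
    exact mul_mem (Subgroup.mem_sup_left hu) (Subgroup.mem_sup_right hh)

theorem H_le_B : T.H ≤ T.B := le_sup_right
theorem U_le_B : T.U ≤ T.B := le_sup_left

/-- A long element is not in `B`. -/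
theorem long_not_mem_B (n : G) (hn : n ∈ T.N) (hl : T.L n) : n ∉ T.B := by
  intro hB
  obtain ⟨u, hu, h, hh, e⟩ := (T.mem_B_iff n).mp hB
  exact T.long_not_mem_H n hn hl (T.N_inf_B n u h hn hu hh e)

/-- `B ∩ G¹ = (U ∩ G¹)(H ∩ G¹)`. -/
theorem B1_factors' (x : G) (hx : x ∈ T.B) (hx1 : x ∈ T.G1) :
    ∃ u ∈ T.U, ∃ h ∈ T.H, x = u * h ∧ u ∈ T.G1 ∧ h ∈ T.G1 := by
  obtain ⟨u, hu, h, hh, rfl⟩ := (T.mem_B_iff x).mp hx
  obtain ⟨a, b⟩ := T.B1_factors u h hu hh hx1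
  exact ⟨u, hu, h, hh, rfl, a, b⟩

/-- `G¹ = B¹ ∪ B¹ n₀ U¹` for a long `n₀ ∈ N ∩ G¹`. -/
theorem G1_cases (n₀ : G) (hn₀ : n₀ ∈ T.N) (hn₀1 : n₀ ∈ T.G1) (hl₀ : T.L n₀) (x : G) (hx : x ∈ T.G1) :
    x ∈ T.B ∨ ∃ u₀ ∈ T.U, ∃ h ∈ T.H, ∃ u ∈ T.U, u₀ ∈ T.G1 ∧ h ∈ T.G1 ∧ u ∈ T.G1 ∧ x = u₀ * h * n₀ * u := by
  obtain ⟨u₀, hu₀, n, hn, u, hu, e, g1, g2, g3⟩ := T.G1_form x hx
  rcases T.N1_cases n hn g2 with hH | hl
  · left
    have hu1 : u = 1 := by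
      have := hu
      rw [T.Um_H n hH, Subgroup.mem_bot] at this
      exact this
    rw [e, hu1, mul_one]
    exact (T.mem_B_iff _).mpr ⟨u₀, hu₀, n, hH, rfl⟩
  · right
    have hh : n * n₀⁻¹ ∈ T.H := by
      have := T.long_div n⁻¹ (inv_mem hn) n₀⁻¹ (inv_mem hn₀) (T.long_inv n hn hl) (T.long_inv n₀ hn₀ hl₀)
      rwa [inv_inv] at this
    refine ⟨u₀, hu₀, n * n₀⁻¹, hh, u, T.Um_le n hu, g1, mul_mem g2 (inv_mem hn₀1), g3, ?_⟩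
    rw [e]; group

end TwData

end Cfsg.Agent.Lib.Helper19.ReeAbs
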