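/-
helper19: abstract twisted rank-one machine, part B: the (B, N)-pair of `G¹`, the Weyl group `N¹ / H¹ ≅ ℤ/2`,
the triviality of the core of `B¹`, and `(H ∩ F)² ⊆ G¹`.
-/
import Cfsg.Agent.Lib.Helper19.ReeAbsA
import Cfsg.Prelude.Def_LieExceptional

set_option autoImplicit false

open Pointwise

namespace Cfsg.Agent.Lib.Helper19.ReeAbs

/-- A (B, N)-pair of rank one from elementwise hypotheses. -/
theorem bnPair_rank_one {Γ : Type*} [Group Γ] (B N : Subgroup Γ) (s : Γ) (hs : s ∈ N) (hs2 : s * s ∈ B)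
    (hN : ∀ n ∈ N, n ∈ B ∨ s⁻¹ * n ∈ B) (hnorm : ∀ n ∈ N, ∀ t ∈ B ⊓ N, n * t * n⁻¹ ∈ B)
    (hG : ∀ g : Γ, g ∈ B ∨ ∃ b ∈ B, ∃ b' ∈ B, g = b * s * b') (hne : ∃ b ∈ B, s * b * s ∉ B) :
    ∃ P : Cfsg.BNPair Γ, P.B = B ∧ P.N = N ∧ P.S = {s} := by
  refine ⟨{ B := B, N := N, S := {s}, sup_eq_top := ?_, conj_mem := hnorm, subset := ?_, sq_mem := ?_, inj := ?_,
            closure_sup := ?_, mul_mem_union := ?_, conj_ne := ?_ }, rfl, rfl, rfl⟩
  · rw [eq_top_iff]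
    intro g _
    rcases hG g with h | ⟨b, hb, b', hb', rfl⟩
    · exact Subgroup.mem_sup_left h
    · exact mul_mem (mul_mem (Subgroup.mem_sup_left hb) (Subgroup.mem_sup_right hs)) (Subgroup.mem_sup_left hb')
  · intro x hx
    rw [Set.mem_singleton_iff] at hx
    rw [hx]; exact hs
  · intro x hx
    rw [Set.mem_singleton_iff] at hx
    rw [hx]; exact hs2
  · intro x hx y hy _
    rw [Set.mem_singleton_iff] at hx hy
    rw [hx, hy]
  · apply le_antisymm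
    · apply sup_le
      · rw [Subgroup.closure_le]
        intro x hx
        rw [Set.mem_singleton_iff] at hx
        rw [hx]; exact hs
      · exact inf_le_right
    · intro n hn
      rcases hN n hn with h | h
      · exact Subgroup.mem_sup_right (Subgroup.mem_inf.mpr ⟨h, hn⟩)
      · have e : n = s * (s⁻¹ * n) := by group
        rw [e]
        exact mul_mem (Subgroup.mem_sup_left (Subgroup.subset_closure (Set.mem_singleton s)))
          (Subgroup.mem_sup_right (Subgroup.mem_inf.mpr ⟨h, mul_mem (inv_mem hs) hn⟩))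
  · intro x hx n hn b hb
    rw [Set.mem_singleton_iff] at hx
    subst hx
    rcases hN n hn with h | h
    · left
      rw [DoubleCoset.mem_doubleCoset]
      refine ⟨1, one_mem _, n⁻¹ * b * n, mul_mem (mul_mem (inv_mem h) hb) h, ?_⟩
      group
    · -- `n = x t` with `t ∈ B`
      rcases hG (x * b * x) with h' | ⟨b₁, hb₁, b₂, hb₂, e⟩
      · left
        rw [DoubleCoset.mem_doubleCoset]
        refine ⟨x * b * n * (x * n)⁻¹, ?_, 1, one_mem _, by group⟩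
        have e : x * b * n * (x * n)⁻¹ = (x * b * x) * (x * x)⁻¹ := by group
        rw [e]
        exact mul_mem h' (inv_mem hs2)
      · right
        rw [DoubleCoset.mem_doubleCoset]
        refine ⟨b₁, hb₁, (x⁻¹ * n)⁻¹ * b₂ * (x⁻¹ * n), mul_mem (mul_mem (inv_mem h) hb₂) h, ?_⟩
        have e1 : x * b * n = (x * b * x) * (x⁻¹ * n) := by group
        rw [e1, e]
        group
  · intro x hx
    rw [Set.mem_singleton_iff] at hx
    subst hx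
    intro h
    obtain ⟨b, hb, hnb⟩ := hne
    have : x * b * x ∈ (fun b : Γ => x * b * x) '' (B : Set Γ) := ⟨b, hb, rfl⟩
    rw [h] at this
    exact hnb this

/-- A subgroup `K` with `Γ = K ∪ sK` (`s ∉ K`), normalised by `s`, is the kernel of a surjection onto `ℤ/2`. -/
theorem exists_hom_zmod_two {Γ : Type*} [Group Γ] (K : Subgroup Γ) (s : Γ) (hsK : s ∉ K)
    (hcases : ∀ n : Γ, n ∈ K ∨ s⁻¹ * n ∈ K) (hnorm : ∀ k ∈ K, s⁻¹ * k * s ∈ K) :
    ∃ φ : Γ →* Multiplicative (ZMod 2), Function.Surjective φ ∧ φ.ker = K := by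
  classical
  have hss : s * s ∈ K := by
    rcases hcases (s * s) with h | h
    · exact h
    · exfalso; apply hsK
      have e : s⁻¹ * (s * s) = s := by group
      rwa [e] at h
  have key : ∀ g g' : Γ, g ∉ K → g' ∉ K → g * g' ∈ K := by
    intro g g' hg hg'
    have h1 : s⁻¹ * g ∈ K := (hcases g).resolve_left hg
    have h2 : s⁻¹ * g' ∈ K := (hcases g').resolve_left hg'
    have e : g * g' = (s * s) * (s⁻¹ * (s⁻¹ * g) * s) * (s⁻¹ * g') := by group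
    rw [e]
    exact mul_mem (mul_mem hss (hnorm _ h1)) h2
  have h11 : (Multiplicative.ofAdd (1 : ZMod 2)) * Multiplicative.ofAdd (1 : ZMod 2) = 1 := by decide
  have hne : (Multiplicative.ofAdd (1 : ZMod 2)) ≠ 1 := by decide
  let φ : Γ →* Multiplicative (ZMod 2) :=
    { toFun := fun g => if g ∈ K then 1 else Multiplicative.ofAdd (1 : ZMod 2)
      map_one' := by simp [K.one_mem]
      map_mul' := by
        intro g g'
        by_cases hg : g ∈ K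
        · by_cases hg' : g' ∈ K
          · simp [hg, hg', K.mul_mem hg hg']
          · have : g * g' ∉ K := fun h => hg' (by
              have e : g' = g⁻¹ * (g * g') := by group
              rw [e]; exact mul_mem (inv_mem hg) h)
            simp [hg, hg', this]
        · by_cases hg' : g' ∈ K
          · have : g * g' ∉ K := fun h => hg (by
              have e : g = (g * g') * g'⁻¹ := by group
              rw [e]; exact mul_mem h (inv_mem hg'))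
            simp [hg, hg', this]
          · simp only [hg, hg', key g g' hg hg', if_true, if_false]
            exact h11.symm }
  have hφK : ∀ g, g ∈ K → φ g = 1 := by
    intro g hg
    show (if g ∈ K then 1 else Multiplicative.ofAdd (1 : ZMod 2)) = 1
    rw [if_pos hg]
  have hφnK : ∀ g, g ∉ K → φ g = Multiplicative.ofAdd (1 : ZMod 2) := by
    intro g hg
    show (if g ∈ K then 1 else Multiplicative.ofAdd (1 : ZMod 2)) = _
    rw [if_neg hg]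
  refine ⟨φ, ?_, ?_⟩
  · intro x
    have hx : x = 1 ∨ x = Multiplicative.ofAdd (1 : ZMod 2) := by
      revert x; decide
    rcases hx with rfl | rfl
    · exact ⟨1, map_one _⟩
    · exact ⟨s, hφnK s hsK⟩
  · ext g
    rw [MonoidHom.mem_ker]
    constructor
    · intro h
      by_contra hg
      rw [hφnK g hg] at h
      exact hne h
    · exact hφK g

namespace TwData

variable {G : Type*} [Group G] (T : TwData G)

/-- `n₀⁻¹ h n₀ = h⁻¹` for long `n₀`. -/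
theorem long_inverts' (n : G) (hn : n ∈ T.N) (hl : T.L n) (h : G) (hh : h ∈ T.H) : n⁻¹ * h * n = h⁻¹ := by
  have := T.long_inverts n⁻¹ (inv_mem hn) (T.long_inv n hn hl) h hh
  rwa [inv_inv] at this

/-- The (B, N)-pair of `G¹`. -/
theorem exists_bnPair : ∃ P : Cfsg.BNPair ↥T.G1, P.B = ((T.U ⊔ T.H) ⊓ T.G1).subgroupOf T.G1 ∧
    P.N = (T.N ⊓ T.G1).subgroupOf T.G1 := by
  obtain ⟨n₀, hn₀, hn₀1, hl₀⟩ := T.exists_long
  have hBdef : T.U ⊔ T.H = T.B := rfl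
  rw [hBdef]
  suffices hsuff : ∃ P : Cfsg.BNPair ↥T.G1, P.B = (T.B ⊓ T.G1).subgroupOf T.G1 ∧
      P.N = (T.N ⊓ T.G1).subgroupOf T.G1 ∧ P.S = {(⟨n₀, hn₀1⟩ : ↥T.G1)} by
    obtain ⟨P, hB, hN, -⟩ := hsuff
    exact ⟨P, hB, hN⟩
  apply bnPair_rank_one ((T.B ⊓ T.G1).subgroupOf T.G1) ((T.N ⊓ T.G1).subgroupOf T.G1) (⟨n₀, hn₀1⟩ : ↥T.G1)
  · rw [Subgroup.mem_subgroupOf]
    exact Subgroup.mem_inf.mpr ⟨hn₀, hn₀1⟩
  · rw [Subgroup.mem_subgroupOf]
    exact Subgroup.mem_inf.mpr ⟨T.H_le_B (T.long_sq n₀ hn₀ hl₀), mul_mem hn₀1 hn₀1⟩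
  · rintro ⟨n, hn1⟩ hn
    rw [Subgroup.mem_subgroupOf] at hn
    have hnN : n ∈ T.N := (Subgroup.mem_inf.mp hn).1
    rcases T.N1_cases n hnN hn1 with h | h
    · left
      rw [Subgroup.mem_subgroupOf]
      exact Subgroup.mem_inf.mpr ⟨T.H_le_B h, hn1⟩
    · right
      rw [Subgroup.mem_subgroupOf]
      exact Subgroup.mem_inf.mpr ⟨T.H_le_B (T.long_div n₀ hn₀ n hnN hl₀ h), mul_mem (inv_mem hn₀1) hn1⟩
  · rintro ⟨n, hn1⟩ hn ⟨t, ht1⟩ ht
    rw [Subgroup.mem_subgroupOf] at hn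
    rw [Subgroup.mem_inf, Subgroup.mem_subgroupOf, Subgroup.mem_subgroupOf] at ht
    rw [Subgroup.mem_subgroupOf]
    have hnN : n ∈ T.N := (Subgroup.mem_inf.mp hn).1
    have htB : t ∈ T.B := (Subgroup.mem_inf.mp ht.1).1
    have htN : t ∈ T.N := (Subgroup.mem_inf.mp ht.2).1
    obtain ⟨u, hu, h, hh, e⟩ := (T.mem_B_iff t).mp htB
    have htH : t ∈ T.H := T.N_inf_B t u h htN hu hh e
    exact Subgroup.mem_inf.mpr ⟨T.H_le_B (T.N_norm_H n hnN t htH), mul_mem (mul_mem hn1 ht1) (inv_mem hn1)⟩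
  · rintro ⟨x, hx1⟩
    rcases T.G1_cases n₀ hn₀ hn₀1 hl₀ x hx1 with h | ⟨u₀, hu₀, h, hh, u, hu, g1, g2, g3, e⟩
    · left
      rw [Subgroup.mem_subgroupOf]
      exact Subgroup.mem_inf.mpr ⟨h, hx1⟩
    · right
      refine ⟨⟨u₀ * h, mul_mem g1 g2⟩, ?_, ⟨u, g3⟩, ?_, ?_⟩
      · rw [Subgroup.mem_subgroupOf]
        exact Subgroup.mem_inf.mpr ⟨mul_mem (T.U_le_B hu₀) (T.H_le_B hh), mul_mem g1 g2⟩
      · rw [Subgroup.mem_subgroupOf]
        exact Subgroup.mem_inf.mpr ⟨T.U_le_B hu, g3⟩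
      · apply Subtype.ext
        exact e
  · obtain ⟨u, hu, huF, hne⟩ := T.U1_ne
    have hu1 : u ∈ T.G1 := T.fixU_le u hu huF
    refine ⟨⟨u, hu1⟩, ?_, ?_⟩
    · rw [Subgroup.mem_subgroupOf]
      exact Subgroup.mem_inf.mpr ⟨T.U_le_B hu, hu1⟩
    · rw [Subgroup.mem_subgroupOf]
      intro hB
      have hB' : n₀ * u * n₀ ∈ T.B := (Subgroup.mem_inf.mp hB).1
      have h2 : n₀ * u * n₀⁻¹ ∈ T.B := by
        have e : n₀ * u * n₀⁻¹ = (n₀ * u * n₀) * (n₀ * n₀)⁻¹ := by group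
        rw [e]
        exact mul_mem hB' (inv_mem (T.H_le_B (T.long_sq n₀ hn₀ hl₀)))
      obtain ⟨u', hu', h', hh', e⟩ := (T.mem_B_iff _).mp h2
      exact hne (T.long_conj_not_B n₀ u u' h' hn₀ hl₀ hu hu' hh' e)

/-- The Weyl group of `G¹` has order two. -/
theorem exists_weyl_hom : ∃ φ : ↥(T.N ⊓ T.G1) →* Multiplicative (ZMod 2), Function.Surjective φ ∧
    φ.ker = (T.H ⊓ T.G1).subgroupOf (T.N ⊓ T.G1) := by
  obtain ⟨n₀, hn₀, hn₀1, hl₀⟩ := T.exists_long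
  apply exists_hom_zmod_two ((T.H ⊓ T.G1).subgroupOf (T.N ⊓ T.G1))
    (⟨n₀, Subgroup.mem_inf.mpr ⟨hn₀, hn₀1⟩⟩ : ↥(T.N ⊓ T.G1))
  · rw [Subgroup.mem_subgroupOf]
    intro h
    exact T.long_not_mem_H n₀ hn₀ hl₀ (Subgroup.mem_inf.mp h).1
  · rintro ⟨n, hn⟩
    have hnN : n ∈ T.N := (Subgroup.mem_inf.mp hn).1
    have hn1 : n ∈ T.G1 := (Subgroup.mem_inf.mp hn).2
    rcases T.N1_cases n hnN hn1 with h | h
    · left
      rw [Subgroup.mem_subgroupOf]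
      exact Subgroup.mem_inf.mpr ⟨h, hn1⟩
    · right
      rw [Subgroup.mem_subgroupOf]
      exact Subgroup.mem_inf.mpr ⟨T.long_div n₀ hn₀ n hnN hl₀ h, mul_mem (inv_mem hn₀1) hn1⟩
  · rintro ⟨k, hk⟩ hkH
    rw [Subgroup.mem_subgroupOf] at hkH ⊢
    have hkH' : k ∈ T.H := (Subgroup.mem_inf.mp hkH).1
    have hk1 : k ∈ T.G1 := (Subgroup.mem_inf.mp hkH).2
    refine Subgroup.mem_inf.mpr ⟨?_, mul_mem (mul_mem (inv_mem hn₀1) hk1) hn₀1⟩
    show n₀⁻¹ * k * n₀ ∈ T.H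
    have := T.N_norm_H n₀⁻¹ (inv_mem hn₀) k hkH'
    rwa [inv_inv] at this

/-- An element of the core of `B¹` lies in `H`. -/
theorem core_mem_H (x : ↥T.G1) (hx : x ∈ ((T.B ⊓ T.G1).subgroupOf T.G1).normalCore) : (x : G) ∈ T.H := by
  obtain ⟨n₀, hn₀, hn₀1, hl₀⟩ := T.exists_long
  have h1 : x ∈ (T.B ⊓ T.G1).subgroupOf T.G1 := Subgroup.normalCore_le _ hx
  rw [Subgroup.mem_subgroupOf] at h1
  obtain ⟨u, hu, h, hh, e, -, -⟩ := T.B1_factors' (x : G) (Subgroup.mem_inf.mp h1).1 x.2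
  have h2 := hx ⟨n₀, hn₀1⟩
  rw [Subgroup.mem_subgroupOf] at h2
  have h3 : n₀ * (x : G) * n₀⁻¹ ∈ T.B := (Subgroup.mem_inf.mp h2).1
  have h4 : n₀ * u * n₀⁻¹ ∈ T.B := by
    have e' : n₀ * u * n₀⁻¹ = (n₀ * (x : G) * n₀⁻¹) * (n₀ * h * n₀⁻¹)⁻¹ := by rw [e]; group
    rw [e']
    exact mul_mem h3 (inv_mem (T.H_le_B (T.N_norm_H n₀ hn₀ h hh)))
  obtain ⟨u', hu', h', hh', e''⟩ := (T.mem_B_iff _).mp h4
  have hu1 : u = 1 := T.long_conj_not_B n₀ u u' h' hn₀ hl₀ hu hu' hh' e''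
  rw [e, hu1, one_mul]
  exact hh

/-- The core of `B¹` in `G¹` is trivial, if `H¹` acts faithfully on `U¹`. -/
theorem core_trivial (hfaith : ∀ h ∈ T.H, h ∈ T.G1 → (∀ u ∈ T.U, u ∈ T.G1 → h * u = u * h) → h = 1) :
    ((T.B ⊓ T.G1).subgroupOf T.G1).normalCore = ⊥ := by
  rw [eq_bot_iff]
  intro x hx
  rw [Subgroup.mem_bot]
  apply Subtype.ext
  show (x : G) = 1
  have hxH : (x : G) ∈ T.H := T.core_mem_H x hx
  apply hfaith (x : G) hxH x.2
  intro u hu hu1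
  -- `u x u⁻¹` is in the core, hence in `H`
  have h1 : (⟨u, hu1⟩ : ↥T.G1) * x * (⟨u, hu1⟩ : ↥T.G1)⁻¹ ∈ ((T.B ⊓ T.G1).subgroupOf T.G1).normalCore :=
    (Subgroup.normalCore_normal _).conj_mem x hx _
  have h2 : u * (x : G) * u⁻¹ ∈ T.H := T.core_mem_H _ h1
  have h3 := T.uniq u ((u * (x : G) * u⁻¹) * u * (u * (x : G) * u⁻¹)⁻¹) (x : G) (u * (x : G) * u⁻¹) 1 1 hu
    (T.H_norm_U _ h2 u hu) (T.H_le_N hxH) (T.H_le_N h2) (one_mem _) (one_mem _) (by group)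
  have h4 : (x : G) = u * (x : G) * u⁻¹ := h3.2.1
  calc (x : G) * u = (u * (x : G) * u⁻¹) * u := by rw [← h4]
    _ = u * (x : G) := by group

/-- The squares of the elements of `H ∩ F` lie in `G¹`. -/
theorem sq_mem_G1 (h : G) (hh : h ∈ T.H) (hF : h ∈ T.F) : h * h ∈ T.G1 := by
  obtain ⟨n₀, hn₀, hn₀1, hl₀⟩ := T.exists_long
  obtain ⟨u, hu, huF, hne⟩ := T.U1_ne
  have hu1 : u ∈ T.G1 := T.fixU_le u hu huF
  have hy1 : n₀ * u * n₀⁻¹ ∈ T.G1 := mul_mem (mul_mem hn₀1 hu1) (inv_mem hn₀1)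
  rcases T.G1_cases n₀ hn₀ hn₀1 hl₀ _ hy1 with hB | ⟨u₁, hu₁, h₁, hh₁, u₂, hu₂, g1, g2, g3, e⟩
  · exfalso
    obtain ⟨u', hu', h', hh', e⟩ := (T.mem_B_iff _).mp hB
    exact hne (T.long_conj_not_B n₀ u u' h' hn₀ hl₀ hu hu' hh' e)
  · -- conjugate by `h`
    have hinv : n₀⁻¹ * h * n₀ = h⁻¹ := T.long_inverts' n₀ hn₀ hl₀ h hh
    have hinv2 : n₀ * h⁻¹ * n₀⁻¹ = h := by
      have := T.long_inverts n₀ hn₀ hl₀ h⁻¹ (inv_mem hh)
      rwa [inv_inv] at this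
    have c1 : h * (n₀ * u * n₀⁻¹) * h⁻¹ = n₀ * (h⁻¹ * u * h) * n₀⁻¹ := by
      have e1 : h * (n₀ * u * n₀⁻¹) * h⁻¹ = n₀ * ((n₀⁻¹ * h * n₀) * u * (n₀⁻¹ * h * n₀)⁻¹) * n₀⁻¹ := by group
      rw [e1, hinv, inv_inv]
    have m1 : h⁻¹ * u * h ∈ T.G1 := by
      apply T.fixU_le
      · have := T.H_norm_U h⁻¹ (inv_mem hh) u hu
        rwa [inv_inv] at this
      · exact mul_mem (mul_mem (inv_mem hF) huF) hF
    have m2 : h * (n₀ * u * n₀⁻¹) * h⁻¹ ∈ T.G1 := by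
      rw [c1]; exact mul_mem (mul_mem hn₀1 m1) (inv_mem hn₀1)
    have m3 : h * u₁ * h⁻¹ ∈ T.G1 :=
      T.fixU_le _ (T.H_norm_U h hh u₁ hu₁) (mul_mem (mul_mem hF (T.G1_le_F g1)) (inv_mem hF))
    have m4 : h * u₂ * h⁻¹ ∈ T.G1 :=
      T.fixU_le _ (T.H_norm_U h hh u₂ hu₂) (mul_mem (mul_mem hF (T.G1_le_F g3)) (inv_mem hF))
    have c2 : h * (n₀ * u * n₀⁻¹) * h⁻¹ = (h * u₁ * h⁻¹) * (h * h * h₁ * n₀) * (h * u₂ * h⁻¹) := by
      rw [e]
      have e2 : h * (u₁ * h₁ * n₀ * u₂) * h⁻¹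
          = (h * u₁ * h⁻¹) * (h * h₁ * (n₀ * h⁻¹ * n₀⁻¹) * n₀) * (h * u₂ * h⁻¹) := by group
      rw [e2, hinv2]
      have e3 : h * h₁ * h = h * h * h₁ := by
        rw [mul_assoc, T.H_comm h₁ hh₁ h hh, ← mul_assoc]
      rw [e3]
    have m5 : h * h * h₁ * n₀ ∈ T.G1 := by
      have e4 : h * h * h₁ * n₀ = (h * u₁ * h⁻¹)⁻¹ * (h * (n₀ * u * n₀⁻¹) * h⁻¹) * (h * u₂ * h⁻¹)⁻¹ := by
        rw [c2]; group
      rw [e4]
      exact mul_mem (mul_mem (inv_mem m3) m2) (inv_mem m4)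
    have e5 : h * h = (h * h * h₁ * n₀) * n₀⁻¹ * h₁⁻¹ := by group
    rw [e5]
    exact mul_mem (mul_mem m5 (inv_mem hn₀1)) (inv_mem g2)

end TwData

end Cfsg.Agent.Lib.Helper19.ReeAbs
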