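/-
helper19: abstract twisted rank-one machine, part C: the order of `G¹`, perfectness and simplicity.
-/
import Cfsg.Agent.Lib.Helper19.ReeAbsB

set_option autoImplicit false

open Pointwise
open scoped commutatorElement

namespace Cfsg.Agent.Lib.Helper19.ReeAbs

namespace TwData

variable {G : Type*} [Group G] (T : TwData G)

/-- `|G¹| = |U¹| |H¹| (|U¹| + 1)`. -/
theorem card_G1 [Finite G] : Nat.card ↥T.G1 =
    Nat.card ↥(T.U ⊓ T.G1) * Nat.card ↥(T.H ⊓ T.G1) * (Nat.card ↥(T.U ⊓ T.G1) + 1) := by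
  obtain ⟨n₀, hn₀, hn₀1, hl₀⟩ := T.exists_long
  let f : (↥(T.U ⊓ T.G1) × ↥(T.H ⊓ T.G1)) ⊕ (↥(T.U ⊓ T.G1) × ↥(T.H ⊓ T.G1) × ↥(T.U ⊓ T.G1)) → ↥T.G1 :=
    fun z => match z with
      | Sum.inl p => ⟨(p.1 : G) * (p.2 : G), mul_mem (Subgroup.mem_inf.mp p.1.2).2 (Subgroup.mem_inf.mp p.2.2).2⟩
      | Sum.inr p => ⟨(p.1 : G) * (p.2.1 : G) * n₀ * (p.2.2 : G),
          mul_mem (mul_mem (mul_mem (Subgroup.mem_inf.mp p.1.2).2 (Subgroup.mem_inf.mp p.2.1.2).2) hn₀1)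
            (Subgroup.mem_inf.mp p.2.2.2).2⟩
  have hlong : ∀ h ∈ T.H, T.L (h * n₀) := fun h hh => T.long_mul_H n₀ hn₀ hl₀ h hh
  have hUm : ∀ h ∈ T.H, T.Um (h * n₀) = T.U := fun h hh =>
    T.L_Um _ (mul_mem (T.H_le_N hh) hn₀) (hlong h hh)
  have hf : Function.Bijective f := by
    constructor
    · rintro (⟨⟨u, hu⟩, ⟨h, hh⟩⟩ | ⟨⟨u₀, hu₀⟩, ⟨h, hh⟩, ⟨u, hu⟩⟩) (⟨⟨u', hu'⟩, ⟨h', hh'⟩⟩ | ⟨⟨u₀', hu₀'⟩, ⟨h', hh'⟩, ⟨u', hu'⟩⟩) e
      · have e' : u * h = u' * h' := congrArg Subtype.val e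
        have := T.uniq u u' h h' 1 1 (Subgroup.mem_inf.mp hu).1 (Subgroup.mem_inf.mp hu').1
          (T.H_le_N (Subgroup.mem_inf.mp hh).1) (T.H_le_N (Subgroup.mem_inf.mp hh').1) (one_mem _) (one_mem _)
          (by rw [mul_one, mul_one]; exact e')
        obtain ⟨a, b, -⟩ := this
        subst a; subst b; rfl
      · exfalso
        have e' : u * h = u₀' * h' * n₀ * u' := congrArg Subtype.val e
        have hh'H := (Subgroup.mem_inf.mp hh').1
        have hu'm : u' ∈ T.Um (h' * n₀) := by rw [hUm h' hh'H]; exact (Subgroup.mem_inf.mp hu').1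
        have := T.uniq u u₀' h (h' * n₀) 1 u' (Subgroup.mem_inf.mp hu).1 (Subgroup.mem_inf.mp hu₀').1
          (T.H_le_N (Subgroup.mem_inf.mp hh).1) (mul_mem (T.H_le_N hh'H) hn₀) (one_mem _) hu'm
          (by rw [mul_one, e']; group)
        apply T.long_not_mem_H (h' * n₀) (mul_mem (T.H_le_N hh'H) hn₀) (hlong h' hh'H)
        rw [← this.2.1]
        exact (Subgroup.mem_inf.mp hh).1
      · exfalso
        have e' : u₀ * h * n₀ * u = u' * h' := congrArg Subtype.val e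
        have hhH := (Subgroup.mem_inf.mp hh).1
        have hum : u ∈ T.Um (h * n₀) := by rw [hUm h hhH]; exact (Subgroup.mem_inf.mp hu).1
        have := T.uniq u' u₀ h' (h * n₀) 1 u (Subgroup.mem_inf.mp hu').1 (Subgroup.mem_inf.mp hu₀).1
          (T.H_le_N (Subgroup.mem_inf.mp hh').1) (mul_mem (T.H_le_N hhH) hn₀) (one_mem _) hum
          (by rw [mul_one, ← e']; group)
        apply T.long_not_mem_H (h * n₀) (mul_mem (T.H_le_N hhH) hn₀) (hlong h hhH)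
        rw [← this.2.1]
        exact (Subgroup.mem_inf.mp hh').1
      · have e' : u₀ * h * n₀ * u = u₀' * h' * n₀ * u' := congrArg Subtype.val e
        have hhH := (Subgroup.mem_inf.mp hh).1
        have hh'H := (Subgroup.mem_inf.mp hh').1
        have hum : u ∈ T.Um (h * n₀) := by rw [hUm h hhH]; exact (Subgroup.mem_inf.mp hu).1
        have hu'm : u' ∈ T.Um (h' * n₀) := by rw [hUm h' hh'H]; exact (Subgroup.mem_inf.mp hu').1
        have := T.uniq u₀ u₀' (h * n₀) (h' * n₀) u u' (Subgroup.mem_inf.mp hu₀).1 (Subgroup.mem_inf.mp hu₀').1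
          (mul_mem (T.H_le_N hhH) hn₀) (mul_mem (T.H_le_N hh'H) hn₀) hum hu'm
          (by rw [← mul_assoc, ← mul_assoc, e'])
        obtain ⟨a, b, c⟩ := this
        have b' : h = h' := mul_right_cancel b
        subst a; subst b'; subst c; rfl
    · rintro ⟨x, hx⟩
      rcases T.G1_cases n₀ hn₀ hn₀1 hl₀ x hx with hB | ⟨u₀, hu₀, h, hh, u, hu, g1, g2, g3, e⟩
      · obtain ⟨u, hu, h, hh, e, g1, g2⟩ := T.B1_factors' x hB hx
        refine ⟨Sum.inl (⟨u, Subgroup.mem_inf.mpr ⟨hu, g1⟩⟩, ⟨h, Subgroup.mem_inf.mpr ⟨hh, g2⟩⟩), ?_⟩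
        apply Subtype.ext
        exact e.symm
      · refine ⟨Sum.inr (⟨u₀, Subgroup.mem_inf.mpr ⟨hu₀, g1⟩⟩, ⟨h, Subgroup.mem_inf.mpr ⟨hh, g2⟩⟩,
          ⟨u, Subgroup.mem_inf.mpr ⟨hu, g3⟩⟩), ?_⟩
        apply Subtype.ext
        exact e.symm
  rw [← Nat.card_congr (Equiv.ofBijective f hf), Nat.card_sum, Nat.card_prod, Nat.card_prod, Nat.card_prod]
  ring

/-- Perfectness of `G¹`, from an element of `H¹` acting without fixed points on `U¹` and generation by `U¹`, `V¹`. -/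
theorem perfect [Finite G]
    (hgen : ∀ K' : Subgroup G, (∀ x ∈ T.U, x ∈ T.G1 → x ∈ K') → (∀ x ∈ T.V, x ∈ T.G1 → x ∈ K') → T.G1 ≤ K')
    (h₀ : G) (hh₀ : h₀ ∈ T.H) (hh₀1 : h₀ ∈ T.G1) (hfpf : ∀ u ∈ T.U, u ∈ T.G1 → h₀ * u = u * h₀ → u = 1) :
    commutator ↥T.G1 = ⊤ := by
  obtain ⟨n₀, hn₀, hn₀1, hl₀⟩ := T.exists_long
  -- the image of the commutator subgroup in `G`
  set D : Subgroup G := (commutator ↥T.G1).map T.G1.subtype with hD
  have hDmem : ∀ a b : G, a ∈ T.G1 → b ∈ T.G1 → a * b * a⁻¹ * b⁻¹ ∈ D := by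
    intro a b ha hb
    rw [hD, Subgroup.mem_map]
    refine ⟨⁅(⟨a, ha⟩ : ↥T.G1), ⟨b, hb⟩⁆, ?_, ?_⟩
    · rw [commutator_def]
      exact Subgroup.commutator_mem_commutator (Subgroup.mem_top _) (Subgroup.mem_top _)
    · rfl
  have hDnorm : ∀ g ∈ T.G1, ∀ d ∈ D, g * d * g⁻¹ ∈ D := by
    intro g hg d hd
    rw [hD, Subgroup.mem_map] at hd ⊢
    obtain ⟨d', hd', rfl⟩ := hd
    have hn : (commutator ↥T.G1).Normal := by rw [commutator_def]; infer_instance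
    exact ⟨⟨g, hg⟩ * d' * ⟨g, hg⟩⁻¹, hn.conj_mem d' hd' _, rfl⟩
  -- `U¹ ≤ D`
  have hU : ∀ x ∈ T.U, x ∈ T.G1 → x ∈ D := by
    let φ : ↥(T.U ⊓ T.G1) → ↥(T.U ⊓ T.G1) := fun u =>
      ⟨h₀ * (u : G) * h₀⁻¹ * (u : G)⁻¹, Subgroup.mem_inf.mpr
        ⟨mul_mem (T.H_norm_U h₀ hh₀ _ (Subgroup.mem_inf.mp u.2).1) (inv_mem (Subgroup.mem_inf.mp u.2).1),
          mul_mem (mul_mem (mul_mem hh₀1 (Subgroup.mem_inf.mp u.2).2) (inv_mem hh₀1))
            (inv_mem (Subgroup.mem_inf.mp u.2).2)⟩⟩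
    have hφ : Function.Injective φ := by
      rintro ⟨u, hu⟩ ⟨w, hw⟩ e
      have e' : h₀ * u * h₀⁻¹ * u⁻¹ = h₀ * w * h₀⁻¹ * w⁻¹ := congrArg Subtype.val e
      have hc : h₀ * (w⁻¹ * u) = (w⁻¹ * u) * h₀ := by
        have e2 : u * h₀⁻¹ * u⁻¹ = w * h₀⁻¹ * w⁻¹ := by
          calc u * h₀⁻¹ * u⁻¹ = h₀⁻¹ * (h₀ * u * h₀⁻¹ * u⁻¹) := by group
            _ = h₀⁻¹ * (h₀ * w * h₀⁻¹ * w⁻¹) := by rw [e']
            _ = w * h₀⁻¹ * w⁻¹ := by group
        have e3 : (w⁻¹ * u) * h₀⁻¹ = h₀⁻¹ * (w⁻¹ * u) := by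
          calc (w⁻¹ * u) * h₀⁻¹ = w⁻¹ * (u * h₀⁻¹ * u⁻¹) * u := by group
            _ = w⁻¹ * (w * h₀⁻¹ * w⁻¹) * u := by rw [e2]
            _ = h₀⁻¹ * (w⁻¹ * u) := by group
        calc h₀ * (w⁻¹ * u) = h₀ * ((w⁻¹ * u) * h₀⁻¹) * h₀ := by group
          _ = h₀ * (h₀⁻¹ * (w⁻¹ * u)) * h₀ := by rw [e3]
          _ = (w⁻¹ * u) * h₀ := by group
      have h1 := hfpf (w⁻¹ * u) (mul_mem (inv_mem (Subgroup.mem_inf.mp hw).1) (Subgroup.mem_inf.mp hu).1)
        (mul_mem (inv_mem (Subgroup.mem_inf.mp hw).2) (Subgroup.mem_inf.mp hu).2) hc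
      apply Subtype.ext
      show u = w
      have : u = w * (w⁻¹ * u) := by group
      rw [this, h1, mul_one]
    have hsurj : Function.Surjective φ := Finite.surjective_of_injective hφ
    intro x hx hx1
    obtain ⟨⟨u, hu⟩, e⟩ := hsurj ⟨x, Subgroup.mem_inf.mpr ⟨hx, hx1⟩⟩
    have e' : h₀ * u * h₀⁻¹ * u⁻¹ = x := congrArg Subtype.val e
    rw [← e']
    exact hDmem h₀ u hh₀1 (Subgroup.mem_inf.mp hu).2
  have hV : ∀ x ∈ T.V, x ∈ T.G1 → x ∈ D := by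
    intro x hx hx1
    have h1 : n₀⁻¹ * x * n₀ ∈ D :=
      hU _ (T.long_conj' n₀ hn₀ hl₀ x hx) (mul_mem (mul_mem (inv_mem hn₀1) hx1) hn₀1)
    have := hDnorm n₀ hn₀1 _ h1
    have e : n₀ * (n₀⁻¹ * x * n₀) * n₀⁻¹ = x := by group
    rwa [e] at this
  have hle : T.G1 ≤ D := hgen D hU hV
  rw [eq_top_iff]
  intro x _
  have hx := hle x.2
  rw [hD, Subgroup.mem_map] at hx
  obtain ⟨y, hy, e⟩ := hx
  have : y = x := Subtype.ext e
  rwa [this] at hy

/-- Simplicity of `G¹`. -/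
theorem simple
    (hgen : ∀ K' : Subgroup G, (∀ x ∈ T.U, x ∈ T.G1 → x ∈ K') → (∀ x ∈ T.V, x ∈ T.G1 → x ∈ K') → T.G1 ≤ K')
    (hperf : commutator ↥T.G1 = ⊤) (hcore : ((T.B ⊓ T.G1).subgroupOf T.G1).normalCore = ⊥)
    (hsolv : Group.IsSolvable ↥((T.U ⊓ T.G1).subgroupOf T.G1)) : IsSimpleGroup ↥T.G1 := by
  obtain ⟨n₀, hn₀, hn₀1, hl₀⟩ := T.exists_long
  have hnt : Nontrivial ↥T.G1 := by
    obtain ⟨u, hu, huF, hne⟩ := T.U1_ne
    refine ⟨⟨⟨u, T.fixU_le u hu huF⟩, 1, ?_⟩⟩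
    intro h
    exact hne (congrArg Subtype.val h)
  refine { toNontrivial := hnt, eq_bot_or_eq_top_of_normal := ?_ }
  intro M hM
  by_cases hMB : M ≤ (T.B ⊓ T.G1).subgroupOf T.G1
  · left
    have : M ≤ ((T.B ⊓ T.G1).subgroupOf T.G1).normalCore := Subgroup.normal_le_normalCore.mpr hMB
    rw [hcore] at this
    exact le_bot_iff.mp this
  · right
    -- an element of `M` outside `B`
    obtain ⟨x, hxM, hxB⟩ := SetLike.not_le_iff_exists.mp hMB
    rw [Subgroup.mem_subgroupOf] at hxB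
    have hxB' : (x : G) ∉ T.B := fun h => hxB (Subgroup.mem_inf.mpr ⟨h, x.2⟩)
    rcases T.G1_cases n₀ hn₀ hn₀1 hl₀ (x : G) x.2 with hB | ⟨u₀, hu₀, h, hh, u, hu, g1, g2, g3, e⟩
    · exact absurd hB hxB'
    · -- the image of `M` in `G`
      set M' : Subgroup G := M.map T.G1.subtype with hM'
      have hM'1 : M' ≤ T.G1 := by
        rw [hM']
        rintro _ ⟨y, -, rfl⟩
        exact y.2
      have hM'norm : ∀ g ∈ T.G1, ∀ d ∈ M', g * d * g⁻¹ ∈ M' := by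
        intro g hg d hd
        rw [hM', Subgroup.mem_map] at hd ⊢
        obtain ⟨d', hd', rfl⟩ := hd
        exact ⟨⟨g, hg⟩ * d' * ⟨g, hg⟩⁻¹, hM.conj_mem d' hd' _, rfl⟩
      have hxM' : (x : G) ∈ M' := by
        rw [hM', Subgroup.mem_map]
        exact ⟨x, hxM, rfl⟩
      -- `n₀ = b' x'` with `b' ∈ B¹`, `x' ∈ M'`
      set b' : G := (u * (u₀ * h))⁻¹ with hb'
      set x' : G := u * (x : G) * u⁻¹ with hx'
      have hx'M : x' ∈ M' := hM'norm u g3 _ hxM'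
      have hn₀e : n₀ = b' * x' := by
        rw [hb', hx', e]; group
      have hb'1 : b' ∈ T.G1 := inv_mem (mul_mem g3 (mul_mem g1 g2))
      -- `b'` normalises `U¹`
      have hb'U : ∀ w ∈ T.U, w ∈ T.G1 → b' * w * b'⁻¹ ∈ T.U := by
        intro w hw _
        have e1 : b' * w * b'⁻¹ = h⁻¹ * ((u * u₀)⁻¹ * w * (u * u₀)) * h⁻¹⁻¹ := by rw [hb']; group
        rw [e1]
        exact T.H_norm_U _ (inv_mem hh) _ (mul_mem (mul_mem (inv_mem (mul_mem hu hu₀)) hw) (mul_mem hu hu₀))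
      -- the subgroup `M' U¹`
      have hnormal : ∀ g ∈ T.U ⊓ T.G1, ∀ d ∈ M', g * d * g⁻¹ ∈ M' := fun g hg d hd =>
        hM'norm g (Subgroup.mem_inf.mp hg).2 d hd
      set P : Subgroup G := M' ⊔ (T.U ⊓ T.G1) with hP
      have hPU : ∀ w ∈ T.U, w ∈ T.G1 → w ∈ P := fun w hw hw1 =>
        Subgroup.mem_sup_right (Subgroup.mem_inf.mpr ⟨hw, hw1⟩)
      have hPV : ∀ v ∈ T.V, v ∈ T.G1 → v ∈ P := by
        intro v hv hv1
        set w : G := n₀⁻¹ * v * n₀ with hw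
        have hwU : w ∈ T.U := T.long_conj' n₀ hn₀ hl₀ v hv
        have hw1 : w ∈ T.G1 := mul_mem (mul_mem (inv_mem hn₀1) hv1) hn₀1
        have ev : v = (b' * (x' * w * x'⁻¹ * w⁻¹) * b'⁻¹) * (b' * w * b'⁻¹) := by
          have : v = n₀ * w * n₀⁻¹ := by rw [hw]; group
          rw [this, hn₀e]; group
        rw [ev]
        apply mul_mem
        · apply Subgroup.mem_sup_left
          apply hM'norm b' hb'1
          have : x' * w * x'⁻¹ * w⁻¹ = x' * (w * x'⁻¹ * w⁻¹) := by group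
          rw [this]
          exact mul_mem hx'M (hM'norm w hw1 _ (inv_mem hx'M))
        · exact hPU _ (hb'U w hwU hw1) (mul_mem (mul_mem hb'1 hw1) (inv_mem hb'1))
      have hle : T.G1 ≤ P := hgen P hPU hPV
      -- the quotient `G¹ / M` is solvable and perfect
      have hsurj : Function.Surjective ((QuotientGroup.mk' M).comp ((T.U ⊓ T.G1).subgroupOf T.G1).subtype) := by
        intro q
        obtain ⟨g, rfl⟩ := QuotientGroup.mk'_surjective M q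
        have hg : (g : G) ∈ (P : Set G) := hle g.2
        have hPset : (P : Set G) = (M' : Set G) * ((T.U ⊓ T.G1 : Subgroup G) : Set G) := by
          rw [hP, Subgroup.coe_mul_of_right_le_normalizer_left]
          intro c hc
          rw [Subgroup.mem_normalizer_iff]
          intro d
          constructor
          · intro hd; exact hnormal c hc d hd
          · intro hd
            have := hnormal c⁻¹ (inv_mem hc) _ hd
            have e : c⁻¹ * (c * d * c⁻¹) * c⁻¹⁻¹ = d := by group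
            rwa [e] at this
        rw [hPset, Set.mem_mul] at hg
        obtain ⟨a, ha, c, hc, hac⟩ := hg
        rw [SetLike.mem_coe] at ha hc
        have hc1 : c ∈ T.G1 := (Subgroup.mem_inf.mp hc).2
        have ha1 : a ∈ T.G1 := hM'1 ha
        refine ⟨⟨⟨c, hc1⟩, by rw [Subgroup.mem_subgroupOf]; exact hc⟩, ?_⟩
        show QuotientGroup.mk' M ⟨c, hc1⟩ = QuotientGroup.mk' M g
        rw [QuotientGroup.mk'_eq_mk']
        refine ⟨(⟨c, hc1⟩ : ↥T.G1)⁻¹ * g, ?_, by group⟩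
        -- `c⁻¹ g = c⁻¹ a c ∈ M`
        have e2 : (⟨c, hc1⟩ : ↥T.G1)⁻¹ * g = (⟨c, hc1⟩ : ↥T.G1)⁻¹ * ⟨a, ha1⟩ * (⟨c, hc1⟩ : ↥T.G1)⁻¹⁻¹ := by
          apply Subtype.ext
          show c⁻¹ * (g : G) = c⁻¹ * a * c⁻¹⁻¹
          rw [← hac]; group
        rw [e2]
        apply hM.conj_mem
        rw [hM', Subgroup.mem_map] at ha
        obtain ⟨a', ha', e3⟩ := ha
        have : a' = ⟨a, ha1⟩ := Subtype.ext e3
        rwa [this] at ha'
      have hsolvQ : Group.IsSolvable (↥T.G1 ⧸ M) := Group.isSolvable_of_surjective hsurj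
      have hperfQ : commutator (↥T.G1 ⧸ M) = ⊤ := by
        rw [commutator_def]
        have h1 : (⊤ : Subgroup (↥T.G1 ⧸ M)) = (⊤ : Subgroup ↥T.G1).map (QuotientGroup.mk' M) :=
          (Subgroup.map_top_of_surjective _ (QuotientGroup.mk'_surjective M)).symm
        rw [h1, ← Subgroup.map_commutator, ← commutator_def, hperf]
      by_contra hMtop
      have hntQ : Nontrivial (↥T.G1 ⧸ M) := by
        by_contra hns
        rw [not_nontrivial_iff_subsingleton] at hns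
        exact hMtop (QuotientGroup.subsingleton_iff.mp hns)
      have := Group.IsSolvable.commutator_lt_top_of_nontrivial (↥T.G1 ⧸ M)
      rw [hperfQ] at this
      exact lt_irrefl _ this

end TwData

end Cfsg.Agent.Lib.Helper19.ReeAbs
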