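/-
helper19: abstract twisted rank-one machine, part D: the torus `H¹` when `H ∩ F` is parametrised by the units of a
finite field with `q ≡ 3 (mod 4)` elements and the image of `-1` lies in `G¹`.
-/
import Cfsg.Agent.Lib.Helper19.ReeAbsC

set_option autoImplicit false

namespace Cfsg.Agent.Lib.Helper19.ReeAbs

/-- In a finite field with `q ≡ 3 (mod 4)` elements every unit is `± a square`. -/
theorem unit_eq_sq_or_neg_sq {k : Type*} [Field k] [Fintype k] (hcard : Fintype.card k % 4 = 3) (c : kˣ) :
    ∃ d : kˣ, c = d * d ∨ c = -1 * (d * d) := by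
  have hF : ringChar k ≠ 2 := by
    intro h
    have := FiniteField.even_card_of_char_two h
    omega
  have hodd : Odd (Fintype.card k / 2) := by
    rw [Nat.odd_iff]; omega
  rcases FiniteField.pow_dichotomy hF (a := (c : k)) c.ne_zero with h | h
  · have hsq : IsSquare c := (FiniteField.unit_isSquare_iff hF c).mpr (by
      apply Units.ext
      rw [Units.val_pow_eq_pow_val, h, Units.val_one])
    obtain ⟨d, hd⟩ := hsq
    exact ⟨d, Or.inl hd⟩
  · have hsq : IsSquare (-1 * c) := (FiniteField.unit_isSquare_iff hF (-1 * c)).mpr (by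
      apply Units.ext
      rw [Units.val_pow_eq_pow_val, Units.val_mul, mul_pow, h, Units.val_neg, Units.val_one, hodd.neg_one_pow]
      norm_num)
    obtain ⟨d, hd⟩ := hsq
    refine ⟨d, Or.inr ?_⟩
    rw [← hd]
    simp

namespace TwData

variable {G : Type*} [Group G] (T : TwData G)

section Torus

variable {k : Type*} [Field k] [Fintype k] (hcard : Fintype.card k % 4 = 3) (ρ : kˣ →* G)
  (hρH : ∀ c, ρ c ∈ T.H) (hρF : ∀ c, ρ c ∈ T.F) (hsurj : ∀ h ∈ T.H, h ∈ T.F → ∃ c, h = ρ c)
  (hinj : Function.Injective ρ) (hneg : ρ (-1) ∈ T.G1)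

include hcard hρH hρF hneg in
/-- The image of the torus parametrisation lies in `G¹`. -/
theorem torus_mem_G1 (c : kˣ) : ρ c ∈ T.G1 := by
  obtain ⟨d, hd | hd⟩ := unit_eq_sq_or_neg_sq hcard c
  · rw [hd, map_mul]
    exact T.sq_mem_G1 _ (hρH d) (hρF d)
  · rw [hd, map_mul, map_mul]
    exact mul_mem hneg (T.sq_mem_G1 _ (hρH d) (hρF d))

include hcard hρH hρF hsurj hinj hneg in
/-- `H¹ ≅ k*`. -/
theorem torus_equiv : ∃ e : kˣ ≃* ↥(T.H ⊓ T.G1), ∀ c, ((e c : ↥(T.H ⊓ T.G1)) : G) = ρ c := by
  have hmem : ∀ c, ρ c ∈ T.H ⊓ T.G1 := fun c =>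
    Subgroup.mem_inf.mpr ⟨hρH c, T.torus_mem_G1 hcard ρ hρH hρF hneg c⟩
  let f : kˣ →* ↥(T.H ⊓ T.G1) := ρ.codRestrict (T.H ⊓ T.G1) hmem
  have hf : Function.Bijective f := by
    constructor
    · intro a b hab
      apply hinj
      exact congrArg Subtype.val hab
    · rintro ⟨h, hh⟩
      obtain ⟨c, hc⟩ := hsurj h (Subgroup.mem_inf.mp hh).1 (T.G1_le_F (Subgroup.mem_inf.mp hh).2)
      exact ⟨c, Subtype.ext hc.symm⟩
  exact ⟨MulEquiv.ofBijective f hf, fun c => rfl⟩

include hcard hρH hρF hsurj hinj hneg in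
/-- `|H¹| = q - 1`. -/
theorem card_H1 : Nat.card ↥(T.H ⊓ T.G1) = Fintype.card k - 1 := by
  classical
  obtain ⟨e, -⟩ := T.torus_equiv hcard ρ hρH hρF hsurj hinj hneg
  rw [← Nat.card_congr e.toEquiv, Nat.card_eq_fintype_card, Fintype.card_units]

include hcard hρH hρF hsurj hinj hneg in
/-- `H¹` is cyclic. -/
theorem isCyclic_H1 : IsCyclic ↥(T.H ⊓ T.G1) := by
  obtain ⟨e, -⟩ := T.torus_equiv hcard ρ hρH hρF hsurj hinj hneg
  exact isCyclic_of_surjective e e.surjective

end Torus

end TwData

/-- In the group of units of a finite field with `q ≡ 3 (mod 4)` elements, twice the number of elements of odd order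
is `q - 1`. -/
theorem two_mul_card_odd_units {k : Type*} [Field k] [Fintype k] (hcard : Fintype.card k % 4 = 3) :
    2 * Nat.card {c : kˣ // Odd (orderOf c)} = Fintype.card k - 1 := by
  classical
  have hF : ringChar k ≠ 2 := by
    intro h
    have := FiniteField.even_card_of_char_two h
    omega
  have hoddk : Odd (Fintype.card k / 2) := by
    rw [Nat.odd_iff]; omega
  -- odd order iff square
  have hiff : ∀ c : kˣ, Odd (orderOf c) ↔ c ∈ (powMonoidHom 2 : kˣ →* kˣ).range := by
    intro c
    constructor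
    · rintro ⟨r, hr⟩
      refine ⟨c ^ (r + 1), ?_⟩
      show (c ^ (r + 1)) ^ 2 = c
      rw [← pow_mul]
      have : (r + 1) * 2 = orderOf c + 1 := by rw [hr]; ring
      rw [this, pow_succ, pow_orderOf_eq_one, one_mul]
    · rintro ⟨d, rfl⟩
      show Odd (orderOf (d ^ 2))
      have h1 : (d ^ 2) ^ (Fintype.card k / 2) = 1 := by
        rw [← pow_mul]
        have h2 : 2 * (Fintype.card k / 2) = Fintype.card k - 1 := by omega
        rw [h2]
        apply Units.ext
        rw [Units.val_pow_eq_pow_val, Units.val_one]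
        exact FiniteField.pow_card_sub_one_eq_one _ d.ne_zero
      exact Odd.of_dvd_nat hoddk (orderOf_dvd_of_pow_eq_one h1)
  have hcongr : Nat.card {c : kˣ // Odd (orderOf c)} = Nat.card ↥(powMonoidHom 2 : kˣ →* kˣ).range :=
    Nat.card_congr (Equiv.subtypeEquivRight hiff)
  rw [hcongr]
  -- the kernel of squaring has two elements
  have hker : Nat.card ↥(powMonoidHom 2 : kˣ →* kˣ).ker = 2 := by
    have hne : (-1 : kˣ) ≠ 1 := by
      intro h
      have h' : (-1 : k) = 1 := by
        have := congrArg Units.val h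
        simpa using this
      have h2 : (2 : k) = 0 := by
        have : (1 : k) + 1 = 0 := by nth_rewrite 1 [← h']; ring
        rw [← this]; norm_num
      have := (ringChar.spec k 2).mp (by exact_mod_cast h2)
      have hp := CharP.char_is_prime k (ringChar k)
      have h3 : ringChar k = 2 := ((Nat.prime_dvd_prime_iff_eq hp Nat.prime_two).mp this)
      exact hF h3
    have hset : ((powMonoidHom 2 : kˣ →* kˣ).ker : Set kˣ) = {1, -1} := by
      ext c
      simp only [SetLike.mem_coe, MonoidHom.mem_ker, powMonoidHom_apply, Set.mem_insert_iff, Set.mem_singleton_iff]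
      constructor
      · intro h
        have h' : (c : k) ^ 2 = 1 := by
          have := congrArg Units.val h
          simpa using this
        have h2 : ((c : k) - 1) * ((c : k) + 1) = 0 := by ring_nf; rw [h']; ring
        rcases mul_eq_zero.mp h2 with h3 | h3
        · left; apply Units.ext; rw [Units.val_one]; linear_combination h3
        · right; apply Units.ext; rw [Units.val_neg, Units.val_one]; linear_combination h3
      · rintro (rfl | rfl)
        · simp
        · simp
    have : Nat.card ↥(powMonoidHom 2 : kˣ →* kˣ).ker = Nat.card (((powMonoidHom 2 : kˣ →* kˣ).ker : Set kˣ)) := rfl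
    rw [this, hset, Nat.card_coe_set_eq, Set.ncard_pair hne.symm]
  have h3 := Subgroup.card_mul_index (powMonoidHom 2 : kˣ →* kˣ).ker
  rw [Subgroup.index_ker, hker, Nat.card_eq_fintype_card (α := kˣ), Fintype.card_units] at h3
  exact h3

end Cfsg.Agent.Lib.Helper19.ReeAbs
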