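/-
helper19: abstract twisted rank-one machine, part E: the action of the torus on `U¹` in coordinates.
-/
import Cfsg.Agent.Lib.Helper19.ReeAbsD

set_option autoImplicit false

namespace Cfsg.Agent.Lib.Helper19.ReeAbs

/-- `c^(3θ) = c` and `c^(3θ²) = c` force `c² = 1`. -/
theorem unit_sq_eq_one_of_chi2 {k : Type*} [Field k] (θ : ℕ) (c : kˣ) (hq : (c : k) ^ (3 * θ * θ) = c)
    (h : (c : k) ^ (3 * θ) * (c : k)⁻¹ = 1) : c * c = 1 := by
  have hc : (c : k) ≠ 0 := c.ne_zero
  have h1 : (c : k) ^ (3 * θ) = c := (mul_inv_eq_one₀ hc).mp h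
  -- `c^θ = c`
  have h2 : (c : k) ^ θ = c := by
    have : (c : k) ^ (3 * θ * θ) = ((c : k) ^ (3 * θ)) ^ θ := by rw [← pow_mul]
    rw [this, h1] at hq
    exact hq
  -- `c^3 = c`
  have h3 : (c : k) ^ 3 = c := by
    have : (c : k) ^ (3 * θ) = ((c : k) ^ θ) ^ 3 := by rw [← pow_mul, mul_comm]
    rw [this, h2] at h1
    exact h1
  apply Units.ext
  rw [Units.val_mul, Units.val_one]
  have h4 : (c : k) * ((c : k) * (c : k) - 1) = 0 := by ring_nf; rw [h3]; ring
  rcases mul_eq_zero.mp h4 with h5 | h5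
  · exact absurd h5 hc
  · linear_combination h5

/-- `c^(3θ) = c²` and `c^(3θ²) = c` force `c = 1`. -/
theorem unit_eq_one_of_chi1 {k : Type*} [Field k] (θ : ℕ) (c : kˣ) (hq : (c : k) ^ (3 * θ * θ) = c)
    (h : (c : k) ^ 2 * ((c : k) ^ (3 * θ))⁻¹ = 1) : c = 1 := by
  have hc : (c : k) ≠ 0 := c.ne_zero
  have hc3 : (c : k) ^ (3 * θ) ≠ 0 := pow_ne_zero _ hc
  have h1 : (c : k) ^ (3 * θ) = (c : k) ^ 2 := ((mul_inv_eq_one₀ hc3).mp h).symm
  -- `c^(2θ) = c`
  have h2 : (c : k) ^ (2 * θ) = c := by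
    have : (c : k) ^ (3 * θ * θ) = ((c : k) ^ (3 * θ)) ^ θ := by rw [← pow_mul]
    rw [this, h1, ← pow_mul] at hq
    exact hq
  -- `c^(6θ) = c^3` and `= c^4`
  have h3 : (c : k) ^ 3 = (c : k) ^ 4 := by
    have e1 : (c : k) ^ (6 * θ) = (c : k) ^ 3 := by
      have : (c : k) ^ (6 * θ) = ((c : k) ^ (2 * θ)) ^ 3 := by rw [← pow_mul]; congr 1; ring
      rw [this, h2]
    have e2 : (c : k) ^ (6 * θ) = (c : k) ^ 4 := by
      have : (c : k) ^ (6 * θ) = ((c : k) ^ (3 * θ)) ^ 2 := by rw [← pow_mul]; congr 1; ring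
      rw [this, h1, ← pow_mul]
    rw [← e1, e2]
  apply Units.ext
  rw [Units.val_one]
  have h4 : (c : k) ^ 3 * ((c : k) - 1) = 0 := by ring_nf; rw [h3]; ring
  rcases mul_eq_zero.mp h4 with h5 | h5
  · exact absurd h5 (pow_ne_zero _ hc)
  · linear_combination h5

namespace TwData

variable {G : Type*} [Group G] (T : TwData G)

section Action

variable {k : Type*} [Field k] (ρ : kˣ →* G) (uu : k → k → k → G)
  (huu_inj : ∀ t u v t' u' v', uu t u v = uu t' u' v' → t = t' ∧ u = u' ∧ v = v')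
  (huu_surj : ∀ x ∈ T.U, x ∈ T.G1 → ∃ t u v, x = uu t u v)
  (huu_mem : ∀ t u v, uu t u v ∈ T.U ∧ uu t u v ∈ T.G1)
  (huu0 : uu 0 0 0 = 1)
  (χ₁ χ₂ : kˣ → k)
  (hconj : ∀ c t u v, ρ c * uu t u v * (ρ c)⁻¹ = uu (χ₁ c * t) (χ₂ c * u) ((c : k) * v))
  (h1 : ∀ c, χ₁ c = 1 → c = 1) (h2 : ∀ c, χ₂ c = 1 → c * c = 1)

include huu_inj huu_mem hconj in
/-- An element of the torus centralising `U¹` is trivial. -/
theorem torus_faithful (c : kˣ) (hc : ∀ x ∈ T.U, x ∈ T.G1 → ρ c * x = x * ρ c) : c = 1 := by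
  have h := hc (uu 0 0 1) (huu_mem 0 0 1).1 (huu_mem 0 0 1).2
  have h' : ρ c * uu 0 0 1 * (ρ c)⁻¹ = uu 0 0 1 := by rw [h]; group
  rw [hconj] at h'
  have := (huu_inj _ _ _ _ _ _ h').2.2
  apply Units.ext
  rw [Units.val_one]
  rwa [mul_one] at this

include huu_inj huu_mem hconj in
/-- The torus parametrisation is injective. -/
theorem torus_injective : Function.Injective ρ := by
  rw [injective_iff_map_eq_one]
  intro c hc
  apply T.torus_faithful ρ uu huu_inj huu_mem χ₁ χ₂ hconj c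
  intro x _ _
  rw [hc, one_mul, mul_one]

include huu_inj huu_surj huu0 hconj h1 h2 in
/-- A nontrivial torus element of odd order acts without fixed points on `U¹`. -/
theorem torus_fpf (c : kˣ) (hc1 : c ≠ 1) (hodd : Odd (orderOf c)) (x : G) (hxU : x ∈ T.U) (hx1 : x ∈ T.G1)
    (hcomm : ρ c * x = x * ρ c) : x = 1 := by
  obtain ⟨t, u, v, rfl⟩ := huu_surj x hxU hx1
  have h' : ρ c * uu t u v * (ρ c)⁻¹ = uu t u v := by rw [hcomm]; group
  rw [hconj] at h'
  obtain ⟨e1, e2, e3⟩ := huu_inj _ _ _ _ _ _ h'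
  have hcne : (c : k) ≠ 1 := by
    intro h
    apply hc1
    apply Units.ext
    rw [h, Units.val_one]
  have hv : v = 0 := by
    by_contra hv
    apply hcne
    have : ((c : k) - 1) * v = 0 := by linear_combination e3
    rcases mul_eq_zero.mp this with h | h
    · linear_combination h
    · exact absurd h hv
  have hu : u = 0 := by
    by_contra hu
    have : (χ₂ c - 1) * u = 0 := by linear_combination e2
    rcases mul_eq_zero.mp this with h | h
    · have hcc : c * c = 1 := h2 c (by linear_combination h)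
      have hdvd : orderOf c ∣ 2 := orderOf_dvd_of_pow_eq_one (by rw [pow_two]; exact hcc)
      have h12 : orderOf c = 1 ∨ orderOf c = 2 := (Nat.dvd_prime Nat.prime_two).mp hdvd
      rcases h12 with h12 | h12
      · exact hc1 (orderOf_eq_one_iff.mp h12)
      · rw [h12] at hodd
        exact absurd hodd (by decide)
    · exact hu h
  have ht : t = 0 := by
    by_contra ht
    have : (χ₁ c - 1) * t = 0 := by linear_combination e1
    rcases mul_eq_zero.mp this with h | h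
    · exact hc1 (h1 c (by linear_combination h))
    · exact ht h
  rw [ht, hu, hv, huu0]

end Action

end TwData

end Cfsg.Agent.Lib.Helper19.ReeAbs
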