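/-
helper19: small auxiliary facts for the small Ree groups: characteristic, the relation `t^(3θ²) = t`, `q ≡ 3 (mod 4)`.
-/
import Mathlib

set_option autoImplicit false

namespace Cfsg.Agent.Lib.Helper19.Ree

universe u

/-- A field with `3^k` elements has characteristic three. -/
theorem charP_three' {K : Type u} [Field K] [Fintype K] {k : ℕ} (hK : Fintype.card K = 3 ^ k) :
    CharP K 3 := by
  obtain ⟨p, hp⟩ := CharP.exists K
  haveI := hp
  have hpp : p.Prime := by
    rcases CharP.char_is_prime_or_zero K p with h | h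
    · exact h
    · exfalso
      subst h
      haveI : CharZero K := CharP.charP_to_charZero K
      exact not_finite K
  haveI := Fact.mk hpp
  obtain ⟨n, -, hn⟩ := FiniteField.card K p
  have h1 : p ∣ 3 ^ k := by
    rw [← hK, hn]
    exact dvd_pow_self p n.ne_zero
  have h2 : p ∣ 3 := hpp.dvd_of_dvd_pow h1
  have h3 : p = 3 := (Nat.prime_dvd_prime_iff_eq hpp Nat.prime_three).mp h2
  subst h3
  exact hp

/-- `t^(3 θ²) = t` in the field with `3^(2m+1)` elements, `θ = 3^m`. -/
theorem hq_of_card {K : Type u} [Field K] [Fintype K] {m : ℕ} (hK : Fintype.card K = 3 ^ (2 * m + 1)) (t : K) :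
    t ^ (3 * 3 ^ m * 3 ^ m) = t := by
  have e : 3 * 3 ^ m * 3 ^ m = Fintype.card K := by
    rw [hK, pow_succ, two_mul, pow_add]; ring
  rw [e, FiniteField.pow_card]

/-- `3^(2m+1) ≡ 3 (mod 4)`. -/
theorem three_pow_mod_four (m : ℕ) : 3 ^ (2 * m + 1) % 4 = 3 := by
  induction m with
  | zero => rfl
  | succ n ih =>
    have : 3 ^ (2 * (n + 1) + 1) = 9 * 3 ^ (2 * n + 1) := by
      rw [show 2 * (n + 1) + 1 = (2 * n + 1) + 2 by ring, pow_add]; ring
    rw [this]
    omega

end Cfsg.Agent.Lib.Helper19.Ree
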