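/-
helper19: the long elements `n₀ H` of `N` in `G₂(K)` (`n₀` a representative of the longest Weyl group element):
`n₀ U n₀⁻¹ = V`, `n₀` inverts `H`, `U_{n}⁻ = U` for long `n`, and `U_h⁻ = 1` for `h ∈ H`.
-/
import Cfsg.Agent.Lib.Helper18.ReeW0
import Cfsg.Agent.Lib.Helper61.Ree.HAct
import Cfsg.Agent.S1050

set_option autoImplicit false

namespace Cfsg.Agent.Lib.Helper19.ReeLong

open Cfsg.Lie Cfsg.Agent.Lib.Helper18 Cfsg.Agent.Lib.Helper17 Cfsg.Agent.S1099 Cfsg.Agent.Lib.Helper18.ReeW0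
open Cfsg.Agent.Lib.Helper61.ChevJ.G2ReeH Cfsg.Agent.Lib.Helper61.Ree

universe u

variable (K : Type u) [Field K]

theorem ws0_lt : ∀ i ∈ [0, 1, 0, 1, 0, 1], i < chevG2.rank := by decide

/-- The representative of the longest element of the Weyl group. -/
noncomputable def n0 : GL chevG2.Idx K := nW (F := K) hD2 chevData_G2 [0, 1, 0, 1, 0, 1]

/-- `n` is long: `n ∈ n₀ H`. -/
def reeLong (n : GL chevG2.Idx K) : Prop :=
  ∃ h ∈ chevG2.diagonalSubgroup K, n = nW (F := K) hD2 chevData_G2 [0, 1, 0, 1, 0, 1] * h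

theorem long_root (r : ℕ) (hr : r < 12) : wordRootF (chevData_G2.{u}).tabs [0, 1, 0, 1, 0, 1] r = 11 - r := by
  rw [tabs_eq, ← getD_map_range (wordRootF wTabs_G2 [0, 1, 0, 1, 0, 1]) r hr, long_img]
  interval_cases r <;> rfl

theorem n0_mem_N : n0 K ∈ chevG2.monomialSubgroup K := nW_mem_monomial hD2 chevData_G2 _

/-- `n₀ x_r(t) n₀⁻¹ = x_{-r}(± t)`. -/
theorem n0_conj_xG (r : ℕ) (hr : r < 12) : ∃ η : K, (η = 1 ∨ η = -1) ∧ ∀ t : K,
    n0 K * xG hD2 r t * (n0 K)⁻¹ = xG hD2 (11 - r) (η * t) := by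
  refine ⟨((wordSignF (chevData_G2.{u}).tabs [0, 1, 0, 1, 0, 1] r : ℤ) : K), ?_, fun t => ?_⟩
  · rcases wordSignF_cases (chevData_G2.{u}).tabs [0, 1, 0, 1, 0, 1] r with h | h
    · left; rw [h]; norm_num
    · right; rw [h]; norm_num
  · have h := nW_conj_xG (F := K) hD2 chevData_G2 [0, 1, 0, 1, 0, 1] ws0_lt r hr t
    rw [long_root r hr] at h
    exact h

theorem isPos_iff (r : ℕ) : chevG2.IsPosRoot r ↔ r < 12 ∧ 6 ≤ r := isPosRoot_iff hD2 r

theorem xG_mem_V (r : ℕ) (hr : r < 6) (t : K) : xG hD2 r t ∈ chevG2.negUnipotent K :=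
  Subgroup.subset_closure ⟨r, t, isNegRoot_of_lt chevG2 (signOK_of_mem chevG2 hD2) r (by
    show r < 12; omega) (by show r < 12 / 2; omega), rfl⟩

theorem xG_mem_U (r : ℕ) (hr : r < 12) (hr' : 6 ≤ r) (t : K) : xG hD2 r t ∈ chevG2.posUnipotent K :=
  xG_mem_posUnipotent hD2 r t ((isPos_iff r).mpr ⟨hr, hr'⟩)

/-- `n₀ U n₀⁻¹ ≤ V`. -/
theorem n0_conj_U (u : GL chevG2.Idx K) (hu : u ∈ chevG2.posUnipotent K) :
    n0 K * u * (n0 K)⁻¹ ∈ chevG2.negUnipotent K := by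
  have hle : chevG2.posUnipotent K ≤ (chevG2.negUnipotent K).comap (MulAut.conj (n0 K)).toMonoidHom := by
    unfold ChevalleyDatum.posUnipotent
    rw [Subgroup.closure_le]
    rintro g ⟨r, t, hr, hg⟩
    have hg' : g = xG hD2 r t := Units.ext hg
    obtain ⟨hr1, hr2⟩ := (isPos_iff r).mp hr
    rw [SetLike.mem_coe, Subgroup.mem_comap]
    show n0 K * g * (n0 K)⁻¹ ∈ _
    obtain ⟨η, -, h⟩ := n0_conj_xG K r hr1
    rw [hg', h]
    exact xG_mem_V K _ (by omega) _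
  exact hle hu

/-- `n₀ V n₀⁻¹ ≤ U`. -/
theorem n0_conj_V (v : GL chevG2.Idx K) (hv : v ∈ chevG2.negUnipotent K) :
    n0 K * v * (n0 K)⁻¹ ∈ chevG2.posUnipotent K := by
  have hle : chevG2.negUnipotent K ≤ (chevG2.posUnipotent K).comap (MulAut.conj (n0 K)).toMonoidHom := by
    unfold ChevalleyDatum.negUnipotent
    rw [Subgroup.closure_le]
    rintro g ⟨r, t, hr, hg⟩
    have hg' : g = xG hD2 r t := Units.ext hg
    have hr1 : r < 6 := (negOK_spec (negOK_of_mem chevG2 hD2) r hr).1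
    rw [SetLike.mem_coe, Subgroup.mem_comap]
    show n0 K * g * (n0 K)⁻¹ ∈ _
    obtain ⟨η, -, h⟩ := n0_conj_xG K r (by omega)
    rw [hg', h]
    exact xG_mem_U K _ (by omega) (by omega) _
  exact hle hv

/-- `n₀² ∈ H`. -/
theorem n0_sq : n0 K * n0 K ∈ chevG2.diagonalSubgroup K := by
  have e : n0 K * n0 K = nW (F := K) hD2 chevData_G2 ([0, 1, 0, 1, 0, 1] ++ [0, 1, 0, 1, 0, 1]) := by
    rw [nW_append]; rfl
  rw [e]
  apply mem_diagonal_of_pos hD2 chevData_G2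
  · intro i hi
    rcases List.mem_append.mp hi with h | h <;> exact ws0_lt i h
  · intro r hr
    obtain ⟨hr1, hr2⟩ := (isPos_iff r).mp hr
    rw [wordRootF_append, long_root r hr1, long_root (11 - r) (by omega)]
    show 12 / 2 ≤ 11 - (11 - r)
    omega

theorem conj_H (n : GL chevG2.Idx K) (hn : n ∈ chevG2.monomialSubgroup K) (h : GL chevG2.Idx K)
    (hh : h ∈ chevG2.diagonalSubgroup K) : n * h * n⁻¹ ∈ chevG2.diagonalSubgroup K :=
  monomial_conj_diagonal hD2 chevData_G2 n h hn hh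

theorem inv_conj_H (n : GL chevG2.Idx K) (hn : n ∈ chevG2.monomialSubgroup K) (h : GL chevG2.Idx K)
    (hh : h ∈ chevG2.diagonalSubgroup K) : n⁻¹ * h * n ∈ chevG2.diagonalSubgroup K := by
  have := conj_H K n⁻¹ (inv_mem hn) h hh
  rwa [inv_inv] at this

theorem H_norm_U (h : GL chevG2.Idx K) (hh : h ∈ chevG2.diagonalSubgroup K) (u : GL chevG2.Idx K)
    (hu : u ∈ chevG2.posUnipotent K) : h * u * h⁻¹ ∈ chevG2.posUnipotent K :=
  ((Cfsg.Agent.S1036.result chevG2 hD2).1 hh u).mp hu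

/-- `n₀⁻¹ V n₀ ≤ U`. -/
theorem n0_inv_conj_V (v : GL chevG2.Idx K) (hv : v ∈ chevG2.negUnipotent K) :
    (n0 K)⁻¹ * v * n0 K ∈ chevG2.posUnipotent K := by
  have e : (n0 K)⁻¹ * v * n0 K = (n0 K * n0 K)⁻¹ * (n0 K * v * (n0 K)⁻¹) * (n0 K * n0 K)⁻¹⁻¹ := by group
  rw [e]
  exact H_norm_U K _ (inv_mem (n0_sq K)) _ (n0_conj_V K v hv)

theorem reeLong_mem_N (n : GL chevG2.Idx K) (hl : reeLong K n) : n ∈ chevG2.monomialSubgroup K := by
  obtain ⟨h, hh, rfl⟩ := hl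
  exact mul_mem (n0_mem_N K) (diagonal_le_monomial hD2 hh)

theorem reeLong_conj (n : GL chevG2.Idx K) (hl : reeLong K n) (u : GL chevG2.Idx K)
    (hu : u ∈ chevG2.posUnipotent K) : n * u * n⁻¹ ∈ chevG2.negUnipotent K := by
  obtain ⟨h, hh, rfl⟩ := hl
  have e : nW (F := K) hD2 chevData_G2 [0, 1, 0, 1, 0, 1] * h * u * (nW (F := K) hD2 chevData_G2 [0, 1, 0, 1, 0, 1] * h)⁻¹
      = n0 K * (h * u * h⁻¹) * (n0 K)⁻¹ := by unfold n0; group
  rw [e]
  exact n0_conj_U K _ (H_norm_U K h hh u hu)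

theorem reeLong_conj' (n : GL chevG2.Idx K) (hl : reeLong K n) (v : GL chevG2.Idx K)
    (hv : v ∈ chevG2.negUnipotent K) : n⁻¹ * v * n ∈ chevG2.posUnipotent K := by
  obtain ⟨h, hh, rfl⟩ := hl
  have e : (nW (F := K) hD2 chevData_G2 [0, 1, 0, 1, 0, 1] * h)⁻¹ * v * (nW (F := K) hD2 chevData_G2 [0, 1, 0, 1, 0, 1] * h)
      = h⁻¹ * ((n0 K)⁻¹ * v * n0 K) * h⁻¹⁻¹ := by unfold n0; group
  rw [e]
  exact H_norm_U K _ (inv_mem hh) _ (n0_inv_conj_V K v hv)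

theorem reeLong_inv (n : GL chevG2.Idx K) (hl : reeLong K n) : reeLong K n⁻¹ := by
  obtain ⟨h, hh, rfl⟩ := hl
  refine ⟨(n0 K)⁻¹ * h⁻¹ * n0 K * (n0 K * n0 K)⁻¹, ?_, ?_⟩
  · exact mul_mem (inv_conj_H K _ (n0_mem_N K) _ (inv_mem hh)) (inv_mem (n0_sq K))
  · unfold n0; group

theorem reeLong_div (n n' : GL chevG2.Idx K) (hl : reeLong K n) (hl' : reeLong K n') :
    n⁻¹ * n' ∈ chevG2.diagonalSubgroup K := by
  obtain ⟨h, hh, rfl⟩ := hl
  obtain ⟨h', hh', rfl⟩ := hl'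
  have e : (nW (F := K) hD2 chevData_G2 [0, 1, 0, 1, 0, 1] * h)⁻¹ * (nW (F := K) hD2 chevData_G2 [0, 1, 0, 1, 0, 1] * h')
      = h⁻¹ * h' := by group
  rw [e]
  exact mul_mem (inv_mem hh) hh'

theorem reeLong_H_mul (n : GL chevG2.Idx K) (hl : reeLong K n) (h : GL chevG2.Idx K)
    (hh : h ∈ chevG2.diagonalSubgroup K) : reeLong K (h * n) := by
  obtain ⟨h', hh', rfl⟩ := hl
  refine ⟨(n0 K)⁻¹ * h * n0 K * h', mul_mem (inv_conj_H K _ (n0_mem_N K) _ hh) hh', ?_⟩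
  unfold n0; group

/-- Long elements send all positive root subgroups into `V`: `U_n⁻ = U`. -/
theorem reeLong_Um (n : GL chevG2.Idx K) (hl : reeLong K n) :
    Subgroup.closure (UnegSet chevG2 K n) = chevG2.posUnipotent K := by
  apply le_antisymm (closure_UnegSet_le chevG2 n)
  unfold ChevalleyDatum.posUnipotent
  apply Subgroup.closure_mono
  rintro g ⟨r, t, hr, hg⟩
  refine ⟨r, t, hr, ?_, hg⟩
  rintro z ⟨z₀, hz₀, rfl⟩
  obtain ⟨t₀, rfl⟩ := (mem_rootSubgroup_iff hD2 r z₀).mp hz₀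
  show n * xG hD2 r t₀ * n⁻¹ ∈ chevG2.negUnipotent K
  exact reeLong_conj K n hl _ (xG_mem_posUnipotent hD2 r t₀ hr)

/-- `U_h⁻ = 1` for `h ∈ H`. -/
theorem Um_H (h : GL chevG2.Idx K) (hh : h ∈ chevG2.diagonalSubgroup K) :
    Subgroup.closure (UnegSet chevG2 K h) = ⊥ := by
  rw [Subgroup.closure_eq_bot_iff]
  rintro g ⟨r, t, hr, hle, hg⟩
  exfalso
  obtain ⟨hr1, hr2⟩ := (isPos_iff r).mp hr
  -- `x_r(1) ∈ U ∩ V`
  have h1 : h * xG hD2 r 1 * h⁻¹ ∈ chevG2.negUnipotent K :=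
    hle (Subgroup.mem_map_of_mem _ ((mem_rootSubgroup_iff hD2 r _).mpr ⟨1, rfl⟩))
  have h2 : h * xG hD2 r 1 * h⁻¹ ∈ chevG2.posUnipotent K :=
    H_norm_U K h hh _ (xG_mem_posUnipotent hD2 r 1 hr)
  have h3 : h * xG hD2 r 1 * h⁻¹ ∈ chevG2.borelSubgroup K ⊓ chevG2.negUnipotent K :=
    Subgroup.mem_inf.mpr ⟨borel_of_posUnipotent _ h2, h1⟩
  rw [(Cfsg.Agent.S1037.result chevG2 hD2).1, Subgroup.mem_bot] at h3
  have h4 : xG hD2 r (1 : K) = 1 := by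
    have : xG hD2 r (1 : K) = h⁻¹ * (h * xG hD2 r 1 * h⁻¹) * h := by group
    rw [this, h3]; group
  have h5 : chevG2.x K r 1 = 1 := by
    have := congrArg Units.val h4
    simpa using this
  exact one_ne_zero ((Cfsg.Agent.S1024.result chevG2 hD2 r hr1 (1 : K)).mp h5)

/-- The parameter of a root element is determined by the element. -/
theorem xG_inj' (r : ℕ) (hr : r < 12) (a b : K) (h : xG hD2 r a = xG hD2 r b) : a = b := by
  have h1 : xG hD2 r (a + -b) = 1 := by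
    rw [← xG_mul, ← xG_inv, h, mul_inv_cancel]
  have h2 : chevG2.x K r (a + -b) = 1 := by
    have := congrArg Units.val h1
    simpa using this
  have h3 := (Cfsg.Agent.S1024.result chevG2 hD2 r hr (a + -b)).mp h2
  have : a = a + -b + b := by ring
  rw [this, h3, zero_add]

/-- `n₀⁻¹ x_r(t) n₀ = x_{-r}(± t)`, with the sign of `n₀ x_{-r} n₀⁻¹`. -/
theorem n0_inv_conj_xG (r : ℕ) (hr : r < 12) : ∃ η : K, (η = 1 ∨ η = -1) ∧
    (∀ t : K, (n0 K)⁻¹ * xG hD2 r t * n0 K = xG hD2 (11 - r) (η * t)) ∧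
    (∀ t : K, n0 K * xG hD2 (11 - r) t * (n0 K)⁻¹ = xG hD2 r (η * t)) := by
  obtain ⟨η, hη, h⟩ := n0_conj_xG K (11 - r) (by omega)
  have e : 11 - (11 - r) = r := by omega
  rw [e] at h
  refine ⟨η, hη, fun t => ?_, h⟩
  have h' := h (η * t)
  have hηη : η * (η * t) = t := by rcases hη with rfl | rfl <;> ring
  rw [hηη] at h'
  rw [← h']; group

theorem cartan_neg_tab : chevG2.cartan 0 7 = 2 ∧ chevG2.cartan 1 7 = -1 ∧ chevG2.cartan 0 4 = -2 ∧
    chevG2.cartan 1 4 = 1 ∧ chevG2.cartan 0 6 = -3 ∧ chevG2.cartan 1 6 = 2 ∧ chevG2.cartan 0 5 = 3 ∧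
    chevG2.cartan 1 5 = -2 := by decide

/-- The action of `n₀ (tor x y) n₀⁻¹` on `x_r(t)`. -/
theorem n0_tor_conj (x y : Kˣ) (r : ℕ) (hr : r < 12) (t : K) :
    (n0 K * tor x y * (n0 K)⁻¹) * xG hD2 r t * (n0 K * tor x y * (n0 K)⁻¹)⁻¹
      = xG hD2 r ((x : K) ^ chevG2.cartan 0 (11 - r) * (y : K) ^ chevG2.cartan 1 (11 - r) * t) := by
  obtain ⟨η, hη, h1, h2⟩ := n0_inv_conj_xG K r hr
  have e : (n0 K * tor x y * (n0 K)⁻¹) * xG hD2 r t * (n0 K * tor x y * (n0 K)⁻¹)⁻¹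
      = n0 K * (tor x y * ((n0 K)⁻¹ * xG hD2 r t * n0 K) * (tor x y)⁻¹) * (n0 K)⁻¹ := by group
  rw [e, h1, tor_conj_xG x y (11 - r) (by omega), h2]
  congr 1
  rcases hη with rfl | rfl <;> ring

/-- `n₀` inverts `H`. -/
theorem n0_inverts [Fintype K] [CharP K 3] (k : GL chevG2.Idx K) (hk : k ∈ chevG2.diagonalSubgroup K) : n0 K * k * (n0 K)⁻¹ = k⁻¹ := by
  obtain ⟨x, y, rfl⟩ := (mem_diag_iff k).mp hk
  obtain ⟨x', y', e'⟩ := (mem_diag_iff _).mp (conj_H K (n0 K) (n0_mem_N K) _ hk)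
  obtain ⟨c1, c2, c3, c4, c5, c6, c7, c8⟩ := cartan_neg_tab
  -- compare the actions on `x_a(1)` and `x_b(1)`
  have ha := n0_tor_conj K x y 7 (by norm_num) 1
  rw [e', tor_conj_xG x' y' 7 (by norm_num)] at ha
  have ha' := xG_inj' K 7 (by norm_num) _ _ ha
  have hb := n0_tor_conj K x y 6 (by norm_num) 1
  rw [e', tor_conj_xG x' y' 6 (by norm_num)] at hb
  have hb' := xG_inj' K 6 (by norm_num) _ _ hb
  rw [show (11 : ℕ) - 7 = 4 from rfl, c1, c2, c3, c4, mul_one, mul_one] at ha'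
  rw [show (11 : ℕ) - 6 = 5 from rfl, c5, c6, c7, c8, mul_one, mul_one] at hb'
  have hx : (x : K) ≠ 0 := x.ne_zero
  have hy : (y : K) ≠ 0 := y.ne_zero
  have hx' : (x' : K) ≠ 0 := x'.ne_zero
  have hy' : (y' : K) ≠ 0 := y'.ne_zero
  -- `p = x' x`, `s = y' y`: `p² = s`, `s² = p³`
  have E1 : ((x' : K) * x) ^ 2 = (y' : K) * y := by
    have := ha'
    simp only [zpow_neg, zpow_ofNat, zpow_one] at this
    field_simp at this
    linear_combination this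
  have E2 : ((y' : K) * y) ^ 2 = ((x' : K) * x) ^ 3 := by
    have := hb'
    simp only [zpow_neg, zpow_ofNat, zpow_one] at this
    field_simp at this
    linear_combination this
  have hp0 : (x' : K) * x ≠ 0 := mul_ne_zero hx' hx
  have hp : (x' : K) * x = 1 := by
    have h4 : ((x' : K) * x) ^ 3 * ((x' : K) * x - 1) = 0 := by
      have : ((x' : K) * x) ^ 4 = ((x' : K) * x) ^ 3 := by
        rw [← E2, ← E1]; ring
      linear_combination this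
    rcases mul_eq_zero.mp h4 with h5 | h5
    · exact absurd h5 (pow_ne_zero _ hp0)
    · linear_combination h5
  have hs : (y' : K) * y = 1 := by rw [← E1, hp]; ring
  have hxx : x' = x⁻¹ := by
    rw [eq_inv_iff_mul_eq_one]
    apply Units.ext
    rw [Units.val_mul, Units.val_one, hp]
  have hyy : y' = y⁻¹ := by
    rw [eq_inv_iff_mul_eq_one]
    apply Units.ext
    rw [Units.val_mul, Units.val_one, hs]
  rw [e', hxx, hyy, eq_inv_iff_mul_eq_one, ← tor_mul, inv_mul_cancel, inv_mul_cancel, tor_one]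

theorem reeLong_inverts [Fintype K] [CharP K 3] (n : GL chevG2.Idx K) (hl : reeLong K n) (k : GL chevG2.Idx K)
    (hk : k ∈ chevG2.diagonalSubgroup K) : n * k * n⁻¹ = k⁻¹ := by
  obtain ⟨h, hh, rfl⟩ := hl
  have e : nW (F := K) hD2 chevData_G2 [0, 1, 0, 1, 0, 1] * h * k * (nW (F := K) hD2 chevData_G2 [0, 1, 0, 1, 0, 1] * h)⁻¹
      = n0 K * (h * k * h⁻¹) * (n0 K)⁻¹ := by unfold n0; group
  have e2 : h * k * h⁻¹ = k := by
    rw [Cfsg.Agent.S1050.diagonal_comm chevG2 hD2 h k hh hk]; group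
  rw [e, e2]
  exact n0_inverts K k hk

end Cfsg.Agent.Lib.Helper19.ReeLong
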