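/-
helper19: the basic fields of the twisted rank-one datum for `G₂(K)` (any field `K`), from helper18's (B, N)-pair
library for Chevalley groups.
-/
import Cfsg.Agent.Lib.Helper18.Tw10
import Cfsg.Agent.S1050
import Cfsg.Agent.S1099

set_option autoImplicit false

namespace Cfsg.Agent.Lib.Helper19.Ree

open Cfsg.Lie Cfsg.Agent.Lib.Helper18 Cfsg.Agent.Lib.Helper17 Cfsg.Agent.S1099

universe u

variable {K : Type u} [Field K]

/-- `H` normalises `U`. -/
theorem g2_H_norm_U (h : GL chevG2.Idx K) (hh : h ∈ chevG2.diagonalSubgroup K) (u : GL chevG2.Idx K)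
    (hu : u ∈ chevG2.posUnipotent K) : h * u * h⁻¹ ∈ chevG2.posUnipotent K :=
  ((Cfsg.Agent.S1036.result chevG2 hD2).1 hh u).mp hu

/-- `V ∩ UH = 1`. -/
theorem g2_V_inf_B (v : GL chevG2.Idx K) (hv : v ∈ chevG2.negUnipotent K) (u : GL chevG2.Idx K)
    (hu : u ∈ chevG2.posUnipotent K) (h : GL chevG2.Idx K) (hh : h ∈ chevG2.diagonalSubgroup K)
    (e : v = u * h) : v = 1 := by
  have hB : v ∈ chevG2.borelSubgroup K := by
    rw [e]; exact mul_mem (borel_of_posUnipotent _ hu) (borel_of_diagonal _ hh)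
  have h1 : v ∈ chevG2.borelSubgroup K ⊓ chevG2.negUnipotent K := Subgroup.mem_inf.mpr ⟨hB, hv⟩
  rw [(Cfsg.Agent.S1037.result chevG2 hD2).1, Subgroup.mem_bot] at h1
  exact h1

/-- Existence of the normal form `u₀ n u`. -/
theorem g2_ex (g : GL chevG2.Idx K) (hg : g ∈ chevG2.group K) :
    ∃ u₀ ∈ chevG2.posUnipotent K, ∃ n ∈ chevG2.monomialSubgroup K,
      ∃ u ∈ Subgroup.closure (UnegSet chevG2 K n), g = u₀ * n * u := by
  obtain ⟨L⟩ := nonempty_levelData chevG2 hD2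
  obtain ⟨b, hb, n, hn, u, hu, rfl⟩ := exists_bruhat_form hD2 chevData_G2 L g hg
  obtain ⟨u₀, hu₀, h₀, hh₀, rfl⟩ := (mem_borel_iff chevG2 hD2 b).mp hb
  refine ⟨u₀, hu₀, h₀ * n, mul_mem (diagonal_le_monomial hD2 hh₀) hn, u,
    Subgroup.closure_mono (UnegSet_diag_mul hD2 n h₀ hh₀) hu, ?_⟩
  group

/-- Strong uniqueness of the normal form. -/
theorem g2_uniq (u₀ u₀' n n' u u' : GL chevG2.Idx K) (hu₀ : u₀ ∈ chevG2.posUnipotent K)
    (hu₀' : u₀' ∈ chevG2.posUnipotent K) (hn : n ∈ chevG2.monomialSubgroup K)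
    (hn' : n' ∈ chevG2.monomialSubgroup K) (hu : u ∈ Subgroup.closure (UnegSet chevG2 K n))
    (hu' : u' ∈ Subgroup.closure (UnegSet chevG2 K n')) (h : u₀ * n * u = u₀' * n' * u') :
    u₀ = u₀' ∧ n = n' ∧ u = u' :=
  bruhat_strong_unique hD2 chevData_G2 u₀ u₀' n n' u u' hu₀ hu₀' hn hn' hu hu' h

end Cfsg.Agent.Lib.Helper19.Ree
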