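/-
helper19: the twisted rank-one datum of the small Ree group `²G₂(q)` inside `GL chevG2.Idx K`, assembled from
helper18's (B, N)-pair library, helper91's twisting automorphism, helper61's fixed-point computations,
helper43's long-element facts and helper18's `ReeW0`.
-/
import Cfsg.Agent.Lib.Helper19.ReeTwBase
import Cfsg.Agent.Lib.Helper19.ReeAbsE
import Cfsg.Agent.Lib.Helper91.ReeSig
import Cfsg.Agent.Lib.Helper18.ReeW0
import Cfsg.Agent.Lib.Helper61.Ree.FixU
import Cfsg.Agent.Lib.Helper61.ChevJ.G2ReeV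
import Cfsg.Agent.Lib.Helper19.ReeLong19

set_option autoImplicit false

namespace Cfsg.Agent.Lib.Helper19.Ree

open Cfsg.Lie Cfsg.Agent.Lib.Helper18 Cfsg.Agent.Lib.Helper17 Cfsg.Agent.S1099 Cfsg.Agent.Lib.Helper91.Ree
open Cfsg.Agent.Lib.Helper19.ReeAbs Cfsg.Agent.Lib.Helper19.ReeLong
open Cfsg.Agent.Lib.Helper61.ChevJ.G2Char3 Cfsg.Agent.Lib.Helper61.ChevJ.G2ReeV

universe u

variable (K : Type u) [Field K] [Fintype K] [CharP K 3] (m : ℕ)

theorem reeWordU_zero (θ : ℕ) (hθ : θ ≠ 0) : wordG hD2 (reeWordU θ (0 : K) 0 0) = 1 := by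
  rw [wordG_reeWordU]
  simp only [zero_pow hθ, zero_pow (by norm_num : (3 : ℕ) ≠ 0), zero_pow (by norm_num : (2 : ℕ) ≠ 0), mul_zero,
    add_zero]
  exact uu_zero

theorem three_pow_ne_zero (m : ℕ) : (3 : ℕ) ^ m ≠ 0 := pow_ne_zero _ (by norm_num)

/-- The twisted rank-one datum of `²G₂(q)`. -/
noncomputable def reeTw (hq : ∀ t : K, t ^ (3 * 3 ^ m * 3 ^ m) = t) : TwData (GL chevG2.Idx K) where
  U := chevG2.posUnipotent K
  V := chevG2.negUnipotent K
  H := chevG2.diagonalSubgroup K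
  N := chevG2.monomialSubgroup K
  Um := fun n => Subgroup.closure (UnegSet chevG2 K n)
  L := fun n => reeLong K n
  F := (reeFix K m).map (chevG2.group K).subtype
  G1 := twistedG2 K (3 ^ m)
  Um_le := fun n => closure_UnegSet_le chevG2 n
  H_le_N := diagonal_le_monomial hD2
  H_comm := fun h hh h' hh' => Cfsg.Agent.S1050.diagonal_comm chevG2 hD2 h h' hh hh'
  N_norm_H := fun n hn h hh => monomial_conj_diagonal hD2 chevData_G2 n h hn hh
  H_norm_U := fun h hh u hu => g2_H_norm_U h hh u hu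
  V_inf_B := fun v hv u hu h hh e => g2_V_inf_B v hv u hu h hh e
  ex := fun g hg => by
    obtain ⟨x, -, rfl⟩ := hg
    exact g2_ex (x : GL chevG2.Idx K) x.2
  uniq := fun u₀ u₀' n n' u u' hu₀ hu₀' hn hn' hu hu' h => g2_uniq u₀ u₀' n n' u u' hu₀ hu₀' hn hn' hu hu' h
  Um_H := fun h hh => Um_H K h hh
  L_Um := fun n _ hl => reeLong_Um K n hl
  long_conj := fun n _ hl u hu => reeLong_conj K n hl u hu
  long_conj' := fun n _ hl v hv => reeLong_conj' K n hl v hv
  long_inv := fun n _ hl => reeLong_inv K n hl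
  long_div := fun n _ n' _ hl hl' => reeLong_div K n n' hl hl'
  long_mul_H := fun n _ hl h hh => reeLong_H_mul K n hl h hh
  long_inverts := fun n _ hl h hh => reeLong_inverts K n hl h hh
  F_form := fun u₀ hu₀ n hn u hu hF => reeF_form K m u₀ n u hu₀ hn hu hF
  fixN := fun n hn hF => Cfsg.Agent.Lib.Helper18.ReeW0.fixN K m n hn hF
  G1_le_F := twistedG2_le_reeFix K m hq
  fixU_le := fun x hx hF => Cfsg.Agent.Lib.Helper61.Ree.fixU_le K m hq x hx hF
  exists_nonB := by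
    refine ⟨wordG hD2 (reeWordV (3 ^ m) (1 : K) 0 0), wordG_reeWordV_mem_twisted _ _ _ _, ?_⟩
    intro u hu h hh e
    have h1 := g2_V_inf_B _ (wordG_reeWordV_mem_V (3 ^ m) (1 : K) 0 0) u hu h hh e
    have h2 : wordG hD2 (reeWordV (3 ^ m) (1 : K) 0 0) = wordG hD2 (reeWordV (3 ^ m) (0 : K) 0 0) := by
      rw [h1, wordG_reeWordV, reeWordU_zero K _ (three_pow_ne_zero m), map_one]
    exact one_ne_zero (reeWordV_inj _ _ _ _ _ _ _ h2).1
  U1_ne := by
    refine ⟨wordG hD2 (reeWordU (3 ^ m) (1 : K) 0 0), wordG_reeWordU_mem_U _ _ _ _,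
      twistedG2_le_reeFix K m hq (wordG_reeWordU_mem_twisted _ _ _ _), ?_⟩
    intro h1
    rw [← reeWordU_zero K _ (three_pow_ne_zero m)] at h1
    exact one_ne_zero (reeWordU_inj _ _ _ _ _ _ _ h1).1

end Cfsg.Agent.Lib.Helper19.Ree
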