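/-
helper19: the structure theorems of the small Ree groups `²G₂(q)`, `q = 3^(2m+1)`, from the abstract machine
`ReeAbsA`–`ReeAbsE` and the datum `reeTw`.
-/
import Cfsg.Agent.Lib.Helper19.ReeTw
import Cfsg.Agent.Lib.Helper19.ReeAux
import Cfsg.Agent.Lib.Helper61.Ree.HFix
import Cfsg.Agent.Lib.Helper61.Ree.HAct
import Cfsg.Agent.Lib.Helper20.ReeH0
import Cfsg.Agent.S1101

set_option autoImplicit false

namespace Cfsg.Agent.Lib.Helper19.Ree

open Cfsg.Lie Cfsg.Agent.Lib.Helper18 Cfsg.Agent.Lib.Helper17 Cfsg.Agent.S1099 Cfsg.Agent.Lib.Helper91.Ree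
open Cfsg.Agent.Lib.Helper19.ReeAbs Cfsg.Agent.Lib.Helper61.Ree
open Cfsg.Agent.Lib.Helper61.ChevJ.G2Char3 Cfsg.Agent.Lib.Helper61.ChevJ.G2ReeV

universe u

variable (K : Type u) [Field K] [Fintype K] [CharP K 3] (m : ℕ)

/-- `h_a(-1) h_b(-1) ∈ ²G₂(q)` (helper20's certificate). -/
theorem reeH_neg_one_mem : reeH (3 ^ m) (-1 : Kˣ) ∈ twistedG2 K (3 ^ m) := by
  obtain ⟨g, hg, e⟩ := Cfsg.Agent.Lib.Helper20.ReeH0.h0_mem (K := K) (3 ^ m) (odd_three_pow m)
  have : reeH (3 ^ m) (-1 : Kˣ) = g := Units.ext (by rw [coe_reeH_neg_one, e])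
  rw [this]
  exact hg

variable {m} (hK : Fintype.card K = 3 ^ (2 * m + 1))

include hK in
theorem card_mod_four : Fintype.card K % 4 = 3 := by
  rw [hK]; exact three_pow_mod_four m

/-- The coordinates on `U¹`. -/
noncomputable def reeUU (t u v : K) : GL chevG2.Idx K := wordG hD2 (reeWordU (3 ^ m) t u v)

/-- The two characters of the torus on `U¹`. -/
noncomputable def reeChi1 (c : Kˣ) : K := (c : K) ^ 2 * ((c : K) ^ (3 * 3 ^ m))⁻¹
noncomputable def reeChi2 (c : Kˣ) : K := (c : K) ^ (3 * 3 ^ m) * (c : K)⁻¹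

include hK in
/-- `|H¹| = q - 1`. -/
theorem card_H1 : Nat.card ↥(chevG2.diagonalSubgroup K ⊓ twistedG2 K (3 ^ m)) = 3 ^ (2 * m + 1) - 1 := by
  have h := (reeTw K m (hq_of_card hK)).card_H1 (card_mod_four K hK) (reeHHom (3 ^ m))
    (fun c => reeH_mem_H (3 ^ m) c) (fun c => reeH_mem_F m (hq_of_card hK) c)
    (fun h hh hF => reeH_surj m (hq_of_card hK) h hh hF) (reeH_injective (3 ^ m)) (reeH_neg_one_mem K m)
  rw [hK] at h
  exact h

include hK in
/-- `H¹` is cyclic. -/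
theorem isCyclic_H1 : IsCyclic ↥(chevG2.diagonalSubgroup K ⊓ twistedG2 K (3 ^ m)) :=
  (reeTw K m (hq_of_card hK)).isCyclic_H1 (card_mod_four K hK) (reeHHom (3 ^ m))
    (fun c => reeH_mem_H (3 ^ m) c) (fun c => reeH_mem_F m (hq_of_card hK) c)
    (fun h hh hF => reeH_surj m (hq_of_card hK) h hh hF) (reeH_injective (3 ^ m)) (reeH_neg_one_mem K m)

include hK in
/-- `H¹ ≅ K*`. -/
theorem exists_torus_equiv : ∃ e : Kˣ ≃* ↥(chevG2.diagonalSubgroup K ⊓ twistedG2 K (3 ^ m)),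
    ∀ c, ((e c : ↥(chevG2.diagonalSubgroup K ⊓ twistedG2 K (3 ^ m))) : GL chevG2.Idx K) = reeH (3 ^ m) c :=
  (reeTw K m (hq_of_card hK)).torus_equiv (card_mod_four K hK) (reeHHom (3 ^ m))
    (fun c => reeH_mem_H (3 ^ m) c) (fun c => reeH_mem_F m (hq_of_card hK) c)
    (fun h hh hF => reeH_surj m (hq_of_card hK) h hh hF) (reeH_injective (3 ^ m)) (reeH_neg_one_mem K m)

include hK in
/-- A torus element centralising `U¹` is trivial. -/
theorem ree_torus_faithful (c : Kˣ)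
    (hc : ∀ x ∈ chevG2.posUnipotent K, x ∈ twistedG2 K (3 ^ m) → reeH (3 ^ m) c * x = x * reeH (3 ^ m) c) : c = 1 :=
  (reeTw K m (hq_of_card hK)).torus_faithful (reeHHom (3 ^ m)) (fun t u v => wordG hD2 (reeWordU (3 ^ m) t u v))
    (fun t u v t' u' v' h => reeWordU_inj (3 ^ m) t u v t' u' v' h)
    (fun t u v => ⟨wordG_reeWordU_mem_U _ t u v, wordG_reeWordU_mem_twisted _ t u v⟩)
    (fun c => (c : K) ^ 2 * ((c : K) ^ (3 * 3 ^ m))⁻¹) (fun c => (c : K) ^ (3 * 3 ^ m) * (c : K)⁻¹)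
    (fun c t u v => reeH_conj m (hq_of_card hK) c t u v) c hc

include hK in
/-- A nontrivial torus element of odd order has no fixed points on `U¹`. -/
theorem ree_torus_fpf (c : Kˣ) (hc1 : c ≠ 1) (hodd : Odd (orderOf c)) (x : GL chevG2.Idx K)
    (hxU : x ∈ chevG2.posUnipotent K) (hx1 : x ∈ twistedG2 K (3 ^ m))
    (hcomm : reeH (3 ^ m) c * x = x * reeH (3 ^ m) c) : x = 1 :=
  (reeTw K m (hq_of_card hK)).torus_fpf (reeHHom (3 ^ m)) (fun t u v => wordG hD2 (reeWordU (3 ^ m) t u v))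
    (fun t u v t' u' v' h => reeWordU_inj (3 ^ m) t u v t' u' v' h)
    (fun x hxU hx1 => (U_twisted_iff hK x).mp ⟨hxU, hx1⟩)
    (reeWordU_zero K _ (three_pow_ne_zero m))
    (fun c => (c : K) ^ 2 * ((c : K) ^ (3 * 3 ^ m))⁻¹) (fun c => (c : K) ^ (3 * 3 ^ m) * (c : K)⁻¹)
    (fun c t u v => reeH_conj m (hq_of_card hK) c t u v)
    (fun c h => unit_eq_one_of_chi1 (3 ^ m) c (hq_of_card hK (c : K)) h)
    (fun c h => unit_sq_eq_one_of_chi2 (3 ^ m) c (hq_of_card hK (c : K)) h)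
    c hc1 hodd x hxU hx1 hcomm

include hK in
/-- The core of `B¹` is trivial. -/
theorem core_B1 : ((chevG2.borelSubgroup K ⊓ twistedG2 K (3 ^ m)).subgroupOf (twistedG2 K (3 ^ m))).normalCore = ⊥ := by
  apply (reeTw K m (hq_of_card hK)).core_trivial
  intro h hh h1 hcomm
  obtain ⟨c, rfl⟩ := reeH_surj m (hq_of_card hK) h hh (twistedG2_le_reeFix K m (hq_of_card hK) h1)
  have : c = 1 := ree_torus_faithful K hK c hcomm
  rw [this, reeH_one]

/-- Generation of `²G₂(q)` by `U¹` and `V¹`. -/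
theorem ree_gen (K' : Subgroup (GL chevG2.Idx K))
    (hU : ∀ x ∈ chevG2.posUnipotent K, x ∈ twistedG2 K (3 ^ m) → x ∈ K')
    (hV : ∀ x ∈ chevG2.negUnipotent K, x ∈ twistedG2 K (3 ^ m) → x ∈ K') : twistedG2 K (3 ^ m) ≤ K' := by
  unfold twistedG2 ChevalleyDatum.genSubgroup
  rw [Subgroup.closure_le]
  rintro g ⟨w, ⟨t, u, v, hw | hw⟩, hg⟩
  · have e : g = wordG hD2 (reeWordU (3 ^ m) t u v) := by
      apply Units.ext
      rw [hg, hw, coe_wordG]
    rw [e]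
    exact hU _ (wordG_reeWordU_mem_U _ t u v) (wordG_reeWordU_mem_twisted _ t u v)
  · have e : g = wordG hD2 (reeWordV (3 ^ m) t u v) := by
      apply Units.ext
      rw [hg, hw, coe_wordG]
    rw [e]
    exact hV _ (wordG_reeWordV_mem_V _ t u v) (wordG_reeWordV_mem_twisted _ t u v)

include hK in
/-- There is a unit of odd order different from `1` when `m ≥ 1`. -/
theorem exists_odd_unit (hm : 1 ≤ m) : ∃ c : Kˣ, c ≠ 1 ∧ Odd (orderOf c) := by
  have h := two_mul_card_odd_units (card_mod_four K hK)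
  have hbig : 27 ≤ Fintype.card K := by
    rw [hK]
    calc 27 = 3 ^ 3 := by norm_num
      _ ≤ 3 ^ (2 * m + 1) := Nat.pow_le_pow_right (by norm_num) (by omega)
  have h2 : 2 ≤ Nat.card {c : Kˣ // Odd (orderOf c)} := by omega
  haveI : Finite {c : Kˣ // Odd (orderOf c)} := inferInstance
  obtain ⟨a, b, hab⟩ := (Finite.one_lt_card_iff_nontrivial.mp (by omega : 1 < Nat.card {c : Kˣ // Odd (orderOf c)})).exists_pair_ne
  by_cases ha : (a : Kˣ) = 1
  · refine ⟨b, ?_, b.2⟩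
    intro hb
    apply hab
    apply Subtype.ext
    rw [ha, hb]
  · exact ⟨a, ha, a.2⟩

include hK in
/-- `²G₂(q)` is perfect for `m ≥ 1`. -/
theorem ree_perfect (hm : 1 ≤ m) : commutator ↥(twistedG2 K (3 ^ m)) = ⊤ := by
  obtain ⟨c, hc1, hodd⟩ := exists_odd_unit K hK hm
  obtain ⟨e, he⟩ := exists_torus_equiv K hK
  have hmem := (e c).2
  rw [he c] at hmem
  exact (reeTw K m (hq_of_card hK)).perfect (ree_gen K) (reeH (3 ^ m) c) (Subgroup.mem_inf.mp hmem).1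
    (Subgroup.mem_inf.mp hmem).2 (fun x hxU hx1 hcomm => ree_torus_fpf K hK c hc1 hodd x hxU hx1 hcomm)

include hK in
/-- `|²G₂(q)| = q³ (q - 1) (q³ + 1)`. -/
theorem ree_card : Nat.card ↥(twistedG2 K (3 ^ m))
    = (3 ^ (2 * m + 1)) ^ 3 * (3 ^ (2 * m + 1) - 1) * ((3 ^ (2 * m + 1)) ^ 3 + 1) := by
  have h := (reeTw K m (hq_of_card hK)).card_G1
  have hU : Nat.card ↥(chevG2.posUnipotent K ⊓ twistedG2 K (3 ^ m)) = (3 ^ (2 * m + 1)) ^ 3 :=
    (Cfsg.Agent.S1101.main hK).2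
  have hH := card_H1 K hK
  calc Nat.card ↥(twistedG2 K (3 ^ m))
      = Nat.card ↥(chevG2.posUnipotent K ⊓ twistedG2 K (3 ^ m))
        * Nat.card ↥(chevG2.diagonalSubgroup K ⊓ twistedG2 K (3 ^ m))
        * (Nat.card ↥(chevG2.posUnipotent K ⊓ twistedG2 K (3 ^ m)) + 1) := h
    _ = _ := by rw [hU, hH]

include hK in
/-- `²G₂(q)` is simple for `m ≥ 1`. -/
theorem ree_simple (hm : 1 ≤ m) : IsSimpleGroup ↥(twistedG2 K (3 ^ m)) := by
  apply (reeTw K m (hq_of_card hK)).simple (ree_gen K) (ree_perfect K hK hm) (core_B1 K hK)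
  -- `U¹` is a `3`-group
  have hle : chevG2.posUnipotent K ⊓ twistedG2 K (3 ^ m) ≤ twistedG2 K (3 ^ m) := inf_le_right
  have hcard : Nat.card ↥((chevG2.posUnipotent K ⊓ twistedG2 K (3 ^ m)).subgroupOf (twistedG2 K (3 ^ m)))
      = 3 ^ ((2 * m + 1) * 3) := by
    rw [Nat.card_congr (Subgroup.subgroupOfEquivOfLe hle).toEquiv, (Cfsg.Agent.S1101.main hK).2, ← pow_mul]
  haveI : Fact (Nat.Prime 3) := ⟨Nat.prime_three⟩
  have hp : IsPGroup 3 ↥((chevG2.posUnipotent K ⊓ twistedG2 K (3 ^ m)).subgroupOf (twistedG2 K (3 ^ m))) :=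
    IsPGroup.of_card hcard
  haveI := hp.isNilpotent
  have hs : Group.IsSolvable ↥((chevG2.posUnipotent K ⊓ twistedG2 K (3 ^ m)).subgroupOf (twistedG2 K (3 ^ m))) :=
    inferInstance
  exact hs

include hK in
/-- Twice the number of elements of odd order of `H¹` is `q - 1`. -/
theorem ree_odd_count :
    2 * Nat.card {h : ↥(chevG2.diagonalSubgroup K ⊓ twistedG2 K (3 ^ m)) // Odd (orderOf h)} = 3 ^ (2 * m + 1) - 1 := by
  obtain ⟨e, -⟩ := exists_torus_equiv K hK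
  have h := two_mul_card_odd_units (card_mod_four K hK)
  rw [hK] at h
  rw [← h]
  congr 1
  apply Nat.card_congr
  exact (e.toEquiv.subtypeEquiv (fun c => by
    show Odd (orderOf c) ↔ Odd (orderOf (e c))
    rw [e.orderOf_eq])).symm

include hK in
/-- A nontrivial element of odd order of `H¹` has no fixed points on `U¹`. -/
theorem ree_fpf (h : GL chevG2.Idx K) (hh : h ∈ chevG2.diagonalSubgroup K ⊓ twistedG2 K (3 ^ m)) (h1 : h ≠ 1)
    (hodd : Odd (orderOf h)) :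
    (chevG2.posUnipotent K ⊓ twistedG2 K (3 ^ m)) ⊓ Subgroup.centralizer {h} = ⊥ := by
  obtain ⟨c, rfl⟩ := reeH_surj m (hq_of_card hK) h (Subgroup.mem_inf.mp hh).1
    (twistedG2_le_reeFix K m (hq_of_card hK) (Subgroup.mem_inf.mp hh).2)
  have hc1 : c ≠ 1 := fun hc => h1 (by rw [hc, reeH_one])
  have hoc : orderOf (reeH (3 ^ m) c) = orderOf c :=
    orderOf_injective (reeHHom (3 ^ m)) (reeH_injective (3 ^ m)) c
  rw [hoc] at hodd
  rw [eq_bot_iff]
  intro x hx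
  rw [Subgroup.mem_bot]
  obtain ⟨hx1, hx2⟩ := Subgroup.mem_inf.mp hx
  obtain ⟨hxU, hxG⟩ := Subgroup.mem_inf.mp hx1
  have hcomm : reeH (3 ^ m) c * x = x * reeH (3 ^ m) c :=
    Subgroup.mem_centralizer_iff.mp hx2 _ (Set.mem_singleton _)
  exact ree_torus_fpf K hK c hc1 hodd x hxU hxG hcomm

/-- `²G₂(q)` is not commutative for `m ≥ 1`. -/
theorem ree_not_comm (hK : Fintype.card K = 3 ^ (2 * m + 1)) (hm : 1 ≤ m) :
    ¬ IsMulCommutative ↥(twistedG2 K (3 ^ m)) := by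
  intro hc
  have hperf := ree_perfect K hK hm
  have hsimp := ree_simple K hK hm
  have hbot : commutator ↥(twistedG2 K (3 ^ m)) = ⊥ := by
    rw [commutator_eq_bot_iff_center_eq_top, eq_top_iff]
    intro x _
    rw [Subgroup.mem_center_iff]
    intro g
    exact hc.is_comm.comm g x
  rw [hbot] at hperf
  haveI := hsimp.toNontrivial
  exact bot_ne_top hperf

end Cfsg.Agent.Lib.Helper19.Ree
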