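/-
helper19: abstract skeleton for `Out(²G₂(q))` (S2127), definitions.

Level 1 (`R1`): a group `Γ` with a split rank-one Bruhat decomposition `Γ = UH ∪ UHnU`.
Level 2 (`Coord`): coordinates `R t u v` on `U` (multiplication law of the Sylow 3-subgroup of the small Ree
group, `σ` a field endomorphism with `σ² = Frobenius`) and a torus `h : Kˣ →* Γ` acting diagonally.
-/
import Mathlib

set_option autoImplicit false

namespace Cfsg.Agent.Lib.Helper19.ReeOut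

/-- Split rank-one Bruhat data in a group `Γ`. -/
structure R1 (Γ : Type*) [Group Γ] where
  U : Subgroup Γ
  H : Subgroup Γ
  n : Γ
  normU : ∀ h ∈ H, ∀ u ∈ U, h * u * h⁻¹ ∈ U
  normH : ∀ h ∈ H, n * h * n⁻¹ ∈ H
  n_sq : n * n ∈ H
  bruhat : ∀ g : Γ, (∃ u ∈ U, ∃ h ∈ H, g = u * h) ∨ ∃ u ∈ U, ∃ h ∈ H, ∃ u' ∈ U, g = u * h * n * u'
  opp : ∀ u ∈ U, ∀ u' ∈ U, ∀ h ∈ H, n * u * n⁻¹ = u' * h → u = 1
  U_ne : ∃ u ∈ U, u ≠ 1

variable {Γ : Type*} [Group Γ]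

/-- The opposite unipotent subgroup `V = n U n⁻¹`. -/
def R1.V (D : R1 Γ) : Subgroup Γ := D.U.map (MulAut.conj D.n).toMonoidHom

theorem R1.mem_V_iff (D : R1 Γ) (g : Γ) : g ∈ D.V ↔ D.n⁻¹ * g * D.n ∈ D.U := by
  unfold R1.V
  constructor
  · rintro ⟨u, hu, rfl⟩
    show D.n⁻¹ * (D.n * u * D.n⁻¹) * D.n ∈ D.U
    have : D.n⁻¹ * (D.n * u * D.n⁻¹) * D.n = u := by group
    rw [this]; exact hu
  · intro h
    refine ⟨_, h, ?_⟩
    show D.n * (D.n⁻¹ * g * D.n) * D.n⁻¹ = g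
    group

/-- The automorphisms stabilising `U` and `V`. -/
def R1.A0 (D : R1 Γ) : Subgroup (MulAut Γ) where
  carrier := {α | (∀ g, α g ∈ D.U ↔ g ∈ D.U) ∧ (∀ g, α g ∈ D.V ↔ g ∈ D.V)}
  one_mem' := ⟨fun _ => Iff.rfl, fun _ => Iff.rfl⟩
  mul_mem' := by
    rintro α β ⟨a1, a2⟩ ⟨b1, b2⟩
    exact ⟨fun g => (a1 (β g)).trans (b1 g), fun g => (a2 (β g)).trans (b2 g)⟩
  inv_mem' := by
    rintro α ⟨a1, a2⟩
    refine ⟨fun g => ?_, fun g => ?_⟩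
    · have := a1 (α⁻¹ g)
      rw [MulAut.apply_inv_self] at this
      exact this.symm
    · have := a2 (α⁻¹ g)
      rw [MulAut.apply_inv_self] at this
      exact this.symm

theorem R1.mem_A0_iff (D : R1 Γ) (α : MulAut Γ) :
    α ∈ D.A0 ↔ (∀ g, α g ∈ D.U ↔ g ∈ D.U) ∧ (∀ g, α g ∈ D.V ↔ g ∈ D.V) := Iff.rfl

/-- Coordinates on the Sylow 3-subgroup of a small Ree group together with the torus. -/
structure Coord (K : Type*) [Field K] (Γ : Type*) [Group Γ] where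
  σ : K →+* K
  R : K → K → K → Γ
  h : Kˣ →* Γ
  σσ : ∀ x, σ (σ x) = x ^ 3
  σ_ne : ∃ x, σ x ≠ x
  R_inj : ∀ {t u v t' u' v' : K}, R t u v = R t' u' v' → t = t' ∧ u = u' ∧ v = v'
  R_mul : ∀ t u v t' u' v' : K, R t u v * R t' u' v'
    = R (t + t') (u + u' - t * σ t') (v + v' - t' * u - t ^ 2 * σ t' + t * σ t' * t')
  h_conj : ∀ (c : Kˣ) (t u v : K), h c * R t u v * (h c)⁻¹
    = R ((c : K) * t) ((c : K) * σ c * u) ((c : K) ^ 2 * σ c * v)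

end Cfsg.Agent.Lib.Helper19.ReeOut
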