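/-
helper19: abstract assembly for `Out(²G₂(q))` (S2127): from the rank-one data `R1`, the coordinates `Coord`,
the Sylow hypothesis and the field automorphisms, `|Out Γ| = |Aut K|`.
-/
import Cfsg.Prelude.Def_KGroupFacts
import Cfsg.Agent.Lib.Helper54.ReeOutL1
import Cfsg.Agent.Lib.Helper23.ReeOutL2

set_option autoImplicit false

namespace Cfsg.Agent.Lib.Helper19.ReeOut

open Cfsg.Agent.Lib.Helper54.ReeOut (supplement mem_H_of_conj_mem_A0 conj_mem_A0 A0_map_H)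
open Cfsg.Agent.Lib.Helper23.ReeOutL2 (exists_semilinear)

/-- Abstract skeleton (after helper95's `OutSz.card_out_eq`): `Out G ≃ Δ` (as cardinalities) from a subgroup `A₀`
of automorphisms supplementing `Inn G` with a surjection to `Δ` whose kernel is `A₀ ∩ Inn G`. -/
theorem card_out_eq {G : Type*} [Group G] {Δ : Type*} [Group Δ] (A₀ : Subgroup (MulAut G))
    (hsup : ∀ β : MulAut G, ∃ g : G, ∃ α ∈ A₀, β = MulAut.conj g * α)
    (Ψ : A₀ →* Δ) (hsurj : Function.Surjective Ψ)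
    (hker : ∀ α : A₀, Ψ α = 1 ↔ (α : MulAut G) ∈ Cfsg.Inn G) :
    Nat.card (Cfsg.Out G) = Nat.card Δ := by
  let π : A₀ →* Cfsg.Out G := (QuotientGroup.mk' (Cfsg.Inn G)).comp A₀.subtype
  have hπ : Function.Surjective π := by
    intro q
    obtain ⟨β, rfl⟩ := QuotientGroup.mk_surjective q
    obtain ⟨g, α, hα, rfl⟩ := hsup β
    refine ⟨⟨α, hα⟩, ?_⟩
    show (QuotientGroup.mk α : Cfsg.Out G) = QuotientGroup.mk (MulAut.conj g * α)
    rw [QuotientGroup.mk_mul]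
    have : (QuotientGroup.mk (MulAut.conj g) : Cfsg.Out G) = 1 :=
      (QuotientGroup.eq_one_iff _).mpr ⟨g, rfl⟩
    rw [this, one_mul]
  have hk : π.ker = Ψ.ker := by
    ext α
    rw [MonoidHom.mem_ker, MonoidHom.mem_ker, hker]
    show (QuotientGroup.mk (α : MulAut G) : Cfsg.Out G) = 1 ↔ _
    exact QuotientGroup.eq_one_iff _
  have e1 := QuotientGroup.quotientKerEquivOfSurjective π hπ
  have e2 := QuotientGroup.quotientKerEquivOfSurjective Ψ hsurj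
  rw [← Nat.card_congr e1.toEquiv, ← Nat.card_congr e2.toEquiv, hk]

variable {Γ : Type*} [Group Γ] {K : Type*} [Field K] [Fintype K] [CharP K 3]

/-- `(a, φ)` describes the action of `α` on the `t`-coordinate. -/
def IsPair (C : Coord K Γ) (α : MulAut Γ) (a : K) (φ : K ≃+* K) : Prop :=
  a ≠ 0 ∧ ∀ t u v, ∃ u' v', α (C.R t u v) = C.R (a * φ t) u' v'

omit [Fintype K] [CharP K 3] in
theorem IsPair.unique {C : Coord K Γ} {α : MulAut Γ} {a a' : K} {φ φ' : K ≃+* K}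
    (h : IsPair C α a φ) (h' : IsPair C α a' φ') : a = a' ∧ φ = φ' := by
  have key : ∀ t, a * φ t = a' * φ' t := by
    intro t
    obtain ⟨u1, v1, e1⟩ := h.2 t 0 0
    obtain ⟨u2, v2, e2⟩ := h'.2 t 0 0
    rw [e1] at e2
    exact (C.R_inj e2).1
  have ha : a = a' := by
    have := key 1
    rwa [map_one, map_one, mul_one, mul_one] at this
  refine ⟨ha, ?_⟩
  ext t
  have := key t
  rw [← ha] at this
  exact mul_left_cancel₀ h.1 this

omit [Fintype K] [CharP K 3] in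
theorem IsPair.mul {C : Coord K Γ} {α β : MulAut Γ} {a b : K} {φ ψ : K ≃+* K}
    (h : IsPair C α a φ) (h' : IsPair C β b ψ) : IsPair C (α * β) (a * φ b) (φ * ψ) := by
  refine ⟨mul_ne_zero h.1 ((map_ne_zero φ).2 h'.1), fun t u v => ?_⟩
  obtain ⟨u1, v1, e1⟩ := h'.2 t u v
  obtain ⟨u2, v2, e2⟩ := h.2 (b * ψ t) u1 v1
  refine ⟨u2, v2, ?_⟩
  rw [MulAut.mul_apply, e1, e2, map_mul, mul_assoc]
  rfl

omit [Fintype K] [CharP K 3] in
theorem IsPair.one (C : Coord K Γ) : IsPair C 1 1 1 :=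
  ⟨one_ne_zero, fun t u v => ⟨u, v, by rw [one_mul]; rfl⟩⟩

section main

variable (D : R1 Γ) (C : Coord K Γ)
  (hDU : ∀ g, g ∈ D.U ↔ ∃ t u v, g = C.R t u v)
  (hDH : ∀ g, g ∈ D.H ↔ ∃ c, g = C.h c)

include hDU hDH in
theorem exists_pair {α : MulAut Γ} (hα : α ∈ D.A0) : ∃ φ : K ≃+* K, ∃ a : K, IsPair C α a φ := by
  have hU : ∀ t u v, ∃ t' u' v', α.toMonoidHom (C.R t u v) = C.R t' u' v' := by
    intro t u v
    exact (hDU _).1 (((D.mem_A0_iff α).1 hα).1 _ |>.2 ((hDU _).2 ⟨t, u, v, rfl⟩))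
  have hH : ∀ c, ∃ c', α.toMonoidHom (C.h c) = C.h c' := by
    intro c
    exact (hDH _).1 (A0_map_H D hα ((hDH _).2 ⟨c, rfl⟩))
  obtain ⟨a, φ, ha, h⟩ := exists_semilinear C α.toMonoidHom α.injective hU hH
  exact ⟨φ, a, ha, h⟩

/-- The field automorphism attached to an element of `A0`. -/
noncomputable def psi0 (α : D.A0) : K ≃+* K := (exists_pair D C hDU hDH α.2).choose

theorem psi0_spec (α : D.A0) : ∃ a : K, IsPair C (α : MulAut Γ) a (psi0 D C hDU hDH α) :=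
  (exists_pair D C hDU hDH α.2).choose_spec

theorem psi0_eq (α : D.A0) {a : K} {φ : K ≃+* K} (h : IsPair C (α : MulAut Γ) a φ) :
    psi0 D C hDU hDH α = φ := by
  obtain ⟨a', h'⟩ := psi0_spec D C hDU hDH α
  exact (h'.unique h).2

/-- The homomorphism `A0 →* Aut K`. -/
noncomputable def Psi : D.A0 →* (K ≃+* K) where
  toFun := psi0 D C hDU hDH
  map_one' := psi0_eq D C hDU hDH 1 (IsPair.one C)
  map_mul' := by
    intro α β
    obtain ⟨a, h⟩ := psi0_spec D C hDU hDH α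
    obtain ⟨b, h'⟩ := psi0_spec D C hDU hDH β
    exact psi0_eq D C hDU hDH (α * β) (h.mul h')

theorem Psi_eq (α : D.A0) {a : K} {φ : K ≃+* K} (h : IsPair C (α : MulAut Γ) a φ) :
    Psi D C hDU hDH α = φ := psi0_eq D C hDU hDH α h

omit [Fintype K] [CharP K 3] in
theorem isPair_conj (c : Kˣ) : IsPair C (MulAut.conj (C.h c)) (c : K) 1 := by
  refine ⟨c.ne_zero, fun t u v => ⟨(c : K) * C.σ c * u, (c : K) ^ 2 * C.σ c * v, ?_⟩⟩
  rw [MulAut.conj_apply, C.h_conj]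
  rfl

theorem Psi_ker (α : D.A0) : Psi D C hDU hDH α = 1 ↔ (α : MulAut Γ) ∈ Cfsg.Inn Γ := by
  constructor
  · intro h1
    obtain ⟨a, ha⟩ := psi0_spec D C hDU hDH α
    have h1' : psi0 D C hDU hDH α = 1 := h1
    rw [h1'] at ha
    -- β = conj (h a⁻¹) * α acts trivially on the `t`-coordinate
    let c : Kˣ := Units.mk0 a ha.1
    have hc : MulAut.conj (C.h c⁻¹) ∈ D.A0 := conj_mem_A0 D ((hDH _).2 ⟨c⁻¹, rfl⟩)
    have hβ : MulAut.conj (C.h c⁻¹) * (α : MulAut Γ) ∈ D.A0 := D.A0.mul_mem hc α.2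
    have hp : IsPair C (MulAut.conj (C.h c⁻¹) * (α : MulAut Γ)) (((c⁻¹ : Kˣ) : K) * (1 : K ≃+* K) a) (1 * 1) :=
      (isPair_conj C (c⁻¹)).mul ha
    have hp1 : ((c⁻¹ : Kˣ) : K) * (1 : K ≃+* K) a = 1 := by
      show ((c⁻¹ : Kˣ) : K) * a = 1
      rw [Units.val_inv_eq_inv_val, Units.val_mk0, inv_mul_cancel₀ ha.1]
    rw [hp1] at hp
    have hU : ∀ t u v, ∃ u' v', (MulAut.conj (C.h c⁻¹) * (α : MulAut Γ)).toMonoidHom (C.R t u v) = C.R t u' v' := by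
      intro t u v
      obtain ⟨u', v', e⟩ := hp.2 t u v
      refine ⟨u', v', ?_⟩
      rw [one_mul] at e
      exact e
    have hH : ∀ c', ∃ c'', (MulAut.conj (C.h c⁻¹) * (α : MulAut Γ)).toMonoidHom (C.h c') = C.h c'' := by
      intro c'
      exact (hDH _).1 (A0_map_H D hβ ((hDH _).2 ⟨c', rfl⟩))
    obtain ⟨r1, r2⟩ := Cfsg.Agent.Lib.Helper23.ReeOutL2.rigid C _ hU hH
    have hβ1 : MulAut.conj (C.h c⁻¹) * (α : MulAut Γ) = 1 := by
      apply Cfsg.Agent.Lib.Helper54.ReeOut.rigid D hβ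
      · intro u hu
        obtain ⟨t, u', v, rfl⟩ := (hDU u).1 hu
        exact r1 t u' v
      · intro x hx
        obtain ⟨c', rfl⟩ := (hDH x).1 hx
        exact r2 c'
    refine ⟨C.h c, ?_⟩
    have : (α : MulAut Γ) = (MulAut.conj (C.h c⁻¹))⁻¹ := eq_inv_of_mul_eq_one_right hβ1
    rw [this, ← map_inv, ← map_inv, inv_inv]
  · rintro ⟨g, hg⟩
    have hgA : MulAut.conj g ∈ D.A0 := by
      have : MulAut.conj g = (α : MulAut Γ) := hg
      rw [this]; exact α.2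
    obtain ⟨c, rfl⟩ := (hDH g).1 (mem_H_of_conj_mem_A0 D hgA)
    have hp := isPair_conj C c
    have hg' : MulAut.conj (C.h c) = (α : MulAut Γ) := hg
    rw [hg'] at hp
    exact Psi_eq D C hDU hDH α hp

include hDU hDH in
/-- The abstract theorem: `|Out Γ| = |Aut K|`. -/
theorem card_out
    (hSyl : ∀ α : MulAut Γ, ∃ g : Γ, ∀ x, g * α x * g⁻¹ ∈ D.U ↔ x ∈ D.U)
    (hΦ : ∀ φ : K ≃+* K, ∃ α ∈ D.A0, ∀ t u v, α (C.R t u v) = C.R (φ t) (φ u) (φ v)) :
    Nat.card (Cfsg.Out Γ) = Nat.card (K ≃+* K) := by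
  refine card_out_eq D.A0 (supplement D hSyl) (Psi D C hDU hDH) ?_ (Psi_ker D C hDU hDH)
  intro φ
  obtain ⟨α, hα, h⟩ := hΦ φ
  refine ⟨⟨α, hα⟩, ?_⟩
  apply Psi_eq D C hDU hDH ⟨α, hα⟩ (a := 1)
  refine ⟨one_ne_zero, fun t u v => ⟨φ u, φ v, ?_⟩⟩
  rw [one_mul]
  exact h t u v

end main

end Cfsg.Agent.Lib.Helper19.ReeOut
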