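/-
helper19: the rank-one data `R1` on `G¹` of a `TwData`, and the Sylow hypothesis of the `Out` skeleton.
-/
import Cfsg.Agent.Lib.Helper19.ReeOutDefs
import Cfsg.Agent.Lib.Helper20.ReeStab

set_option autoImplicit false

namespace Cfsg.Agent.Lib.Helper19.ReeOut

open Cfsg.Agent.Lib.Helper19.ReeAbs Cfsg.Agent.Lib.Helper20

variable {G : Type*} [Group G] (T : TwData G)

/-- The rank-one data on `G¹`. -/
def r1 (n₀ : G) (hn₀ : n₀ ∈ T.N) (hn₀1 : n₀ ∈ T.G1) (hl₀ : T.L n₀) : R1 ↥T.G1 where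
  U := ReeStab.U1 T
  H := ReeStab.H1 T
  n := ⟨n₀, hn₀1⟩
  normU := fun h hh u hu =>
    Subgroup.mem_subgroupOf.2 (T.H_norm_U h (Subgroup.mem_subgroupOf.1 hh) u (Subgroup.mem_subgroupOf.1 hu))
  normH := fun h hh => Subgroup.mem_subgroupOf.2 (T.N_norm_H n₀ hn₀ h (Subgroup.mem_subgroupOf.1 hh))
  n_sq := Subgroup.mem_subgroupOf.2 (T.long_sq n₀ hn₀ hl₀)
  bruhat := (ReeStab.dataTI T n₀ hn₀ hn₀1 hl₀).bruhat
  opp := by
    intro u hu u' hu' h hh e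
    apply Subtype.ext
    exact T.long_conj_not_B n₀ u u' h hn₀ hl₀ (Subgroup.mem_subgroupOf.1 hu) (Subgroup.mem_subgroupOf.1 hu')
      (Subgroup.mem_subgroupOf.1 hh) (congrArg Subtype.val e)
  U_ne := by
    obtain ⟨u, hu, hF, hne⟩ := T.U1_ne
    refine ⟨⟨u, T.fixU_le u hu hF⟩, Subgroup.mem_subgroupOf.2 hu, ?_⟩
    intro h
    exact hne (congrArg Subtype.val h)

theorem r1_U (n₀ : G) (hn₀ : n₀ ∈ T.N) (hn₀1 : n₀ ∈ T.G1) (hl₀ : T.L n₀) :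
    (r1 T n₀ hn₀ hn₀1 hl₀).U = ReeStab.U1 T := rfl

theorem r1_H (n₀ : G) (hn₀ : n₀ ∈ T.N) (hn₀1 : n₀ ∈ T.G1) (hl₀ : T.L n₀) :
    (r1 T n₀ hn₀ hn₀1 hl₀).H = ReeStab.H1 T := rfl

/-- `V` of the rank-one data is `V ∩ G¹`. -/
theorem r1_mem_V (n₀ : G) (hn₀ : n₀ ∈ T.N) (hn₀1 : n₀ ∈ T.G1) (hl₀ : T.L n₀) (g : T.G1) :
    g ∈ (r1 T n₀ hn₀ hn₀1 hl₀).V ↔ (g : G) ∈ T.V := by
  rw [R1.mem_V_iff]
  show (n₀⁻¹ * (g : G) * n₀) ∈ T.U ↔ _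
  constructor
  · intro h
    have := T.long_conj n₀ hn₀ hl₀ _ h
    have e : n₀ * (n₀⁻¹ * (g : G) * n₀) * n₀⁻¹ = g := by group
    rwa [e] at this
  · intro h
    exact T.long_conj' n₀ hn₀ hl₀ _ h

/-- The Sylow hypothesis: every automorphism of `G¹` maps `U¹` to a conjugate. -/
theorem hSyl_of [Finite T.G1] {p : ℕ} [Fact p.Prime] (n₀ : G) (hn₀ : n₀ ∈ T.N) (hn₀1 : n₀ ∈ T.G1) (hl₀ : T.L n₀)
    (hU : IsPGroup p (ReeStab.U1 T)) (hH : ∀ h ∈ ReeStab.H1 T, (orderOf h).Coprime p) (α : MulAut T.G1) :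
    ∃ g : T.G1, ∀ x, g * α x * g⁻¹ ∈ ReeStab.U1 T ↔ x ∈ ReeStab.U1 T := by
  have hU1 : ReeStab.U1 T ≠ ⊥ := by
    obtain ⟨u, hu, hne⟩ := (r1 T n₀ hn₀ hn₀1 hl₀).U_ne
    intro h
    rw [r1_U, h, Subgroup.mem_bot] at hu
    exact hne hu
  obtain ⟨P, hP⟩ := RankOneTI.exists_sylow_eq (ReeStab.dataTI T n₀ hn₀ hn₀1 hl₀) hU hU1 hH
  obtain ⟨g, hg⟩ := MulAction.exists_smul_eq T.G1 (α • P) P
  refine ⟨g, fun x => ?_⟩
  have hP' : (P : Subgroup T.G1) = ((g • (α • P) : Sylow p T.G1) : Subgroup T.G1) := by rw [hg]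
  have h1 : g * α x * g⁻¹ ∈ (P : Subgroup T.G1) ↔ α x ∈ ((α • P : Sylow p T.G1) : Subgroup T.G1) := by
    rw [hP', Sylow.coe_subgroup_smul, Subgroup.mem_pointwise_smul_iff_inv_smul_mem]
    simp only [MulAut.smul_def, MulAut.conj_inv_apply]
    have e : g⁻¹ * (g * α x * g⁻¹) * g = α x := by group
    rw [e]
  have h2 : α x ∈ ((α • P : Sylow p T.G1) : Subgroup T.G1) ↔ x ∈ (P : Subgroup T.G1) := by
    rw [Sylow.pointwise_smul_def, Subgroup.mem_pointwise_smul_iff_inv_smul_mem]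
    simp only [MulAut.smul_def, MulAut.inv_apply_self]
  rw [← hP]
  exact h1.trans h2

end Cfsg.Agent.Lib.Helper19.ReeOut
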