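/-
helper19: the coordinates `Coord` on `²G₂(3^(2m+1))` (for the `Out` skeleton): `σ x = x^(3^(m+1))`,
`R t u v` = helper61's `reeWordU` elements, torus `λ ↦ reeH (λ^(3^(m+1)+2))`.
-/
import Cfsg.Agent.Lib.Helper19.ReeOutR1
import Cfsg.Agent.Lib.Helper20.ReeGlue2
import Cfsg.Agent.Lib.Helper20.ReeLayers

set_option autoImplicit false
set_option linter.unusedSectionVars false

namespace Cfsg.Agent.Lib.Helper19.ReeOut

open Cfsg.Lie Cfsg.Agent.Lib.Helper18 Cfsg.Agent.Lib.Helper61.ChevJ.G2Short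
  Cfsg.Agent.Lib.Helper61.ChevJ.G2Char3 Cfsg.Agent.Lib.Helper61.Ree Cfsg.Agent.Lib.Helper19.ReeAbs
  Cfsg.Agent.Lib.Helper20 Cfsg.Agent.Lib.Helper20.ReeGlue

universe u

variable {K : Type u} [Field K] [Fintype K] [CharP K 3] {m : ℕ}

/-- `σ x = x^(3^(m+1))`. -/
noncomputable def sig (K : Type u) [Field K] [CharP K 3] (m : ℕ) : K →+* K :=
  have : Fact (Nat.Prime 3) := ⟨Nat.prime_three⟩
  iterateFrobenius K 3 (m + 1)

omit [Fintype K] in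
theorem sig_apply (x : K) : sig K m x = (x ^ 3 ^ m) ^ 3 := by
  haveI : Fact (Nat.Prime 3) := ⟨Nat.prime_three⟩
  unfold sig
  rw [iterateFrobenius_def, pow_succ, pow_mul]

omit [Fintype K] in
theorem sig_apply' (x : K) : sig K m x = x ^ (3 * 3 ^ m) := by
  rw [sig_apply, ← pow_mul, mul_comm]

omit [Fintype K] in
theorem sig_sig (hq : ∀ t : K, t ^ (3 * 3 ^ m * 3 ^ m) = t) (x : K) : sig K m (sig K m x) = x ^ 3 := by
  rw [sig_apply (sig K m x), sig_apply, ReeUMul.frob_back hq]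

variable (hK : Fintype.card K = 3 ^ (2 * m + 1)) (T : TwData (GL chevG2.Idx K)) (I : Inst T m)

/-- The element `(t, u, v)` of `U¹`, in `G¹`. -/
noncomputable def Rc (t u v : K) : ↥T.G1 := ⟨ReeUMul.R m t u v, (huu_mem T I t u v).2⟩

/-- The torus of `G¹`, parametrised so that it acts on the first coordinate by multiplication. -/
noncomputable def hc : Kˣ →* ↥T.G1 where
  toFun c := ⟨reeH (3 ^ m) (c ^ (3 * 3 ^ m + 2)), (hρ_mem T I (c ^ (3 * 3 ^ m + 2))).2⟩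
  map_one' := Subtype.ext (by
    show reeH (3 ^ m) ((1 : Kˣ) ^ (3 * 3 ^ m + 2)) = 1
    rw [one_pow, reeH_one])
  map_mul' a b := Subtype.ext (by
    show reeH (3 ^ m) ((a * b) ^ (3 * 3 ^ m + 2))
      = reeH (3 ^ m) (a ^ (3 * 3 ^ m + 2)) * reeH (3 ^ m) (b ^ (3 * 3 ^ m + 2))
    rw [mul_pow, reeH_mul])

theorem coe_hc (c : Kˣ) : ((hc T I c : ↥T.G1) : GL chevG2.Idx K) = reeH (3 ^ m) (c ^ (3 * 3 ^ m + 2)) := rfl

omit [Fintype K] in
/-- The characters of the reparametrised torus. -/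
theorem chars (hq : ∀ t : K, t ^ (3 * 3 ^ m * 3 ^ m) = t) (c : Kˣ) :
    (((c ^ (3 * 3 ^ m + 2) : Kˣ) : K)) ^ 2 * ((((c ^ (3 * 3 ^ m + 2) : Kˣ) : K)) ^ (3 * 3 ^ m))⁻¹ = (c : K) ∧
    (((c ^ (3 * 3 ^ m + 2) : Kˣ) : K)) ^ (3 * 3 ^ m) * (((c ^ (3 * 3 ^ m + 2) : Kˣ) : K))⁻¹ = (c : K) * sig K m c ∧
    (((c ^ (3 * 3 ^ m + 2) : Kˣ) : K)) = (c : K) ^ 2 * sig K m c := by
  have hc0 : (c : K) ≠ 0 := c.ne_zero
  have hS : ((c : K) ^ (3 * 3 ^ m)) ^ (3 * 3 ^ m) = (c : K) ^ 3 := by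
    rw [← pow_mul]
    have : 3 * 3 ^ m * (3 * 3 ^ m) = (3 * 3 ^ m * 3 ^ m) * 3 := by ring
    rw [this, pow_mul, hq]
  rw [Units.val_pow_eq_pow_val, sig_apply']
  have e1 : (c : K) ^ (3 * 3 ^ m + 2) = (c : K) ^ 2 * (c : K) ^ (3 * 3 ^ m) := by
    rw [pow_add, mul_comm]
  rw [e1, mul_pow, mul_pow, hS]
  rw [← pow_mul (c : K) 2 (3 * 3 ^ m), mul_comm 2 (3 * 3 ^ m), pow_mul (c : K) (3 * 3 ^ m) 2]
  generalize (c : K) ^ (3 * 3 ^ m) = S at *
  have hS0 : S ≠ 0 := by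
    intro h
    rw [h, zero_pow (by positivity)] at hS
    exact pow_ne_zero 3 hc0 hS.symm
  refine ⟨?_, ?_, rfl⟩
  · field_simp
  · field_simp

include hK in
/-- The coordinates on `²G₂(3^(2m+1))`. -/
noncomputable def coord (hm : 1 ≤ m) : Coord K ↥T.G1 where
  σ := sig K m
  R := Rc T I
  h := hc T I
  σσ := sig_sig (hq_of_card hK)
  σ_ne := by
    obtain ⟨s, hs⟩ := ReeLayers.exists_not_fixed hm hK (hq_of_card hK)
    exact ⟨s, by rw [sig_apply]; exact hs⟩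
  R_inj := fun h => reeWordU_inj (3 ^ m) _ _ _ _ _ _ (congrArg Subtype.val h)
  R_mul := fun t u v t' u' v' => Subtype.ext (by
    show ReeUMul.R m t u v * ReeUMul.R m t' u' v' = ReeUMul.R m _ _ _
    rw [ReeUMul.R_mul (hq_of_card hK), sig_apply])
  h_conj := fun c t u v => Subtype.ext (by
    show reeH (3 ^ m) (c ^ (3 * 3 ^ m + 2)) * ReeUMul.R m t u v * (reeH (3 ^ m) (c ^ (3 * 3 ^ m + 2)))⁻¹
      = ReeUMul.R m _ _ _
    obtain ⟨e1, e2, e3⟩ := chars (hq_of_card hK) c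
    rw [ReeLayers.R_conj (hq_of_card hK), e1, e2]
    rw [e3])

theorem coord_R (hm : 1 ≤ m) (t u v : K) : (coord hK T I hm).R t u v = Rc T I t u v := rfl

theorem coord_h (hm : 1 ≤ m) (c : Kˣ) : (coord hK T I hm).h c = hc T I c := rfl

include hK in
/-- `U¹` is the set of the `R t u v`. -/
theorem mem_U1_iff (g : ↥T.G1) : g ∈ ReeStab.U1 T ↔ ∃ t u v, g = Rc T I t u v := by
  constructor
  · intro hg
    obtain ⟨t, u, v, e⟩ := huu_surj hK T I (g : GL chevG2.Idx K) (Subgroup.mem_subgroupOf.1 hg) g.2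
    exact ⟨t, u, v, Subtype.ext e⟩
  · rintro ⟨t, u, v, rfl⟩
    exact Subgroup.mem_subgroupOf.2 (huu_mem T I t u v).1

include hK in
/-- `H¹` is the set of the `hc c`. -/
theorem mem_H1_iff (g : ↥T.G1) : g ∈ ReeStab.H1 T ↔ ∃ c, g = hc T I c := by
  constructor
  · intro hg
    obtain ⟨c, e⟩ := hρ_surj hK T I (g : GL chevG2.Idx K) (Subgroup.mem_subgroupOf.1 hg) g.2
    -- `c = λ^(s+2)` with `λ = c² / c^s`
    let l : Kˣ := c ^ 2 * (c ^ (3 * 3 ^ m))⁻¹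
    refine ⟨l, Subtype.ext ?_⟩
    rw [e, coe_hc]
    show reeH (3 ^ m) c = _
    congr 1
    apply Units.ext
    have hq := hq_of_card hK
    have hc0 : (c : K) ≠ 0 := c.ne_zero
    have hS : ((c : K) ^ (3 * 3 ^ m)) ^ (3 * 3 ^ m) = (c : K) ^ 3 := by
      rw [← pow_mul]
      have : 3 * 3 ^ m * (3 * 3 ^ m) = (3 * 3 ^ m * 3 ^ m) * 3 := by ring
      rw [this, pow_mul, hq]
    show (c : K) = ((l ^ (3 * 3 ^ m + 2) : Kˣ) : K)
    rw [Units.val_pow_eq_pow_val]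
    show (c : K) = (((c ^ 2 * (c ^ (3 * 3 ^ m))⁻¹ : Kˣ) : K)) ^ (3 * 3 ^ m + 2)
    rw [Units.val_mul, Units.val_pow_eq_pow_val, Units.val_inv_eq_inv_val, Units.val_pow_eq_pow_val,
      pow_add, mul_pow, mul_pow, inv_pow, inv_pow, hS, ← pow_mul (c : K) 2 (3 * 3 ^ m),
      mul_comm 2 (3 * 3 ^ m), pow_mul (c : K) (3 * 3 ^ m) 2]
    generalize (c : K) ^ (3 * 3 ^ m) = S at *
    have hS0 : S ≠ 0 := by
      intro h
      rw [h, zero_pow (by positivity)] at hS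
      exact pow_ne_zero 3 hc0 hS.symm
    field_simp
  · rintro ⟨c, rfl⟩
    exact Subgroup.mem_subgroupOf.2 (hρ_mem T I _).1

end Cfsg.Agent.Lib.Helper19.ReeOut
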