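/-
helper19: S2127-[C-PHI]: a field automorphism `φ` of `K` induces (entrywise) an automorphism of `twistedG2 K e`.
-/
import Cfsg.Agent.S1080
import Cfsg.Agent.Lib.Helper69.ChevMap
import Cfsg.Prelude.Def_LieTwisted

set_option autoImplicit false

namespace Cfsg.Agent.Lib.Helper19.ReeOutPhi

open Cfsg.Lie

variable {K : Type*} [Field K]

theorem glMap_glMap_of_inv (φ ψ : K ≃+* K) (h : ∀ x, ψ (φ x) = x) (x : GL chevG2.Idx K) :
    Cfsg.Agent.S1080.glMap chevG2 ψ (Cfsg.Agent.S1080.glMap chevG2 φ x) = x := by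
  apply Units.ext
  rw [Cfsg.Agent.S1080.glMap_coe, Cfsg.Agent.S1080.glMap_coe]
  ext i j
  simp [h]

theorem map_reeWordU (e : ℕ) (ψ : K ≃+* K) (t u v : K) :
    (reeWordU e t u v).map (fun p => (p.1, ψ p.2)) = reeWordU e (ψ t) (ψ u) (ψ v) := by
  unfold reeWordU
  simp [map_pow, map_add]

theorem map_reeWordV (e : ℕ) (ψ : K ≃+* K) (t u v : K) :
    (reeWordV e t u v).map (fun p => (p.1, ψ p.2)) = reeWordV e (ψ t) (ψ u) (ψ v) := by
  unfold reeWordV ChevalleyDatum.negWord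
  rw [← map_reeWordU e ψ t u v, List.map_map, List.map_map]
  apply List.map_congr_left
  intro p _
  simp [map_neg]

theorem glMap_mem_twistedG2 (e : ℕ) (ψ : K ≃+* K) (x : GL chevG2.Idx K) (hx : x ∈ twistedG2 K e) :
    Cfsg.Agent.S1080.glMap chevG2 ψ x ∈ twistedG2 K e := by
  have hle : twistedG2 K e ≤ (twistedG2 K e).comap (Cfsg.Agent.S1080.glMap chevG2 ψ).toMonoidHom := by
    unfold twistedG2 ChevalleyDatum.genSubgroup
    rw [Subgroup.closure_le]
    rintro g ⟨w, ⟨t, u, v, hw⟩, hg⟩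
    apply Subgroup.subset_closure
    refine ⟨w.map (fun p => (p.1, ψ p.2)), ⟨ψ t, ψ u, ψ v, ?_⟩, ?_⟩
    · rcases hw with rfl | rfl
      · left; exact map_reeWordU e ψ t u v
      · right; exact map_reeWordV e ψ t u v
    · show ((Cfsg.Agent.S1080.glMap chevG2 ψ g : GL chevG2.Idx K) : Matrix chevG2.Idx chevG2.Idx K) = _
      rw [Cfsg.Agent.S1080.glMap_coe, hg]
      exact Cfsg.Agent.Lib.Helper69.ChevMap.wordMat_map (D := chevG2) (ψ : K →+* K) w
  exact hle hx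

/-- [C-PHI] -/
theorem exists_fieldAut (e : ℕ) (φ : K ≃+* K) :
    ∃ Φ : MulAut ↥(Cfsg.Lie.twistedG2 K e), ∀ g, ((Φ g : ↥(Cfsg.Lie.twistedG2 K e)) : GL Cfsg.Lie.chevG2.Idx K)
      = Cfsg.Agent.S1080.glMap Cfsg.Lie.chevG2 φ g := by
  refine ⟨{ toFun := fun g => ⟨Cfsg.Agent.S1080.glMap chevG2 φ g, glMap_mem_twistedG2 e φ g g.2⟩
            invFun := fun g => ⟨Cfsg.Agent.S1080.glMap chevG2 φ.symm g, glMap_mem_twistedG2 e φ.symm g g.2⟩
            left_inv := fun g => Subtype.ext (glMap_glMap_of_inv φ φ.symm φ.symm_apply_apply g)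
            right_inv := fun g => Subtype.ext (glMap_glMap_of_inv φ.symm φ φ.apply_symm_apply g)
            map_mul' := fun a b => Subtype.ext (map_mul (Cfsg.Agent.S1080.glMap chevG2 φ) _ _) }, fun g => rfl⟩

end Cfsg.Agent.Lib.Helper19.ReeOutPhi
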