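/-
helper19: `|Out(²G₂(3^(2m+1)))| = 2m+1` from the abstract skeleton (`ReeOutAsm.card_out`) and the concrete data.
-/
import Cfsg.Agent.Lib.Helper19.ReeOutAsm
import Cfsg.Agent.Lib.Helper19.ReeOutCoord
import Cfsg.Agent.Lib.Helper19.ReeOutPhi
import Cfsg.Agent.Lib.Helper20.ReeTw
import Cfsg.Agent.Lib.Helper69.ChevMap
import Cfsg.Agent.Lib.Helper18.Tw1

set_option autoImplicit false
set_option linter.unusedSectionVars false

namespace Cfsg.Agent.Lib.Helper19.ReeOut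

open Cfsg.Lie Cfsg.Agent.Lib.Helper18 Cfsg.Agent.Lib.Helper61.ChevJ.G2Short
  Cfsg.Agent.Lib.Helper61.ChevJ.G2Char3 Cfsg.Agent.Lib.Helper61.Ree Cfsg.Agent.Lib.Helper19.ReeAbs
  Cfsg.Agent.Lib.Helper20 Cfsg.Agent.Lib.Helper20.ReeGlue

universe u

/-- The number of automorphisms of a field with `3^(2m+1)` elements. -/
theorem card_ringAut_three {F : Type*} [Field F] [Fintype F] [CharP F 3] {m : ℕ}
    (hF : Fintype.card F = 3 ^ (2 * m + 1)) : Nat.card (F ≃+* F) = 2 * m + 1 := by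
  have : Fact (Nat.Prime 3) := ⟨Nat.prime_three⟩
  let _ : Algebra (ZMod 3) F := ZMod.algebra F 3
  have hbij := FiniteField.bijective_frobeniusAlgEquivOfAlgebraic_pow (ZMod 3) F
  have h1 : Nat.card (F ≃ₐ[ZMod 3] F) = Module.finrank (ZMod 3) F := by
    rw [← Nat.card_congr (Equiv.ofBijective _ hbij), Nat.card_fin]
  have h2 : Module.finrank (ZMod 3) F = 2 * m + 1 := by
    have := Module.card_eq_pow_finrank (K := ZMod 3) (V := F)
    rw [ZMod.card, hF] at this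
    exact (Nat.pow_right_injective (by norm_num : 2 ≤ 3) this).symm
  let e : (F ≃ₐ[ZMod 3] F) ≃ (F ≃+* F) :=
    { toFun := fun f => f.toRingEquiv
      invFun := fun f => AlgEquiv.ofRingEquiv (f := f) (fun x =>
        RingHom.congr_fun (Subsingleton.elim ((f : F →+* F).comp (algebraMap (ZMod 3) F))
          (algebraMap (ZMod 3) F)) x)
      left_inv := fun f => by ext x; rfl
      right_inv := fun f => by ext x; rfl }
  rw [← Nat.card_congr e, h1, h2]

section glmap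

variable {K : Type u} [Field K]

/-- The two entrywise maps agree. -/
theorem glMap_eq (φ : K ≃+* K) (x : GL chevG2.Idx K) :
    Cfsg.Agent.S1080.glMap chevG2 φ x = Cfsg.Agent.Lib.Helper69.ChevMap.glMap chevG2 (φ : K →+* K) x := by
  apply Units.ext
  rw [Cfsg.Agent.S1080.glMap_coe, Cfsg.Agent.Lib.Helper69.ChevMap.coe_glMap]
  rfl

theorem glMap_symm_glMap (φ : K ≃+* K) (x : GL chevG2.Idx K) :
    Cfsg.Agent.S1080.glMap chevG2 φ.symm (Cfsg.Agent.S1080.glMap chevG2 φ x) = x := by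
  apply Units.ext
  rw [Cfsg.Agent.S1080.glMap_coe, Cfsg.Agent.S1080.glMap_coe]
  ext i j
  simp

theorem glMap_mem_pos_iff (φ : K ≃+* K) (x : GL chevG2.Idx K) :
    Cfsg.Agent.S1080.glMap chevG2 φ x ∈ chevG2.posUnipotent K ↔ x ∈ chevG2.posUnipotent K := by
  have key : ∀ (ψ : K ≃+* K) (y : GL chevG2.Idx K), y ∈ chevG2.posUnipotent K →
      Cfsg.Agent.S1080.glMap chevG2 ψ y ∈ chevG2.posUnipotent K := by
    intro ψ y hy
    rw [glMap_eq]
    exact Cfsg.Agent.Lib.Helper69.ChevMap.map_posUnipotent_le (ψ : K →+* K) (Subgroup.mem_map_of_mem _ hy)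
  constructor
  · intro h
    have := key φ.symm _ h
    rwa [glMap_symm_glMap] at this
  · exact key φ x

theorem glMap_mem_neg_iff (φ : K ≃+* K) (x : GL chevG2.Idx K) :
    Cfsg.Agent.S1080.glMap chevG2 φ x ∈ chevG2.negUnipotent K ↔ x ∈ chevG2.negUnipotent K := by
  have key : ∀ (ψ : K ≃+* K) (y : GL chevG2.Idx K), y ∈ chevG2.negUnipotent K →
      Cfsg.Agent.S1080.glMap chevG2 ψ y ∈ chevG2.negUnipotent K := by
    intro ψ y hy
    rw [glMap_eq]
    exact Cfsg.Agent.Lib.Helper69.ChevMap.map_negUnipotent_le (ψ : K →+* K) (Subgroup.mem_map_of_mem _ hy)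
  constructor
  · intro h
    have := key φ.symm _ h
    rwa [glMap_symm_glMap] at this
  · exact key φ x

variable [CharP K 3]

/-- The field automorphism in the coordinates of `U¹`. -/
theorem glMap_R (φ : K ≃+* K) (m : ℕ) (t u v : K) :
    Cfsg.Agent.S1080.glMap chevG2 φ (ReeUMul.R m t u v) = ReeUMul.R m (φ t) (φ u) (φ v) := by
  rw [ReeUMul.R_eq, ReeUMul.R_eq]
  unfold uu
  simp only [map_mul, Cfsg.Agent.Lib.Helper18.glMap_xG hG2 φ, map_pow, map_add]

end glmap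

section main

variable {K : Type u} [Field K] [Fintype K] [CharP K 3] {m : ℕ}
  (hK : Fintype.card K = 3 ^ (2 * m + 1)) (T : TwData (GL chevG2.Idx K)) (I : Inst T m)
  (hV : T.V = chevG2.negUnipotent K)

include hK I hV in
/-- `|Out G¹| = 2m+1` in terms of `T`. -/
theorem card_out_T (hm : 1 ≤ m)
    (hΦ0 : ∀ φ : K ≃+* K, ∃ Φ : MulAut ↥T.G1, ∀ g, ((Φ g : ↥T.G1) : GL chevG2.Idx K)
      = Cfsg.Agent.S1080.glMap chevG2 φ g) :
    Nat.card (Cfsg.Out ↥T.G1) = 2 * m + 1 := by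
  classical
  obtain ⟨n₀, hn₀, hn₀1, hl₀⟩ := T.exists_long
  have hq := hq_of_card hK
  haveI : Finite ↥T.G1 := by
    rw [I.hG1]
    exact Finite.of_injective (fun g : ↥(twistedG2 K (3 ^ m)) => (g : GL chevG2.Idx K)) Subtype.val_injective
  have : Fact (Nat.Prime 3) := ⟨Nat.prime_three⟩
  let D := r1 T n₀ hn₀ hn₀1 hl₀
  let C := coord hK T I hm
  have hDU : ∀ g, g ∈ D.U ↔ ∃ t u v, g = C.R t u v := mem_U1_iff hK T I
  have hDH : ∀ g, g ∈ D.H ↔ ∃ c, g = C.h c := mem_H1_iff hK T I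
  -- the Sylow hypothesis
  have hθ : (3 : ℕ) ^ m ≠ 0 := pow_ne_zero _ (by norm_num)
  have hUp : IsPGroup 3 (ReeStab.U1 T) := by
    intro x
    refine ⟨2, ?_⟩
    obtain ⟨t, u, v, hx⟩ := huu_surj hK T I ((x : T.G1) : GL chevG2.Idx K) (Subgroup.mem_subgroupOf.1 x.2) (x : T.G1).2
    apply Subtype.ext
    apply Subtype.ext
    have := ReeCube.reeU_pow_nine (3 ^ m) t u v
    rw [← hx] at this
    simpa using this
  have hHp : ∀ h ∈ ReeStab.H1 T, (orderOf h).Coprime 3 := by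
    intro h hh
    obtain ⟨c, hc⟩ := hρ_surj hK T I (h : GL chevG2.Idx K) (Subgroup.mem_subgroupOf.1 hh) h.2
    have h1 : orderOf h = orderOf (h : GL chevG2.Idx K) := (Subgroup.orderOf_coe h).symm
    have h2 : orderOf (reeHHom (3 ^ m) c) ∣ orderOf c := orderOf_map_dvd (reeHHom (3 ^ m)) c
    have h3 : orderOf c ∣ Fintype.card Kˣ := orderOf_dvd_card
    rw [Fintype.card_units, hK] at h3
    rw [h1, hc]
    exact Nat.Coprime.coprime_dvd_left (h2.trans h3) (ReeStab.coprime_three_pow_sub_one (2 * m + 1) (by omega))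
  have hSyl : ∀ α : MulAut ↥T.G1, ∃ g : ↥T.G1, ∀ x, g * α x * g⁻¹ ∈ D.U ↔ x ∈ D.U :=
    hSyl_of T n₀ hn₀ hn₀1 hl₀ hUp hHp
  -- field automorphisms
  have hΦ : ∀ φ : K ≃+* K, ∃ α ∈ D.A0, ∀ t u v, α (C.R t u v) = C.R (φ t) (φ u) (φ v) := by
    intro φ
    obtain ⟨Φ, hΦ⟩ := hΦ0 φ
    refine ⟨Φ, ?_, ?_⟩
    · rw [R1.mem_A0_iff]
      constructor
      · intro g
        show Φ g ∈ ReeStab.U1 T ↔ g ∈ ReeStab.U1 T
        rw [Subgroup.mem_subgroupOf, Subgroup.mem_subgroupOf, hΦ, I.hU]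
        exact glMap_mem_pos_iff φ _
      · intro g
        rw [r1_mem_V, r1_mem_V, hΦ, hV]
        exact glMap_mem_neg_iff φ _
    · intro t u v
      apply Subtype.ext
      rw [hΦ]
      exact glMap_R φ m t u v
  rw [card_out D C hDU hDH hSyl hΦ, card_ringAut_three hK]

end main

/-- `|Out(²G₂(3^(2m+1)))| = 2m+1`. -/
theorem card_out_ree {K : Type u} [Field K] [Fintype K] {m : ℕ} (hm : 1 ≤ m)
    (hK : Fintype.card K = 3 ^ (2 * m + 1)) :
    Nat.card (Cfsg.Out ↥(Cfsg.Lie.twistedG2 K (3 ^ m))) = 2 * m + 1 := by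
  haveI : CharP K 3 := Cfsg.Agent.S1101.charP_three hK
  have I := inst_of hK (ReeTw.reeTw hK) rfl rfl rfl rfl
  exact card_out_T hK (ReeTw.reeTw hK) I rfl hm
    (fun φ => Cfsg.Agent.Lib.Helper19.ReeOutPhi.exists_fieldAut (3 ^ m) φ)

end Cfsg.Agent.Lib.Helper19.ReeOut
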