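/-
helper19 (S2361): Mathlib-only lemmas for "solvable subgroups lie in local normalisers".
-/
import Mathlib

set_option autoImplicit false

namespace Cfsg.Agent.Lib.Helper19.ReeSolv

variable {G : Type*} [Group G]

/-- A subgroup `S` normalises the image in `G` of each of its normal subgroups. -/
theorem le_normalizer_map_subtype (S : Subgroup G) (N : Subgroup S) (hN : N.Normal) :
    S ≤ Subgroup.normalizer ((N.map S.subtype : Subgroup G) : Set G) := by
  intro s hs
  rw [Subgroup.mem_set_normalizer_iff]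
  intro h
  simp only [SetLike.mem_coe]
  constructor
  · rintro ⟨x, hx, rfl⟩
    refine ⟨⟨s, hs⟩ * x * ⟨s, hs⟩⁻¹, hN.conj_mem x hx ⟨s, hs⟩, ?_⟩
    simp
  · rintro ⟨x, hx, hxe⟩
    refine ⟨⟨s, hs⟩⁻¹ * x * ⟨s, hs⟩, ?_, ?_⟩
    · have := hN.conj_mem x hx (⟨s, hs⟩⁻¹)
      simpa using this
    · have hx' : (x : G) = s * h * s⁻¹ := hxe
      simp only [Subgroup.subtype_apply, Subgroup.coe_mul, Subgroup.coe_inv, hx']
      group

/-- If the Sylow `p`-subgroups have pairwise trivial intersection, the normaliser of a non-trivial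
`p`-subgroup lies in the normaliser of a Sylow `p`-subgroup. -/
theorem exists_sylow_normalizer_le_of_TI (p : ℕ) [Fact p.Prime]
    (hTI : ∀ P Q : Sylow p G, P ≠ Q → (P : Subgroup G) ⊓ (Q : Subgroup G) = ⊥)
    (X : Subgroup G) (hX : IsPGroup p X) (hX1 : X ≠ ⊥) :
    ∃ P : Sylow p G, X ≤ P ∧
      Subgroup.normalizer (X : Set G) ≤ Subgroup.normalizer (((P : Subgroup G)) : Set G) := by
  obtain ⟨P, hXP⟩ := hX.exists_le_sylow
  refine ⟨P, hXP, ?_⟩
  intro s hs
  refine Sylow.smul_eq_iff_mem_normalizer.mp ?_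
  by_contra hne
  have hbot := hTI (s • P) P hne
  apply hX1
  rw [eq_bot_iff, ← hbot]
  refine le_inf ?_ hXP
  intro x hx
  rw [Subgroup.mem_set_normalizer_iff''] at hs
  have h1 : s⁻¹ * x * s ∈ X := (hs x).mp hx
  have h2 : s⁻¹ * x * s ∈ (P : Subgroup G) := hXP h1
  rw [Sylow.smul_def, Sylow.pointwise_smul_def, Subgroup.mem_pointwise_smul_iff_inv_smul_mem]
  simpa [MulAut.smul_def, mul_assoc] using h2

/-- A normal subgroup of order at most 2 is central. -/
theorem commute_of_normal_of_card_le_two {S : Type*} [Group S] (N : Subgroup S) (hN : N.Normal)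
    (hcard : Nat.card N ≤ 2) [Finite N] (s y : S) (hy : y ∈ N) : s * y = y * s := by
  by_cases hy1 : y = 1
  · simp [hy1]
  have hc : s * y * s⁻¹ ∈ N := hN.conj_mem y hy s
  have hc1 : s * y * s⁻¹ ≠ 1 := by
    intro h
    apply hy1
    have : y = s⁻¹ * (s * y * s⁻¹) * s := by group
    rw [this, h]; group
  -- three distinct elements would be too many
  by_contra hne
  have hne' : s * y * s⁻¹ ≠ y := by
    intro h
    apply hne
    calc s * y = s * y * s⁻¹ * s := by group
      _ = y * s := by rw [h]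
  have : 3 ≤ Nat.card N := by
    classical
    have hfin : Fintype N := Fintype.ofFinite N
    rw [Nat.card_eq_fintype_card]
    have hsub : ({(1 : N), ⟨y, hy⟩, ⟨s * y * s⁻¹, hc⟩} : Finset N).card = 3 := by
      rw [Finset.card_insert_of_notMem, Finset.card_insert_of_notMem, Finset.card_singleton]
      · simp only [Finset.mem_singleton, Subtype.mk.injEq]
        exact fun h => hne' h.symm
      · simp only [Finset.mem_insert, Finset.mem_singleton]
        rintro (h | h)
        · exact hy1 (congrArg Subtype.val h).symm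
        · exact hc1 (congrArg Subtype.val h).symm
    calc 3 = _ := hsub.symm
      _ ≤ Fintype.card N := Finset.card_le_univ _
  omega

/-- In a non-trivial cyclic `p`-subgroup `X`, the elements of order dividing `p` form a subgroup of
order `p` normalised by `N(X)`. -/
theorem exists_card_prime_normalizer_le [Finite G] (p : ℕ) [Fact p.Prime] (X : Subgroup G)
    (hX : IsPGroup p X) (hXc : IsCyclic X) (hX1 : X ≠ ⊥) :
    ∃ Y : Subgroup G, Y ≤ X ∧ Nat.card Y = p ∧
      Subgroup.normalizer (X : Set G) ≤ Subgroup.normalizer (Y : Set G) := by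
  have hp : p.Prime := Fact.out
  have hcomm : ∀ x ∈ X, ∀ y ∈ X, x * y = y * x := by
    intro x hx y hy
    obtain ⟨g, hg⟩ := hXc.exists_generator
    obtain ⟨a, ha⟩ := hg ⟨x, hx⟩
    obtain ⟨b, hb⟩ := hg ⟨y, hy⟩
    have : (⟨x, hx⟩ : X) * ⟨y, hy⟩ = ⟨y, hy⟩ * ⟨x, hx⟩ := by
      rw [← ha, ← hb]
      exact (Commute.zpow_zpow_self g a b).eq
    exact congrArg Subtype.val this
  let Y : Subgroup G :=
    { carrier := {x | x ∈ X ∧ x ^ p = 1}
      one_mem' := ⟨X.one_mem, one_pow p⟩
      mul_mem' := by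
        rintro x y ⟨hx, hxp⟩ ⟨hy, hyp⟩
        refine ⟨X.mul_mem hx hy, ?_⟩
        have hc : Commute x y := hcomm x hx y hy
        rw [hc.mul_pow, hxp, hyp, one_mul]
      inv_mem' := by
        rintro x ⟨hx, hxp⟩
        exact ⟨X.inv_mem hx, by rw [inv_pow, hxp, inv_one]⟩ }
  have hYmem : ∀ x : G, x ∈ Y ↔ x ∈ X ∧ x ^ p = 1 := fun x => Iff.rfl
  have hYX : Y ≤ X := fun x hx => hx.1
  refine ⟨Y, hYX, ?_, ?_⟩
  · have hYc : IsCyclic Y := Subgroup.isCyclic_of_le hYX
    obtain ⟨g, hg⟩ := hYc.exists_generator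
    have hgp : g ^ p = 1 := Subtype.ext (by simpa using ((hYmem g.1).mp g.2).2)
    have hord : orderOf g ∣ p := orderOf_dvd_of_pow_eq_one hgp
    have hcard : orderOf g = Nat.card Y := orderOf_eq_card_of_forall_mem_zpowers hg
    have hne : Nat.card Y ≠ 1 := by
      have hdvd : p ∣ Nat.card X := by
        obtain ⟨n, hn⟩ := hX.exists_card_eq
        rw [hn]
        rcases Nat.eq_zero_or_pos n with h0 | hpos
        · exfalso
          apply hX1
          rw [h0, pow_zero] at hn
          exact Subgroup.card_eq_one.mp hn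
        · exact dvd_pow_self p hpos.ne'
      obtain ⟨x, hx⟩ := exists_prime_orderOf_dvd_card' p hdvd
      intro h1
      have hxY : (x : G) ∈ Y := by
        refine (hYmem _).mpr ⟨x.2, ?_⟩
        have := pow_orderOf_eq_one x
        rw [hx] at this
        exact_mod_cast congrArg Subtype.val this
      have hbot : Y = ⊥ := Subgroup.card_eq_one.mp h1
      rw [hbot, Subgroup.mem_bot] at hxY
      have hx1 : x = 1 := Subtype.ext hxY
      rw [hx1, orderOf_one] at hx
      exact hp.one_lt.ne hx
    rcases (Nat.dvd_prime hp).mp hord with h | h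
    · exact absurd (hcard.symm.trans h) hne
    · exact hcard.symm.trans h
  · intro s hs
    rw [Subgroup.mem_set_normalizer_iff] at hs ⊢
    intro h
    simp only [SetLike.mem_coe] at hs ⊢
    rw [hYmem, hYmem, ← hs h, conj_pow]
    constructor
    · rintro ⟨h1, h2⟩
      exact ⟨h1, by rw [h2]; group⟩
    · rintro ⟨h1, h2⟩
      refine ⟨h1, ?_⟩
      have : h ^ p = s⁻¹ * (s * h ^ p * s⁻¹) * s := by group
      rw [this, h2]; group

end Cfsg.Agent.Lib.Helper19.ReeSolv
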