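/-
helper19 (S2361): abstract assembly.  In a finite group whose Sylow 3-subgroups are TI, whose
`p`-subgroups are cyclic for `p > 3`, whose Sylow 2-subgroups have order 8, and in which the normaliser
of every subgroup of prime order `> 3` and of every subgroup of order 4 lies in the normaliser of a
"torus", every solvable subgroup lies in the normaliser of a Sylow 2-subgroup, of a Sylow 3-subgroup
or of a torus.
-/
import Mathlib
import Cfsg.Prelude.Def_Solvable
import Cfsg.Agent.Lib.Helper1.PCore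
import Cfsg.Agent.Lib.Helper1.Fitting
import Cfsg.Agent.Lib.Helper21.OddTransLinearMul
import Cfsg.Agent.Lib.Helper19.ReeSolvA

set_option autoImplicit false

namespace Cfsg.Agent.Lib.Helper19.ReeSolv

open Cfsg

variable {G : Type*} [Group G]

theorem solvable_le_local_normalizer [Finite G] (Tor : Subgroup G → Prop)
    (h3 : ∀ P Q : Sylow 3 G, P ≠ Q → (P : Subgroup G) ⊓ (Q : Subgroup G) = ⊥)
    (hcyc : ∀ p : ℕ, p.Prime → 3 < p → ∀ R : Subgroup G, IsPGroup p R → IsCyclic R)
    (h2 : ∀ P : Sylow 2 G, Nat.card P = 8)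
    (hr : ∀ r : ℕ, r.Prime → 3 < r → ∀ X : Subgroup G, Nat.card X = r →
        ∃ A : Subgroup G, Tor A ∧
          Subgroup.normalizer (X : Set G) ≤ Subgroup.normalizer (A : Set G))
    (h4 : ∀ Q : Subgroup G, Nat.card Q = 4 →
        ∃ A : Subgroup G, Tor A ∧
          Subgroup.normalizer (Q : Set G) ≤ Subgroup.normalizer (A : Set G))
    (S : Subgroup G) (hS : Group.IsSolvable S) :
    ∃ A : Subgroup G, S ≤ Subgroup.normalizer (A : Set G) ∧
      ((∃ P : Sylow 2 G, A = P) ∨ (∃ P : Sylow 3 G, A = P) ∨ Tor A) := by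
  classical
  by_cases hodd : ∃ p : ℕ, p.Prime ∧ p ≠ 2 ∧ pCore p S ≠ ⊥
  · obtain ⟨p, hp, hp2, hne⟩ := hodd
    have : Fact p.Prime := ⟨hp⟩
    have hNn : (pCore p S).Normal := Cfsg.Agent.Lib.Helper1.pCore_normal p
    have hNp : IsPGroup p (pCore p S) := Cfsg.Agent.Lib.Helper1.pCore_isPGroup p
    have hXp : IsPGroup p ((pCore p S).map S.subtype) := hNp.map S.subtype
    have hX1 : (pCore p S).map S.subtype ≠ ⊥ := by
      intro h
      exact hne ((Subgroup.map_eq_bot_iff_of_injective _ S.subtype_injective).mp h)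
    have hSX : S ≤ Subgroup.normalizer (((pCore p S).map S.subtype : Subgroup G) : Set G) :=
      le_normalizer_map_subtype S _ hNn
    by_cases hp3 : p = 3
    · subst hp3
      obtain ⟨P, -, hP⟩ := exists_sylow_normalizer_le_of_TI 3 h3 _ hXp hX1
      exact ⟨P, hSX.trans hP, Or.inr (Or.inl ⟨P, rfl⟩)⟩
    · have hgt : 3 < p := by
        have := hp.two_le
        omega
      obtain ⟨Y, -, hYcard, hXY⟩ :=
        exists_card_prime_normalizer_le p _ hXp (hcyc p hp hgt _ hXp) hX1
      obtain ⟨A, hA, hYA⟩ := hr p hp hgt Y hYcard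
      exact ⟨A, (hSX.trans hXY).trans hYA, Or.inr (Or.inr hA)⟩
  · push Not at hodd
    have hF : fittingSubgroup S = pCore 2 S := by
      rw [Cfsg.Agent.Lib.Helper1.fittingSubgroup_eq_iSup_pCore]
      apply le_antisymm
      · refine iSup_le fun q => ?_
        by_cases hq : (q : ℕ) = 2
        · rw [hq]
        · rw [hodd q q.2 hq]; exact bot_le
      · exact le_iSup (fun q : Nat.Primes => pCore (q : ℕ) S) ⟨2, Nat.prime_two⟩
    have hCF := Cfsg.Agent.Lib.Helper21.OddTransLinear.centralizer_fitting_le_of_isSolvable hS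
    rw [hF] at hCF
    have hNn : (pCore 2 S).Normal := Cfsg.Agent.Lib.Helper1.pCore_normal 2
    have hNp : IsPGroup 2 (pCore 2 S) := Cfsg.Agent.Lib.Helper1.pCore_isPGroup 2
    have hQp : IsPGroup 2 ((pCore 2 S).map S.subtype) := hNp.map S.subtype
    have hSQ : S ≤ Subgroup.normalizer (((pCore 2 S).map S.subtype : Subgroup G) : Set G) :=
      le_normalizer_map_subtype S _ hNn
    obtain ⟨P, hQP⟩ := hQp.exists_le_sylow
    have hP8 := h2 P
    have hcardQ : Nat.card ((pCore 2 S).map S.subtype) ∣ 2 ^ 3 := by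
      have := Subgroup.card_dvd_of_le hQP
      rw [hP8] at this
      simpa using this
    have small : Nat.card ((pCore 2 S).map S.subtype) ≤ 2 →
        ∃ A : Subgroup G, S ≤ Subgroup.normalizer (A : Set G) ∧
          ((∃ P : Sylow 2 G, A = P) ∨ (∃ P : Sylow 3 G, A = P) ∨ Tor A) := by
      intro hle
      have hcardN : Nat.card (pCore 2 S) ≤ 2 := by
        rwa [Subgroup.card_map_of_injective S.subtype_injective] at hle
      have hSP : S ≤ P := by
        intro s hs
        have hmem : (⟨s, hs⟩ : S) ∈ Subgroup.centralizer ((pCore 2 S : Subgroup S) : Set S) := by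
          rw [Subgroup.mem_centralizer_iff]
          intro y hy
          exact (commute_of_normal_of_card_le_two _ hNn hcardN ⟨s, hs⟩ y hy).symm
        have h1 := hCF hmem
        exact hQP ⟨⟨s, hs⟩, h1, rfl⟩
      refine ⟨P, ?_, Or.inl ⟨P, rfl⟩⟩
      intro s hs
      exact Subgroup.le_normalizer (hSP hs)
    obtain ⟨k, hk, hkc⟩ := (Nat.dvd_prime_pow Nat.prime_two).mp hcardQ
    interval_cases k
    · exact small (by rw [hkc]; norm_num)
    · exact small (by rw [hkc]; norm_num)
    · obtain ⟨A, hA, hQA⟩ := h4 _ (by rw [hkc]; norm_num)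
      exact ⟨A, hSQ.trans hQA, Or.inr (Or.inr hA)⟩
    · have hQeq : (pCore 2 S).map S.subtype = P :=
        Subgroup.eq_of_le_of_card_ge hQP (by rw [hP8, hkc]; norm_num)
      refine ⟨P, ?_, Or.inl ⟨P, rfl⟩⟩
      rw [← hQeq]
      exact hSQ

end Cfsg.Agent.Lib.Helper19.ReeSolv
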