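/-
helper19 (S2361): in the small Ree group `²G₂(q)`, `q = 3^(2m+1) ≥ 27`, the normaliser of every subgroup
of order 4 lies in the normaliser of a cyclic subgroup of order `(q+1)/4`.
-/
import Mathlib
import Cfsg.Agent.Lib.Helper61.ReeW.CentAdd
import Cfsg.Agent.Lib.Helper61.ReeW.Seven
import Cfsg.Agent.Lib.Helper51.ReeW2Z2
import Cfsg.Agent.Lib.Helper36.ReeW2Psl2Inv
import Cfsg.Agent.Lib.Helper5.PSL2Center
import Cfsg.Agent.Lib.Helper37.ReeW2Abel

set_option autoImplicit false

namespace Cfsg.Agent.Lib.Helper19.ReeSolv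

open Cfsg.Lie

universe u

variable {K : Type u} [Field K] [Fintype K] [CharP K 3] {m : ℕ}

theorem three_pow_mod_eight (m : ℕ) : 3 ^ (2 * m + 1) % 8 = 3 := by
  rw [pow_succ, pow_mul, Nat.mul_mod, Nat.pow_mod]
  norm_num

/-- The common centraliser of two distinct commuting involutions has order `2(q+1)`. -/
theorem card_centralizer_inf (hm : 1 ≤ m) (hK : Fintype.card K = 3 ^ (2 * m + 1))
    (t u : ↥(twistedG2 K (3 ^ m))) (ht : orderOf t = 2) (hu : orderOf u = 2) (htu : t ≠ u)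
    (hc : u * t = t * u) :
    Nat.card ↥(Subgroup.centralizer {u} ⊓ Subgroup.centralizer {t} :
        Subgroup ↥(twistedG2 K (3 ^ m))) = 2 * (3 ^ (2 * m + 1) + 1) := by
  obtain ⟨e⟩ := Cfsg.Agent.Lib.Helper61.ReeW.invol_iso hm hK t ht
  have h2K : (2 : K) ≠ 0 := by
    intro h
    have h3 : (3 : K) = 0 := by
      have := CharP.cast_eq_zero K 3
      exact_mod_cast this
    have h1 : (1 : K) = 0 := by
      have : (1 : K) = 3 - 2 := by norm_num
      rw [this, h3, h, sub_zero]
    exact one_ne_zero h1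
  have hLc := Cfsg.Agent.Lib.Helper5.center_PSL2_eq_bot h2K
  have hzmem : t ∈ Subgroup.centralizer ({t} : Set ↥(twistedG2 K (3 ^ m))) :=
    Subgroup.mem_centralizer_singleton_iff.mpr rfl
  have humem : u ∈ Subgroup.centralizer ({t} : Set ↥(twistedG2 K (3 ^ m))) :=
    Subgroup.mem_centralizer_singleton_iff.mpr hc
  have hz : orderOf (⟨t, hzmem⟩ : ↥(Subgroup.centralizer ({t} : Set ↥(twistedG2 K (3 ^ m))))) = 2 := by
    rw [← Subgroup.orderOf_coe]; exact ht
  have hzc : ∀ x : ↥(Subgroup.centralizer ({t} : Set ↥(twistedG2 K (3 ^ m)))),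
      x * ⟨t, hzmem⟩ = ⟨t, hzmem⟩ * x :=
    fun x => Subtype.ext (Subgroup.mem_centralizer_singleton_iff.mp x.2)
  have hu' : orderOf (⟨u, humem⟩ : ↥(Subgroup.centralizer ({t} : Set ↥(twistedG2 K (3 ^ m))))) = 2 := by
    rw [← Subgroup.orderOf_coe]; exact hu
  have hne : (⟨u, humem⟩ : ↥(Subgroup.centralizer ({t} : Set ↥(twistedG2 K (3 ^ m))))) ≠ ⟨t, hzmem⟩ :=
    fun h => htu (congrArg Subtype.val h).symm
  obtain ⟨v, hv, hcard⟩ :=
    (Cfsg.Agent.Lib.Helper51.ReeW2.z2_prod_facts hLc e ⟨t, hzmem⟩ hz hzc).2 ⟨u, humem⟩ hu' hne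
  have hq4 : Fintype.card K % 4 = 3 := by
    rw [hK]
    have := three_pow_mod_eight m
    omega
  rw [Cfsg.Agent.Lib.Helper36.ReeW2.psl2_centralizer_involution hq4 v hv, hK] at hcard
  have heq : Subgroup.centralizer
      ({(⟨u, humem⟩ : ↥(Subgroup.centralizer ({t} : Set ↥(twistedG2 K (3 ^ m)))))} :
        Set ↥(Subgroup.centralizer ({t} : Set ↥(twistedG2 K (3 ^ m)))))
      = (Subgroup.centralizer ({u} : Set ↥(twistedG2 K (3 ^ m)))).subgroupOf
          (Subgroup.centralizer ({t} : Set ↥(twistedG2 K (3 ^ m)))) := by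
    ext x
    rw [Subgroup.mem_subgroupOf, Subgroup.mem_centralizer_singleton_iff,
      Subgroup.mem_centralizer_singleton_iff]
    constructor
    · intro h; exact congrArg Subtype.val h
    · intro h; exact Subtype.ext h
  rw [← hcard, heq, ← Subgroup.inf_subgroupOf_right]
  exact (Nat.card_congr (Subgroup.subgroupOfEquivOfLe inf_le_right).toEquiv).symm

/-- A group of order 4 and exponent 2 is `{1, t, u, tu}`. -/
theorem four_group_elements {G : Type*} [Group G] (Q : Subgroup G) (hQ : Nat.card Q = 4)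
    (hexp : ∀ x ∈ Q, x * x = 1) :
    ∃ t u : G, t ∈ Q ∧ u ∈ Q ∧ orderOf t = 2 ∧ orderOf u = 2 ∧ t ≠ u ∧ u * t = t * u ∧
      ∀ y ∈ Q, y = 1 ∨ y = t ∨ y = u ∨ y = t * u := by
  classical
  have hfin : Finite Q := Nat.finite_of_card_ne_zero (by rw [hQ]; norm_num)
  have hQbot : Q ≠ ⊥ := by
    intro h
    rw [h, Subgroup.card_bot] at hQ
    norm_num at hQ
  obtain ⟨t, htQ⟩ := (Subgroup.ne_bot_iff_exists_ne_one.mp hQbot)
  have ht2 : orderOf (t : G) = 2 := by
    apply orderOf_eq_prime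
    · rw [pow_two]; exact hexp _ t.2
    · exact fun h => htQ (Subtype.ext h)
  have hex : ∃ u ∈ Q, u ≠ 1 ∧ u ≠ (t : G) := by
    by_contra hcon
    push Not at hcon
    have hle : Q ≤ Subgroup.zpowers (t : G) := by
      intro y hy
      by_cases hy1 : y = 1
      · rw [hy1]; exact Subgroup.one_mem _
      · rw [hcon y hy hy1]; exact Subgroup.mem_zpowers _
    have hdvd := Subgroup.card_dvd_of_le hle
    rw [hQ, Nat.card_zpowers, ht2] at hdvd
    norm_num at hdvd
  obtain ⟨u, huQ, hu1, hut⟩ := hex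
  have hu2 : orderOf u = 2 := by
    apply orderOf_eq_prime
    · rw [pow_two]; exact hexp _ huQ
    · exact hu1
  have hcomm : u * (t : G) = t * u :=
    Cfsg.Agent.Lib.Helper61.ReeW.comm_of_sq u t (hexp _ huQ) (hexp _ t.2)
      (hexp _ (Q.mul_mem huQ t.2))
  refine ⟨t, u, t.2, huQ, ht2, hu2, fun h => hut h.symm, hcomm, ?_⟩
  -- the four elements exhaust `Q`
  have htu1 : (t : G) * u ≠ 1 := by
    intro h
    apply hut
    have h1 : (t : G) * t = 1 := hexp _ t.2
    calc u = (t * t) * u := by rw [h1, one_mul]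
      _ = t * (t * u) := by rw [mul_assoc]
      _ = t := by rw [h, mul_one]
  have htut : (t : G) * u ≠ t := by
    intro h
    apply hu1
    calc u = (t : G)⁻¹ * (t * u) := by group
      _ = 1 := by rw [h]; group
  have htuu : (t : G) * u ≠ u := by
    intro h
    apply htQ
    apply Subtype.ext
    calc (t : G) = (t * u) * u⁻¹ := by group
      _ = 1 := by rw [h]; group
  have hFt : Fintype Q := Fintype.ofFinite Q
  let F : Finset Q := {1, t, ⟨u, huQ⟩, t * ⟨u, huQ⟩}
  have hFcard : F.card = 4 := by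
    simp only [F]
    rw [Finset.card_insert_of_notMem, Finset.card_insert_of_notMem, Finset.card_insert_of_notMem,
      Finset.card_singleton]
    · simp only [Finset.mem_singleton]
      intro h
      exact htuu (congrArg Subtype.val h).symm
    · simp only [Finset.mem_insert, Finset.mem_singleton]
      rintro (h | h)
      · exact hut (congrArg Subtype.val h).symm
      · exact htut (congrArg Subtype.val h).symm
    · simp only [Finset.mem_insert, Finset.mem_singleton]
      rintro (h | h | h)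
      · exact htQ h.symm
      · exact hu1 (congrArg Subtype.val h).symm
      · exact htu1 (congrArg Subtype.val h).symm
  have hFuniv : F = Finset.univ := by
    apply Finset.eq_univ_of_card
    rw [hFcard, ← Nat.card_eq_fintype_card, hQ]
  intro y hy
  have hyF : (⟨y, hy⟩ : Q) ∈ F := by rw [hFuniv]; exact Finset.mem_univ _
  simp only [F, Finset.mem_insert, Finset.mem_singleton] at hyF
  rcases hyF with h | h | h | h
  · exact Or.inl (congrArg Subtype.val h)
  · exact Or.inr (Or.inl (congrArg Subtype.val h))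
  · exact Or.inr (Or.inr (Or.inl (congrArg Subtype.val h)))
  · exact Or.inr (Or.inr (Or.inr (congrArg Subtype.val h)))

/-- Conjugation by an element of `N(Q)` preserves `C(Q)`. -/
theorem conj_mem_centralizer_iff_of_mem_normalizer {G : Type*} [Group G] (Q : Subgroup G) (n : G)
    (hn : n ∈ Subgroup.normalizer (Q : Set G)) (y : G) :
    y ∈ Subgroup.centralizer (Q : Set G) ↔ n * y * n⁻¹ ∈ Subgroup.centralizer (Q : Set G) := by
  rw [Subgroup.mem_set_normalizer_iff] at hn
  simp only [SetLike.mem_coe] at hn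
  rw [Subgroup.mem_centralizer_iff, Subgroup.mem_centralizer_iff]
  constructor
  · intro h g hg
    have hg' : n⁻¹ * g * n ∈ Q := by
      refine (hn (n⁻¹ * g * n)).mpr ?_
      have : n * (n⁻¹ * g * n) * n⁻¹ = g := by group
      rw [this]; exact hg
    have h2 := h _ hg'
    calc g * (n * y * n⁻¹) = n * ((n⁻¹ * g * n) * y) * n⁻¹ := by group
      _ = n * (y * (n⁻¹ * g * n)) * n⁻¹ := by rw [h2]
      _ = n * y * n⁻¹ * g := by group
  · intro h g hg
    have hg' : n * g * n⁻¹ ∈ Q := (hn g).mp hg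
    have h2 := h _ hg'
    calc g * y = n⁻¹ * ((n * g * n⁻¹) * (n * y * n⁻¹)) * n := by group
      _ = n⁻¹ * ((n * y * n⁻¹) * (n * g * n⁻¹)) * n := by rw [h2]
      _ = y * g := by group

/-- In `²G₂(q)` the normaliser of a subgroup of order 4 lies in the normaliser of a cyclic subgroup of
order `(q+1)/4`. -/
theorem four_group_normalizer_le (hm : 1 ≤ m) (hK : Fintype.card K = 3 ^ (2 * m + 1))
    (Q : Subgroup ↥(twistedG2 K (3 ^ m))) (hQ : Nat.card Q = 4) :
    ∃ A : Subgroup ↥(twistedG2 K (3 ^ m)),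
      (IsCyclic A ∧ Nat.card A = (3 ^ (2 * m + 1) + 1) / 4) ∧
      Subgroup.normalizer (Q : Set ↥(twistedG2 K (3 ^ m))) ≤
        Subgroup.normalizer (A : Set ↥(twistedG2 K (3 ^ m))) := by
  classical
  have hq8 : 3 ^ (2 * m + 1) % 8 = 3 := three_pow_mod_eight m
  obtain ⟨k, hk4⟩ : ∃ k, 3 ^ (2 * m + 1) + 1 = 4 * k := ⟨(3 ^ (2 * m + 1) + 1) / 4, by omega⟩
  have hkdef : (3 ^ (2 * m + 1) + 1) / 4 = k := by omega
  have hkodd : Odd k := by rw [Nat.odd_iff]; omega
  have hkpos : 0 < k := hkodd.pos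
  have hk1 : k ≠ 1 := by
    have : 27 ≤ 3 ^ (2 * m + 1) := by
      calc 27 = 3 ^ 3 := by norm_num
        _ ≤ 3 ^ (2 * m + 1) := Nat.pow_le_pow_right (by norm_num) (by omega)
    omega
  -- exponent 2
  have hQp : IsPGroup 2 Q := IsPGroup.of_card (n := 2) (by rw [hQ]; norm_num)
  obtain ⟨P, hQP⟩ := hQp.exists_le_sylow
  obtain ⟨-, hS2⟩ := Cfsg.Agent.S1152.result hK (Cfsg.Agent.Lib.Helper61.ReeW.h0T K m)
    Cfsg.Agent.Lib.Helper61.ReeW.h0T_mem_H Cfsg.Agent.Lib.Helper61.ReeW.h0T_ne_one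
    Cfsg.Agent.Lib.Helper61.ReeW.h0T_sq
  have hexp : ∀ x ∈ Q, x * x = 1 := fun x hx => (hS2 P).2 x (hQP hx)
  obtain ⟨t, u, htQ, huQ, ht2, hu2, htu, hcomm, hall⟩ := four_group_elements Q hQ hexp
  -- the centraliser of `Q`
  have hCQ : Subgroup.centralizer (Q : Set ↥(twistedG2 K (3 ^ m)))
      = Subgroup.centralizer {u} ⊓ Subgroup.centralizer {t} := by
    apply le_antisymm
    · intro x hx
      rw [Subgroup.mem_centralizer_iff] at hx
      exact Subgroup.mem_inf.mpr ⟨Subgroup.mem_centralizer_singleton_iff.mpr (hx u huQ).symm,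
        Subgroup.mem_centralizer_singleton_iff.mpr (hx t htQ).symm⟩
    · intro x hx
      obtain ⟨hxu, hxt⟩ := Subgroup.mem_inf.mp hx
      rw [Subgroup.mem_centralizer_singleton_iff] at hxu hxt
      rw [Subgroup.mem_centralizer_iff]
      intro y hy
      rcases hall y hy with h | h | h | h
      · rw [h]; simp
      · rw [h]; exact hxt.symm
      · rw [h]; exact hxu.symm
      · rw [h, mul_assoc, ← hxu, ← mul_assoc, ← hxt, mul_assoc]
  have hCQcard : Nat.card (Subgroup.centralizer (Q : Set ↥(twistedG2 K (3 ^ m)))) = 8 * k := by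
    rw [hCQ, card_centralizer_inf hm hK t u ht2 hu2 htu hcomm]
    omega
  -- an element of odd prime order in `C(Q)`
  obtain ⟨s, hs, hsk⟩ := Nat.exists_prime_and_dvd hk1
  have hodd2 : ∀ p : ℕ, p ∣ k → p ≠ 2 := by
    rintro p hp rfl
    exact (Nat.not_even_iff_odd.mpr hkodd) (even_iff_two_dvd.mpr hp)
  have hs2 : s ≠ 2 := hodd2 s hsk
  have hsq : s ∣ 3 ^ (2 * m + 1) + 1 := by rw [hk4]; exact Dvd.dvd.mul_left hsk 4
  have hsC : s ∣ Nat.card (Subgroup.centralizer (Q : Set ↥(twistedG2 K (3 ^ m)))) := by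
    rw [hCQcard]; exact Dvd.dvd.mul_left hsk 8
  have : Fact s.Prime := ⟨hs⟩
  obtain ⟨a', ha'⟩ := exists_prime_orderOf_dvd_card' s hsC
  have ha : orderOf (a' : ↥(twistedG2 K (3 ^ m))) = s := by rw [Subgroup.orderOf_coe]; exact ha'
  obtain ⟨hDcomm, hDcard, hD4⟩ :=
    Cfsg.Agent.Lib.Helper61.ReeW.centralizer_add_one hm hK (a' : ↥(twistedG2 K (3 ^ m))) s hs hs2 hsq ha
  have hQD : Q ≤ Subgroup.centralizer {(a' : ↥(twistedG2 K (3 ^ m)))} := by
    intro g hg
    rw [Subgroup.mem_centralizer_singleton_iff]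
    exact (Subgroup.mem_centralizer_iff.mp a'.2) g hg
  have hDCQ : Subgroup.centralizer {(a' : ↥(twistedG2 K (3 ^ m)))}
      ≤ Subgroup.centralizer (Q : Set ↥(twistedG2 K (3 ^ m))) := by
    intro d hd
    rw [Subgroup.mem_centralizer_iff]
    intro g hg
    exact hDcomm g d (Subgroup.mem_centralizer_singleton_iff.mp (hQD hg))
      (Subgroup.mem_centralizer_singleton_iff.mp hd)
  have hDc : ∀ x y : ↥(Subgroup.centralizer {(a' : ↥(twistedG2 K (3 ^ m)))}), x * y = y * x :=
    fun x y => Subtype.ext (hDcomm x y (Subgroup.mem_centralizer_singleton_iff.mp x.2)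
      (Subgroup.mem_centralizer_singleton_iff.mp y.2))
  have hDcard' : Nat.card ↥(Subgroup.centralizer {(a' : ↥(twistedG2 K (3 ^ m)))}) = 4 * k := by
    rw [hDcard, hk4]
  have hDno4 : ∀ x : ↥(Subgroup.centralizer {(a' : ↥(twistedG2 K (3 ^ m)))}), orderOf x ≠ 4 := by
    intro x
    rw [← Subgroup.orderOf_coe]
    exact hD4 x x.2
  have hDcyc : ∀ p : ℕ, p.Prime → p ∣ k →
      ∀ R : Subgroup ↥(Subgroup.centralizer {(a' : ↥(twistedG2 K (3 ^ m)))}),
        IsPGroup p ↥R → IsCyclic ↥R := by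
    intro p hp hpk R hR
    have hp2 : p ≠ 2 := hodd2 p hpk
    have hpq : p ∣ 3 ^ (2 * m + 1) + 1 := by rw [hk4]; exact Dvd.dvd.mul_left hpk 4
    obtain ⟨-, hp3, -, -⟩ :=
      Cfsg.Agent.Lib.Helper61.ReeW.prime_add_one_facts (2 * m + 1) p hp hp2 hpq
    have hRmap : IsPGroup p ↥(R.map (Subgroup.centralizer {(a' : ↥(twistedG2 K (3 ^ m)))}).subtype) :=
      hR.map _
    have hcycmap := Cfsg.Agent.Lib.Helper61.ReeW.pgroup_cyclic_gt_three hm hK p hp hp3 _ hRmap
    let e := R.equivMapOfInjective (Subgroup.centralizer {(a' : ↥(twistedG2 K (3 ^ m)))}).subtype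
      (Subgroup.subtype_injective _)
    exact isCyclic_of_surjective e.symm.toMonoidHom e.symm.surjective
  obtain ⟨-, -, M, hMc, hMcard, hMmem⟩ :=
    Cfsg.Agent.Lib.Helper37.ReeW2.card_orderOf_of_four_mul hDc k hkodd hDcard' hDno4 hDcyc
  -- characterisation of the image of `M`
  have hchar : ∀ y : ↥(twistedG2 K (3 ^ m)),
      y ∈ M.map (Subgroup.centralizer {(a' : ↥(twistedG2 K (3 ^ m)))}).subtype ↔
        y ∈ Subgroup.centralizer (Q : Set ↥(twistedG2 K (3 ^ m))) ∧ y ^ k = 1 := by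
    intro y
    constructor
    · rintro ⟨x, hx, rfl⟩
      refine ⟨hDCQ x.2, ?_⟩
      have h1 := (hMmem x).mp hx
      have h2 := congrArg Subtype.val h1
      simpa using h2
    · rintro ⟨hyC, hyk⟩
      have hyD : y ∈ Subgroup.centralizer {(a' : ↥(twistedG2 K (3 ^ m)))} := by
        have hidx : ((Subgroup.centralizer {(a' : ↥(twistedG2 K (3 ^ m)))}).subgroupOf
            (Subgroup.centralizer (Q : Set ↥(twistedG2 K (3 ^ m))))).index = 2 := by
          have h1 := Subgroup.card_mul_index ((Subgroup.centralizer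
            {(a' : ↥(twistedG2 K (3 ^ m)))}).subgroupOf
            (Subgroup.centralizer (Q : Set ↥(twistedG2 K (3 ^ m)))))
          rw [Nat.card_congr (Subgroup.subgroupOfEquivOfLe hDCQ).toEquiv, hDcard', hCQcard] at h1
          have h3 : 4 * k * 2 = 8 * k := by ring
          rw [← h3] at h1
          exact Nat.eq_of_mul_eq_mul_left (by omega) h1
        have hsq := Subgroup.mul_self_mem_of_index_two hidx ⟨y, hyC⟩
        rw [Subgroup.mem_subgroupOf] at hsq
        have hsq' : y * y ∈ Subgroup.centralizer {(a' : ↥(twistedG2 K (3 ^ m)))} := hsq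
        obtain ⟨j, hj⟩ := hkodd
        have hy : y = (y * y) ^ (j + 1) * (y ^ k)⁻¹ := by
          rw [← pow_two, ← pow_mul, hj]
          group
        rw [hy, hyk, inv_one, mul_one]
        exact Subgroup.pow_mem _ hsq' _
      refine ⟨⟨y, hyD⟩, (hMmem _).mpr (Subtype.ext ?_), rfl⟩
      simpa using hyk
  refine ⟨M.map (Subgroup.centralizer {(a' : ↥(twistedG2 K (3 ^ m)))}).subtype, ⟨?_, ?_⟩, ?_⟩
  · let e := M.equivMapOfInjective (Subgroup.centralizer {(a' : ↥(twistedG2 K (3 ^ m)))}).subtype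
      (Subgroup.subtype_injective _)
    exact isCyclic_of_surjective e.toMonoidHom e.surjective
  · rw [Subgroup.card_map_of_injective (Subgroup.subtype_injective _), hMcard, hkdef]
  · intro n hn
    have hcent := conj_mem_centralizer_iff_of_mem_normalizer Q n hn
    rw [Subgroup.mem_set_normalizer_iff]
    intro y
    simp only [SetLike.mem_coe]
    rw [hchar, hchar, ← hcent y, conj_pow]
    constructor
    · rintro ⟨h1, h2⟩
      exact ⟨h1, by rw [h2]; group⟩
    · rintro ⟨h1, h2⟩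
      refine ⟨h1, ?_⟩
      have h3 : y ^ k = n⁻¹ * (n * y ^ k * n⁻¹) * n := by group
      rw [h3, h2]; group

end Cfsg.Agent.Lib.Helper19.ReeSolv
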