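/-
helper19 (S2361): solvable subgroups of the small Ree group `²G₂(q)`, `q = 3^(2m+1) ≥ 27`, lie in the
normaliser of a Sylow 2-subgroup, of a Sylow 3-subgroup, or of one of the four cyclic Hall subgroups.
The theorem `ree_solvable_of_tori` takes the statement of S1158 (existence of the four cyclic Hall
subgroups `A` with `N(A₀) = N(A)` for `1 ≠ A₀ ≤ A`) as a hypothesis.
-/
import Mathlib
import Cfsg.Agent.S1155
import Cfsg.Agent.S1152
import Cfsg.Agent.S2358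
import Cfsg.Agent.Lib.Helper61.Ree.TwCard
import Cfsg.Agent.Lib.Helper19.ReeSolvB
import Cfsg.Agent.Lib.Helper19.ReeSolvC

set_option autoImplicit false
set_option linter.unusedSectionVars false

namespace Cfsg.Agent.Lib.Helper19.ReeSolv

open Cfsg.Lie

universe u

/-- arithmetic: `q³ + 1 = (q + 1)(q - r + 1)(q + r + 1)` for `q = 3^(2m+1)`, `r = 3^(m+1)`. -/
theorem cube_add_one_factor (m : ℕ) :
    (3 ^ (2 * m + 1)) ^ 3 + 1 = (3 ^ (2 * m + 1) + 1) * (3 ^ (2 * m + 1) - 3 ^ (m + 1) + 1)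
      * (3 ^ (2 * m + 1) + 3 ^ (m + 1) + 1) := by
  have hle : 3 ^ (m + 1) ≤ 3 ^ (2 * m + 1) := Nat.pow_le_pow_right (by norm_num) (by omega)
  have hr0 : ((3 : ℤ) ^ (m + 1)) ^ 2 = 3 * 3 ^ (2 * m + 1) := by
    rw [← pow_mul, ← pow_succ']
    congr 1
    ring
  zify [hle]
  linear_combination (-((3 : ℤ) ^ (2 * m + 1) + 1)) * hr0

/-- a prime `r > 3` dividing `|²G₂(q)|` divides one of the four torus orders. -/
theorem prime_dvd_torus_order (m : ℕ) (r : ℕ) (hr : r.Prime) (hr3 : 3 < r)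
    (h : r ∣ (3 ^ (2 * m + 1)) ^ 3 * (3 ^ (2 * m + 1) - 1) * ((3 ^ (2 * m + 1)) ^ 3 + 1)) :
    r ∣ (3 ^ (2 * m + 1) - 1) / 2 ∨ r ∣ (3 ^ (2 * m + 1) + 1) / 4 ∨
      r ∣ 3 ^ (2 * m + 1) - 3 ^ (m + 1) + 1 ∨ r ∣ 3 ^ (2 * m + 1) + 3 ^ (m + 1) + 1 := by
  have hq8 : 3 ^ (2 * m + 1) % 8 = 3 := three_pow_mod_eight m
  have hr2 : ¬ r ∣ 2 := fun h2 => by
    have := Nat.le_of_dvd (by norm_num) h2
    omega
  rw [cube_add_one_factor] at h
  rcases (Nat.Prime.dvd_mul hr).mp h with h1 | h1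
  · rcases (Nat.Prime.dvd_mul hr).mp h1 with h2 | h2
    · exfalso
      have h3 : r ∣ 3 := hr.dvd_of_dvd_pow (hr.dvd_of_dvd_pow h2)
      have := Nat.le_of_dvd (by norm_num) h3
      omega
    · left
      have h3 : 3 ^ (2 * m + 1) - 1 = 2 * ((3 ^ (2 * m + 1) - 1) / 2) := by omega
      rw [h3] at h2
      rcases (Nat.Prime.dvd_mul hr).mp h2 with h4 | h4
      · exact absurd h4 hr2
      · exact h4
  · rcases (Nat.Prime.dvd_mul hr).mp h1 with h2 | h2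
    · rcases (Nat.Prime.dvd_mul hr).mp h2 with h3 | h3
      · right; left
        have h4 : 3 ^ (2 * m + 1) + 1 = 2 * (2 * ((3 ^ (2 * m + 1) + 1) / 4)) := by omega
        rw [h4] at h3
        rcases (Nat.Prime.dvd_mul hr).mp h3 with h5 | h5
        · exact absurd h5 hr2
        · rcases (Nat.Prime.dvd_mul hr).mp h5 with h6 | h6
          · exact absurd h6 hr2
          · exact h6
      · right; right; left; exact h3
    · right; right; right; exact h2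

variable {K : Type u} [Field K] [Fintype K] [CharP K 3] {m : ℕ}

/-- Transport along one torus. -/
theorem normalizer_le_of_torus (hm : 1 ≤ m) (hK : Fintype.card K = 3 ^ (2 * m + 1))
    (r : ℕ) (hr : r.Prime)
    (hd : r ∣ (3 ^ (2 * m + 1) - 1) / 2 ∨ r ∣ (3 ^ (2 * m + 1) + 1) / 4 ∨
      r ∣ 3 ^ (2 * m + 1) - 3 ^ (m + 1) + 1 ∨ r ∣ 3 ^ (2 * m + 1) + 3 ^ (m + 1) + 1)
    (X : Subgroup ↥(twistedG2 K (3 ^ m))) (hX : Nat.card X = r)
    (A : Subgroup ↥(twistedG2 K (3 ^ m))) (hA : IsCyclic A) (hrA : r ∣ Nat.card A)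
    (hN : ∀ A₀ : Subgroup ↥(twistedG2 K (3 ^ m)), A₀ ≤ A → A₀ ≠ ⊥ →
      Subgroup.normalizer (A₀ : Set ↥(twistedG2 K (3 ^ m)))
        = Subgroup.normalizer (A : Set ↥(twistedG2 K (3 ^ m)))) :
    ∃ A' : Subgroup ↥(twistedG2 K (3 ^ m)), IsCyclic A' ∧ Nat.card A' = Nat.card A ∧
      Subgroup.normalizer (X : Set ↥(twistedG2 K (3 ^ m)))
        ≤ Subgroup.normalizer (A' : Set ↥(twistedG2 K (3 ^ m))) := by
  have : Fact r.Prime := ⟨hr⟩
  obtain ⟨a, ha⟩ := exists_prime_orderOf_dvd_card' r hrA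
  have ha' : orderOf (a : ↥(twistedG2 K (3 ^ m))) = r := by rw [Subgroup.orderOf_coe]; exact ha
  have hA₀le : Subgroup.zpowers (a : ↥(twistedG2 K (3 ^ m))) ≤ A :=
    (Subgroup.zpowers_le).mpr a.2
  have hA₀card : Nat.card (Subgroup.zpowers (a : ↥(twistedG2 K (3 ^ m)))) = r := by
    rw [Nat.card_zpowers, ha']
  have hA₀ne : Subgroup.zpowers (a : ↥(twistedG2 K (3 ^ m))) ≠ ⊥ := by
    intro h
    rw [h, Subgroup.card_bot] at hA₀card
    exact hr.one_lt.ne hA₀card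
  have hXcyc : IsCyclic X := isCyclic_of_prime_card hX
  obtain ⟨g, hg⟩ := Cfsg.Agent.S2358.result hm hK r hd
    (Subgroup.zpowers (a : ↥(twistedG2 K (3 ^ m)))) X inferInstance hXcyc hA₀card hX
  refine ⟨A.map (MulAut.conj g).toMonoidHom, ?_, ?_, ?_⟩
  · let e := A.equivMapOfInjective (MulAut.conj g).toMonoidHom (MulAut.conj g).injective
    exact isCyclic_of_surjective e.toMonoidHom e.surjective
  · exact Subgroup.card_map_of_injective (MulAut.conj g).injective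
  · rw [hg, ← Subgroup.map_equiv_normalizer_eq, hN _ hA₀le hA₀ne, Subgroup.map_equiv_normalizer_eq]

/-- The four torus orders. -/
def IsTorus (m : ℕ) {G : Type*} [Group G] (A : Subgroup G) : Prop :=
  IsCyclic A ∧ (Nat.card A = (3 ^ (2 * m + 1) - 1) / 2 ∨ Nat.card A = (3 ^ (2 * m + 1) + 1) / 4 ∨
    Nat.card A = 3 ^ (2 * m + 1) - 3 ^ (m + 1) + 1 ∨ Nat.card A = 3 ^ (2 * m + 1) + 3 ^ (m + 1) + 1)

theorem ree_solvable_of_tori (hm : 1 ≤ m) (hK : Fintype.card K = 3 ^ (2 * m + 1))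
    (h1158 : ∀ kn ∈ ({((3 ^ (2 * m + 1) - 1) / 2, 2 * (3 ^ (2 * m + 1) - 1)),
        ((3 ^ (2 * m + 1) + 1) / 4, 6 * (3 ^ (2 * m + 1) + 1)),
        (3 ^ (2 * m + 1) - 3 ^ (m + 1) + 1, 6 * (3 ^ (2 * m + 1) - 3 ^ (m + 1) + 1)),
        (3 ^ (2 * m + 1) + 3 ^ (m + 1) + 1, 6 * (3 ^ (2 * m + 1) + 3 ^ (m + 1) + 1))} : Set (ℕ × ℕ)),
      ∃ A : Subgroup ↥(twistedG2 K (3 ^ m)), IsCyclic A ∧ Nat.card A = kn.1 ∧
        Nat.card (Subgroup.normalizer (A : Set ↥(twistedG2 K (3 ^ m)))) = kn.2 ∧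
        ∀ A₀ : Subgroup ↥(twistedG2 K (3 ^ m)), A₀ ≤ A → A₀ ≠ ⊥ →
          Subgroup.normalizer (A₀ : Set ↥(twistedG2 K (3 ^ m)))
            = Subgroup.normalizer (A : Set ↥(twistedG2 K (3 ^ m))))
    (S : Subgroup ↥(twistedG2 K (3 ^ m))) (hS : Group.IsSolvable S) :
    ∃ A : Subgroup ↥(twistedG2 K (3 ^ m)),
      S ≤ Subgroup.normalizer (A : Set ↥(twistedG2 K (3 ^ m))) ∧
      ((∃ P : Sylow 2 ↥(twistedG2 K (3 ^ m)), A = P) ∨
       (∃ P : Sylow 3 ↥(twistedG2 K (3 ^ m)), A = P) ∨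
       (IsCyclic A ∧ (Nat.card A = (3 ^ (2 * m + 1) - 1) / 2 ∨ Nat.card A = (3 ^ (2 * m + 1) + 1) / 4 ∨
          Nat.card A = 3 ^ (2 * m + 1) - 3 ^ (m + 1) + 1 ∨
          Nat.card A = 3 ^ (2 * m + 1) + 3 ^ (m + 1) + 1))) := by
  refine solvable_le_local_normalizer (fun A => IsTorus m A)
    (fun P Q h => Cfsg.Agent.S1155.result hm hK P Q h)
    (fun p hp h3 R hR => Cfsg.Agent.Lib.Helper61.ReeW.pgroup_cyclic_gt_three hm hK p hp h3 R hR)
    (fun P => ((Cfsg.Agent.S1152.result hK (Cfsg.Agent.Lib.Helper61.ReeW.h0T K m)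
      Cfsg.Agent.Lib.Helper61.ReeW.h0T_mem_H Cfsg.Agent.Lib.Helper61.ReeW.h0T_ne_one
      Cfsg.Agent.Lib.Helper61.ReeW.h0T_sq).2 P).1)
    ?_ ?_ S hS
  · intro r hr hr3 X hX
    have hdvdG : r ∣ Nat.card ↥(twistedG2 K (3 ^ m)) := by
      rw [← hX]; exact Subgroup.card_subgroup_dvd_card X
    rw [Cfsg.Agent.Lib.Helper61.ReeInv.ree_card hK] at hdvdG
    have hd := prime_dvd_torus_order m r hr hr3 hdvdG
    rcases hd with h | h | h | h
    · obtain ⟨A, hAc, hAcard, -, hAN⟩ := h1158 _ (Set.mem_insert _ _)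
      obtain ⟨A', hA'c, hA'card, hle⟩ := normalizer_le_of_torus hm hK r hr (Or.inl h) X hX A hAc
        (by rw [hAcard]; exact h) hAN
      exact ⟨A', ⟨hA'c, Or.inl (hA'card.trans hAcard)⟩, hle⟩
    · obtain ⟨A, hAc, hAcard, -, hAN⟩ := h1158 _ (Set.mem_insert_of_mem _ (Set.mem_insert _ _))
      obtain ⟨A', hA'c, hA'card, hle⟩ := normalizer_le_of_torus hm hK r hr (Or.inr (Or.inl h)) X hX
        A hAc (by rw [hAcard]; exact h) hAN
      exact ⟨A', ⟨hA'c, Or.inr (Or.inl (hA'card.trans hAcard))⟩, hle⟩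
    · obtain ⟨A, hAc, hAcard, -, hAN⟩ :=
        h1158 _ (Set.mem_insert_of_mem _ (Set.mem_insert_of_mem _ (Set.mem_insert _ _)))
      obtain ⟨A', hA'c, hA'card, hle⟩ := normalizer_le_of_torus hm hK r hr
        (Or.inr (Or.inr (Or.inl h))) X hX A hAc (by rw [hAcard]; exact h) hAN
      exact ⟨A', ⟨hA'c, Or.inr (Or.inr (Or.inl (hA'card.trans hAcard)))⟩, hle⟩
    · obtain ⟨A, hAc, hAcard, -, hAN⟩ :=
        h1158 _ (Set.mem_insert_of_mem _ (Set.mem_insert_of_mem _ (Set.mem_insert_of_mem _ rfl)))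
      obtain ⟨A', hA'c, hA'card, hle⟩ := normalizer_le_of_torus hm hK r hr
        (Or.inr (Or.inr (Or.inr h))) X hX A hAc (by rw [hAcard]; exact h) hAN
      exact ⟨A', ⟨hA'c, Or.inr (Or.inr (Or.inr (hA'card.trans hAcard)))⟩, hle⟩
  · intro Q hQ
    obtain ⟨A, ⟨hc, hcard⟩, hN⟩ := four_group_normalizer_le hm hK Q hQ
    exact ⟨A, ⟨hc, Or.inr (Or.inl hcard)⟩, hN⟩

end Cfsg.Agent.Lib.Helper19.ReeSolv
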