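import Mathlib

/-!
# S1936, step E2 (abstract form)

If a subgroup `MZ` controls strong fusion in the Sylow `p`-subgroup `P` of `G`
(every conjugation map between subsets of `P` is induced by an element of `MZ`),
and all `2`-subgroups of `MZ` have order at most `2`, then for every `p`-subgroup `Q` of `G`
and every `2`-subgroup `V` of `N_G(Q)` the index `|V : C_V(Q)|` is at most `2`.
-/

set_option autoImplicit false

namespace Cfsg.Agent.Lib.Helper19.S1936E2

open Subgroup

variable {G : Type*} [Group G]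

/-- `Q ≤ P` version. -/
theorem relIndex_centralizer_le_two_of_le [Finite G] (P : Subgroup G) (MZ : Subgroup G)
    (hctl : ∀ (A : Set G), A ⊆ (P : Set G) → ∀ g : G, (fun a => g⁻¹ * a * g) '' A ⊆ (P : Set G) →
      ∃ n ∈ MZ, ∀ a ∈ A, n⁻¹ * a * n = g⁻¹ * a * g)
    (h2 : ∀ V : Subgroup G, IsPGroup 2 V → V ≤ MZ → Nat.card V ≤ 2)
    (Q : Subgroup G) (hQP : Q ≤ P) (V : Subgroup G) (hV : IsPGroup 2 V)
    (hVQ : V ≤ normalizer (Q : Set G)) :
    (centralizer (Q : Set G)).relIndex V ≤ 2 := by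
  classical
  -- ambient group `N = N_G(Q)`
  set N : Subgroup G := normalizer (Q : Set G) with hN
  set C : Subgroup G := centralizer (Q : Set G) with hC
  have hCN : C ≤ N := centralizer_le_normalizer (Q : Set G)
  -- the centraliser is normal in the normaliser
  have hCnorm : (C.subgroupOf N).Normal := normal_subgroupOf_centralizer_normalizer (Q : Set G)
  -- `X = N ⊓ MZ ⊓ (V ⊔ C)`
  set X : Subgroup G := N ⊓ MZ ⊓ (V ⊔ C) with hX
  have hXN : X ≤ N := inf_le_left.trans inf_le_left
  have hVC_N : V ⊔ C ≤ N := sup_le hVQ hCN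
  -- every element of `V` is in `X * C`
  have hcover : ∀ v ∈ V, ∃ n ∈ X, ∃ c ∈ C, v = n * c := by
    intro v hv
    have hvN : v ∈ N := hVQ hv
    obtain ⟨n, hnMZ, hn⟩ := hctl (Q : Set G) hQP v (by
      rintro _ ⟨a, ha, rfl⟩
      apply hQP
      have := hvN
      rw [hN, mem_normalizer_iff] at this
      have h3 := (this (v⁻¹ * a * v)).2 (by
        have : v * (v⁻¹ * a * v) * v⁻¹ = a := by group
        rw [this]; exact ha)
      exact h3)
    -- `n⁻¹ a n = v⁻¹ a v` for all `a ∈ Q`, so `c := n⁻¹ v ∈ C`... we use `v = n * (n⁻¹ v)`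
    have hcC : n⁻¹ * v ∈ C := by
      rw [hC, mem_centralizer_iff]
      intro a ha
      -- need a * (n⁻¹ v) = (n⁻¹ v) * a
      have hvN' := hvN
      rw [hN, mem_normalizer_iff] at hvN'
      have hb : v * a * v⁻¹ ∈ Q := (hvN' a).1 ha
      have h4 := hn (v * a * v⁻¹) hb
      -- n⁻¹ (v a v⁻¹) n = v⁻¹ (v a v⁻¹) v = a
      have h5 : n⁻¹ * (v * a * v⁻¹) * n = a := by
        rw [h4]; group
      calc a * (n⁻¹ * v) = (n⁻¹ * (v * a * v⁻¹) * n) * (n⁻¹ * v) := by rw [h5]
        _ = n⁻¹ * v * a := by group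
    have hnN : n ∈ N := by
      have : n = v * (n⁻¹ * v)⁻¹ := by group
      rw [this]
      exact N.mul_mem hvN (N.inv_mem (hCN hcC))
    have hnVC : n ∈ V ⊔ C := by
      have : n = v * (n⁻¹ * v)⁻¹ := by group
      rw [this]
      exact (V ⊔ C).mul_mem (mem_sup_left hv) ((V ⊔ C).inv_mem (mem_sup_right hcC))
    exact ⟨n, ⟨⟨hnN, hnMZ⟩, hnVC⟩, n⁻¹ * v, hcC, by group⟩
  -- pass to subgroups of `N`
  set C' : Subgroup N := C.subgroupOf N with hC'
  set V' : Subgroup N := V.subgroupOf N with hV'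
  set X' : Subgroup N := X.subgroupOf N with hX'
  have : C'.Normal := hCnorm
  have hsup : X' ⊔ C' = V' ⊔ C' := by
    apply le_antisymm
    · apply sup_le _ le_sup_right
      intro x hx
      rw [hX', mem_subgroupOf] at hx
      have hx3 : (x : G) ∈ V ⊔ C := hx.2
      -- (V ⊔ C).subgroupOf N = V' ⊔ C'
      have : (V ⊔ C).subgroupOf N = V' ⊔ C' := by
        rw [hV', hC']
        exact subgroupOf_sup hVQ hCN
      rw [← this, mem_subgroupOf]; exact hx3
    · apply sup_le _ le_sup_right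
      intro v hv
      rw [hV', mem_subgroupOf] at hv
      obtain ⟨n, hnX, c, hcC, hvnc⟩ := hcover _ hv
      have hnN : n ∈ N := hXN hnX
      have hcN : c ∈ N := hCN hcC
      have : v = (⟨n, hnN⟩ : N) * ⟨c, hcN⟩ := by
        apply Subtype.ext; exact hvnc
      rw [this]
      exact (X' ⊔ C').mul_mem (mem_sup_left (by rw [hX', mem_subgroupOf]; exact hnX))
        (mem_sup_right (by rw [hC', mem_subgroupOf]; exact hcC))
  have hrel : C'.relIndex X' = C'.relIndex V' := by
    rw [← relIndex_sup_right X' C', hsup, relIndex_sup_right]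
  -- `relIndex` in `N` versus in `G`
  have hrelV : C'.relIndex V' = C.relIndex V := by
    rw [hC', hV']
    exact relIndex_subgroupOf hVQ
  have hrelX : C'.relIndex X' = C.relIndex X := by
    rw [hC', hX']
    exact relIndex_subgroupOf hXN
  rw [← hrelV, ← hrel, hrelX]
  -- `C.relIndex X` is a power of two dividing `|X|`
  have hpow : ∃ k, C.relIndex V = 2 ^ k := by
    have hdvd : C.relIndex V ∣ Nat.card V := relIndex_dvd_card C V
    obtain ⟨m, hm⟩ := hV.exists_card_eq
    rw [hm] at hdvd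
    obtain ⟨k, _, hk⟩ := (Nat.dvd_prime_pow Nat.prime_two).1 hdvd
    exact ⟨k, hk⟩
  obtain ⟨k, hk⟩ := hpow
  have hkX : C.relIndex X = 2 ^ k := by rw [← hrelX, hrel, hrelV, hk]
  rw [hkX]
  have hdvdX : 2 ^ k ∣ Nat.card X := by rw [← hkX]; exact relIndex_dvd_card C X
  -- a Sylow 2-subgroup of `X` has order at most 2
  have : Fact (Nat.Prime 2) := ⟨Nat.prime_two⟩
  obtain ⟨S⟩ : Nonempty (Sylow 2 X) := inferInstance
  have hScard : Nat.card S = 2 ^ (Nat.card X).factorization 2 := S.card_eq_multiplicity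
  have hS2 : Nat.card S ≤ 2 := by
    have hSG : IsPGroup 2 ((S : Subgroup X).map X.subtype) := S.2.map _
    have hle : (S : Subgroup X).map X.subtype ≤ MZ := by
      rintro _ ⟨x, _, rfl⟩
      exact (x.2 : (x : G) ∈ X).1.2
    have := h2 _ hSG hle
    rwa [Nat.card_congr ((S : Subgroup X).equivMapOfInjective X.subtype
      (subtype_injective X)).symm.toEquiv] at this
  have hXpos : Nat.card X ≠ 0 := Nat.card_pos.ne'
  have hkle : k ≤ (Nat.card X).factorization 2 :=
    (Nat.Prime.pow_dvd_iff_le_factorization Nat.prime_two hXpos).1 hdvdX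
  calc 2 ^ k ≤ 2 ^ (Nat.card X).factorization 2 := Nat.pow_le_pow_right (by norm_num) hkle
    _ = Nat.card S := hScard.symm
    _ ≤ 2 := hS2

/-- General version: `Q` any `p`-subgroup, `P` a Sylow `p`-subgroup. -/
theorem relIndex_centralizer_le_two [Finite G] {p : ℕ} [Fact p.Prime] (P : Sylow p G)
    (MZ : Subgroup G)
    (hctl : ∀ (A : Set G), A ⊆ (P : Set G) → ∀ g : G, (fun a => g⁻¹ * a * g) '' A ⊆ (P : Set G) →
      ∃ n ∈ MZ, ∀ a ∈ A, n⁻¹ * a * n = g⁻¹ * a * g)
    (h2 : ∀ V : Subgroup G, IsPGroup 2 V → V ≤ MZ → Nat.card V ≤ 2)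
    (Q : Subgroup G) (hQ : IsPGroup p Q) (V : Subgroup G) (hV : IsPGroup 2 V)
    (hVQ : V ≤ normalizer (Q : Set G)) :
    (centralizer (Q : Set G)).relIndex V ≤ 2 := by
  classical
  obtain ⟨P', hQP'⟩ := hQ.exists_le_sylow
  obtain ⟨g, hg⟩ := MulAction.exists_smul_eq G P' P
  -- `f = conj g` maps `P'` to `P`
  set f : G →* G := (MulAut.conj g).toMonoidHom with hf
  have hfapp : ∀ x, f x = g * x * g⁻¹ := fun x => by simp [hf]
  have hfinj : Function.Injective f := (MulAut.conj g).injective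
  have hQ1 : Q.map f ≤ (P : Subgroup G) := by
    rintro _ ⟨x, hx, rfl⟩
    have hx' : x ∈ (P' : Subgroup G) := hQP' hx
    have : g * x * g⁻¹ ∈ ((g • P' : Sylow p G) : Subgroup G) := by
      rw [Sylow.coe_subgroup_smul, Subgroup.mem_pointwise_smul_iff_inv_smul_mem]
      have h3 : (MulAut.conj g)⁻¹ • (g * x * g⁻¹) = x := by
        rw [MulAut.smul_def, ← map_inv, MulAut.conj_apply]; group
      rw [h3]; exact hx'
    rw [hg] at this
    rw [hfapp]; exact this
  have hV1 : IsPGroup 2 (V.map f) := hV.map f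
  have hVQ1 : V.map f ≤ normalizer ((Q.map f : Subgroup G) : Set G) := by
    rintro _ ⟨v, hv, rfl⟩
    have hvN := hVQ hv
    rw [mem_normalizer_iff] at hvN ⊢
    intro y
    constructor
    · rintro ⟨x, hx, rfl⟩
      exact ⟨v * x * v⁻¹, (hvN x).1 hx, by simp⟩
    · intro hy
      obtain ⟨x, hx, hxy⟩ := hy
      -- f v * y * (f v)⁻¹ = f x
      have hy2 : y = f (v⁻¹ * x * v) := by
        have : f (v⁻¹ * x * v) = (f v)⁻¹ * (f v * y * (f v)⁻¹) * f v := by
          rw [← hxy]; simp
        rw [this]; group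
      rw [hy2]
      refine ⟨v⁻¹ * x * v, ?_, rfl⟩
      have := (hvN (v⁻¹ * x * v)).2 (by
        have h3 : v * (v⁻¹ * x * v) * v⁻¹ = x := by group
        rw [h3]; exact hx)
      exact this
  have key := relIndex_centralizer_le_two_of_le (P : Subgroup G) MZ hctl h2 (Q.map f) hQ1
    (V.map f) hV1 hVQ1
  have hcomap : (centralizer ((Q.map f : Subgroup G) : Set G)).comap f = centralizer (Q : Set G) := by
    ext c
    rw [mem_comap, mem_centralizer_iff, mem_centralizer_iff]
    constructor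
    · intro h x hx
      have := h (f x) ⟨x, hx, rfl⟩
      rw [← map_mul, ← map_mul] at this
      exact hfinj this
    · rintro h _ ⟨x, hx, rfl⟩
      rw [← map_mul, ← map_mul, h x hx]
  rw [← hcomap, relIndex_comap]
  exact key

end Cfsg.Agent.Lib.Helper19.S1936E2
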