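import Mathlib
import Cfsg.Agent.Lib.Helper22.S1936Defs
import Cfsg.Agent.Lib.Helper19.S1936E2
import Cfsg.Agent.Lib.Helper29.ZJE1
import Cfsg.Agent.S0118

/-!
# S1936, module ZJ-[AUT] (sheet E1, E2), `_of` form

A 2-group acting on a `p`-subgroup has a centralizer of index at most 2.
The inputs from the modules DICH and Q8 are hypotheses here.
-/

set_option autoImplicit false
universe u

namespace Cfsg.Agent.Lib.Helper19.S1936

open Cfsg Cfsg.Agent.Lib.Helper22.S1936 Cfsg.Agent.Lib.Helper29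

variable {G : Type u} [Group G]

/-- `Z(J(P)) ≠ 1` for a non-trivial `p`-subgroup `P`. -/
theorem centerThompsonOf_ne_bot [Finite G] {p : ℕ} [Fact p.Prime] (P : Subgroup G)
    (hP : IsPGroup p ↥P) (hne : P ≠ ⊥) : centerThompsonOf p P ≠ ⊥ := by
  classical
  have : Nontrivial ↥P := (Subgroup.nontrivial_iff_ne_bot P).2 hne
  -- an element of order `p` in the centre of `P`
  have hZ : Nontrivial (Subgroup.center ↥P) := hP.center_nontrivial
  have hZp : IsPGroup p (Subgroup.center ↥P) := hP.to_subgroup _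
  have hdvd : p ∣ Nat.card (Subgroup.center ↥P) := by
    obtain ⟨n, hn⟩ := hZp.exists_card_eq
    have hn0 : n ≠ 0 := by
      rintro rfl
      rw [pow_zero] at hn
      have := (Nat.card_eq_one_iff_unique.1 hn).1
      exact not_subsingleton _ this
    rw [hn]; exact dvd_pow_self p hn0
  obtain ⟨z, hz⟩ := exists_prime_orderOf_dvd_card' p hdvd
  set z' : G := ((z : ↥P) : G) with hz'
  have hz'P : z' ∈ P := (z : ↥P).2
  have hz'ord : orderOf z' = p := by
    rw [hz', Subgroup.orderOf_coe, Subgroup.orderOf_coe]; exact hz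
  have hz'p : z' ^ p = 1 := by rw [← hz'ord]; exact pow_orderOf_eq_one z'
  have hz'1 : z' ≠ 1 := by
    intro h
    rw [h, orderOf_one] at hz'ord
    exact (Fact.out : p.Prime).one_lt.ne hz'ord
  have hcomm : ∀ y ∈ P, y * z' = z' * y := by
    intro y hy
    have := (Subgroup.mem_center_iff.1 z.2) ⟨y, hy⟩
    exact congrArg Subtype.val this
  have hmemA : ∀ A ∈ EA p P, z' ∈ A := fun A hA =>
    mem_of_commute_of_pow_eq_one hA hz'P hz'p (fun a ha => hcomm a (hA.1 ha))
  obtain ⟨A₀, hA₀⟩ := EA_nonempty p P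
  have hzJ : z' ∈ thompsonSubgroupOf p P := le_thompsonSubgroupOf_of_mem hA₀ (hmemA A₀ hA₀)
  have hzZJ : z' ∈ centerThompsonOf p P :=
    mem_centerThompsonOf_of_forall hzJ (fun A hA a ha => hcomm a (hA.1 ha))
  intro hbot
  rw [hbot, Subgroup.mem_bot] at hzZJ
  exact hz'1 hzZJ

/-- ZJ-[AUT] in `_of` form. -/
theorem two_group_centralizer_index_le_of [Finite G] {p : ℕ} [Fact p.Prime] (hG : MinCE p G)
    {T : Sylow 2 G} {M : Subgroup G} (hD : SEDatum T M)
    (hfree : ¬ ∃ (H K : Subgroup G) (hK : (K.subgroupOf H).Normal),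
      Nonempty ((H ⧸ K.subgroupOf H) ≃* Matrix.SpecialLinearGroup (Fin 2) (ZMod p)))
    (hout : ∃ u : G, orderOf u = 2 ∧ u ∉ M)
    (hap : ∀ a u : G, orderOf a = 2 → a ∈ M → u ∉ M → Apart M a u)
    (hsyl : ∀ a u : G, orderOf a = 2 → orderOf u = 2 → Apart M a u →
      ∃ P : Sylow p G, a ∈ Subgroup.normalizer ((P : Subgroup G) : Set G) ∧
        u ∈ Subgroup.normalizer ((P : Subgroup G) : Set G))
    (hnot4 : ∀ a u : G, orderOf a = 2 → orderOf u = 2 → Apart M a u →
      ∀ L : Subgroup G, L ≠ ⊤ → a ∈ L → u ∈ L → ¬ 4 ∣ Nat.card ↥L)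
    (Q V : Subgroup G) (hQ : IsPGroup p ↥Q) (hV : IsPGroup 2 ↥V)
    (hVQ : V ≤ Subgroup.normalizer (Q : Set G)) :
    (V ⊓ Subgroup.centralizer (Q : Set G)).relIndex V ≤ 2 := by
  classical
  have hpp : p.Prime := Fact.out
  have hp2 : p ≠ 2 := by have := hG.hp5; omega
  -- an involution `a ∈ T`
  have hT1 : (T : Subgroup G) ≠ ⊥ := by
    intro h
    have := hD.card8
    rw [h, Subgroup.card_bot] at this
    omega
  obtain ⟨a, ha1⟩ := (Subgroup.ne_bot_iff_exists_ne_one).1 hT1
  have haT' : (a : G) ∈ (T : Subgroup G) := a.2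
  have ha1' : (a : G) ≠ 1 := fun h => ha1 (Subtype.ext h)
  have ha2 : orderOf (a : G) = 2 :=
    orderOf_eq_prime (hD.elem _ haT') ha1'
  have haM : (a : G) ∈ M := hD.normT (Subgroup.le_normalizer haT')
  obtain ⟨u, hu2, huM⟩ := hout
  have hapart : Apart M (a : G) u := hap _ _ ha2 haM huM
  obtain ⟨P, haP, huP⟩ := hsyl _ _ ha2 hu2 hapart
  -- `p ∣ |G|`
  have hpdvd : p ∣ Nat.card G := by
    by_contra hnd
    have hcop : (Nat.card ↥(⊤ : Subgroup G)).Coprime p := by
      rw [Subgroup.card_top]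
      exact (Nat.Coprime.symm ((Nat.Prime.coprime_iff_not_dvd hpp).2 hnd))
    obtain ⟨hcomm, _⟩ := hG.hp ⊤ hcop
    apply hG.nonsolv
    have : ∀ x y : G, x * y = y * x := by
      intro x y
      have := hcomm.is_comm.comm ⟨x, Subgroup.mem_top x⟩ ⟨y, Subgroup.mem_top y⟩
      exact congrArg Subtype.val this
    exact Group.isSolvable_of_comm this
  have hPne : (P : Subgroup G) ≠ ⊥ := P.ne_bot_of_dvd_card hpdvd
  have hZJne : centerThompsonOf p (P : Subgroup G) ≠ ⊥ :=
    centerThompsonOf_ne_bot (P : Subgroup G) P.2 hPne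
  set MZ : Subgroup G := Subgroup.normalizer (centerThompsonOf p (P : Subgroup G) : Set G) with hMZ
  have hNP : Subgroup.normalizer ((P : Subgroup G) : Set G) ≤ MZ :=
    normalizer_le_normalizer_centerThompsonOf p (P : Subgroup G)
  have hMZtop : MZ ≠ ⊤ := by
    intro htop
    have hnorm : (centerThompsonOf p (P : Subgroup G)).Normal :=
      Subgroup.normalizer_eq_top_iff.1 htop
    have := hG.simple
    rcases hnorm.eq_bot_or_eq_top with h | h
    · exact hZJne h
    · -- `G` is a `p`-group, hence solvable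
      have hPtop : (P : Subgroup G) = ⊤ := by
        apply top_le_iff.1
        rw [← h]; exact centerThompsonOf_le p _
      apply hG.nonsolv
      have hGp : IsPGroup p G := by
        have := P.2
        rw [hPtop] at this
        exact IsPGroup.of_equiv this Subgroup.topEquiv
      have := hGp.isNilpotent
      infer_instance
  have h4 : ¬ 4 ∣ Nat.card ↥MZ :=
    hnot4 _ _ ha2 hu2 hapart MZ hMZtop (hNP haP) (hNP huP)
  have h2 : ∀ V : Subgroup G, IsPGroup 2 ↥V → V ≤ MZ → Nat.card ↥V ≤ 2 := by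
    intro V hV hVle
    obtain ⟨k, hk⟩ := hV.exists_card_eq
    have hdvd : Nat.card ↥V ∣ Nat.card ↥MZ := Subgroup.card_dvd_of_le hVle
    rw [hk] at hdvd ⊢
    by_contra hgt
    push Not at hgt
    have hk2 : 2 ≤ k := by
      by_contra hk1
      push Not at hk1
      interval_cases k <;> simp at hgt
    apply h4
    exact dvd_trans (by
      have : (4 : ℕ) = 2 ^ 2 := by norm_num
      rw [this]; exact pow_dvd_pow 2 hk2) hdvd
  have hctl : ∀ (A : Set G), A ⊆ ((P : Subgroup G) : Set G) → ∀ g : G,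
      (fun a => g⁻¹ * a * g) '' A ⊆ ((P : Subgroup G) : Set G) →
      ∃ n ∈ MZ, ∀ a ∈ A, n⁻¹ * a * n = g⁻¹ * a * g := fun A hA g hAg =>
    Cfsg.Agent.S0118.result hp2 hfree P A hA g hAg
  have key := Cfsg.Agent.Lib.Helper19.S1936E2.relIndex_centralizer_le_two P MZ hctl h2 Q hQ V hV hVQ
  rwa [Subgroup.inf_relIndex_left]

end Cfsg.Agent.Lib.Helper19.S1936
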