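import Mathlib
import Cfsg.Agent.Lib.Helper19.S1936ZJAut
import Cfsg.Agent.Lib.Helper25.S1936Apart
import Cfsg.Agent.Lib.Helper81.S1936Q8

/-!
# S1936, module ZJ-[AUT]: form with only DICH-[D2i] and DICH-[D2iii] as hypotheses
-/

set_option autoImplicit false
universe u

namespace Cfsg.Agent.Lib.Helper19.S1936

open Cfsg Cfsg.Agent.Lib.Helper22.S1936

variable {G : Type u} [Group G] [Finite G] {p : ℕ} [Fact p.Prime]

/-- ZJ-[AUT], with D2i and D2iii as hypotheses. -/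
theorem two_group_centralizer_index_le_of_d2 (hG : MinCE p G)
    {T : Sylow 2 G} {M : Subgroup G} (hD : SEDatum T M)
    (hsyl : ∀ a u : G, orderOf a = 2 → orderOf u = 2 → Apart M a u →
      ∃ P : Sylow p G, a ∈ Subgroup.normalizer ((P : Subgroup G) : Set G) ∧
        u ∈ Subgroup.normalizer ((P : Subgroup G) : Set G))
    (hnot4 : ∀ a u : G, orderOf a = 2 → orderOf u = 2 → Apart M a u →
      ∀ L : Subgroup G, L ≠ ⊤ → a ∈ L → u ∈ L → ¬ 4 ∣ Nat.card ↥L)
    (Q V : Subgroup G) (hQ : IsPGroup p ↥Q) (hV : IsPGroup 2 ↥V)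
    (hVQ : V ≤ Subgroup.normalizer (Q : Set G)) :
    (V ⊓ Subgroup.centralizer (Q : Set G)).relIndex V ≤ 2 := by
  have hp2 : p ≠ 2 := by have := hG.hp5; omega
  exact two_group_centralizer_index_le_of hG hD
    (Cfsg.Agent.Lib.Helper81.S1936Q8.hfree_of_HP hp2 hG.hp)
    (Cfsg.Agent.Lib.Helper25.S1936.exists_involution_not_mem hG hD)
    (fun a u ha haM huM => Cfsg.Agent.Lib.Helper25.S1936.apart_of_mem_of_not_mem hD ha haM huM)
    hsyl hnot4 Q V hQ hV hVQ

end Cfsg.Agent.Lib.Helper19.S1936
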