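import Mathlib

/-!
# Schur's theorem on regular cyclic subgroups (Schur-ring proof), core part

We work on `ZMod n` with a permutation group `X ≤ Perm (ZMod n)` containing all translations.
-/

set_option autoImplicit false
set_option linter.unusedSectionVars false

namespace Cfsg.Agent.Lib.Helper19.SchurCyclic

open scoped AddMonoidAlgebra

variable {n : ℕ} [NeZero n]

/-- `f` is invariant under the stabiliser of `0` in `X`. -/
def InvF {R : Sort*} (X : Subgroup (Equiv.Perm (ZMod n))) (f : ZMod n → R) : Prop :=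
  ∀ γ ∈ X, γ 0 = 0 → ∀ h, f (γ h) = f h

/-- Key lemma: the "difference pattern" of an invariant function is preserved by all of `X`. -/
theorem InvF.sub {R : Sort*} {X : Subgroup (Equiv.Perm (ZMod n))}
    (htr : ∀ a : ZMod n, Equiv.addRight a ∈ X) {f : ZMod n → R} (hf : InvF X f)
    (γ : Equiv.Perm (ZMod n)) (hγ : γ ∈ X) (x y : ZMod n) :
    f (γ x - γ y) = f (x - y) := by
  have hmem : Equiv.addRight (-(γ y)) * γ * Equiv.addRight y ∈ X :=
    X.mul_mem (X.mul_mem (htr _) hγ) (htr _)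
  have h0 : (Equiv.addRight (-(γ y)) * γ * Equiv.addRight y) 0 = 0 := by
    simp [Equiv.Perm.mul_apply]
  have := hf _ hmem h0 (x - y)
  simpa [Equiv.Perm.mul_apply, sub_eq_add_neg] using this

/-- Invariance of a set, one direction suffices. -/
theorem invF_mem_of_forall {X : Subgroup (Equiv.Perm (ZMod n))} {S : Set (ZMod n)}
    (h : ∀ γ ∈ X, γ 0 = 0 → ∀ s ∈ S, γ s ∈ S) : InvF X (fun x => x ∈ S) := by
  intro γ hγ h0 x
  apply propext
  constructor
  · intro hx
    have hinv : γ⁻¹ ∈ X := X.inv_mem hγ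
    have h0' : γ⁻¹ 0 = 0 := by
      rw [Equiv.Perm.inv_eq_iff_eq]; exact h0.symm
    have := h γ⁻¹ hinv h0' _ hx
    simpa using this
  · intro hx
    exact h γ hγ h0 x hx

/-- the orbit of `x` under the stabiliser of `0` -/
def orb (X : Subgroup (Equiv.Perm (ZMod n))) (x : ZMod n) : Set (ZMod n) :=
  {y | ∃ γ ∈ X, γ 0 = 0 ∧ γ x = y}

theorem self_mem_orb (X : Subgroup (Equiv.Perm (ZMod n))) (x : ZMod n) : x ∈ orb X x :=
  ⟨1, X.one_mem, rfl, rfl⟩

theorem invF_orb (X : Subgroup (Equiv.Perm (ZMod n))) (x : ZMod n) :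
    InvF X (fun y => y ∈ orb X x) := by
  apply invF_mem_of_forall
  rintro γ hγ h0 s ⟨δ, hδ, hδ0, rfl⟩
  exact ⟨γ * δ, X.mul_mem hγ hδ, by simp [Equiv.Perm.mul_apply, hδ0, h0], rfl⟩

theorem zero_notMem_orb (X : Subgroup (Equiv.Perm (ZMod n))) {x : ZMod n} (hx : x ≠ 0) :
    (0 : ZMod n) ∉ orb X x := by
  rintro ⟨γ, -, h0, hγ⟩
  apply hx
  apply γ.injective
  rw [hγ, h0]

theorem orb_eq_of_mem {X : Subgroup (Equiv.Perm (ZMod n))} {x y : ZMod n} (h : y ∈ orb X x) :
    orb X y = orb X x := by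
  obtain ⟨γ, hγ, h0, rfl⟩ := h
  ext z
  constructor
  · rintro ⟨δ, hδ, hδ0, rfl⟩
    exact ⟨δ * γ, X.mul_mem hδ hγ, by simp [Equiv.Perm.mul_apply, hδ0, h0], rfl⟩
  · rintro ⟨δ, hδ, hδ0, rfl⟩
    refine ⟨δ * γ⁻¹, X.mul_mem hδ (X.inv_mem hγ), ?_, by simp [Equiv.Perm.mul_apply]⟩
    have : γ⁻¹ 0 = 0 := by rw [Equiv.Perm.inv_eq_iff_eq]; exact h0.symm
    simp [Equiv.Perm.mul_apply, this, hδ0]

section Algebra

variable {R : Type*} [CommSemiring R]

/-- Invariant elements of the group algebra are closed under multiplication. -/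
theorem invF_mul {X : Subgroup (Equiv.Perm (ZMod n))}
    (htr : ∀ a : ZMod n, Equiv.addRight a ∈ X) {f g : R[ZMod n]}
    (hf : InvF X (fun x => f.coeff x)) (hg : InvF X (fun x => g.coeff x)) :
    InvF X (fun x => (f * g).coeff x) := by
  intro γ hγ h0 h
  have key : ∀ z : ZMod n, (f * g).coeff z = ∑ a : ZMod n, f.coeff a * g.coeff (z - a) := by
    intro z
    rw [AddMonoidAlgebra.coeff_mul_apply_left, Finsupp.sum_fintype _ _ (by simp)]
    apply Finset.sum_congr rfl
    intro a _
    rw [neg_add_eq_sub]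
  show (f * g).coeff (γ h) = (f * g).coeff h
  rw [key, key]
  rw [← Equiv.sum_comp γ]
  apply Finset.sum_congr rfl
  intro a _
  have h1 : f.coeff (γ a) = f.coeff a := hf γ hγ h0 a
  have h2 : g.coeff (γ h - γ a) = g.coeff (h - a) := InvF.sub htr hg γ hγ h a
  rw [h1, h2]

theorem invF_one (X : Subgroup (Equiv.Perm (ZMod n))) :
    InvF X (fun x => (1 : R[ZMod n]).coeff x) := by
  intro γ hγ h0 h
  show (1 : R[ZMod n]).coeff (γ h) = (1 : R[ZMod n]).coeff h
  rw [AddMonoidAlgebra.one_def, AddMonoidAlgebra.coeff_single]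
  by_cases hh : h = 0
  · subst hh; rw [h0]
  · have : γ h ≠ 0 := by
      intro h'
      apply hh
      apply γ.injective
      rw [h', h0]
    rw [Finsupp.single_apply, Finsupp.single_apply, if_neg (Ne.symm this), if_neg (Ne.symm hh)]

theorem invF_pow {X : Subgroup (Equiv.Perm (ZMod n))}
    (htr : ∀ a : ZMod n, Equiv.addRight a ∈ X) {f : R[ZMod n]}
    (hf : InvF X (fun x => f.coeff x)) (k : ℕ) :
    InvF X (fun x => (f ^ k).coeff x) := by
  induction k with
  | zero => rw [pow_zero]; exact invF_one X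
  | succ k ih => rw [pow_succ]; exact invF_mul htr ih hf

end Algebra

section P1sec
open Finset


/-- elements killed by `p` -/
def P1 (n : ℕ) [NeZero n] (p : ℕ) : Finset (ZMod n) := Finset.univ.filter (fun x => p • x = 0)

theorem mem_P1 {p : ℕ} {x : ZMod n} : x ∈ P1 n p ↔ p • x = 0 := by simp [P1]

theorem zero_mem_P1 (p : ℕ) : (0 : ZMod n) ∈ P1 n p := by simp [mem_P1]

theorem add_mem_P1 {p : ℕ} {x y : ZMod n} (hx : x ∈ P1 n p) (hy : y ∈ P1 n p) : x + y ∈ P1 n p := by
  rw [mem_P1] at *; rw [smul_add, hx, hy, add_zero]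

theorem neg_mem_P1 {p : ℕ} {x : ZMod n} (hx : x ∈ P1 n p) : -x ∈ P1 n p := by
  rw [mem_P1] at *; rw [smul_neg, hx, neg_zero]

theorem sub_mem_P1 {p : ℕ} {x y : ZMod n} (hx : x ∈ P1 n p) (hy : y ∈ P1 n p) : x - y ∈ P1 n p := by
  rw [sub_eq_add_neg]; exact add_mem_P1 hx (neg_mem_P1 hy)

theorem card_P1 {p : ℕ} (hp : 0 < p) (hpn : p ∣ n) : (P1 n p).card = p := by
  obtain ⟨d, hd⟩ := hpn
  have hn : n ≠ 0 := NeZero.ne n
  have hd0 : 0 < d := by
    rcases Nat.eq_zero_or_pos d with h | h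
    · subst h; simp at hd; exact absurd hd hn
    · exact h
  have : P1 n p = (Finset.range p).image (fun j : ℕ => ((d * j : ℕ) : ZMod n)) := by
    ext x
    rw [mem_P1, Finset.mem_image]
    constructor
    · intro hx
      have h1 : ((p * x.val : ℕ) : ZMod n) = 0 := by
        rw [Nat.cast_mul, ZMod.natCast_zmod_val, ← nsmul_eq_mul]; exact hx
      rw [ZMod.natCast_eq_zero_iff] at h1
      have h1' : p * d ∣ p * x.val := by rw [← hd]; exact h1
      have h2 : d ∣ x.val := Nat.dvd_of_mul_dvd_mul_left hp h1'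
      obtain ⟨j, hj⟩ := h2
      refine ⟨j, ?_, ?_⟩
      · rw [Finset.mem_range]
        have hlt : x.val < n := ZMod.val_lt x
        have hlt' : d * j < d * p := by
          calc d * j = x.val := hj.symm
            _ < n := hlt
            _ = d * p := by rw [hd, mul_comm]
        exact lt_of_mul_lt_mul_left hlt' (Nat.zero_le d)
      · rw [← hj, ZMod.natCast_zmod_val]
    · rintro ⟨j, -, rfl⟩
      rw [nsmul_eq_mul, ← Nat.cast_mul, ZMod.natCast_eq_zero_iff, ← mul_assoc, ← hd]
      exact dvd_mul_right n j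
  rw [this, Finset.card_image_of_injOn, Finset.card_range]
  intro i hi j hj hij
  simp only [Finset.coe_range, Set.mem_Iio] at hi hj
  have hi' : d * i < n := by rw [hd, mul_comm p d]; exact Nat.mul_lt_mul_of_pos_left hi hd0
  have hj' : d * j < n := by rw [hd, mul_comm p d]; exact Nat.mul_lt_mul_of_pos_left hj hd0
  have := congrArg ZMod.val hij
  rw [ZMod.val_natCast_of_lt hi', ZMod.val_natCast_of_lt hj'] at this
  exact Nat.eq_of_mul_eq_mul_left hd0 this

theorem card_fiber {p : ℕ} (hp : 0 < p) (hpn : p ∣ n) (s : ZMod n) :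
    (Finset.univ.filter (fun t : ZMod n => p • t = p • s)).card = p := by
  have : Finset.univ.filter (fun t : ZMod n => p • t = p • s) = (P1 n p).image (fun x => s + x) := by
    ext t
    rw [Finset.mem_filter, Finset.mem_image]
    constructor
    · rintro ⟨-, ht⟩
      refine ⟨t - s, ?_, by ring⟩
      rw [mem_P1, smul_sub, ht, sub_self]
    · rintro ⟨x, hx, rfl⟩
      rw [mem_P1] at hx
      exact ⟨Finset.mem_univ _, by rw [smul_add, hx, add_zero]⟩
  rw [this, Finset.card_image_of_injective _ (add_right_injective s), card_P1 hp hpn]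

theorem dvd_card_of_invariant {p : ℕ} (hp : 0 < p) (hpn : p ∣ n) (S : Finset (ZMod n))
    (hS : ∀ s ∈ S, ∀ x ∈ P1 n p, s + x ∈ S) : p ∣ S.card := by
  rw [Finset.card_eq_sum_card_fiberwise (f := fun s : ZMod n => p • s) (t := S.image (fun s => p • s))
    (fun s hs => Finset.mem_image_of_mem _ hs)]
  apply Finset.dvd_sum
  intro h hh
  obtain ⟨s, hs, rfl⟩ := Finset.mem_image.1 hh
  have : S.filter (fun t => p • t = p • s) = Finset.univ.filter (fun t : ZMod n => p • t = p • s) := by
    ext t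
    simp only [Finset.mem_filter, Finset.mem_univ, true_and]
    constructor
    · exact fun h => h.2
    · intro ht
      refine ⟨?_, ht⟩
      have : t = s + (t - s) := by ring
      rw [this]
      apply hS s hs
      rw [mem_P1, smul_sub, ht, sub_self]
  rw [this, card_fiber hp hpn]

theorem one_notMem_range_smul {p : ℕ} (hp : p.Prime) (hpn : p ∣ n) (y : ZMod n) : p • y ≠ 1 := by
  intro h
  have h1 : ((p * y.val : ℕ) : ZMod n) = ((1 : ℕ) : ZMod n) := by
    rw [Nat.cast_mul, ZMod.natCast_zmod_val, ← nsmul_eq_mul, h, Nat.cast_one]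
  rw [ZMod.natCast_eq_natCast_iff] at h1
  have h2 : p * y.val ≡ 1 [MOD p] := h1.of_dvd hpn
  have h3 : p * y.val ≡ 0 [MOD p] := (Nat.modEq_zero_iff_dvd).2 (dvd_mul_right p _)
  have := h3.symm.trans h2
  rw [Nat.ModEq, Nat.zero_mod, Nat.mod_eq_of_lt hp.one_lt] at this
  exact absurd this (by norm_num)

end P1sec

section Part3
open Finset


theorem InvF.comp {R R' : Sort*} {X : Subgroup (Equiv.Perm (ZMod n))} {f : ZMod n → R}
    (hf : InvF X f) (g : R → R') : InvF X (fun x => g (f x)) := by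
  intro γ hγ h0 h
  show g (f (γ h)) = g (f h)
  rw [hf γ hγ h0 h]

theorem invF_closure {X : Subgroup (Equiv.Perm (ZMod n))}
    (htr : ∀ a : ZMod n, Equiv.addRight a ∈ X) {S : Set (ZMod n)}
    (hS : InvF X (fun x => x ∈ S)) : InvF X (fun x => x ∈ AddSubgroup.closure S) := by
  let M : AddSubgroup (ZMod n) :=
    { carrier := {d | ∀ γ ∈ X, ∀ y, γ (y + d) - γ y ∈ AddSubgroup.closure S}
      zero_mem' := by intro γ _ y; simp
      add_mem' := by
        intro a b ha hb γ hγ y
        have h1 := hb γ hγ (y + a)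
        have h2 := ha γ hγ y
        have : γ (y + (a + b)) - γ y = (γ (y + a + b) - γ (y + a)) + (γ (y + a) - γ y) := by
          rw [add_assoc]; abel
        rw [this]; exact add_mem h1 h2
      neg_mem' := by
        intro a ha γ hγ y
        have h1 := ha γ hγ (y + -a)
        have : γ (y + -a) - γ y = -(γ (y + -a + a) - γ (y + -a)) := by
          rw [neg_add_cancel_right]; abel
        rw [this]; exact neg_mem h1 }
  have hSM : S ⊆ M := by
    intro s hs γ hγ y
    apply AddSubgroup.subset_closure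
    have h2 : (γ (y + s) - γ y ∈ S) = (y + s - y ∈ S) := InvF.sub htr hS γ hγ (y + s) y
    rw [h2]; simpa using hs
  have hle : AddSubgroup.closure S ≤ M := (AddSubgroup.closure_le M).2 hSM
  apply invF_mem_of_forall
  intro γ hγ h0 s hs
  have := hle hs γ hγ 0
  simpa [h0] using this

/-- translation stabiliser of a finset -/
def stabT (T : Finset (ZMod n)) : AddSubgroup (ZMod n) where
  carrier := {h | ∀ t, t ∈ T ↔ h + t ∈ T}
  zero_mem' := by intro t; simp
  add_mem' := by
    intro a b ha hb t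
    rw [hb t, ha (b + t), add_assoc]
  neg_mem' := by
    intro a ha t
    rw [ha (-a + t)]; simp

theorem mem_stabT {T : Finset (ZMod n)} {h : ZMod n} :
    h ∈ stabT T ↔ ∀ t, t ∈ T ↔ h + t ∈ T := Iff.rfl

theorem invF_stabT {X : Subgroup (Equiv.Perm (ZMod n))}
    (htr : ∀ a : ZMod n, Equiv.addRight a ∈ X) {T : Finset (ZMod n)}
    (hT : InvF X (fun x => x ∈ T)) : InvF X (fun x => x ∈ stabT T) := by
  apply invF_mem_of_forall (S := (stabT T : Set (ZMod n)))
  intro γ hγ h0 h hh t
  have hγ' : Equiv.addRight t * γ ∈ X := X.mul_mem (htr t) hγ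
  have hw0 : (Equiv.addRight t * γ) ((Equiv.addRight t * γ)⁻¹ 0) = 0 := by simp
  have e1 : ((Equiv.addRight t * γ) 0 - (Equiv.addRight t * γ) ((Equiv.addRight t * γ)⁻¹ 0) ∈ T)
      = (0 - (Equiv.addRight t * γ)⁻¹ 0 ∈ T) :=
    InvF.sub htr hT _ hγ' 0 _
  have e2 : ((Equiv.addRight t * γ) h - (Equiv.addRight t * γ) ((Equiv.addRight t * γ)⁻¹ 0) ∈ T)
      = (h - (Equiv.addRight t * γ)⁻¹ 0 ∈ T) :=
    InvF.sub htr hT _ hγ' h _
  rw [hw0, sub_zero] at e1 e2
  have e3 := (mem_stabT.1 hh) (-((Equiv.addRight t * γ)⁻¹ 0))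
  have a1 : (Equiv.addRight t * γ) 0 = t := by simp [Equiv.Perm.mul_apply, h0]
  have a2 : (Equiv.addRight t * γ) h = γ h + t := by simp [Equiv.Perm.mul_apply]
  rw [a1] at e1
  rw [a2] at e2
  rw [e1, e2, zero_sub, sub_eq_add_neg]
  exact e3

theorem stabT_eq_bot {X : Subgroup (Equiv.Perm (ZMod n))}
    (htr : ∀ a : ZMod n, Equiv.addRight a ∈ X)
    (hprim : ∀ K : AddSubgroup (ZMod n), InvF X (fun x => x ∈ K) → K = ⊥ ∨ K = ⊤)
    {T : Finset (ZMod n)} (hT : InvF X (fun x => x ∈ T)) (h0 : (0 : ZMod n) ∉ T)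
    (hne : T.Nonempty) : stabT T = ⊥ := by
  rcases hprim _ (invF_stabT htr hT) with h | h
  · exact h
  · exfalso
    obtain ⟨t, ht⟩ := hne
    have : -t ∈ stabT T := by rw [h]; trivial
    have := (mem_stabT.1 this t).1 ht
    rw [neg_add_cancel] at this
    exact h0 this

theorem closure_eq_top {X : Subgroup (Equiv.Perm (ZMod n))}
    (htr : ∀ a : ZMod n, Equiv.addRight a ∈ X)
    (hprim : ∀ K : AddSubgroup (ZMod n), InvF X (fun x => x ∈ K) → K = ⊥ ∨ K = ⊤)
    {T : Finset (ZMod n)} (hT : InvF X (fun x => x ∈ T)) (h0 : (0 : ZMod n) ∉ T)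
    (hne : T.Nonempty) : AddSubgroup.closure (T : Set (ZMod n)) = ⊤ := by
  rcases hprim _ (invF_closure htr (S := (T : Set (ZMod n))) hT) with h | h
  · exfalso
    obtain ⟨t, ht⟩ := hne
    have : t ∈ AddSubgroup.closure (T : Set (ZMod n)) := AddSubgroup.subset_closure ht
    rw [h, AddSubgroup.mem_bot] at this
    subst this
    exact h0 ht
  · exact h


end Part3

section Part4
open Finset


/-- indicator element of the group algebra -/
noncomputable def tau (R : Type*) [CommSemiring R] (T : Finset (ZMod n)) : R[ZMod n] :=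
  ∑ t ∈ T, AddMonoidAlgebra.single t (1 : R)

theorem coeff_tau (R : Type*) [CommSemiring R] (T : Finset (ZMod n)) (a : ZMod n) :
    (tau R T).coeff a = if a ∈ T then 1 else 0 := by
  unfold tau
  rw [AddMonoidAlgebra.coeff_sum, Finsupp.finsetSum_apply]
  simp [AddMonoidAlgebra.coeff_single, Finsupp.single_apply]

theorem invF_tau (R : Type*) [CommSemiring R] {X : Subgroup (Equiv.Perm (ZMod n))}
    {T : Finset (ZMod n)} (hT : InvF X (fun x => x ∈ T)) :
    InvF X (fun x => (tau R T).coeff x) := by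
  intro γ hγ h0 h
  show (tau R T).coeff (γ h) = (tau R T).coeff h
  rw [coeff_tau, coeff_tau]
  have : (γ h ∈ T) = (h ∈ T) := hT γ hγ h0 h
  simp only [this]

theorem coeff_tau_pow {p : ℕ} [hp : Fact p.Prime] (T : Finset (ZMod n)) (h : ZMod n) :
    ((tau (ZMod p) T) ^ p).coeff h = ((T.filter (fun t => p • t = h)).card : ZMod p) := by
  haveI : CharP ((ZMod p)[ZMod n]) p :=
    charP_of_injective_ringHom (f := AddMonoidAlgebra.singleZeroRingHom)
      AddMonoidAlgebra.single_right_injective p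
  unfold tau
  rw [sum_pow_char p]
  simp only [AddMonoidAlgebra.single_pow, one_pow]
  rw [AddMonoidAlgebra.coeff_sum, Finsupp.finsetSum_apply]
  simp only [AddMonoidAlgebra.coeff_single, Finsupp.single_apply]
  rw [Finset.card_filter]
  push_cast
  rfl


end Part4

section Part5
open Finset


theorem coset_subset {X : Subgroup (Equiv.Perm (ZMod n))}
    (htr : ∀ a : ZMod n, Equiv.addRight a ∈ X)
    (hprim : ∀ K : AddSubgroup (ZMod n), InvF X (fun x => x ∈ K) → K = ⊥ ∨ K = ⊤)
    {p : ℕ} (hp : p.Prime) (hpn : p ∣ n)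
    {T : Finset (ZMod n)} (hT : InvF X (fun x => x ∈ T))
    {t : ZMod n} (ht : t ∈ T) (hpt : t ∉ P1 n p) {x : ZMod n} (hx : x ∈ P1 n p) :
    t + x ∈ T := by
  have := Fact.mk hp
  have hf : InvF X (fun h => ((T.filter (fun t => p • t = h)).card : ZMod p)) := by
    have := invF_pow htr (invF_tau (ZMod p) hT) p
    intro γ hγ h0 h
    have := this γ hγ h0 h
    simp only [coeff_tau_pow] at this
    exact this
  have hS : InvF X (fun h => h ∈ {h : ZMod n | ((T.filter (fun t => p • t = h)).card : ZMod p) ≠ 0}) :=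
    hf.comp (fun z => z ≠ 0)
  have hcl := invF_closure htr hS
  have hle : AddSubgroup.closure {h : ZMod n | ((T.filter (fun t => p • t = h)).card : ZMod p) ≠ 0}
      ≤ (nsmulAddMonoidHom p : ZMod n →+ ZMod n).range := by
    rw [AddSubgroup.closure_le]
    intro h hh
    have hh' : ((T.filter (fun t => p • t = h)).card : ZMod p) ≠ 0 := hh
    have : (T.filter (fun t => p • t = h)).card ≠ 0 := by
      intro h0; apply hh'; rw [h0]; simp
    obtain ⟨s, hs⟩ := Finset.card_pos.1 (Nat.pos_of_ne_zero this)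
    exact ⟨s, (Finset.mem_filter.1 hs).2⟩
  have hbot : AddSubgroup.closure {h : ZMod n | ((T.filter (fun t => p • t = h)).card : ZMod p) ≠ 0}
      = ⊥ := by
    rcases hprim _ hcl with h | h
    · exact h
    · exfalso
      have h1 : (1 : ZMod n) ∈ (nsmulAddMonoidHom p : ZMod n →+ ZMod n).range := by
        apply hle; rw [h]; trivial
      obtain ⟨y, hy⟩ := h1
      exact one_notMem_range_smul hp hpn y hy
  have hpt' : p • t ≠ 0 := fun h => hpt (mem_P1.2 h)
  have hz : ((T.filter (fun s => p • s = p • t)).card : ZMod p) = 0 := by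
    by_contra hne
    have : p • t ∈ AddSubgroup.closure
        {h : ZMod n | ((T.filter (fun t => p • t = h)).card : ZMod p) ≠ 0} :=
      AddSubgroup.subset_closure hne
    rw [hbot, AddSubgroup.mem_bot] at this
    exact hpt' this
  have hdvd : p ∣ (T.filter (fun s => p • s = p • t)).card := (ZMod.natCast_eq_zero_iff _ _).1 hz
  have hpos : 0 < (T.filter (fun s => p • s = p • t)).card :=
    Finset.card_pos.2 ⟨t, Finset.mem_filter.2 ⟨ht, rfl⟩⟩
  have hge : p ≤ (T.filter (fun s => p • s = p • t)).card := Nat.le_of_dvd hpos hdvd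
  have hsub : T.filter (fun s => p • s = p • t) ⊆ Finset.univ.filter (fun s : ZMod n => p • s = p • t) := by
    intro s hs
    exact Finset.mem_filter.2 ⟨Finset.mem_univ _, (Finset.mem_filter.1 hs).2⟩
  have heq := Finset.eq_of_subset_of_card_le hsub (by rw [card_fiber hp.pos hpn]; exact hge)
  have : t + x ∈ Finset.univ.filter (fun s : ZMod n => p • s = p • t) := by
    rw [Finset.mem_filter]
    refine ⟨Finset.mem_univ _, ?_⟩
    rw [smul_add, mem_P1.1 hx, add_zero]
  rw [← heq] at this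
  exact (Finset.mem_filter.1 this).1


end Part5

section Part6
open Finset


theorem notMem_P1_add {p : ℕ} {t x : ZMod n} (ht : t ∉ P1 n p) (hx : x ∈ P1 n p) :
    t + x ∉ P1 n p := by
  intro h
  apply ht
  have : t = (t + x) - x := by ring
  rw [this]
  exact sub_mem_P1 h hx

theorem exists_mem_P1 {X : Subgroup (Equiv.Perm (ZMod n))}
    (htr : ∀ a : ZMod n, Equiv.addRight a ∈ X)
    (hprim : ∀ K : AddSubgroup (ZMod n), InvF X (fun x => x ∈ K) → K = ⊥ ∨ K = ⊤)
    {p : ℕ} (hp : p.Prime) (hpn : p ∣ n)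
    {T : Finset (ZMod n)} (hT : InvF X (fun x => x ∈ T)) (h0 : (0 : ZMod n) ∉ T)
    (hne : T.Nonempty) : ∃ t ∈ T, t ∈ P1 n p := by
  by_contra hcon
  push Not at hcon
  have hstab := stabT_eq_bot htr hprim hT h0 hne
  have hsub : ∀ x ∈ P1 n p, x = 0 := by
    intro x hx
    have : x ∈ stabT T := by
      rw [mem_stabT]
      intro t
      constructor
      · intro ht
        rw [add_comm]
        exact coset_subset htr hprim hp hpn hT ht (hcon t ht) hx
      · intro ht
        have h1 := coset_subset htr hprim hp hpn hT ht (hcon _ ht) (neg_mem_P1 hx)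
        have : x + t + -x = t := by ring
        rwa [this] at h1
    rw [hstab, AddSubgroup.mem_bot] at this
    exact this
  have hcard : (P1 n p).card ≤ 1 := by
    apply Finset.card_le_one.2
    intro a ha b hb
    rw [hsub a ha, hsub b hb]
  rw [card_P1 hp.pos hpn] at hcard
  exact absurd hp.one_lt (not_lt.2 hcard)

theorem exists_notMem_P1 {X : Subgroup (Equiv.Perm (ZMod n))}
    (htr : ∀ a : ZMod n, Equiv.addRight a ∈ X)
    (hprim : ∀ K : AddSubgroup (ZMod n), InvF X (fun x => x ∈ K) → K = ⊥ ∨ K = ⊤)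
    {p : ℕ} (hp : p.Prime) (hpn : p ∣ n) (hnp : p ≠ n)
    {T : Finset (ZMod n)} (hT : InvF X (fun x => x ∈ T)) (h0 : (0 : ZMod n) ∉ T)
    (hne : T.Nonempty) : ∃ t ∈ T, t ∉ P1 n p := by
  by_contra hcon
  push Not at hcon
  have htop := closure_eq_top htr hprim hT h0 hne
  have hle : AddSubgroup.closure (T : Set (ZMod n)) ≤ (nsmulAddMonoidHom p : ZMod n →+ ZMod n).ker := by
    rw [AddSubgroup.closure_le]
    intro t ht
    have := mem_P1.1 (hcon t ht)
    exact this
  have hall : ∀ x : ZMod n, x ∈ P1 n p := by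
    intro x
    have : x ∈ (nsmulAddMonoidHom p : ZMod n →+ ZMod n).ker := by
      apply hle; rw [htop]; trivial
    exact mem_P1.2 this
  have : P1 n p = Finset.univ := Finset.eq_univ_iff_forall.2 hall
  have hc := card_P1 (n := n) hp.pos hpn
  rw [this, Finset.card_univ, ZMod.card] at hc
  exact hnp hc.symm


end Part6

section Part7
open Finset


/-- number of representations `h = a + b` with `a, b ∈ T` -/
def cnt (T : Finset (ZMod n)) (h : ZMod n) : ℕ := (T.filter (fun a => h - a ∈ T)).card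

/-- number of representations `x = a + b` with `a ∈ T ∩ P₁`, `b ∈ T` -/
def dcnt (p : ℕ) (T : Finset (ZMod n)) (x : ZMod n) : ℕ :=
  (T.filter (fun a => a ∈ P1 n p ∧ x - a ∈ T)).card

theorem cnt_invariant {X : Subgroup (Equiv.Perm (ZMod n))}
    (htr : ∀ a : ZMod n, Equiv.addRight a ∈ X)
    {T : Finset (ZMod n)} (hT : InvF X (fun x => x ∈ T)) : InvF X (cnt T) := by
  have key : ∀ γ ∈ X, γ 0 = 0 → ∀ h, cnt T h ≤ cnt T (γ h) := by
    intro γ hγ h0 h
    unfold cnt
    apply Finset.card_le_card_of_injOn (fun a => γ a)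
    · intro a ha
      have ha' := Finset.mem_filter.1 (Finset.mem_coe.1 ha)
      apply Finset.mem_coe.2
      rw [Finset.mem_filter]
      constructor
      · have : (γ a ∈ T) = (a ∈ T) := hT γ hγ h0 a
        rw [this]; exact ha'.1
      · have : (γ h - γ a ∈ T) = (h - a ∈ T) := InvF.sub htr hT γ hγ h a
        rw [this]; exact ha'.2
    · intro a _ b _ hab
      exact γ.injective hab
  intro γ hγ h0 h
  apply le_antisymm
  · have h0' : γ⁻¹ 0 = 0 := by rw [Equiv.Perm.inv_eq_iff_eq]; exact h0.symm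
    have := key γ⁻¹ (X.inv_mem hγ) h0' (γ h)
    simpa using this
  · exact key γ hγ h0 h

theorem mem_add_P1_iff {p : ℕ} {T : Finset (ZMod n)}
    (hcos : ∀ t ∈ T, t ∉ P1 n p → ∀ x ∈ P1 n p, t + x ∈ T)
    {y x : ZMod n} (hy : y ∉ P1 n p) (hx : x ∈ P1 n p) : y + x ∈ T ↔ y ∈ T := by
  constructor
  · intro h
    have := hcos _ h (notMem_P1_add hy hx) _ (neg_mem_P1 hx)
    rwa [add_neg_cancel_right] at this
  · intro h
    exact hcos _ h hy _ hx

theorem cnt_of_notMem {p : ℕ} (hp : 0 < p) (hpn : p ∣ n) {T : Finset (ZMod n)}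
    (hcos : ∀ t ∈ T, t ∉ P1 n p → ∀ x ∈ P1 n p, t + x ∈ T)
    {h : ZMod n} (hh : h ∉ P1 n p) :
    (cnt T h : ZMod p) = 2 * (if h ∈ T then ((T.filter (fun a => a ∈ P1 n p)).card : ZMod p) else 0) := by
  have s1 : cnt T h = ((T.filter (fun a => h - a ∈ T)).filter (fun a => a ∈ P1 n p)).card
      + ((T.filter (fun a => h - a ∈ T)).filter (fun a => ¬ a ∈ P1 n p)).card :=
    (Finset.card_filter_add_card_filter_not _).symm
  have s2 : ((T.filter (fun a => h - a ∈ T)).filter (fun a => ¬ a ∈ P1 n p)).card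
      = (((T.filter (fun a => h - a ∈ T)).filter (fun a => ¬ a ∈ P1 n p)).filter
          (fun a => h - a ∈ P1 n p)).card
        + (((T.filter (fun a => h - a ∈ T)).filter (fun a => ¬ a ∈ P1 n p)).filter
          (fun a => ¬ h - a ∈ P1 n p)).card :=
    (Finset.card_filter_add_card_filter_not _).symm
  -- A₁₀ ≃ A₀
  have s3 : (((T.filter (fun a => h - a ∈ T)).filter (fun a => ¬ a ∈ P1 n p)).filter
          (fun a => h - a ∈ P1 n p)).card
      = ((T.filter (fun a => h - a ∈ T)).filter (fun a => a ∈ P1 n p)).card := by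
    apply Finset.card_nbij' (fun a => h - a) (fun a => h - a)
    · intro a ha
      simp only [Finset.coe_filter, Set.mem_ofPred_eq, Finset.mem_filter] at ha ⊢
      refine ⟨⟨ha.1.1.2, ?_⟩, ha.2⟩
      rw [sub_sub_cancel]; exact ha.1.1.1
    · intro a ha
      simp only [Finset.coe_filter, Set.mem_ofPred_eq, Finset.mem_filter] at ha ⊢
      refine ⟨⟨⟨ha.1.2, ?_⟩, ?_⟩, ?_⟩
      · rw [sub_sub_cancel]; exact ha.1.1
      · rw [sub_eq_add_neg]; exact notMem_P1_add hh (neg_mem_P1 ha.2)
      · rw [sub_sub_cancel]; exact ha.2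
    · intro a _; exact sub_sub_cancel h a
    · intro a _; exact sub_sub_cancel h a
  -- A₁₁ is P₁-invariant
  have s4 : p ∣ (((T.filter (fun a => h - a ∈ T)).filter (fun a => ¬ a ∈ P1 n p)).filter
          (fun a => ¬ h - a ∈ P1 n p)).card := by
    apply dvd_card_of_invariant hp hpn
    intro a ha x hx
    simp only [Finset.mem_filter] at ha ⊢
    refine ⟨⟨⟨hcos a ha.1.1.1 ha.1.2 x hx, ?_⟩, notMem_P1_add ha.1.2 hx⟩, ?_⟩
    · have : h - (a + x) = (h - a) + -x := by ring
      rw [this]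
      exact hcos _ ha.1.1.2 ha.2 _ (neg_mem_P1 hx)
    · have : h - (a + x) = (h - a) + -x := by ring
      rw [this]
      exact notMem_P1_add ha.2 (neg_mem_P1 hx)
  -- A₀
  have s5 : ((T.filter (fun a => h - a ∈ T)).filter (fun a => a ∈ P1 n p)).card
      = if h ∈ T then (T.filter (fun a => a ∈ P1 n p)).card else 0 := by
    have hiff : ∀ a ∈ P1 n p, (h - a ∈ T ↔ h ∈ T) := by
      intro a ha
      rw [sub_eq_add_neg]
      exact mem_add_P1_iff hcos hh (neg_mem_P1 ha)
    by_cases hhT : h ∈ T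
    · rw [if_pos hhT]
      congr 1
      ext a
      simp only [Finset.mem_filter]
      constructor
      · rintro ⟨⟨h1, _⟩, h3⟩; exact ⟨h1, h3⟩
      · rintro ⟨h1, h3⟩; exact ⟨⟨h1, (hiff a h3).2 hhT⟩, h3⟩
    · rw [if_neg hhT, Finset.card_eq_zero]
      apply Finset.eq_empty_of_forall_notMem
      intro a ha
      simp only [Finset.mem_filter] at ha
      exact hhT ((hiff a ha.2).1 ha.1.2)
  obtain ⟨k, hk⟩ := s4
  rw [s1, s2, s3, hk, s5]
  push_cast
  split_ifs <;> (simp; try ring)


end Part7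

section Part8
open Finset


theorem cnt_of_mem {p : ℕ} (hp : 0 < p) (hpn : p ∣ n) {T : Finset (ZMod n)}
    (hcos : ∀ t ∈ T, t ∉ P1 n p → ∀ x ∈ P1 n p, t + x ∈ T)
    {x : ZMod n} (hx : x ∈ P1 n p) :
    (cnt T x : ZMod p) = (dcnt p T x : ZMod p) := by
  have s1 : cnt T x = ((T.filter (fun a => x - a ∈ T)).filter (fun a => a ∈ P1 n p)).card
      + ((T.filter (fun a => x - a ∈ T)).filter (fun a => ¬ a ∈ P1 n p)).card :=
    (Finset.card_filter_add_card_filter_not _).symm
  have s2 : ((T.filter (fun a => x - a ∈ T)).filter (fun a => a ∈ P1 n p)).card = dcnt p T x := by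
    unfold dcnt
    congr 1
    ext a
    simp only [Finset.mem_filter]
    tauto
  have s3 : p ∣ ((T.filter (fun a => x - a ∈ T)).filter (fun a => ¬ a ∈ P1 n p)).card := by
    apply dvd_card_of_invariant hp hpn
    intro a ha y hy
    simp only [Finset.mem_filter] at ha ⊢
    have hxa : x - a ∉ P1 n p := by
      intro h
      apply ha.2
      have : a = x - (x - a) := by ring
      rw [this]
      exact sub_mem_P1 hx h
    refine ⟨⟨hcos a ha.1.1 ha.2 y hy, ?_⟩, notMem_P1_add ha.2 hy⟩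
    have : x - (a + y) = (x - a) + -y := by ring
    rw [this]
    exact hcos _ ha.1.2 hxa _ (neg_mem_P1 hy)
  obtain ⟨k, hk⟩ := s3
  rw [s1, s2, hk]
  push_cast
  simp

theorem sum_dcnt {p : ℕ} {T : Finset (ZMod n)} :
    ∑ x ∈ P1 n p, dcnt p T x
      = (T.filter (fun a => a ∈ P1 n p)).card * (T.filter (fun a => a ∈ P1 n p)).card := by
  have h1 : ∀ x, dcnt p T x
      = ∑ a ∈ T.filter (fun a => a ∈ P1 n p), if x - a ∈ T then 1 else 0 := by
    intro x
    unfold dcnt
    rw [← Finset.card_filter, Finset.filter_filter]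
  simp only [h1]
  rw [Finset.sum_comm]
  rw [Finset.card_eq_sum_ones, Finset.sum_mul]
  apply Finset.sum_congr rfl
  intro a ha
  rw [← Finset.card_filter, one_mul, ← Finset.card_eq_sum_ones]
  have haP : a ∈ P1 n p := (Finset.mem_filter.1 ha).2
  apply Finset.card_nbij' (fun x => x - a) (fun b => b + a)
  · intro x hx
    simp only [Finset.coe_filter, Set.mem_ofPred_eq] at hx ⊢
    exact ⟨hx.2, sub_mem_P1 hx.1 haP⟩
  · intro b hb
    simp only [Finset.coe_filter, Set.mem_ofPred_eq] at hb ⊢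
    refine ⟨add_mem_P1 hb.2 haP, ?_⟩
    rw [add_sub_cancel_right]; exact hb.1
  · intro x _; exact sub_add_cancel x a
  · intro b _; exact add_sub_cancel_right b a


end Part8

section Part9
open Finset


open Classical in
/-- the orbit as a finset -/
noncomputable def orbF (X : Subgroup (Equiv.Perm (ZMod n))) (x : ZMod n) : Finset (ZMod n) :=
  Finset.univ.filter (fun y => y ∈ orb X x)

theorem mem_orbF {X : Subgroup (Equiv.Perm (ZMod n))} {x y : ZMod n} :
    y ∈ orbF X x ↔ y ∈ orb X x := by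
  simp [orbF]

theorem invF_orbF (X : Subgroup (Equiv.Perm (ZMod n))) (x : ZMod n) :
    InvF X (fun y => y ∈ orbF X x) := by
  intro γ hγ h0 h
  have := invF_orb X x γ hγ h0 h
  show (γ h ∈ orbF X x) = (h ∈ orbF X x)
  simp only [mem_orbF]
  exact this

theorem P1_erase_subset_orbF {X : Subgroup (Equiv.Perm (ZMod n))}
    (htr : ∀ a : ZMod n, Equiv.addRight a ∈ X)
    (hprim : ∀ K : AddSubgroup (ZMod n), InvF X (fun x => x ∈ K) → K = ⊥ ∨ K = ⊤)
    {p : ℕ} (hp : p.Prime) (hpn : p ∣ n) (hnp : p ≠ n) {x : ZMod n} (hx : x ≠ 0)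
    {y : ZMod n} (hy : y ∈ P1 n p) (hy0 : y ≠ 0) : y ∈ orbF X x := by
  have := Fact.mk hp
  have hT : InvF X (fun z => z ∈ orbF X x) := invF_orbF X x
  have h0 : (0 : ZMod n) ∉ orbF X x := fun h => zero_notMem_orb X hx (mem_orbF.1 h)
  have hne : (orbF X x).Nonempty := ⟨x, mem_orbF.2 (self_mem_orb X x)⟩
  have hcos : ∀ t ∈ orbF X x, t ∉ P1 n p → ∀ z ∈ P1 n p, t + z ∈ orbF X x :=
    fun t ht htP z hz => coset_subset htr hprim hp hpn hT ht htP hz
  -- e
  have hsub : (orbF X x).filter (fun a => a ∈ P1 n p) ⊆ (P1 n p).erase 0 := by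
    intro a ha
    rw [Finset.mem_filter] at ha
    rw [Finset.mem_erase]
    refine ⟨?_, ha.2⟩
    rintro rfl
    exact h0 ha.1
  have hcardE : ((P1 n p).erase 0).card = p - 1 := by
    rw [Finset.card_erase_of_mem (zero_mem_P1 p), card_P1 hp.pos hpn]
  have he_le : ((orbF X x).filter (fun a => a ∈ P1 n p)).card ≤ p - 1 := by
    rw [← hcardE]; exact Finset.card_le_card hsub
  have he_pos : 0 < ((orbF X x).filter (fun a => a ∈ P1 n p)).card := by
    obtain ⟨t, ht, htP⟩ := exists_mem_P1 htr hprim hp hpn hT h0 hne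
    exact Finset.card_pos.2 ⟨t, Finset.mem_filter.2 ⟨ht, htP⟩⟩
  -- Lemma D
  have hD : ∀ z ∈ (P1 n p).erase 0, (dcnt p (orbF X x) z : ZMod p)
      = 2 * (if z ∈ orbF X x then
          (((orbF X x).filter (fun a => a ∈ P1 n p)).card : ZMod p) else 0) := by
    intro z hz
    rw [Finset.mem_erase] at hz
    obtain ⟨h', hh', hh'P⟩ := exists_notMem_P1 htr hprim hp hpn hnp (invF_orbF X z)
      (fun h => zero_notMem_orb X hz.1 (mem_orbF.1 h)) ⟨z, mem_orbF.2 (self_mem_orb X z)⟩
    obtain ⟨γ, hγ, hγ0, rfl⟩ := mem_orbF.1 hh'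
    have e1 : cnt (orbF X x) (γ z) = cnt (orbF X x) z := cnt_invariant htr hT γ hγ hγ0 z
    have e2 : (γ z ∈ orbF X x) = (z ∈ orbF X x) := hT γ hγ hγ0 z
    rw [← cnt_of_mem hp.pos hpn hcos hz.2, ← e1, cnt_of_notMem hp.pos hpn hcos hh'P]
    simp only [e2]
  -- Lemma E
  have hE : dcnt p (orbF X x) 0 = 0 ∨
      dcnt p (orbF X x) 0 = ((orbF X x).filter (fun a => a ∈ P1 n p)).card := by
    by_cases hex : ∃ s ∈ orbF X x, -s ∈ orbF X x
    · right
      obtain ⟨s, hs, hs'⟩ := hex
      have hall : ∀ t ∈ orbF X x, -t ∈ orbF X x := by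
        intro t ht
        have h1 : orb X s = orb X x := orb_eq_of_mem (mem_orbF.1 hs)
        have h2 : t ∈ orb X s := by rw [h1]; exact mem_orbF.1 ht
        obtain ⟨γ, hγ, hγ0, rfl⟩ := h2
        have h3 : (γ 0 - γ s ∈ orbF X x) = (0 - s ∈ orbF X x) := InvF.sub htr hT γ hγ 0 s
        rw [hγ0, zero_sub, zero_sub] at h3
        rw [h3]; exact hs'
      unfold dcnt
      congr 1
      ext a
      simp only [Finset.mem_filter, zero_sub]
      constructor
      · rintro ⟨h1, h2, _⟩; exact ⟨h1, h2⟩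
      · rintro ⟨h1, h2⟩; exact ⟨h1, h2, hall a h1⟩
    · left
      unfold dcnt
      rw [Finset.card_eq_zero]
      apply Finset.eq_empty_of_forall_notMem
      intro a ha
      simp only [Finset.mem_filter, zero_sub] at ha
      exact hex ⟨a, ha.1, ha.2.2⟩
  -- the sum
  have hsum : ((dcnt p (orbF X x) 0 : ℕ) : ZMod p)
      + 2 * (((orbF X x).filter (fun a => a ∈ P1 n p)).card : ZMod p)
        * (((orbF X x).filter (fun a => a ∈ P1 n p)).card : ZMod p)
      = (((orbF X x).filter (fun a => a ∈ P1 n p)).card : ZMod p)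
        * (((orbF X x).filter (fun a => a ∈ P1 n p)).card : ZMod p) := by
    have h1 := congrArg (fun k : ℕ => (k : ZMod p)) (sum_dcnt (n := n) (p := p) (T := orbF X x))
    simp only [Nat.cast_sum, Nat.cast_mul] at h1
    rw [← h1, ← Finset.add_sum_erase _ _ (zero_mem_P1 (n := n) p)]
    congr 1
    rw [Finset.sum_congr rfl hD, ← Finset.mul_sum, Finset.sum_ite, Finset.sum_const_zero,
      add_zero, Finset.sum_const, nsmul_eq_mul, mul_assoc]
    have hfe : ((P1 n p).erase 0).filter (fun z => z ∈ orbF X x)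
        = (orbF X x).filter (fun a => a ∈ P1 n p) := by
      ext a
      simp only [Finset.mem_filter, Finset.mem_erase]
      constructor
      · rintro ⟨⟨_, h2⟩, h3⟩; exact ⟨h3, h2⟩
      · rintro ⟨h1, h2⟩
        refine ⟨⟨?_, h2⟩, h1⟩
        rintro rfl
        exact h0 h1
    rw [hfe]
  -- conclude e = p - 1
  have hne0 : (((orbF X x).filter (fun a => a ∈ P1 n p)).card : ZMod p) ≠ 0 := by
    intro h
    rw [ZMod.natCast_eq_zero_iff] at h
    have := Nat.le_of_dvd he_pos h
    have hp1 := hp.one_lt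
    omega
  have hcard : ((orbF X x).filter (fun a => a ∈ P1 n p)).card = p - 1 := by
    rcases hE with hE | hE
    · exfalso
      rw [hE, Nat.cast_zero, zero_add] at hsum
      have : (((orbF X x).filter (fun a => a ∈ P1 n p)).card : ZMod p)
        * (((orbF X x).filter (fun a => a ∈ P1 n p)).card : ZMod p) = 0 := by
        linear_combination hsum
      rcases mul_eq_zero.1 this with h | h <;> exact hne0 h
    · rw [hE] at hsum
      have : (((orbF X x).filter (fun a => a ∈ P1 n p)).card : ZMod p)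
        * ((((orbF X x).filter (fun a => a ∈ P1 n p)).card : ZMod p) + 1) = 0 := by
        linear_combination hsum
      rcases mul_eq_zero.1 this with h | h
      · exact absurd h hne0
      · have h' : ((((orbF X x).filter (fun a => a ∈ P1 n p)).card + 1 : ℕ) : ZMod p) = 0 := by
          push_cast; exact h
        rw [ZMod.natCast_eq_zero_iff] at h'
        have := Nat.le_of_dvd (Nat.succ_pos _) h'
        omega
  have heq := Finset.eq_of_subset_of_card_le hsub (by rw [hcardE, hcard])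
  have : y ∈ (P1 n p).erase 0 := Finset.mem_erase.2 ⟨hy0, hy⟩
  rw [← heq] at this
  exact (Finset.mem_filter.1 this).1

/-- **Schur's theorem, core form**: a permutation group on `ZMod n` containing all translations
and leaving no proper nontrivial subgroup invariant is 2-transitive, when `n` is not prime
(there is a prime `p ∣ n`, `p ≠ n`). -/
theorem schur_core {X : Subgroup (Equiv.Perm (ZMod n))}
    (htr : ∀ a : ZMod n, Equiv.addRight a ∈ X)
    (hprim : ∀ K : AddSubgroup (ZMod n), InvF X (fun x => x ∈ K) → K = ⊥ ∨ K = ⊤)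
    {p : ℕ} (hp : p.Prime) (hpn : p ∣ n) (hnp : p ≠ n) {x y : ZMod n} (hx : x ≠ 0) (hy : y ≠ 0) :
    ∃ γ ∈ X, γ 0 = 0 ∧ γ x = y := by
  have hcard := card_P1 (n := n) hp.pos hpn
  have : ∃ z ∈ P1 n p, z ≠ 0 := by
    by_contra hcon
    push Not at hcon
    have : (P1 n p).card ≤ 1 := Finset.card_le_one.2 (fun a ha b hb => by rw [hcon a ha, hcon b hb])
    rw [hcard] at this
    exact absurd hp.one_lt (not_lt.2 this)
  obtain ⟨z, hz, hz0⟩ := this
  have h1 : z ∈ orb X x := mem_orbF.1 (P1_erase_subset_orbF htr hprim hp hpn hnp hx hz hz0)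
  have h2 : z ∈ orb X y := mem_orbF.1 (P1_erase_subset_orbF htr hprim hp hpn hnp hy hz hz0)
  have h3 : orb X x = orb X y := by rw [← orb_eq_of_mem h1, ← orb_eq_of_mem h2]
  have h4 : y ∈ orb X x := by rw [h3]; exact self_mem_orb X y
  exact h4


end Part9

end Cfsg.Agent.Lib.Helper19.SchurCyclic
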