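import Cfsg.Agent.Lib.Helper19.SchurCyclic

/-!
# Transporting the cyclic Schur theorem to a group acting on a set
-/

set_option autoImplicit false
set_option linter.unusedSectionVars false

namespace Cfsg.Agent.Lib.Helper19.SchurCyclic

section Transport

variable {n : ℕ} [NeZero n] {Ω : Type*} (G : Type*) [Group G] [MulAction G Ω]

/-- permutations of `ZMod n` induced by `G` through `φ` -/
def indX (φ : ZMod n ≃ Ω) : Subgroup (Equiv.Perm (ZMod n)) where
  carrier := {σ | ∃ g : G, ∀ i, φ (σ i) = g • φ i}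
  one_mem' := ⟨1, fun i => by simp⟩
  mul_mem' := by
    rintro σ τ ⟨g, hg⟩ ⟨h, hh⟩
    exact ⟨g * h, fun i => by rw [Equiv.Perm.mul_apply, hg, hh, mul_smul]⟩
  inv_mem' := by
    rintro σ ⟨g, hg⟩
    refine ⟨g⁻¹, fun i => ?_⟩
    rw [eq_inv_smul_iff, ← hg]
    simp

/-- the permutation of `ZMod n` induced by `g` -/
def indPerm (φ : ZMod n ≃ Ω) (g : G) : Equiv.Perm (ZMod n) :=
  (φ.trans (MulAction.toPerm g)).trans φ.symm

theorem indPerm_apply (φ : ZMod n ≃ Ω) (g : G) (i : ZMod n) :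
    indPerm G φ g i = φ.symm (g • φ i) := rfl

theorem phi_indPerm (φ : ZMod n ≃ Ω) (g : G) (i : ZMod n) :
    φ (indPerm G φ g i) = g • φ i := by
  simp [indPerm_apply]

theorem indPerm_mem (φ : ZMod n ≃ Ω) (g : G) : indPerm G φ g ∈ indX G φ :=
  ⟨g, phi_indPerm G φ g⟩

theorem addRight_mem_indX {φ : ZMod n ≃ Ω}
    (htrans : ∀ a : ZMod n, ∃ g : G, ∀ i, g • φ i = φ (i + a)) (a : ZMod n) :
    Equiv.addRight a ∈ indX G φ := by
  obtain ⟨g, hg⟩ := htrans a
  exact ⟨g, fun i => by rw [hg]; rfl⟩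

theorem hprim_of_preprimitive {φ : ZMod n ≃ Ω}
    (htrans : ∀ a : ZMod n, ∃ g : G, ∀ i, g • φ i = φ (i + a))
    [hP : MulAction.IsPreprimitive G Ω] :
    ∀ K : AddSubgroup (ZMod n), InvF (indX G φ) (fun x => x ∈ K) → K = ⊥ ∨ K = ⊤ := by
  intro K hK
  have htr := addRight_mem_indX G htrans
  have hblock : MulAction.IsBlock G (φ '' (K : Set (ZMod n))) := by
    rw [MulAction.isBlock_iff_smul_eq_of_mem]
    rintro g a ⟨k, hk, rfl⟩ ⟨k', hk', hkk'⟩
    have hσ := indPerm_mem G φ g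
    have hσk : indPerm G φ g k = k' := by
      apply φ.injective
      rw [phi_indPerm, hkk']
    have hiff : ∀ j, indPerm G φ g j ∈ K ↔ j ∈ K := by
      intro j
      have h1 : (indPerm G φ g j - indPerm G φ g k ∈ K) = (j - k ∈ K) :=
        InvF.sub htr hK _ hσ j k
      rw [hσk] at h1
      constructor
      · intro h
        have : j - k ∈ K := by rw [← h1]; exact K.sub_mem h hk'
        have := K.add_mem this hk
        rwa [sub_add_cancel] at this
      · intro h
        have : indPerm G φ g j - k' ∈ K := by rw [h1]; exact K.sub_mem h hk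
        have := K.add_mem this hk'
        rwa [sub_add_cancel] at this
    ext ω
    constructor
    · rintro ⟨_, ⟨k₁, hk₁, rfl⟩, rfl⟩
      refine ⟨indPerm G φ g k₁, (hiff k₁).2 hk₁, ?_⟩
      rw [phi_indPerm]
    · rintro ⟨k₂, hk₂, rfl⟩
      refine ⟨φ ((indPerm G φ g)⁻¹ k₂), ⟨_, ?_, rfl⟩, ?_⟩
      · apply (hiff _).1
        simpa using hk₂
      · show g • φ ((indPerm G φ g)⁻¹ k₂) = φ k₂
        rw [← phi_indPerm]
        simp
  rcases hP.isTrivialBlock_of_isBlock hblock with h | h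
  · left
    rw [AddSubgroup.eq_bot_iff_forall]
    intro k hk
    apply φ.injective
    exact h ⟨k, hk, rfl⟩ ⟨0, K.zero_mem, rfl⟩
  · right
    rw [AddSubgroup.eq_top_iff']
    intro j
    have : φ j ∈ φ '' (K : Set (ZMod n)) := by rw [h]; trivial
    obtain ⟨k, hk, hkj⟩ := this
    rw [← φ.injective hkj]; exact hk

theorem two_pretransitive_of_core {φ : ZMod n ≃ Ω}
    (htrans : ∀ a : ZMod n, ∃ g : G, ∀ i, g • φ i = φ (i + a))
    (hcore : ∀ x y : ZMod n, x ≠ 0 → y ≠ 0 → ∃ γ ∈ indX G φ, γ 0 = 0 ∧ γ x = y) :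
    MulAction.IsMultiplyPretransitive G Ω 2 := by
  have htr := addRight_mem_indX G htrans
  rw [MulAction.is_two_pretransitive_iff]
  intro a b c d hab hcd
  have h1 : φ.symm b - φ.symm a ≠ 0 := by
    intro h; apply hab
    have := sub_eq_zero.1 h
    exact (φ.symm.injective this).symm
  have h2 : φ.symm d - φ.symm c ≠ 0 := by
    intro h; apply hcd
    have := sub_eq_zero.1 h
    exact (φ.symm.injective this).symm
  obtain ⟨γ, hγ, hγ0, hγ1⟩ := hcore _ _ h1 h2
  have hmem : Equiv.addRight (φ.symm c) * γ * Equiv.addRight (-(φ.symm a)) ∈ indX G φ :=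
    (indX G φ).mul_mem ((indX G φ).mul_mem (htr _) hγ) (htr _)
  obtain ⟨g, hg⟩ := hmem
  refine ⟨g, ?_, ?_⟩
  · have := hg (φ.symm a)
    simp only [Equiv.Perm.mul_apply, Equiv.coe_addRight, add_neg_cancel, hγ0, zero_add,
      Equiv.apply_symm_apply] at this
    exact this.symm
  · have := hg (φ.symm b)
    simp only [Equiv.Perm.mul_apply, Equiv.coe_addRight, ← sub_eq_add_neg, hγ1, sub_add_cancel,
      Equiv.apply_symm_apply] at this
    exact this.symm

/-- Schur's theorem transported: a preprimitive group containing a "regular cyclic subgroup"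
of non-prime order is 2-pretransitive. -/
theorem two_pretransitive_of_preprimitive {φ : ZMod n ≃ Ω}
    (htrans : ∀ a : ZMod n, ∃ g : G, ∀ i, g • φ i = φ (i + a))
    {p : ℕ} (hp : p.Prime) (hpn : p ∣ n) (hnp : p ≠ n)
    [hP : MulAction.IsPreprimitive G Ω] : MulAction.IsMultiplyPretransitive G Ω 2 := by
  apply two_pretransitive_of_core G htrans
  intro x y hx hy
  exact schur_core (addRight_mem_indX G htrans) (hprim_of_preprimitive G htrans) hp hpn hnp hx hy

end Transport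



section Transport2

variable {n : ℕ} [NeZero n] {Ω : Type*} (G : Type*) [Group G] [MulAction G Ω]

theorem indPerm_one (φ : ZMod n ≃ Ω) (i : ZMod n) : indPerm G φ 1 i = i := by
  simp [indPerm_apply]

theorem indPerm_mul (φ : ZMod n ≃ Ω) (g h : G) (i : ZMod n) :
    indPerm G φ (g * h) i = indPerm G φ g (indPerm G φ h i) := by
  simp [indPerm_apply, mul_smul]

/-- elements of `G` preserving every coset of `K` -/
def cosetKernel (φ : ZMod n ≃ Ω) (K : AddSubgroup (ZMod n)) : Subgroup G where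
  carrier := {g | ∀ i, indPerm G φ g i - i ∈ K}
  one_mem' := by intro i; rw [indPerm_one, sub_self]; exact K.zero_mem
  mul_mem' := by
    intro g h hg hh i
    rw [indPerm_mul]
    have := K.add_mem (hg (indPerm G φ h i)) (hh i)
    rwa [sub_add_sub_cancel] at this
  inv_mem' := by
    intro g hg i
    have h1 := hg (indPerm G φ g⁻¹ i)
    rw [← indPerm_mul, mul_inv_cancel, indPerm_one] at h1
    have := K.neg_mem h1
    rwa [neg_sub] at this

theorem mem_cosetKernel {φ : ZMod n ≃ Ω} {K : AddSubgroup (ZMod n)} {g : G} :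
    g ∈ cosetKernel G φ K ↔ ∀ i, indPerm G φ g i - i ∈ K := Iff.rfl

theorem cosetKernel_normal {φ : ZMod n ≃ Ω}
    (htrans : ∀ a : ZMod n, ∃ g : G, ∀ i, g • φ i = φ (i + a))
    {K : AddSubgroup (ZMod n)} (hK : InvF (indX G φ) (fun x => x ∈ K)) :
    (cosetKernel G φ K).Normal := by
  constructor
  intro g hg h i
  have htr := addRight_mem_indX G htrans
  rw [indPerm_mul, indPerm_mul]
  have h1 : (indPerm G φ h (indPerm G φ g (indPerm G φ h⁻¹ i))
        - indPerm G φ h (indPerm G φ h⁻¹ i) ∈ K)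
      = (indPerm G φ g (indPerm G φ h⁻¹ i) - indPerm G φ h⁻¹ i ∈ K) :=
    InvF.sub htr hK _ (indPerm_mem G φ h) _ _
  have h2 : indPerm G φ h (indPerm G φ h⁻¹ i) = i := by
    rw [← indPerm_mul, mul_inv_cancel, indPerm_one]
  rw [h2] at h1
  rw [h1]
  exact hg _

theorem not_pretransitive_normalClosure {φ : ZMod n ≃ Ω}
    (htrans : ∀ a : ZMod n, ∃ g : G, ∀ i, g • φ i = φ (i + a))
    {K : AddSubgroup (ZMod n)} (hK : InvF (indX G φ) (fun x => x ∈ K)) (hKtop : K ≠ ⊤)
    (x : G) (hx : ∀ i, φ.symm (x • φ i) - i ∈ K) :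
    ¬ MulAction.IsPretransitive (Subgroup.normalClosure ({x} : Set G)) Ω := by
  intro hpre
  have := cosetKernel_normal G htrans hK
  have hle : Subgroup.normalClosure ({x} : Set G) ≤ cosetKernel G φ K := by
    apply Subgroup.normalClosure_le_normal
    intro y hy
    rw [Set.mem_singleton_iff] at hy
    subst hy
    exact hx
  have : ∃ h : ZMod n, h ∉ K := by
    by_contra hcon
    push Not at hcon
    exact hKtop ((AddSubgroup.eq_top_iff' K).2 hcon)
  obtain ⟨h, hh⟩ := this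
  obtain ⟨g, hg⟩ := hpre.exists_smul_eq (φ 0) (φ h)
  have h1 := hle g.2 0
  rw [indPerm_apply, sub_zero] at h1
  have h2 : (g : G) • φ 0 = φ h := hg
  rw [h2, Equiv.symm_apply_apply] at h1
  exact hh h1

end Transport2

section PrimePower

variable {n : ℕ} [NeZero n]

theorem P1_subset_of_mem {p : ℕ} (hp : p.Prime) (hpn : p ∣ n) (K : AddSubgroup (ZMod n))
    {k' : ZMod n} (hk' : k' ∈ K) (hk0 : k' ≠ 0) (hpk : p • k' = 0) {y : ZMod n}
    (hy : y ∈ P1 n p) : y ∈ K := by
  have := Fact.mk hp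
  have hord : addOrderOf k' = p := addOrderOf_eq_prime hpk hk0
  have hsub : (Finset.range p).image (fun j => j • k') ⊆ P1 n p := by
    intro z hz
    obtain ⟨j, -, rfl⟩ := Finset.mem_image.1 hz
    rw [mem_P1, smul_comm, hpk, smul_zero]
  have hcard : ((Finset.range p).image (fun j => j • k')).card = p := by
    rw [Finset.card_image_of_injOn, Finset.card_range]
    have := nsmul_injOn_Iio_addOrderOf (x := k')
    rw [hord] at this
    simpa using this
  have heq := Finset.eq_of_subset_of_card_le hsub (by rw [hcard, card_P1 hp.pos hpn])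
  rw [← heq] at hy
  obtain ⟨j, -, rfl⟩ := Finset.mem_image.1 hy
  exact K.nsmul_mem hk' j

theorem exists_order_p {p : ℕ} (K : AddSubgroup (ZMod n)) :
    ∀ j : ℕ, ∀ k ∈ K, k ≠ 0 → p ^ j • k = 0 → ∃ k' ∈ K, k' ≠ 0 ∧ p • k' = 0 := by
  intro j
  induction j with
  | zero =>
    intro k _ hk0 h
    rw [pow_zero, one_smul] at h
    exact absurd h hk0
  | succ j ih =>
    intro k hk hk0 h
    by_cases hpk : p • k = 0
    · exact ⟨k, hk, hk0, hpk⟩
    · apply ih (p • k) (K.nsmul_mem hk p) hpk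
      rw [smul_smul, ← pow_succ]
      exact h

theorem P1_le_of_ne_bot {p m : ℕ} (hp : p.Prime) (hn : n = p ^ m) (hm : 1 ≤ m)
    (K : AddSubgroup (ZMod n)) (hK : K ≠ ⊥) {y : ZMod n} (hy : y ∈ P1 n p) : y ∈ K := by
  have hpn : p ∣ n := by rw [hn]; exact dvd_pow_self p (by omega)
  obtain ⟨k, hk, hk0⟩ : ∃ k ∈ K, k ≠ 0 := by
    by_contra hcon
    push Not at hcon
    exact hK ((AddSubgroup.eq_bot_iff_forall K).2 hcon)
  have hz : p ^ m • k = 0 := by
    rw [← hn, nsmul_eq_mul, ZMod.natCast_self, zero_mul]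
  obtain ⟨k', hk', hk'0, hpk'⟩ := exists_order_p K m k hk hk0 hz
  exact P1_subset_of_mem hp hpn K hk' hk'0 hpk' hy

end PrimePower

section Phi

variable {n : ℕ} [NeZero n] {Ω : Type*} (G : Type*) [Group G] [MulAction G Ω]

theorem exists_phi (hcard : Nat.card Ω = n) (c : G) (ω₀ : Ω) (hper : c ^ n • ω₀ = ω₀)
    (hsurj : ∀ ω, ∃ k : ℕ, c ^ k • ω₀ = ω) :
    ∃ φ : ZMod n ≃ Ω, ∀ (a : ℕ) (i : ZMod n), c ^ a • φ i = φ (i + a) := by
  have hfin : Finite Ω := Nat.finite_of_card_ne_zero (by rw [hcard]; exact NeZero.ne n)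
  have hq : ∀ q : ℕ, (c ^ n) ^ q • ω₀ = ω₀ := by
    intro q
    induction q with
    | zero => simp
    | succ q ih => rw [pow_succ, mul_smul, hper, ih]
  have hmod : ∀ k : ℕ, c ^ k • ω₀ = c ^ (k % n) • ω₀ := by
    intro k
    conv_lhs => rw [← Nat.mod_add_div k n]
    rw [pow_add, pow_mul, mul_smul, hq]
  have hsur : Function.Surjective (fun i : ZMod n => c ^ i.val • ω₀) := by
    intro ω
    obtain ⟨k, hk⟩ := hsurj ω
    refine ⟨(k : ZMod n), ?_⟩
    show c ^ (k : ZMod n).val • ω₀ = ω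
    rw [ZMod.val_natCast, ← hmod, hk]
  have hbij : Function.Bijective (fun i : ZMod n => c ^ i.val • ω₀) := by
    apply hsur.bijective_of_nat_card_le
    rw [hcard, Nat.card_eq_fintype_card, ZMod.card]
  refine ⟨Equiv.ofBijective _ hbij, ?_⟩
  intro a i
  show c ^ a • c ^ i.val • ω₀ = c ^ (i + (a : ZMod n)).val • ω₀
  rw [← mul_smul, ← pow_add, hmod, ZMod.val_add, ZMod.val_natCast, Nat.add_mod_mod, add_comm]

theorem htrans_of_phi {c : G} {φ : ZMod n ≃ Ω}
    (hφ : ∀ (a : ℕ) (i : ZMod n), c ^ a • φ i = φ (i + a)) :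
    ∀ a : ZMod n, ∃ g : G, ∀ i, g • φ i = φ (i + a) := by
  intro a
  refine ⟨c ^ a.val, fun i => ?_⟩
  rw [hφ, ZMod.natCast_zmod_val]

end Phi


end Cfsg.Agent.Lib.Helper19.SchurCyclic
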