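/-
helper19: S2772 (helper12), module [SL-C] (hedge): `C_G(Ω₁Z(Q)) ≤ Q`.
-/
import Mathlib
import Cfsg.Agent.Lib.Helper12.SimsLocDefs

set_option autoImplicit false

namespace Cfsg.Agent.Lib.Helper19.SimsLoc

open Cfsg.Agent.Lib.Helper12.SimsLoc

variable {H : Type*} [Group H] [Finite H]

/-- a subgroup strictly above a subgroup of prime index is everything -/
theorem eq_of_prime_card_ratio {S K G : Subgroup H} (hSK : S ≤ K) (hKG : K ≤ G) (q : ℕ)
    (hq : q.Prime) (hGS : Nat.card ↥G = q * Nat.card ↥S) (hne : ∃ k ∈ K, k ∉ S) : K = G := by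
  obtain ⟨m, hm⟩ := Subgroup.card_dvd_of_le hSK
  obtain ⟨m', hm'⟩ := Subgroup.card_dvd_of_le hKG
  have hSpos : 0 < Nat.card ↥S := Nat.card_pos
  have hmm : m * m' = q := by
    have : Nat.card ↥S * (m * m') = Nat.card ↥S * q := by
      calc Nat.card ↥S * (m * m') = (Nat.card ↥S * m) * m' := by ring
        _ = Nat.card ↥G := by rw [← hm, ← hm']
        _ = Nat.card ↥S * q := by rw [hGS, mul_comm]
    exact Nat.eq_of_mul_eq_mul_left hSpos this
  have hmq : m ∣ q := ⟨m', hmm.symm⟩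
  rcases (Nat.dvd_prime hq).1 hmq with h1 | h1
  · exfalso
    rw [h1, mul_one] at hm
    have : S = K := Subgroup.eq_of_le_of_card_ge hSK (le_of_eq hm)
    obtain ⟨k, hk, hkS⟩ := hne
    exact hkS (this ▸ hk)
  · have hm'1 : m' = 1 := by
      rw [h1] at hmm
      have hqpos : 0 < q := hq.pos
      have : q * m' = q * 1 := by rw [hmm, mul_one]
      exact Nat.eq_of_mul_eq_mul_left hqpos this
    rw [hm'1, mul_one] at hm'
    exact Subgroup.eq_of_le_of_card_ge hKG (le_of_eq hm')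

/-- `Ω₁Z(S) ≠ 1` for a non-trivial finite `2`-group `S` -/
theorem omZ_ne_bot (S : Subgroup H) (hS1 : S ≠ ⊥) (two : IsPGroup 2 ↥S) : omZ S ≠ ⊥ := by
  have : Fact (Nat.Prime 2) := ⟨Nat.prime_two⟩
  have hnt : Nontrivial ↥S := (Subgroup.nontrivial_iff_ne_bot S).2 hS1
  have hcn : Nontrivial ↥(Subgroup.center ↥S) := two.center_nontrivial
  have hc2 : IsPGroup 2 ↥(Subgroup.center ↥S) := two.to_subgroup _
  have hdvd : 2 ∣ Nat.card ↥(Subgroup.center ↥S) := by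
    rcases hc2.card_eq_or_dvd with h | h
    · exfalso
      have := (Nat.card_eq_one_iff_unique.1 h).1
      exact not_subsingleton _ this
    · exact h
  obtain ⟨z, hz⟩ := exists_prime_orderOf_dvd_card' 2 hdvd
  intro hbot
  have hzS : ((z : ↥S) : H) ∈ omZ S := by
    refine ⟨(z : ↥S).2, fun u hu => ?_, ?_⟩
    · have h1 := (Subgroup.mem_center_iff.1 z.2) ⟨u, hu⟩
      have h2 := congrArg (Subtype.val : ↥S → H) h1
      simpa using h2.symm
    · have h1 : z ^ 2 = 1 := by rw [← hz]; exact pow_orderOf_eq_one z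
      have h2 : ((z : ↥S) : H) ^ 2 = 1 := by
        have := congrArg (fun t : ↥(Subgroup.center ↥S) => ((t : ↥S) : H)) h1
        simpa using this
      rw [← pow_two]; exact h2
  rw [hbot, Subgroup.mem_bot] at hzS
  have hz1 : z = 1 := by
    apply Subtype.ext
    apply Subtype.ext
    simpa using hzS
  rw [hz1, orderOf_one] at hz
  omega

/-- [SL-C] `C_G(Ω₁Z(Q)) ≤ Q` -/
theorem cent_omZ_le (G S Q : Subgroup H) (x : H)
    (hQS : Q ≤ S) (hSG : S ≤ G) (hS1 : S ≠ ⊥) (two : IsPGroup 2 ↥S)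
    (q : ℕ) (hq : q.Prime) (hGS : Nat.card ↥G = q * Nat.card ↥S)
    (hQn : ∀ g ∈ G, ∀ u ∈ Q, g * u * g⁻¹ ∈ Q)
    (hcent : ∀ g ∈ G, (∀ u ∈ Q, g * u = u * g) → g ∈ Q)
    (hQmax : ∀ N : Subgroup H, N ≤ G → IsPGroup 2 ↥N → (∀ g ∈ G, ∀ u ∈ N, g * u * g⁻¹ ∈ N) → N ≤ Q)
    (hx : ∀ s ∈ S, x * s * x⁻¹ ∈ S)
    (hno : NoCommon G S x) :
    ∀ g ∈ G, (∀ v ∈ omZ Q, g * v = v * g) → g ∈ Q := by
  intro g₀ hg₀ hcen
  by_contra hg₀Q
  -- `G` normalizes `V = omZ Q`
  have hVn : ∀ g ∈ G, ∀ v ∈ omZ Q, g * v * g⁻¹ ∈ omZ Q := by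
    rintro g hg v ⟨hvQ, hvc, hv2⟩
    refine ⟨hQn g hg v hvQ, fun u hu => ?_, ?_⟩
    · have hu' : g⁻¹ * u * g⁻¹⁻¹ ∈ Q := hQn g⁻¹ (inv_mem hg) u hu
      have := hvc _ hu'
      calc g * v * g⁻¹ * u = g * (v * (g⁻¹ * u * g⁻¹⁻¹)) * g⁻¹ := by group
        _ = g * ((g⁻¹ * u * g⁻¹⁻¹) * v) * g⁻¹ := by rw [this]
        _ = u * (g * v * g⁻¹) := by group
    · calc g * v * g⁻¹ * (g * v * g⁻¹) = g * (v * v) * g⁻¹ := by group
        _ = 1 := by rw [hv2]; group
  -- the centralizer of `V` in `G`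
  set C : Subgroup H := G ⊓ Subgroup.centralizer ((omZ Q : Subgroup H) : Set H) with hC
  have hmemC : ∀ c, c ∈ C ↔ c ∈ G ∧ ∀ v ∈ omZ Q, v * c = c * v := by
    intro c
    rw [hC, Subgroup.mem_inf, Subgroup.mem_centralizer_iff]
    rfl
  have hg₀C : g₀ ∈ C := (hmemC g₀).2 ⟨hg₀, fun v hv => (hcen v hv).symm⟩
  have hCn : ∀ g ∈ G, ∀ c ∈ C, g * c * g⁻¹ ∈ C := by
    intro g hg c hc
    obtain ⟨hcG, hcv⟩ := (hmemC c).1 hc
    refine (hmemC _).2 ⟨G.mul_mem (G.mul_mem hg hcG) (G.inv_mem hg), fun v hv => ?_⟩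
    have hv' : g⁻¹ * v * g⁻¹⁻¹ ∈ omZ Q := hVn g⁻¹ (G.inv_mem hg) v hv
    have := hcv _ hv'
    calc v * (g * c * g⁻¹) = g * ((g⁻¹ * v * g⁻¹⁻¹) * c) * g⁻¹ := by group
      _ = g * (c * (g⁻¹ * v * g⁻¹⁻¹)) * g⁻¹ := by rw [this]
      _ = (g * c * g⁻¹) * v := by group
  by_cases hCS : C ≤ S
  · have : C ≤ Q := hQmax C inf_le_left (two.to_le hCS) hCn
    exact hg₀Q (this hg₀C)
  · obtain ⟨c, hcC, hcS⟩ := SetLike.not_le_iff_exists.1 hCS
    obtain ⟨hcG, hcv⟩ := (hmemC c).1 hcC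
    -- `G = S ⊔ zpowers c`
    have hT : S ⊔ Subgroup.zpowers c = G := by
      apply eq_of_prime_card_ratio (le_sup_left) (sup_le hSG (Subgroup.zpowers_le.2 hcG)) q hq hGS
      exact ⟨c, Subgroup.mem_sup_right (Subgroup.mem_zpowers c), hcS⟩
    -- `Z₁ = omZ S`
    have hZ1 : omZ S ≠ ⊥ := omZ_ne_bot S hS1 two
    have hZV : omZ S ≤ omZ Q := by
      rintro z ⟨hzS, hzc, hz2⟩
      have hzQ : z ∈ Q := hcent z (hSG hzS) (fun u hu => hzc u (hQS hu))
      exact ⟨hzQ, fun u hu => hzc u (hQS hu), hz2⟩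
    -- `G` centralizes `Z₁`
    have hGc : G ≤ Subgroup.centralizer ((omZ S : Subgroup H) : Set H) := by
      rw [← hT]
      refine sup_le ?_ (Subgroup.zpowers_le.2 ?_)
      · intro s hs
        rw [Subgroup.mem_centralizer_iff]
        intro z hz
        exact hz.2.1 s hs
      · rw [Subgroup.mem_centralizer_iff]
        intro z hz
        exact hcv z (hZV hz)
    apply hno (omZ S) (omZ_le S) hZ1
    · intro g hg z hz
      have h1 := (Subgroup.mem_centralizer_iff.1 (hGc hg)) z hz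
      have : g * z * g⁻¹ = z := by
        calc g * z * g⁻¹ = (z * g) * g⁻¹ := by rw [h1]
          _ = z := by group
      rw [this]; exact hz
    · -- conjugation by `x` permutes `S`
      let f : ↥S → ↥S := fun s => ⟨x * (s : H) * x⁻¹, hx s s.2⟩
      have hfinj : Function.Injective f := by
        intro s t hst
        have h1 : x * (s : H) * x⁻¹ = x * (t : H) * x⁻¹ := congrArg Subtype.val hst
        apply Subtype.ext
        calc (s : H) = x⁻¹ * (x * (s : H) * x⁻¹) * x := by group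
          _ = x⁻¹ * (x * (t : H) * x⁻¹) * x := by rw [h1]
          _ = (t : H) := by group
      have hfsurj : Function.Surjective f := Finite.injective_iff_surjective.1 hfinj
      rintro z ⟨hzS, hzc, hz2⟩
      refine ⟨hx z hzS, fun u hu => ?_, ?_⟩
      · obtain ⟨s', hs'⟩ := hfsurj ⟨u, hu⟩
        have hu' : u = x * (s' : H) * x⁻¹ := (congrArg Subtype.val hs').symm
        have h1 := hzc (s' : H) s'.2
        rw [hu']
        calc x * z * x⁻¹ * (x * (s' : H) * x⁻¹) = x * (z * (s' : H)) * x⁻¹ := by group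
          _ = x * ((s' : H) * z) * x⁻¹ := by rw [h1]
          _ = x * (s' : H) * x⁻¹ * (x * z * x⁻¹) := by group
      · calc x * z * x⁻¹ * (x * z * x⁻¹) = x * (z * z) * x⁻¹ := by group
          _ = 1 := by rw [hz2]; group

end Cfsg.Agent.Lib.Helper19.SimsLoc
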