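/-
helper19: project SMALL (helper35, S2400), module [B2-LONG] (hedge):
the canonical lifts at a root `s = c + d` over the field with three elements, as commutators of lifts.
-/
import Cfsg.Agent.Lib.Helper35.B2Defs
import Cfsg.Agent.Lib.Helper44.St3Z
import Cfsg.Agent.Lib.Helper44.St3WEq

set_option autoImplicit false

namespace Cfsg.Agent.Lib.Helper19.Small

open Cfsg.Lie Cfsg.Agent.Lib.Helper35.St Cfsg.Agent.Lib.Helper60.St3 Cfsg.Agent.Lib.Helper53.CLift
  Cfsg.Agent.Lib.Helper35.Small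

universe u v w

variable {D : ChevalleyDatum} {K : Type u} [Field K] {Γ : Type v} [Group Γ] {E : Type w} [Group E]

/-- `cm b a = (cm a b)⁻¹`. -/
theorem cm_swap (a b : E) : cm b a = (cm a b)⁻¹ := by
  unfold cm; group

/-- The commutator of two root elements with a single-term formula. -/
theorem cm_X_X (M : Model D K Γ) (s c d : ℕ) (C : ℤ) (hc' : c < D.nroots) (hd : d < D.nroots)
    (hdc : d ≠ c) (hdn : d ≠ D.neg c) (hct : D.commTerms c d = [(s, C, 1, 1)]) (p q : K) :
    cm (M.X d q) (M.X c p) = M.X s (-((C : K) * p * q)) := by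
  have hrel := M.comm c d hc' hd hdc hdn (-p) (-q)
  have hw : D.commWord K c d (-p) (-q) = [(s, -((C : K) * p * q))] := by
    unfold ChevalleyDatum.commWord
    rw [hct]
    simp only [List.map_cons, List.map_nil, pow_one, neg_neg]
    congr 2
    ring
  rw [hw, List.map_cons, List.map_nil, List.prod_cons, List.prod_nil, mul_one] at hrel
  rw [← hrel, ← Cfsg.Agent.Lib.Helper44.St.X_inv M hd, ← Cfsg.Agent.Lib.Helper44.St.X_inv M hc']
  unfold cm
  group

/-- [B2-LONG]: the canonical lifts at a root `s = c + d` over the field with three elements. -/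
theorem exists_secAt_top (M : Model D K Γ) (ψ : E →* Γ) (hψ : Function.Surjective ψ)
    (hc : ψ.ker ≤ Subgroup.center E) (hK3 : ∀ a : K, a = 0 ∨ a = 1 ∨ a = -1)
    (s c d : ℕ) (C : ℤ) (hs : s < D.nroots) (hc' : c < D.nroots) (hd : d < D.nroots) (hdc : d ≠ c)
    (hdn : d ≠ D.neg c) (hct : D.commTerms c d = [(s, C, 1, 1)]) (hC0 : (C : K) ≠ 0)
    (hinj : ∀ t u : K, M.X s t = M.X s u → t = u)
    (hcs : ∀ t u : K, LiftsComm ψ (M.X c t) (M.X s u)) (hds : ∀ t u : K, LiftsComm ψ (M.X d t) (M.X s u)) :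
    ∃ zs : K → E, IsSecAt M ψ zs s ∧
      ∀ (p q : K) (a b : E), ψ a = M.X d q → ψ b = M.X c p →
        (∃ w : K, cm a b = zs w) ∧ (∃ w : K, cm b a = zs w) := by
  classical
  choose lft hlft using hψ
  have hXX := cm_X_X M s c d C hc' hd hdc hdn hct
  -- `ζ q p`
  obtain ⟨ζ, hζdef⟩ : ∃ ζ : K → K → E, ∀ q p, ζ q p = cm (lft (M.X d q)) (lft (M.X c p)) :=
    ⟨fun q p => cm (lft (M.X d q)) (lft (M.X c p)), fun _ _ => rfl⟩
  have Z0 : ∀ (q p : K) (a b : E), ψ a = M.X d q → ψ b = M.X c p → cm a b = ζ q p := by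
    intro q p a b ha hb
    rw [hζdef]
    apply cm_eq_of_map_eq ψ hc
    · rw [ha, hlft]
    · rw [hb, hlft]
  have Z1 : ∀ q p : K, ψ (ζ q p) = M.X s (-((C : K) * p * q)) := by
    intro q p
    rw [hζdef, map_cm, hlft, hlft, hXX]
  have Z2 : ∀ q q' p : K, ζ (q + q') p = ζ q' p * ζ q p := by
    intro q q' p
    have h1 : ζ (q + q') p = cm (lft (M.X d q) * lft (M.X d q')) (lft (M.X c p)) := by
      symm
      apply Z0
      · rw [map_mul, hlft, hlft, M.add d hd]
      · rw [hlft]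
    have h2 : lft (M.X d q) * ζ q' p = ζ q' p * lft (M.X d q) :=
      hds q _ _ _ (hlft _) (Z1 q' p)
    rw [h1, cm_mul_left, ← hζdef, ← hζdef, h2, mul_inv_cancel_right]
  have Z3 : ∀ q p p' : K, ζ q (p + p') = ζ q p * ζ q p' := by
    intro q p p'
    have h1 : ζ q (p + p') = cm (lft (M.X d q)) (lft (M.X c p) * lft (M.X c p')) := by
      symm
      apply Z0
      · rw [hlft]
      · rw [map_mul, hlft, hlft, M.add c hc']
    have h2 : lft (M.X c p) * ζ q p' = ζ q p' * lft (M.X c p) :=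
      hcs p _ _ _ (hlft _) (Z1 q p')
    rw [h1, cm_mul_right, ← hζdef, ← hζdef, h2, mul_inv_cancel_right]
  have Z40 : ∀ p : K, ζ 0 p = 1 := by
    intro p
    have := Z2 0 0 p
    rw [add_zero] at this
    exact mul_eq_left.mp this.symm
  have Z41 : ∀ q : K, ζ q 0 = 1 := by
    intro q
    have := Z3 q 0 0
    rw [add_zero] at this
    exact mul_eq_left.mp this.symm
  have Z42 : ∀ q p : K, ζ (-q) p = (ζ q p)⁻¹ := by
    intro q p
    have := Z2 q (-q) p
    rw [add_neg_cancel, Z40] at this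
    exact eq_inv_of_mul_eq_one_left this.symm
  have Z43 : ∀ q p : K, ζ q (-p) = (ζ q p)⁻¹ := by
    intro q p
    have := Z3 q p (-p)
    rw [add_neg_cancel, Z41] at this
    exact eq_inv_of_mul_eq_one_right this.symm
  have Z5 : ∀ q p : K, ζ q p = ζ 1 (p * q) := by
    intro q p
    rcases hK3 q with rfl | rfl | rfl
    · rw [Z40, mul_zero, Z41]
    · rw [mul_one]
    · rw [Z42, mul_neg, mul_one, Z43]
  -- the section
  obtain ⟨zs, hzsdef⟩ : ∃ zs : K → E, ∀ v, zs v = ζ 1 (-v / (C : K)) :=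
    ⟨fun v => ζ 1 (-v / (C : K)), fun _ => rfl⟩
  have hzlift : ∀ t : K, ψ (zs t) = M.X s t := by
    intro t
    rw [hzsdef, Z1]
    congr 1
    field_simp
  have hzadd : ∀ t u : K, zs t * zs u = zs (t + u) := by
    intro t u
    rw [hzsdef, hzsdef, hzsdef, ← Z3]
    congr 1
    ring
  have hz0 : zs 0 = 1 := by
    have := hzadd 0 0
    rw [add_zero] at this
    exact mul_eq_left.mp this
  have hzneg : ∀ t : K, zs (-t) = (zs t)⁻¹ := by
    intro t
    have := hzadd t (-t)
    rw [add_neg_cancel, hz0] at this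
    exact eq_inv_of_mul_eq_one_right this
  have hζz : ∀ q p : K, ζ q p = zs (-((C : K) * p * q)) := by
    intro q p
    rw [Z5, hzsdef]
    congr 1
    field_simp
  refine ⟨zs, ⟨hzlift, hzadd, ?_⟩, ?_⟩
  · intro g χ hg t e x he hx
    -- `χ s = χ c * χ d`
    have hχ : χ s = χ c * χ d := by
      have h1 : g * cm (M.X d 1) (M.X c 1) * g⁻¹ = cm (M.X d (χ d * 1)) (M.X c (χ c * 1)) := by
        rw [conj_cm, (hg d hd).2, (hg c hc').2]
      rw [hXX, hXX, (hg s hs).2] at h1
      have h2 := hinj _ _ h1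
      have h3 : (C : K) * χ s = (C : K) * (χ c * χ d) := by linear_combination (-1 : K) * h2
      exact mul_left_cancel₀ hC0 h3
    -- conjugation of `zs t`
    have hconj : e * zs t * e⁻¹ = zs (χ s * t) := by
      rw [hzsdef t, hζdef, conj_cm]
      have ha : ψ (e * lft (M.X d 1) * e⁻¹) = M.X d (χ d * 1) := by
        rw [map_mul, map_mul, map_inv, he, hlft, (hg d hd).2]
      have hb : ψ (e * lft (M.X c (-t / (C : K))) * e⁻¹) = M.X c (χ c * (-t / (C : K))) := by
        rw [map_mul, map_mul, map_inv, he, hlft, (hg c hc').2]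
      rw [Z0 _ _ _ _ ha hb, hζz, hχ]
      congr 1
      field_simp
    have h1 : e * x * e⁻¹ * x⁻¹ = cm e (zs t) := by
      show cm e x = _
      apply cm_eq_of_map_eq ψ hc rfl
      rw [hx, hzlift]
    rw [h1]
    show e * zs t * e⁻¹ * (zs t)⁻¹ = _
    rw [hconj, ← hzneg, hzadd]
    congr 1
    ring
  · intro p q a b ha hb
    have h1 : cm a b = zs (-((C : K) * p * q)) := by rw [Z0 q p a b ha hb, hζz]
    refine ⟨⟨_, h1⟩, ⟨(C : K) * p * q, ?_⟩⟩
    rw [cm_swap, h1, ← hzneg, neg_neg]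

end Cfsg.Agent.Lib.Helper19.Small
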