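/-
helper19: project SMALL (helper35, S2400), module [B2-SECAT]:
helper44's `exists_section` (Lib/Helper44/St3Z.lean) and `conj_section` (Lib/Helper44/St3WEq.lean) at ONE root.
-/
import Cfsg.Agent.Lib.Helper35.B2Defs
import Cfsg.Agent.Lib.Helper44.St3Z
import Cfsg.Agent.Lib.Helper44.St3WEq

set_option autoImplicit false

namespace Cfsg.Agent.Lib.Helper19.Small

open Cfsg.Lie Cfsg.Agent.Lib.Helper35.St Cfsg.Agent.Lib.Helper60.St3 Cfsg.Agent.Lib.Helper53.CLift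
  Cfsg.Agent.Lib.Helper35.Small Cfsg.Agent.Lib.Helper44.St3

universe u v w

variable {D : ChevalleyDatum} {K : Type u} [Field K] {Γ : Type v} [Group Γ] {E : Type w} [Group E]

/-- [B2-SECAT] (a): helper44's `exists_section` (Lib/Helper44/St3Z.lean) at ONE root. -/
theorem exists_secAt (M : Model D K Γ) (ψ : E →* Γ) (hψ : Function.Surjective ψ)
    (hc : ψ.ker ≤ Subgroup.center E) (hgen : M.Gen)
    (hcent : ∀ e : E, ψ e ∈ Subgroup.center Γ → e ∈ Subgroup.center E) (s : ℕ) (hs : s < D.nroots)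
    (hsc : ∀ a b : K, LiftsComm ψ (M.X s a) (M.X s b))
    (hd : ∃ (g : Γ) (χ : ℕ → K), IsDiag M g χ ∧ χ s ≠ 1) :
    ∃ zs : K → E, IsSecAt M ψ zs s := by
  classical
  obtain ⟨gs, χs, hgs, hχs⟩ := hd
  choose lft hlft using hψ
  have hd0 : χs s - 1 ≠ 0 := sub_ne_zero.mpr hχs
  -- the canonical lifts
  refine ⟨fun t => cm (lft gs) (lft (M.X s (t / (χs s - 1)))), ?_⟩
  have hlift : ∀ t : K, ψ (cm (lft gs) (lft (M.X s (t / (χs s - 1))))) = M.X s t := by
    intro t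
    rw [map_cm, hlft, hlft, cm_diag M hgs hs, mul_div_cancel₀ _ hd0]
  -- the commutator of `η̃_s` with any lift of `X_s(a)`
  have hz_of : ∀ (a : K) (y : E), ψ y = M.X s a →
      cm (lft gs) y = cm (lft gs) (lft (M.X s ((χs s - 1) * a / (χs s - 1)))) := by
    intro a y hy
    apply cm_eq_of_map_eq ψ hc rfl
    rw [hy, hlft, mul_div_cancel_left₀ _ hd0]
  have hadd : ∀ t u : K,
      cm (lft gs) (lft (M.X s (t / (χs s - 1)))) * cm (lft gs) (lft (M.X s (u / (χs s - 1))))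
        = cm (lft gs) (lft (M.X s ((t + u) / (χs s - 1)))) := by
    intro t u
    have h1 : cm (lft gs) (lft (M.X s ((t + u) / (χs s - 1)))) =
        cm (lft gs) (lft (M.X s (t / (χs s - 1))) * lft (M.X s (u / (χs s - 1)))) := by
      apply cm_eq_of_map_eq ψ hc rfl
      rw [hlft, map_mul, hlft, hlft, M.add s hs, add_div]
    have h2 : lft (M.X s (t / (χs s - 1))) * cm (lft gs) (lft (M.X s (u / (χs s - 1)))) =
        cm (lft gs) (lft (M.X s (u / (χs s - 1)))) * lft (M.X s (t / (χs s - 1))) :=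
      hsc (t / (χs s - 1)) u _ _ (hlft _) (hlift u)
    rw [h1, cm_mul_right, h2, mul_inv_cancel_right]
  have hzero : cm (lft gs) (lft (M.X s ((0 : K) / (χs s - 1)))) = 1 := by
    have := hadd 0 0
    rw [add_zero] at this
    exact mul_eq_left.mp this
  have hneg : ∀ t : K,
      (cm (lft gs) (lft (M.X s (t / (χs s - 1)))))⁻¹ =
        cm (lft gs) (lft (M.X s ((-t) / (χs s - 1)))) := by
    intro t
    apply inv_eq_of_mul_eq_one_right
    rw [hadd t (-t), add_neg_cancel, hzero]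
  refine ⟨hlift, hadd, ?_⟩
  intro g χ hg t e x he hx
  -- (1) conjugation of the canonical lifts by a lift of a diagonal element
  have hconj : ∀ t' : K, e * cm (lft gs) (lft (M.X s (t' / (χs s - 1)))) * e⁻¹ =
      cm (lft gs) (lft (M.X s ((χ s * t') / (χs s - 1)))) := by
    intro t'
    rw [conj_cm]
    have hζ : (lft gs)⁻¹ * e * lft gs * e⁻¹ ∈ Subgroup.center E := by
      apply hcent
      rw [map_mul, map_mul, map_mul, map_inv, map_inv, he, hlft]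
      exact diag_comm_mem_center M hgen hg hgs
    have e1 : e * lft gs * e⁻¹ = lft gs * ((lft gs)⁻¹ * e * lft gs * e⁻¹) := by group
    rw [e1, cm_mul_central hζ]
    have hy : ψ (e * lft (M.X s (t' / (χs s - 1))) * e⁻¹) = M.X s (χ s * (t' / (χs s - 1))) := by
      rw [map_mul, map_mul, map_inv, he, hlft, (hg s hs).2]
    rw [hz_of _ _ hy]
    congr 3
    field_simp
  -- (2)
  have h1 : e * x * e⁻¹ * x⁻¹ = cm e (cm (lft gs) (lft (M.X s (t / (χs s - 1))))) := by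
    show cm e x = _
    apply cm_eq_of_map_eq ψ hc rfl
    rw [hx, hlift t]
  rw [h1]
  have e3 : χ s * t + -t = (χ s - 1) * t := by ring
  show cm e (cm (lft gs) (lft (M.X s (t / (χs s - 1))))) =
    cm (lft gs) (lft (M.X s ((χ s - 1) * t / (χs s - 1))))
  rw [← e3, ← hadd, ← hneg t, ← hconj t]
  rfl

/-- [B2-SECAT] (b): helper44's `conj_section` (Lib/Helper44/St3WEq.lean) at ONE root. -/
theorem conj_secAt (M : Model D K Γ) (ψ : E →* Γ) (hψ : Function.Surjective ψ) (s : ℕ) (hs : s < D.nroots)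
    (zs : K → E) (hz : IsSecAt M ψ zs s)
    (hd : ∃ (g : Γ) (χ : ℕ → K), IsDiag M g χ ∧ χ s ≠ 1)
    (g : Γ) (ρ ρ' : ℕ → ℕ) (hg : IsMonoW M g ρ ρ') (zs' : K → E) (hz' : IsSecAt M ψ zs' (ρ s))
    (e : E) (he : ψ e = g) :
    ∃ c : K, c ≠ 0 ∧ ∀ t : K, e * zs t * e⁻¹ = zs' (c * t) := by
  obtain ⟨η, χ, hη, hd1⟩ := hd
  obtain ⟨c, hc, hx⟩ := hg.2.1 s hs
  obtain ⟨hρs, -, hρ'ρ, -⟩ := hg.1 s hs
  have hd0 : χ s - 1 ≠ 0 := sub_ne_zero.mpr hd1
  refine ⟨c, hc, fun t => ?_⟩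
  obtain ⟨η', hη'⟩ := hψ η
  obtain ⟨x', hx'⟩ := hψ (M.X s (t / (χ s - 1)))
  have h1 : η' * x' * η'⁻¹ * x'⁻¹ = zs t := by
    rw [hz.brk η χ hη (t / (χ s - 1)) η' x' hη' hx', mul_div_cancel₀ _ hd0]
  have hdiag' := isDiag_conj M hη hg
  have h2 : ψ (e * η' * e⁻¹) = g * η * g⁻¹ := by
    rw [map_mul, map_mul, map_inv, he, hη']
  have h3 : ψ (e * x' * e⁻¹) = M.X (ρ s) (c * (t / (χ s - 1))) := by
    rw [map_mul, map_mul, map_inv, he, hx', hx]
  have h4 := hz'.brk (g * η * g⁻¹) (fun b => χ (ρ' b)) hdiag' (c * (t / (χ s - 1)))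
    (e * η' * e⁻¹) (e * x' * e⁻¹) h2 h3
  have e1 : e * zs t * e⁻¹ =
      (e * η' * e⁻¹) * (e * x' * e⁻¹) * (e * η' * e⁻¹)⁻¹ * (e * x' * e⁻¹)⁻¹ := by
    rw [← h1]
    group
  rw [e1, h4]
  congr 1
  show (χ (ρ' (ρ s)) - 1) * (c * (t / (χ s - 1))) = c * t
  rw [hρ'ρ]
  field_simp

end Cfsg.Agent.Lib.Helper19.Small
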