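import Mathlib

/-!
# Counting lemmas for partial spreads of subgroups (helper19)
-/

set_option autoImplicit false

namespace Cfsg.Agent.Lib.Helper19.Spread

/-- A family of `|ι|` subgroups of order `m` of `W` with pairwise trivial intersections:
`|ι| (m - 1) + 1 ≤ |W|`. -/
theorem spread_count {G : Type*} [Group G] (W : Subgroup G) [Finite W] {ι : Type*} [Fintype ι]
    (C : ι → Subgroup G) (hCW : ∀ i, C i ≤ W) (m : ℕ) (hm : ∀ i, Nat.card (C i) = m)
    (hdisj : ∀ i j, i ≠ j → C i ⊓ C j = ⊥) :
    Fintype.card ι * (m - 1) + 1 ≤ Nat.card W := by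
  classical
  have hWfin : ((W : Set G)).Finite := Set.toFinite _
  have hfin : ∀ i, ((C i : Set G)).Finite := fun i => hWfin.subset (hCW i)
  have hcard : ∀ i, Nat.card ↥((C i : Set G) \ {1}) = m - 1 := by
    intro i
    rw [_root_.Nat.card_coe_set_eq, Set.ncard_sdiff_singleton_of_mem (Subgroup.one_mem (C i)),
      ← _root_.Nat.card_coe_set_eq]
    exact congrArg (· - 1) (hm i)
  have hcardW : Nat.card ↥((W : Set G) \ {1}) = Nat.card W - 1 := by
    rw [_root_.Nat.card_coe_set_eq, Set.ncard_sdiff_singleton_of_mem (Subgroup.one_mem W),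
      ← _root_.Nat.card_coe_set_eq]
    rfl
  have : ∀ i, Finite ↥((C i : Set G) \ {1}) := fun i => ((hfin i).subset Set.sdiff_subset).to_subtype
  have : Finite ↥((W : Set G) \ {1}) := (hWfin.subset Set.sdiff_subset).to_subtype
  let f : (Σ i, ↥((C i : Set G) \ {1})) → ↥((W : Set G) \ {1}) :=
    fun x => ⟨x.2.1, hCW x.1 x.2.2.1, x.2.2.2⟩
  have hf : Function.Injective f := by
    rintro ⟨i, x, hx, hx1⟩ ⟨j, y, hy, hy1⟩ hxy
    have hxy' : x = y := congrArg Subtype.val hxy
    subst hxy'
    have hij : i = j := by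
      by_contra hne
      have hmem : x ∈ C i ⊓ C j := ⟨hx, hy⟩
      rw [hdisj i j hne, Subgroup.mem_bot] at hmem
      exact hx1 hmem
    subst hij
    rfl
  have h1 := Nat.card_le_card_of_injective f hf
  rw [Nat.card_sigma, hcardW] at h1
  simp only [hcard, Finset.sum_const, Finset.card_univ, smul_eq_mul] at h1
  have hpos : 0 < Nat.card W := Nat.card_pos
  omega

end Cfsg.Agent.Lib.Helper19.Spread
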