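import Mathlib
import Cfsg.Agent.Lib.Helper19.SpreadCount
import Cfsg.Agent.Lib.Helper19.TorusApply

/-!
# The spread bound: a quadratic element with `q + 1` "independent" conjugates (helper19)

`V` abelian without elements of order 2, `z` an involution normalising but not centralising `V`,
`a` quadratic on `V`, commuting with `z`, with `q+1` conjugates `aᵢ` (under elements normalising
`V` and commuting with `z`) such that anything in `V` centralised by two different `aᵢ` is
centralised by `z`.  Then `|V : C_V(a)| ≥ q`.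
-/

set_option autoImplicit false

namespace Cfsg.Agent.Lib.Helper19.Spread

open Cfsg.Agent.Lib.Helper19.TorusTwo

/-- the part of `V` inverted by `z` -/
def minusPart {G : Type*} [Group G] (V : Subgroup G)
    (hcomm : ∀ x ∈ V, ∀ y ∈ V, x * y = y * x) (z : G) : Subgroup G where
  carrier := {v | v ∈ V ∧ z * v * z⁻¹ = v⁻¹}
  one_mem' := ⟨V.one_mem, by simp⟩
  mul_mem' := by
    rintro v w ⟨hv, hv'⟩ ⟨hw, hw'⟩
    refine ⟨V.mul_mem hv hw, ?_⟩
    calc z * (v * w) * z⁻¹ = (z * v * z⁻¹) * (z * w * z⁻¹) := by group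
      _ = v⁻¹ * w⁻¹ := by rw [hv', hw']
      _ = (w * v)⁻¹ := by rw [_root_.mul_inv_rev]
      _ = (v * w)⁻¹ := by rw [hcomm v hv w hw]
  inv_mem' := by
    rintro v ⟨hv, hv'⟩
    refine ⟨V.inv_mem hv, ?_⟩
    calc z * v⁻¹ * z⁻¹ = (z * v * z⁻¹)⁻¹ := by group
      _ = (v⁻¹)⁻¹ := by rw [hv']

theorem mem_minusPart {G : Type*} [Group G] (V : Subgroup G)
    (hcomm : ∀ x ∈ V, ∀ y ∈ V, x * y = y * x) (z v : G) :
    v ∈ minusPart V hcomm z ↔ v ∈ V ∧ z * v * z⁻¹ = v⁻¹ := Iff.rfl

theorem minusPart_le {G : Type*} [Group G] (V : Subgroup G)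
    (hcomm : ∀ x ∈ V, ∀ y ∈ V, x * y = y * x) (z : G) : minusPart V hcomm z ≤ V :=
  fun _ hv => hv.1

theorem conj_mem_minusPart {G : Type*} [Group G] (V : Subgroup G)
    (hcomm : ∀ x ∈ V, ∀ y ∈ V, x * y = y * x) (z x : G)
    (hxN : x ∈ Subgroup.normalizer (V : Set G)) (hxz : Commute x z) (v : G)
    (hv : v ∈ minusPart V hcomm z) : x * v * x⁻¹ ∈ minusPart V hcomm z := by
  refine ⟨(Subgroup.mem_normalizer_iff.mp hxN v).mp hv.1, ?_⟩
  have hzx : z * x = x * z := hxz.eq.symm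
  calc z * (x * v * x⁻¹) * z⁻¹ = (z * x) * v * (z * x)⁻¹ := by group
    _ = (x * z) * v * (x * z)⁻¹ := by rw [hzx]
    _ = x * (z * v * z⁻¹) * x⁻¹ := by group
    _ = x * v⁻¹ * x⁻¹ := by rw [hv.2]
    _ = (x * v * x⁻¹)⁻¹ := by group

theorem mem_normalizer_minusPart {G : Type*} [Group G] (V : Subgroup G)
    (hcomm : ∀ x ∈ V, ∀ y ∈ V, x * y = y * x) (z x : G)
    (hxN : x ∈ Subgroup.normalizer (V : Set G)) (hxz : Commute x z) :
    x ∈ Subgroup.normalizer ((minusPart V hcomm z : Subgroup G) : Set G) := by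
  rw [Subgroup.mem_normalizer_iff]
  intro v
  constructor
  · exact conj_mem_minusPart V hcomm z x hxN hxz v
  · intro hv
    have := conj_mem_minusPart V hcomm z x⁻¹ (Subgroup.inv_mem _ hxN) hxz.inv_left _ hv
    have e : x⁻¹ * (x * v * x⁻¹) * x⁻¹⁻¹ = v := by group
    rwa [e] at this

theorem minusPart_ne_bot {G : Type*} [Group G] (V : Subgroup G)
    (hcomm : ∀ x ∈ V, ∀ y ∈ V, x * y = y * x) (z : G)
    (hzN : z ∈ Subgroup.normalizer (V : Set G)) (hz2 : z * z = 1)
    (hzV : z ∉ Subgroup.centralizer (V : Set G)) : minusPart V hcomm z ≠ ⊥ := by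
  intro hbot
  apply hzV
  rw [Subgroup.mem_centralizer_iff]
  intro v hv
  have hzv : z * v * z⁻¹ ∈ V := (Subgroup.mem_normalizer_iff.mp hzN v).mp hv
  have hw : v⁻¹ * (z * v * z⁻¹) ∈ minusPart V hcomm z := by
    refine ⟨V.mul_mem (V.inv_mem hv) hzv, ?_⟩
    have hzinv : z⁻¹ = z := inv_eq_of_mul_eq_one_left hz2
    calc z * (v⁻¹ * (z * v * z⁻¹)) * z⁻¹ = (z * v * z⁻¹)⁻¹ * ((z * z) * v * (z * z)⁻¹) := by group
      _ = (z * v * z⁻¹)⁻¹ * v := by rw [hz2]; group
      _ = (v⁻¹ * (z * v * z⁻¹))⁻¹ := by group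
  rw [hbot, Subgroup.mem_bot] at hw
  have : z * v * z⁻¹ = v := by
    calc z * v * z⁻¹ = v * (v⁻¹ * (z * v * z⁻¹)) := by group
      _ = v := by rw [hw, mul_one]
  calc v * z = (z * v * z⁻¹) * z := by rw [this]
    _ = z * v := by group

/-- a quadratic element: `|W : C_W(a)| ≤ |C_W(a)|` -/
theorem relIndex_le_card_of_quadratic {G : Type*} [Group G] (W : Subgroup G) [Finite W]
    (hcomm : ∀ x ∈ W, ∀ y ∈ W, x * y = y * x) (a : G)
    (haW : ∀ v ∈ W, a * v * a⁻¹ ∈ W)
    (hquad : ∀ v ∈ W, Commute a (a * v * a⁻¹ * v⁻¹)) :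
    (W ⊓ Subgroup.centralizer ({a} : Set G)).relIndex W
      ≤ Nat.card ↥(W ⊓ Subgroup.centralizer ({a} : Set G)) := by
  let _ : CommGroup ↥W :=
    { (inferInstance : Group ↥W) with
      mul_comm := fun x y => Subtype.ext (hcomm x x.2 y y.2) }
  let c : ↥W →* ↥W :=
    { toFun := fun v => ⟨a * v * a⁻¹, haW v v.2⟩
      map_one' := by ext; simp
      map_mul' := fun x y => by ext; simp [mul_assoc] }
  have hker : (c / MonoidHom.id ↥W).ker
      = (W ⊓ Subgroup.centralizer ({a} : Set G)).subgroupOf W := by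
    ext v
    rw [MonoidHom.mem_ker, Subgroup.mem_subgroupOf, Subgroup.mem_inf, MonoidHom.div_apply,
      div_eq_one, Subgroup.mem_centralizer_iff]
    constructor
    · intro h
      refine ⟨v.2, ?_⟩
      intro x hx
      rw [Set.mem_singleton_iff] at hx
      subst hx
      have := congrArg Subtype.val h
      change x * v * x⁻¹ = v at this
      calc x * v = (x * v * x⁻¹) * x := by group
        _ = v * x := by rw [this]
    · rintro ⟨-, h⟩
      apply Subtype.ext
      change a * v * a⁻¹ = v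
      rw [h a rfl, mul_inv_cancel_right]
  have hrange : (c / MonoidHom.id ↥W).range ≤ (c / MonoidHom.id ↥W).ker := by
    rintro _ ⟨v, rfl⟩
    rw [hker, Subgroup.mem_subgroupOf, Subgroup.mem_inf]
    refine ⟨Subtype.mem _, ?_⟩
    rw [Subgroup.mem_centralizer_iff]
    intro x hx
    rw [Set.mem_singleton_iff] at hx
    subst hx
    have := hquad v v.2
    have e : (((c / MonoidHom.id ↥W) v : ↥W) : G) = x * v * x⁻¹ * (v : G)⁻¹ := by
      rw [MonoidHom.div_apply]
      simp [c, div_eq_mul_inv]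
    rw [e]
    exact this.eq
  have h1 : (W ⊓ Subgroup.centralizer ({a} : Set G)).relIndex W
      = Nat.card (c / MonoidHom.id ↥W).range := by
    rw [Subgroup.relIndex, ← hker, Subgroup.index_ker]
  have h2 : Nat.card (c / MonoidHom.id ↥W).ker
      = Nat.card ↥(W ⊓ Subgroup.centralizer ({a} : Set G)) := by
    rw [hker]
    exact Nat.card_congr (Subgroup.subgroupOfEquivOfLe inf_le_left).toEquiv
  rw [h1, ← h2]
  exact Subgroup.card_le_of_le hrange

theorem card_inf_mul_relIndex {G : Type*} [Group G] (H W : Subgroup G) (h : H ≤ W) :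
    Nat.card ↥H * H.relIndex W = Nat.card ↥W := by
  rw [Subgroup.relIndex, ← Subgroup.card_mul_index (H.subgroupOf W)]
  congr 1
  exact (Nat.card_congr (Subgroup.subgroupOfEquivOfLe h).toEquiv).symm

theorem arith (q m r w : ℕ) (h1 : r ≤ m) (h2 : m * r = w) (h3 : 2 ≤ w)
    (h4 : (q + 1) * (m - 1) + 1 ≤ w) : q ≤ r := by
  by_contra hlt
  push Not at hlt
  have hm : 2 ≤ m := by
    by_contra hm
    push Not at hm
    have : m * r ≤ 1 * 1 := Nat.mul_le_mul (by omega) (by omega)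
    omega
  obtain ⟨m', rfl⟩ : ∃ m', m = m' + 1 := ⟨m - 1, by omega⟩
  simp only [Nat.add_sub_cancel] at h4
  -- (q+1) m' + 1 ≤ (m'+1) r ≤ (m'+1)^2 ⇒ q ≤ m'+1
  have h5 : (m' + 1) * r ≤ (m' + 1) * (m' + 1) := Nat.mul_le_mul_left _ h1
  have h6 : q ≤ m' + 1 := by
    by_contra h6
    push Not at h6
    have : (m' + 3) * m' ≤ (q + 1) * m' := Nat.mul_le_mul_right _ (by omega)
    nlinarith
  have h7 : (m' + 1) * r ≤ (m' + 1) * (q - 1) := Nat.mul_le_mul_left _ (by omega)
  obtain ⟨q', rfl⟩ : ∃ q', q = q' + 1 := ⟨q - 1, by omega⟩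
  simp only [Nat.add_sub_cancel] at h7
  nlinarith

theorem spread_bound {G : Type*} [Group G] (V : Subgroup G) [Finite V]
    (hcomm : ∀ x ∈ V, ∀ y ∈ V, x * y = y * x)
    (hodd : ∀ v ∈ V, v * v = 1 → v = 1)
    (z : G) (hzN : z ∈ Subgroup.normalizer (V : Set G)) (hz2 : z * z = 1)
    (hzV : z ∉ Subgroup.centralizer (V : Set G))
    {ι : Type*} [Fintype ι] (q : ℕ) (hι : Fintype.card ι = q + 1)
    (h : ι → G) (hN : ∀ i, h i ∈ Subgroup.normalizer (V : Set G)) (hhz : ∀ i, Commute (h i) z)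
    (a : G) (haN : a ∈ Subgroup.normalizer (V : Set G)) (haz : Commute a z)
    (hquad : ∀ v ∈ V, Commute a (a * v * a⁻¹ * v⁻¹))
    (hspread : ∀ i j, i ≠ j → ∀ v ∈ V, Commute v (h i * a * (h i)⁻¹) →
      Commute v (h j * a * (h j)⁻¹) → Commute v z) :
    q ≤ (V ⊓ Subgroup.centralizer ({a} : Set G)).relIndex V := by
  set W := minusPart V hcomm z with hW
  have hWV : W ≤ V := minusPart_le V hcomm z
  have : Finite ↥W := Finite.of_injective (Subgroup.inclusion hWV) (Subgroup.inclusion_injective hWV)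
  have hWcomm : ∀ x ∈ W, ∀ y ∈ W, x * y = y * x := fun x hx y hy => hcomm x (hWV hx) y (hWV hy)
  set m := Nat.card ↥(W ⊓ Subgroup.centralizer ({a} : Set G)) with hm
  set r := (W ⊓ Subgroup.centralizer ({a} : Set G)).relIndex W with hr
  have h1 : r ≤ m :=
    relIndex_le_card_of_quadratic W hWcomm a
      (fun v hv => conj_mem_minusPart V hcomm z a haN haz v hv)
      (fun v hv => hquad v (hWV hv))
  have h2 : m * r = Nat.card ↥W := card_inf_mul_relIndex _ W inf_le_left
  have h3 : 2 ≤ Nat.card ↥W := by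
    have := (Subgroup.one_lt_card_iff_ne_bot (H := W)).mpr (minusPart_ne_bot V hcomm z hzN hz2 hzV)
    omega
  have h4 : (q + 1) * (m - 1) + 1 ≤ Nat.card ↥W := by
    rw [← hι]
    apply spread_count W (fun i => W ⊓ Subgroup.centralizer ({h i * a * (h i)⁻¹} : Set G))
      (fun i => inf_le_left) m
    · intro i
      have hNi := mem_normalizer_minusPart V hcomm z (h i) (hN i) (hhz i)
      rw [← map_conj_inf_centralizer W a (h i) hNi]
      exact Subgroup.card_map_of_injective (MulAut.conj (h i)).injective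
    · intro i j hij
      rw [eq_bot_iff]
      intro v hv
      rw [Subgroup.mem_inf, Subgroup.mem_inf, Subgroup.mem_inf] at hv
      obtain ⟨⟨hvW, hvi⟩, ⟨-, hvj⟩⟩ := hv
      rw [Subgroup.mem_bot]
      have hci : Commute v (h i * a * (h i)⁻¹) :=
        ((Subgroup.mem_centralizer_iff.mp hvi) _ rfl).symm
      have hcj : Commute v (h j * a * (h j)⁻¹) :=
        ((Subgroup.mem_centralizer_iff.mp hvj) _ rfl).symm
      have hvz := hspread i j hij v (hWV hvW) hci hcj
      have h5 : z * v * z⁻¹ = v := by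
        rw [← hvz.eq, mul_inv_cancel_right]
      have h6 : v = v⁻¹ := by rw [← hvW.2, h5]
      apply hodd v (hWV hvW)
      calc v * v = v * v⁻¹ := by rw [← h6]
        _ = 1 := mul_inv_cancel v
  have h5 : q ≤ r := arith q m r _ h1 h2 h3 h4
  have h6 : r = (V ⊓ Subgroup.centralizer ({a} : Set G)).relIndex W := by
    rw [hr, ← Subgroup.inf_relIndex_right (V ⊓ Subgroup.centralizer ({a} : Set G)) W]
    congr 1
    rw [inf_right_comm, inf_eq_right.mpr hWV]
  have hfin : (V ⊓ Subgroup.centralizer ({a} : Set G)).relIndex V ≠ 0 := by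
    rw [Subgroup.relIndex]
    exact Subgroup.index_ne_zero_of_finite
  calc q ≤ r := h5
    _ = _ := h6
    _ ≤ _ := Subgroup.relIndex_le_of_le_right hWV hfin

end Cfsg.Agent.Lib.Helper19.Spread
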