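import Mathlib
import Cfsg.Prelude.Def_Transfer
import Cfsg.Agent.Lib.Helper19.SpreadGroup
import Cfsg.Agent.Lib.Helper19.SpreadSL2

/-!
# `SL₂(q)`, `q` odd, acting faithfully on an elementary abelian `p`-group: quadratic elements
have `|V : C_V(a)| ≥ q`  (helper19)
-/

set_option autoImplicit false

namespace Cfsg.Agent.Lib.Helper19.Spread

open Matrix Matrix.SpecialLinearGroup
open scoped MatrixGroups
open Cfsg.Agent.Lib.Helper41

theorem neg_one_ne_one {F : Type*} [Field F] (h2 : (2 : F) ≠ 0) : (-1 : SL(2, F)) ≠ 1 := by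
  intro h
  have h1 := congrArg (fun m : SL(2, F) => (m : Matrix (Fin 2) (Fin 2) F) 0 0) h
  simp at h1
  apply h2
  linear_combination -h1

theorem bound_odd {G : Type*} [Group G] {p : ℕ} [Fact p.Prime] (hp : p ≠ 2) (V H : Subgroup G)
    [Finite V] (hV : Cfsg.IsElementaryAbelian p V)
    (hHV : H ≤ Subgroup.normalizer (V : Set G))
    (hf : H ⊓ Subgroup.centralizer (V : Set G) = ⊥)
    {F : Type*} [Field F] [Fintype F] (n : ℕ) (hF : Fintype.card F = p ^ n)
    (e : ↥H ≃* SL(2, F)) (a : G) (haH : a ∈ H) (ha1 : a ≠ 1) (k : ℕ) (hak : a ^ (p ^ k) = 1)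
    (hquad : ∀ v ∈ V, Commute a (a * v * a⁻¹ * v⁻¹)) :
    p ^ n ≤ (V ⊓ Subgroup.centralizer ({a} : Set G)).relIndex V := by
  classical
  have hpp : p.Prime := Fact.out
  have : CharP F p := charP_of_card_eq_prime_pow hF
  have h2 : (2 : F) ≠ 0 := two_ne_zero_of_char p hp
  have hcommV : ∀ x ∈ V, ∀ y ∈ V, x * y = y * x := by
    intro x hx y hy
    have := hV.1.is_comm.comm ⟨x, hx⟩ ⟨y, hy⟩
    exact congrArg Subtype.val this
  have hodd : ∀ v ∈ V, v * v = 1 → v = 1 := by
    intro v hv hvv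
    have h1 : orderOf v ∣ 2 := orderOf_dvd_of_pow_eq_one (by rw [pow_two]; exact hvv)
    have h3 : orderOf v ∣ p := orderOf_dvd_of_pow_eq_one (hV.2 v hv)
    have h4 : orderOf v ∣ Nat.gcd 2 p := Nat.dvd_gcd h1 h3
    have h5 : Nat.gcd 2 p = 1 := by
      rw [Nat.coprime_primes Nat.prime_two hpp |>.mpr (Ne.symm hp)]
    rw [h5, Nat.dvd_one] at h4
    exact orderOf_eq_one_iff.mp h4
  -- the elements
  set ah : ↥H := ⟨a, haH⟩ with hah
  set α : SL(2, F) := e ah with hα
  have hα1 : α ≠ 1 := by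
    intro h
    apply ha1
    have := e.injective (h.trans (map_one e).symm)
    exact congrArg Subtype.val this
  have hαk : α ^ (p ^ k) = 1 := by
    rw [hα, ← map_pow]
    have : ah ^ (p ^ k) = 1 := Subtype.ext (by simpa using hak)
    rw [this, map_one]
  obtain ⟨K, hK⟩ := exists_family p α k hαk hα1
  set zh : ↥H := e.symm (-1) with hzh
  have hzh2 : zh * zh = 1 := by
    rw [hzh, ← map_mul]
    simp
  have hzh1 : zh ≠ 1 := by
    intro h
    apply neg_one_ne_one h2
    have := congrArg e h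
    rwa [hzh, MulEquiv.apply_symm_apply, map_one] at this
  have hzhc : ∀ x : ↥H, Commute x zh := by
    intro x
    have : Commute (e x) (-1) := by
      unfold Commute SemiconjBy
      rw [mul_neg_one, neg_one_mul]
    have h3 : e (x * zh) = e (zh * x) := by
      rw [map_mul, map_mul, hzh, MulEquiv.apply_symm_apply]
      exact this.eq
    exact e.injective h3
  have hcoe : ∀ x : ↥H, Commute (x : G) (zh : G) := by
    intro x
    have := congrArg Subtype.val (hzhc x).eq
    exact this
  apply spread_bound V hcommV hodd (zh : G) (hHV zh.2)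
    (by have := congrArg Subtype.val hzh2; simpa using this)
    (by
      intro hz
      apply hzh1
      have hmem : (zh : G) ∈ H ⊓ Subgroup.centralizer (V : Set G) := ⟨zh.2, hz⟩
      rw [hf, Subgroup.mem_bot] at hmem
      exact Subtype.ext hmem)
    (p ^ n) (by rw [Fintype.card_option, hF])
    (fun i => ((e.symm (K i) : ↥H) : G)) (fun i => hHV (e.symm (K i)).2)
    (fun i => hcoe _) a (hHV haH) (hcoe ah) hquad
  intro i j hij v hv hci hcj
  -- the subgroup of SL₂ commuting with v
  set Kv : Subgroup SL(2, F) :=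
    ((Subgroup.centralizer ({v} : Set G)).subgroupOf H).map e.toMonoidHom with hKv
  have hmem : ∀ i, Commute v (((e.symm (K i) : ↥H) : G) * a * ((e.symm (K i) : ↥H) : G)⁻¹) →
      K i * α * (K i)⁻¹ ∈ Kv := by
    intro i hc
    refine ⟨e.symm (K i) * ah * (e.symm (K i))⁻¹, ?_, ?_⟩
    · rw [SetLike.mem_coe, Subgroup.mem_subgroupOf, Subgroup.mem_centralizer_iff]
      intro w hw
      rw [Set.mem_singleton_iff] at hw
      subst hw
      exact hc.eq
    · change e (e.symm (K i) * ah * (e.symm (K i))⁻¹) = _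
      rw [map_mul, map_mul, map_inv, MulEquiv.apply_symm_apply]
  have htr : ∀ i, tr2 (K i * α * (K i)⁻¹) = 2 := by
    intro i
    apply tr2_eq_two_of_pow p _ k
    have : (K i * α * (K i)⁻¹) ^ (p ^ k) = K i * α ^ (p ^ k) * (K i)⁻¹ := by
      rw [conj_pow]
    rw [this, hαk, mul_one, mul_inv_cancel]
  have hneg := neg_one_mem p hp Kv _ _ (hmem i hci) (hmem j hcj) (htr i) (htr j) (hK i j hij)
  obtain ⟨y, hy, hye⟩ := hneg
  have hyz : y = zh := by
    rw [hzh, ← hye]
    exact (e.symm_apply_apply y).symm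
  rw [SetLike.mem_coe, Subgroup.mem_subgroupOf, Subgroup.mem_centralizer_iff] at hy
  have := hy v rfl
  rw [hyz] at this
  exact this

end Cfsg.Agent.Lib.Helper19.Spread
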