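import Mathlib

/-!
# Suzuki 2-groups: basic facts (helper19)

Hypothesis package `SuzHyp P K`: `P` a finite 2-group with at least two involutions and
`K ≤ Aut P` a commutative group of automorphisms acting transitively and semiregularly on the
involutions of `P`.
-/

set_option autoImplicit false

namespace Cfsg.Agent.Lib.Helper19.Suz

structure SuzHyp (P : Type*) [Group P] (K : Subgroup (MulAut P)) : Prop where
  fin : Finite P
  pgrp : IsPGroup 2 P
  comm : ∀ a ∈ K, ∀ b ∈ K, a * b = b * a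
  trans : ∀ x y : P, x ≠ 1 → x * x = 1 → y ≠ 1 → y * y = 1 → ∃ k ∈ K, k x = y
  semireg : ∀ k ∈ K, ∀ x : P, x ≠ 1 → x * x = 1 → k x = x → k = 1
  two : ∃ x y : P, x ≠ y ∧ x ≠ 1 ∧ x * x = 1 ∧ y ≠ 1 ∧ y * y = 1

variable {P : Type*} [Group P] {K : Subgroup (MulAut P)}

theorem aut_mem_center (k : MulAut P) {x : P} (hx : x ∈ Subgroup.center P) :
    k x ∈ Subgroup.center P := by
  rw [Subgroup.mem_center_iff] at hx ⊢
  intro g
  have h1 := hx (k⁻¹ g)
  have h2 := congrArg k h1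
  simpa using h2

/-- every finite nontrivial 2-group has a central involution -/
theorem exists_central_involution [Finite P] (hp : IsPGroup 2 P) [Nontrivial P] :
    ∃ u : P, u ∈ Subgroup.center P ∧ u ≠ 1 ∧ u * u = 1 := by
  haveI : Fact (Nat.Prime 2) := ⟨Nat.prime_two⟩
  haveI := hp.center_nontrivial
  obtain ⟨⟨z, hz⟩, hz1⟩ := exists_ne (1 : ↥(Subgroup.center P))
  have hz1' : z ≠ 1 := fun h => hz1 (Subtype.ext h)
  obtain ⟨m, hm⟩ := (IsPGroup.iff_orderOf.mp hp) z
  have hm0 : m ≠ 0 := by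
    rintro rfl
    rw [pow_zero, orderOf_eq_one_iff] at hm
    exact hz1' hm
  obtain ⟨m', rfl⟩ := Nat.exists_eq_succ_of_ne_zero hm0
  refine ⟨z ^ 2 ^ m', Subgroup.pow_mem _ hz _, ?_, ?_⟩
  · intro h
    have := orderOf_dvd_of_pow_eq_one h
    rw [hm] at this
    have h2 : 2 ^ (m' + 1) ≤ 2 ^ m' := Nat.le_of_dvd (by positivity) this
    rw [pow_succ] at h2
    have : 0 < 2 ^ m' := by positivity
    omega
  · rw [← pow_add, ← two_mul, ← pow_succ', ← hm, pow_orderOf_eq_one]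

theorem SuzHyp.nontrivial (h : SuzHyp P K) : Nontrivial P := by
  obtain ⟨x, y, hxy, -⟩ := h.two
  exact ⟨⟨x, y, hxy⟩⟩

/-- involutions are central -/
theorem SuzHyp.inv_central (h : SuzHyp P K) {x : P} (hx1 : x ≠ 1) (hx2 : x * x = 1) :
    x ∈ Subgroup.center P := by
  haveI := h.fin
  haveI := h.nontrivial
  obtain ⟨u, huc, hu1, hu2⟩ := exists_central_involution h.pgrp
  obtain ⟨k, -, hk⟩ := h.trans u x hu1 hu2 hx1 hx2
  rw [← hk]
  exact aut_mem_center k huc

/-- an element squaring to one is central -/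
theorem SuzHyp.sq_one_central (h : SuzHyp P K) {x : P} (hx2 : x * x = 1) :
    x ∈ Subgroup.center P := by
  by_cases hx1 : x = 1
  · rw [hx1]; exact Subgroup.one_mem _
  · exact h.inv_central hx1 hx2

/-- the subgroup of central elements of order at most two -/
def Z0 (P : Type*) [Group P] : Subgroup P where
  carrier := {x | x ∈ Subgroup.center P ∧ x * x = 1}
  one_mem' := ⟨Subgroup.one_mem _, by simp⟩
  mul_mem' := by
    rintro a b ⟨ha, ha2⟩ ⟨hb, hb2⟩
    refine ⟨Subgroup.mul_mem _ ha hb, ?_⟩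
    rw [Subgroup.mem_center_iff] at ha
    calc a * b * (a * b) = a * (b * a) * b := by group
      _ = a * (a * b) * b := by rw [ha b]
      _ = (a * a) * (b * b) := by group
      _ = 1 := by rw [ha2, hb2, one_mul]
  inv_mem' := by
    rintro a ⟨ha, ha2⟩
    refine ⟨Subgroup.inv_mem _ ha, ?_⟩
    have : a⁻¹ = a := inv_eq_of_mul_eq_one_left ha2
    rw [this, ha2]

theorem mem_Z0 {x : P} : x ∈ Z0 P ↔ x ∈ Subgroup.center P ∧ x * x = 1 := Iff.rfl

theorem Z0_le_center : Z0 P ≤ Subgroup.center P := fun _ hx => hx.1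

instance Z0_normal : (Z0 P).Normal := by
  constructor
  intro n hn g
  have h1 : g * n * g⁻¹ = n := by
    have := (Subgroup.mem_center_iff.mp hn.1) g
    rw [this]; group
  rw [h1]; exact hn

theorem SuzHyp.mem_Z0_iff (h : SuzHyp P K) {x : P} : x ∈ Z0 P ↔ x * x = 1 :=
  ⟨fun hx => hx.2, fun hx => ⟨h.sq_one_central hx, hx⟩⟩

theorem aut_mem_Z0 (k : MulAut P) {x : P} (hx : x ∈ Z0 P) : k x ∈ Z0 P := by
  refine ⟨aut_mem_center k hx.1, ?_⟩
  rw [← map_mul, hx.2, map_one]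

theorem map_Z0 (k : MulAut P) : (Z0 P).map (k : P ≃* P).toMonoidHom = Z0 P := by
  ext x
  constructor
  · rintro ⟨y, hy, rfl⟩
    exact aut_mem_Z0 k hy
  · intro hx
    refine ⟨k⁻¹ x, aut_mem_Z0 k⁻¹ hx, ?_⟩
    simp

end Cfsg.Agent.Lib.Helper19.Suz
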