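import Cfsg.Agent.Lib.Helper19.SuzHua

/-!
# Suzuki 2-groups: the class-two case (helper19)
-/

set_option autoImplicit false
set_option linter.style.haveILetI false

open scoped IsMulCommutative

namespace Cfsg.Agent.Lib.Helper19.Suz

variable {P : Type*} [Group P] {K : Subgroup (MulAut P)}

/-- counting in the finite abelian group `Z(P)`: if `N = 2M` kills the centre and `M`-th powers
of central elements cover all central involutions, then a central element killed by `M` is a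
square of a central element. -/
theorem center_pow_ker [Finite P] (M : ℕ)
    (hN : ∀ w ∈ Subgroup.center P, w ^ (M + M) = 1)
    (hsurj : ∀ v ∈ Subgroup.center P, v * v = 1 → ∃ w ∈ Subgroup.center P, w ^ M = v)
    {a : P} (ha : a ∈ Subgroup.center P) (haM : a ^ M = 1) :
    ∃ v ∈ Subgroup.center P, v * v = a := by
  let sqH : ↥(Subgroup.center P) →* ↥(Subgroup.center P) := powMonoidHom 2
  let ρH : ↥(Subgroup.center P) →* ↥(Subgroup.center P) := powMonoidHom M
  have hrange : ρH.range = sqH.ker := by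
    ext v
    rw [MonoidHom.mem_range, MonoidHom.mem_ker]
    constructor
    · rintro ⟨w, rfl⟩
      show (w ^ M) ^ 2 = 1
      rw [← pow_mul, mul_two]
      exact Subtype.ext (by simpa using hN w w.2)
    · intro hv
      have hv' : (v : P) * v = 1 := by
        have : v ^ 2 = 1 := hv
        have := congrArg Subtype.val this
        simpa [pow_two] using this
      obtain ⟨w, hw, hwv⟩ := hsurj v v.2 hv'
      refine ⟨⟨w, hw⟩, Subtype.ext ?_⟩
      show ((⟨w, hw⟩ : ↥(Subgroup.center P)) ^ M : ↥(Subgroup.center P)).val = v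
      rw [SubgroupClass.coe_pow]; exact hwv
  have hle : sqH.range ≤ ρH.ker := by
    rintro v ⟨w, rfl⟩
    rw [MonoidHom.mem_ker]
    show (w ^ 2) ^ M = 1
    rw [← pow_mul, two_mul]
    exact Subtype.ext (by simpa using hN w w.2)
  have hcard : Nat.card ↥ρH.ker ≤ Nat.card ↥sqH.range := by
    have h1 := Subgroup.card_mul_index ρH.ker
    have h2 := Subgroup.card_mul_index sqH.ker
    rw [Subgroup.index_ker] at h1 h2
    rw [hrange] at h1
    have hpos : 0 < Nat.card ↥sqH.ker := Nat.card_pos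
    have h3 : Nat.card ↥sqH.ker * Nat.card ↥ρH.ker = Nat.card ↥sqH.ker * Nat.card ↥sqH.range := by
      rw [h2, mul_comm, h1]
    exact le_of_eq (Nat.eq_of_mul_eq_mul_left hpos h3)
  have heq : sqH.range = ρH.ker := Subgroup.eq_of_le_of_card_ge hle hcard
  have hmem : (⟨a, ha⟩ : ↥(Subgroup.center P)) ∈ ρH.ker := by
    rw [MonoidHom.mem_ker]
    refine Subtype.ext ?_
    show ((⟨a, ha⟩ : ↥(Subgroup.center P)) ^ M : ↥(Subgroup.center P)).val = 1
    rw [SubgroupClass.coe_pow]; exact haM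
  rw [← heq] at hmem
  obtain ⟨v, hv⟩ := hmem
  refine ⟨v, v.2, ?_⟩
  have := congrArg Subtype.val hv
  simpa [sqH, pow_two] using this

/-- In the class-two case with non-elementary centre the group is abelian. -/
theorem SuzHyp.class2_comm (h : SuzHyp P K) {z : P} (hz : z ∈ Subgroup.center P)
    (hz2 : z * z ≠ 1) (hcl : ∀ x y : P, x⁻¹ * y⁻¹ * x * y ∈ Z0 P) :
    ∀ x y : P, x * y = y * x := by
  haveI := h.fin
  haveI : Fact (Nat.Prime 2) := ⟨Nat.prime_two⟩
  have hccen : ∀ x y g : P, g * (x⁻¹ * y⁻¹ * x * y) = (x⁻¹ * y⁻¹ * x * y) * g :=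
    fun x y g => Subgroup.mem_center_iff.mp (hcl x y).1 g
  have hcsq : ∀ x y : P, (x⁻¹ * y⁻¹ * x * y) * (x⁻¹ * y⁻¹ * x * y) = 1 := fun x y => (hcl x y).2
  -- squares are central
  have hsqc : ∀ x : P, x * x ∈ Subgroup.center P := by
    intro x
    rw [Subgroup.mem_center_iff]
    intro g
    have e1 : g * x = x * g * (g⁻¹ * x⁻¹ * g * x) := by group
    have hd := hccen g x
    calc g * (x * x) = (g * x) * x := by group
      _ = x * g * (g⁻¹ * x⁻¹ * g * x) * x := by rw [← e1]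
      _ = x * g * ((g⁻¹ * x⁻¹ * g * x) * x) := by group
      _ = x * g * (x * (g⁻¹ * x⁻¹ * g * x)) := by rw [hd x]
      _ = x * (g * x) * (g⁻¹ * x⁻¹ * g * x) := by group
      _ = x * (x * g * (g⁻¹ * x⁻¹ * g * x)) * (g⁻¹ * x⁻¹ * g * x) := by rw [← e1]
      _ = x * x * g * ((g⁻¹ * x⁻¹ * g * x) * (g⁻¹ * x⁻¹ * g * x)) := by group
      _ = x * x * g := by rw [hcsq, mul_one]
  -- a central element of maximal order
  haveI : Nonempty ↥(Subgroup.center P) := ⟨1⟩
  obtain ⟨z₁, hz₁max⟩ := Finite.exists_max (fun w : ↥(Subgroup.center P) => orderOf (w : P))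
  obtain ⟨f, hf⟩ := (IsPGroup.iff_orderOf.mp h.pgrp) (z₁ : P)
  have hNkill : ∀ w ∈ Subgroup.center P, w ^ (2 ^ f) = 1 := by
    intro w hw
    obtain ⟨j, hj⟩ := (IsPGroup.iff_orderOf.mp h.pgrp) w
    have hle := hz₁max ⟨w, hw⟩
    simp only [hj, hf] at hle
    have hjf : j ≤ f := (Nat.pow_le_pow_iff_right (by norm_num)).mp hle
    obtain ⟨d, rfl⟩ := Nat.exists_eq_add_of_le hjf
    rw [pow_add, pow_mul, ← hj, pow_orderOf_eq_one, one_pow]
  have hf2 : 2 ≤ f := by
    by_contra hlt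
    apply hz2
    have h4 := hNkill z hz
    have hf1 : f = 0 ∨ f = 1 := by omega
    rcases hf1 with rfl | rfl
    · rw [pow_zero, pow_one] at h4; rw [h4, one_mul]
    · rw [pow_one, pow_two] at h4; exact h4
  obtain ⟨f', rfl⟩ : ∃ f', f = f' + 2 := ⟨f - 2, by omega⟩
  set M := 2 ^ (f' + 1) with hM
  have hMM : M + M = 2 ^ (f' + 2) := by rw [hM]; ring
  have hMeven : M = 2 ^ f' + 2 ^ f' := by rw [hM]; ring
  have hNkill' : ∀ w ∈ Subgroup.center P, w ^ (M + M) = 1 := by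
    intro w hw; rw [hMM]; exact hNkill w hw
  -- the involution u = z₁^M
  have hu1 : (z₁ : P) ^ M ≠ 1 := by
    intro h1
    have := orderOf_dvd_of_pow_eq_one h1
    rw [hf, hM] at this
    have h2 := Nat.le_of_dvd (by positivity) this
    have : 2 ^ (f' + 2) = 2 * 2 ^ (f' + 1) := by ring
    have : 0 < 2 ^ (f' + 1) := by positivity
    omega
  have hu2 : (z₁ : P) ^ M * (z₁ : P) ^ M = 1 := by
    rw [← pow_add]; exact hNkill' _ z₁.2
  have hsurj : ∀ v ∈ Subgroup.center P, v * v = 1 → ∃ w ∈ Subgroup.center P, w ^ M = v := by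
    intro v _ hv2
    by_cases hv1 : v = 1
    · exact ⟨1, Subgroup.one_mem _, by rw [one_pow, hv1]⟩
    · obtain ⟨k, -, hk⟩ := h.trans _ v hu1 hu2 hv1 hv2
      exact ⟨k z₁, aut_mem_center k z₁.2, by rw [← map_pow, hk]⟩
  -- the maps ψ and c
  let ψ : P → P := fun x => x ^ (M + M)
  let c : P → P → P := fun x y => x⁻¹ * y⁻¹ * x * y
  have hψ_eq : ∀ x : P, ψ x = (x * x) ^ M := by
    intro x
    show x ^ (M + M) = (x * x) ^ M
    rw [← pow_two, ← pow_mul, two_mul]
  have ψmul : ∀ x y, ψ (x * y) = ψ x * ψ y := by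
    intro x y
    rw [hψ_eq, hψ_eq, hψ_eq]
    have e1 : (x * y) * (x * y) = (x * x) * (y * y) * (y⁻¹ * x⁻¹ * y * x) := by
      have e0 : y * x = x * y * (y⁻¹ * x⁻¹ * y * x) := by group
      calc (x * y) * (x * y) = x * (y * x) * y := by group
        _ = x * (x * y * (y⁻¹ * x⁻¹ * y * x)) * y := by rw [← e0]
        _ = x * x * y * ((y⁻¹ * x⁻¹ * y * x) * y) := by group
        _ = x * x * y * (y * (y⁻¹ * x⁻¹ * y * x)) := by rw [hccen y x y]
        _ = (x * x) * (y * y) * (y⁻¹ * x⁻¹ * y * x) := by group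
    rw [e1]
    have hc1 : Commute (x * x * (y * y)) (y⁻¹ * x⁻¹ * y * x) := (hccen y x _)
    have hc2 : Commute (x * x) (y * y) := (Subgroup.mem_center_iff.mp (hsqc y) (x * x))
    rw [hc1.mul_pow, hc2.mul_pow]
    have : (y⁻¹ * x⁻¹ * y * x) ^ M = 1 := by
      rw [hMeven, ← two_mul, pow_mul, pow_two, hcsq, one_pow]
    rw [this, mul_one]
  have ψsq : ∀ x, ψ x * ψ x = 1 := by
    intro x
    rw [hψ_eq, ← pow_add]
    exact hNkill' _ (hsqc x)
  have ψK : ∀ k ∈ K, ∀ x, ψ (k x) = k (ψ x) := by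
    intro k _ x
    show (k x) ^ (M + M) = k (x ^ (M + M))
    rw [map_pow]
  have ψker : ∀ x, ψ x = 1 → x ∈ Subgroup.center P := by
    intro x hx
    rw [hψ_eq] at hx
    obtain ⟨v, hv, hvv⟩ := center_pow_ker M hNkill' hsurj (hsqc x) hx
    have hvc := Subgroup.mem_center_iff.mp hv
    have h1 : (x * v⁻¹) * (x * v⁻¹) = 1 := by
      have hv' : v⁻¹ * x = x * v⁻¹ := by
        have := hvc x
        calc v⁻¹ * x = v⁻¹ * (x * v) * v⁻¹ := by group
          _ = v⁻¹ * (v * x) * v⁻¹ := by rw [this]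
          _ = x * v⁻¹ := by group
      calc (x * v⁻¹) * (x * v⁻¹) = x * (v⁻¹ * x) * v⁻¹ := by group
        _ = x * (x * v⁻¹) * v⁻¹ := by rw [hv']
        _ = (x * x) * (v * v)⁻¹ := by group
        _ = 1 := by rw [hvv, mul_inv_cancel]
    have h2 := h.sq_one_central h1
    have : x = (x * v⁻¹) * v := by group
    rw [this]
    exact Subgroup.mul_mem _ h2 hv
  have cmul : ∀ x y y', c x (y * y') = c x y * c x y' := by
    intro x y y'
    show x⁻¹ * (y * y')⁻¹ * x * (y * y') = (x⁻¹ * y⁻¹ * x * y) * (x⁻¹ * y'⁻¹ * x * y')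
    calc x⁻¹ * (y * y')⁻¹ * x * (y * y')
        = x⁻¹ * y'⁻¹ * x * ((x⁻¹ * y⁻¹ * x * y) * y') := by group
      _ = x⁻¹ * y'⁻¹ * x * (y' * (x⁻¹ * y⁻¹ * x * y)) := by rw [hccen x y y']
      _ = (x⁻¹ * y'⁻¹ * x * y') * (x⁻¹ * y⁻¹ * x * y) := by group
      _ = (x⁻¹ * y⁻¹ * x * y) * (x⁻¹ * y'⁻¹ * x * y') := (hccen x y _)
  have csymm : ∀ x y, c x y = c y x := by
    intro x y
    show x⁻¹ * y⁻¹ * x * y = y⁻¹ * x⁻¹ * y * x
    have e1 : y⁻¹ * x⁻¹ * y * x = (x⁻¹ * y⁻¹ * x * y)⁻¹ := by group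
    rw [e1]
    exact (inv_eq_of_mul_eq_one_left (hcsq x y)).symm
  have cself : ∀ x, c x x = 1 := by
    intro x
    show x⁻¹ * x⁻¹ * x * x = 1
    group
  have cK : ∀ k ∈ K, ∀ x y, c (k x) (k y) = k (c x y) := by
    intro k _ x y
    show (k x)⁻¹ * (k y)⁻¹ * k x * k y = k (x⁻¹ * y⁻¹ * x * y)
    simp only [map_mul, map_inv]
  have ccen : ∀ x w, w ∈ Subgroup.center P → c x w = 1 := by
    intro x w hw
    show x⁻¹ * w⁻¹ * x * w = 1
    have := Subgroup.mem_center_iff.mp hw x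
    calc x⁻¹ * w⁻¹ * x * w = x⁻¹ * w⁻¹ * (x * w) := by group
      _ = x⁻¹ * w⁻¹ * (w * x) := by rw [this]
      _ = 1 := by group
  have csq : ∀ x y, c x y * c x y = 1 := fun x y => hcsq x y
  intro x y
  have h1 : x⁻¹ * y⁻¹ * x * y = 1 :=
    hua h ψ c ψmul ψsq ψker ψK cmul csymm cself cK ccen csq x y
  calc x * y = y * x * (x⁻¹ * y⁻¹ * x * y) := by group
    _ = y * x := by rw [h1, mul_one]

end Cfsg.Agent.Lib.Helper19.Suz
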