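import Mathlib
import Cfsg.Agent.S1140

/-!
# Monomial quadratic maps on a finite field of characteristic two (helper19)
-/

set_option autoImplicit false
set_option linter.style.haveILetI false

namespace Cfsg.Agent.Lib.Helper19.Suz

section
variable {F : Type*} [Field F] [Fintype F] [CharP F 2]

noncomputable instance ringEquivFintype : Fintype (F ≃+* F) :=
  haveI : Finite (F ≃+* F) :=
    Finite.of_injective (fun σ : F ≃+* F => (σ : F → F)) DFunLike.coe_injective
  Fintype.ofFinite _

theorem aut_indep : LinearIndependent F (fun σ : F ≃+* F => ((σ : F →+* F) : F → F)) :=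
  Cfsg.Agent.S1140.result.1

/-- independence of the functions `(x, y) ↦ σ x * τ y` -/
theorem dbl_indep (d : (F ≃+* F) × (F ≃+* F) → F)
    (h : ∀ x y : F, ∑ p : (F ≃+* F) × (F ≃+* F), d p * (p.1 x * p.2 y) = 0) :
    ∀ p, d p = 0 := by
  have hind := Fintype.linearIndependent_iff.mp (aut_indep (F := F))
  have h1 : ∀ (y : F) (σ : F ≃+* F), ∑ τ : F ≃+* F, d (σ, τ) * τ y = 0 := by
    intro y
    apply hind (fun σ => ∑ τ : F ≃+* F, d (σ, τ) * τ y)
    funext x
    have := h x y
    rw [Fintype.sum_prod_type] at this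
    simp only [Finset.sum_apply, Pi.smul_apply, smul_eq_mul, Pi.zero_apply]
    rw [← this]
    apply Finset.sum_congr rfl
    intro σ _
    rw [Finset.sum_mul]
    apply Finset.sum_congr rfl
    intro τ _
    show d (σ, τ) * τ y * σ x = d (σ, τ) * (σ x * τ y)
    ring
  rintro ⟨σ, τ⟩
  apply hind (fun τ => d (σ, τ))
  funext y
  have := h1 y σ
  simp only [Finset.sum_apply, Pi.smul_apply, smul_eq_mul, Pi.zero_apply]
  rw [← this]
  rfl

/-- a monomial `u ↦ u ^ e` whose polarisation is biadditive and nonzero is a product of two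
distinct field automorphisms -/
theorem exists_aut_pair (e : ℕ)
    (hadd : ∀ s s' t : F, (s + s' + t) ^ e + (s + s') ^ e + t ^ e =
      ((s + t) ^ e + s ^ e + t ^ e) + ((s' + t) ^ e + s' ^ e + t ^ e))
    (hne : ∃ s t : F, (s + t) ^ e + s ^ e + t ^ e ≠ 0) :
    ∃ σ τ : F ≃+* F, σ ≠ τ ∧ ∀ u : F, u ^ e = σ u * τ u := by
  classical
  have h2 : ∀ x : F, x + x = 0 := CharTwo.add_self_eq_zero
  -- the polar form
  let Bf : F → F → F := fun s t => (s + t) ^ e + s ^ e + t ^ e
  have hBsymm : ∀ s t, Bf s t = Bf t s := by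
    intro s t
    show (s + t) ^ e + s ^ e + t ^ e = (t + s) ^ e + t ^ e + s ^ e
    rw [add_comm t s]; ring
  have hBadd : ∀ s s' t, Bf (s + s') t = Bf s t + Bf s' t := hadd
  let B : F →+ F →+ F :=
    AddMonoidHom.mk' (fun s => AddMonoidHom.mk' (fun t => Bf s t) (by
      intro t t'
      show Bf s (t + t') = Bf s t + Bf s t'
      rw [hBsymm, hBadd, hBsymm t s, hBsymm t' s])) (by
      intro s s'
      ext t
      exact hBadd s s' t)
  have hB_apply : ∀ s t, B s t = Bf s t := fun s t => rfl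
  obtain ⟨S, c, hc⟩ := (Cfsg.Agent.S1140.result (F := F)).2.2 B
  -- extend coefficients by zero
  let c' : (F ≃+* F) × (F ≃+* F) → F := fun p => if p ∈ S then c p else 0
  have hc' : ∀ x y : F, Bf x y = ∑ p : (F ≃+* F) × (F ≃+* F), c' p * (p.1 x * p.2 y) := by
    intro x y
    rw [← hB_apply, hc x y, ← Finset.sum_subset (Finset.subset_univ S)]
    · apply Finset.sum_congr rfl
      intro p hp
      show c p * _ = (if p ∈ S then c p else 0) * _
      rw [if_pos hp]
    · intro p _ hp
      show (if p ∈ S then c p else 0) * _ = 0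
      rw [if_neg hp, zero_mul]
  have hscale : ∀ u x y : F, Bf (u * x) (u * y) = u ^ e * Bf x y := by
    intro u x y
    show (u * x + u * y) ^ e + (u * x) ^ e + (u * y) ^ e = u ^ e * ((x + y) ^ e + x ^ e + y ^ e)
    rw [← mul_add, mul_pow, mul_pow, mul_pow]; ring
  have hcoef : ∀ (u : F) (p : (F ≃+* F) × (F ≃+* F)), c' p * (p.1 u * p.2 u - u ^ e) = 0 := by
    intro u
    apply dbl_indep
    intro x y
    have h1 := hscale u x y
    rw [hc' (u * x) (u * y), hc' x y, Finset.mul_sum] at h1
    rw [← sub_eq_zero, ← Finset.sum_sub_distrib] at h1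
    rw [← h1]
    apply Finset.sum_congr rfl
    intro p _
    rw [map_mul, map_mul]; ring
  obtain ⟨s, t, hst⟩ := hne
  have hex : ∃ p, c' p ≠ 0 := by
    by_contra hall
    push Not at hall
    apply hst
    show Bf s t = 0
    rw [hc' s t]
    apply Finset.sum_eq_zero
    intro p _
    rw [hall p, zero_mul]
  obtain ⟨⟨σ, τ⟩, hp⟩ := hex
  have hform : ∀ u : F, u ^ e = σ u * τ u := by
    intro u
    have := hcoef u (σ, τ)
    rcases mul_eq_zero.mp this with h | h
    · exact absurd h hp
    · exact (sub_eq_zero.mp h).symm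
  refine ⟨σ, τ, ?_, hform⟩
  rintro rfl
  apply hst
  rw [hform, hform, hform, map_add]
  ring_nf
  have : σ s * σ t * 2 = 0 := by
    have h3 : (2 : F) = 0 := by
      have := h2 (1 : F)
      rw [← this]; norm_num
    rw [h3, mul_zero]
  linear_combination this + (h2 (σ s ^ 2)) + (h2 (σ t ^ 2))

omit [Fintype F] [CharP F 2] in
theorem sum_range_two_mul {M : Type*} [AddCommMonoid M] (g : ℕ → M) (m : ℕ) :
    ∑ j ∈ Finset.range (2 * m), g j = ∑ j ∈ Finset.range m, (g (2 * j) + g (2 * j + 1)) := by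
  induction m with
  | zero => simp
  | succ m ih =>
    rw [show 2 * (m + 1) = 2 * m + 1 + 1 by ring, Finset.sum_range_succ, Finset.sum_range_succ, ih,
      Finset.sum_range_succ, add_assoc]

omit [Fintype F] [CharP F 2] in
theorem ringAut_pow_succ_apply (φ : F ≃+* F) (j : ℕ) (u : F) : (φ ^ (j + 1)) u = φ ((φ ^ j) u) := by
  rw [pow_succ']; rfl

/-- if `t ↦ t * φ t` is injective then `φ` has odd order -/
theorem odd_orderOf_of_injective (φ : F ≃+* F)
    (hinj : Function.Injective (fun t : F => t * φ t)) : Odd (orderOf φ) := by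
  classical
  have h2 : ∀ x : F, x + x = 0 := CharTwo.add_self_eq_zero
  by_contra hodd
  rw [Nat.not_odd_iff_even] at hodd
  obtain ⟨m, hm⟩ := hodd
  have hm2 : orderOf φ = 2 * m := by omega
  have hpos : 0 < orderOf φ := orderOf_pos φ
  -- a trace-like element which is nonzero
  have hex : ∃ η : F, ∑ j ∈ Finset.range (2 * m), (φ ^ j) η ≠ 0 := by
    by_contra hall
    push Not at hall
    have hinjOn : Set.InjOn (fun j : ℕ => φ ^ j) (Finset.range (2 * m) : Set ℕ) := by
      intro i hi j hj hij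
      have := pow_injOn_Iio_orderOf (x := φ)
      apply this _ _ hij
      · rw [hm2]; simpa using hi
      · rw [hm2]; simpa using hj
    have hlin := linearIndependent_iff'.mp (aut_indep (F := F))
      ((Finset.range (2 * m)).image (fun j => φ ^ j)) (fun _ => 1) (by
        rw [Finset.sum_image hinjOn]
        funext η
        simp only [Finset.sum_apply, Pi.smul_apply, smul_eq_mul, one_mul, Pi.zero_apply]
        exact hall η) (φ ^ 0) (Finset.mem_image_of_mem _ (by rw [Finset.mem_range]; omega))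
    exact one_ne_zero hlin
  obtain ⟨η, hη⟩ := hex
  set g : ℕ → F := fun j => (φ ^ (2 * j)) η with hg
  set θ : F := ∑ j ∈ Finset.range m, g j with hθ
  have hg0 : g 0 = η := by
    show (φ ^ (2 * 0)) η = η
    rw [mul_zero, pow_zero]; rfl
  have hgm : g m = η := by
    show (φ ^ (2 * m)) η = η
    rw [← hm2, pow_orderOf_eq_one]; rfl
  have hgsucc : ∀ j, φ (φ (g j)) = g (j + 1) := by
    intro j
    show φ (φ ((φ ^ (2 * j)) η)) = (φ ^ (2 * (j + 1))) η
    rw [← ringAut_pow_succ_apply, ← ringAut_pow_succ_apply]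
    rfl
  have hθ2 : φ (φ θ) = θ := by
    rw [hθ, map_sum, map_sum]
    have h1 : ∑ j ∈ Finset.range m, φ (φ (g j)) = ∑ j ∈ Finset.range m, g (j + 1) :=
      Finset.sum_congr rfl (fun j _ => hgsucc j)
    rw [h1]
    have h3 := Finset.sum_range_succ' g m
    have h4 := Finset.sum_range_succ g m
    rw [h4, hg0, hgm] at h3
    exact (add_right_cancel h3).symm
  have hθ1 : φ θ ≠ θ := by
    intro heq
    apply hη
    rw [sum_range_two_mul]
    have h1 : ∀ j, (φ ^ (2 * j)) η + (φ ^ (2 * j + 1)) η = g j + φ (g j) := by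
      intro j
      rw [ringAut_pow_succ_apply]
    rw [Finset.sum_congr rfl (fun j _ => h1 j), Finset.sum_add_distrib, ← map_sum, ← hθ, heq, h2]
  have hθ0 : θ ≠ 0 := by
    intro h0
    apply hθ1
    rw [h0, map_zero]
  have hφθ0 : φ θ ≠ 0 := by
    intro h0
    apply hθ0
    exact (map_eq_zero_iff φ φ.injective).mp h0
  have hkey : (θ * (φ θ)⁻¹) * φ (θ * (φ θ)⁻¹) = 1 * φ 1 := by
    rw [map_mul, map_inv₀, hθ2, map_one]
    field_simp
  have h1 : θ * (φ θ)⁻¹ = 1 := hinj hkey
  apply hθ1
  field_simp at h1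
  exact h1.symm

end

end Cfsg.Agent.Lib.Helper19.Suz
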