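import Mathlib

/-!
# Central extensions with the same squaring map are isomorphic (helper19)
-/

set_option autoImplicit false
set_option linter.style.haveILetI false

namespace Cfsg.Agent.Lib.Helper19.Suz

/-- every subgroup of a finite group of exponent two has a complement -/
theorem exists_compl_of_exp_two {E : Type*} [Group E] [Finite E] (hexp : ∀ e : E, e * e = 1)
    (N : Subgroup E) : ∃ H : Subgroup E, H ⊓ N = ⊥ ∧ ∀ e : E, ∃ v ∈ H, ∃ n ∈ N, e = v * n := by
  have hinv : ∀ a : E, a⁻¹ = a := fun a => inv_eq_of_mul_eq_one_left (hexp a)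
  have hcomm : ∀ a b : E, a * b = b * a := by
    intro a b
    have h1 := hexp (a * b)
    have h2 : a * b = (a * b)⁻¹ := (hinv _).symm
    rw [h2, mul_inv_rev, hinv, hinv]
  obtain ⟨H, -, hH⟩ := Finite.exists_le_maximal (p := fun H : Subgroup E => H ⊓ N = ⊥)
    (a := ⊥) (by simp)
  refine ⟨H, hH.prop, ?_⟩
  intro e
  by_contra hcon
  push Not at hcon
  -- the subgroup generated by H and e
  let H₁ : Subgroup E :=
    { carrier := {x | x ∈ H ∨ x * e ∈ H}
      one_mem' := Or.inl H.one_mem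
      mul_mem' := by
        rintro x y (hx | hx) (hy | hy)
        · exact Or.inl (H.mul_mem hx hy)
        · right
          rw [mul_assoc]; exact H.mul_mem hx hy
        · right
          have : x * y * e = (x * e) * y := by
            rw [mul_assoc, hcomm y e, ← mul_assoc]
          rw [this]; exact H.mul_mem hx hy
        · left
          have : x * y = (x * e) * (y * e) := by
            calc x * y = x * y * (e * e) := by rw [hexp, mul_one]
              _ = (x * e) * (y * e) := by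
                  rw [mul_assoc x e, ← mul_assoc e y, hcomm e y, mul_assoc y e, ← mul_assoc x]
          rw [this]; exact H.mul_mem hx hy
      inv_mem' := by
        intro x hx
        rw [hinv]; exact hx }
  have hle : H ≤ H₁ := fun x hx => Or.inl hx
  have hH₁ : H₁ ⊓ N = ⊥ := by
    rw [eq_bot_iff]
    rintro x ⟨hx1, hxN⟩
    rcases hx1 with hx | hx
    · have : x ∈ H ⊓ N := ⟨hx, hxN⟩
      rw [hH.prop] at this
      exact this
    · exfalso
      apply hcon (x * e) hx x hxN
      calc e = (x * x) * e := by rw [hexp, one_mul]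
        _ = x * e * x := by rw [mul_assoc, mul_assoc, hcomm x e]
  have h2 : H₁ ≤ H := hH.le_of_ge hH₁ hle
  have he : e ∈ H₁ := Or.inr (by rw [hexp]; exact H.one_mem)
  exact hcon e (h2 he) 1 N.one_mem (mul_one e).symm

/-- Two central extensions of `W` with identified kernels and the same squaring map are
isomorphic. -/
theorem ext_iso {P A W : Type*} [Group P] [Group A] [Group W] [Finite P] [Finite A]
    (πP : P →* W) (πA : A →* W) (hπP : Function.Surjective πP) (hπA : Function.Surjective πA)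
    (hcP : πP.ker ≤ Subgroup.center P) (hcA : πA.ker ≤ Subgroup.center A)
    (ι : ↥πP.ker →* A) (hι_inj : Function.Injective ι) (hι_range : ι.range = πA.ker)
    (hsq : ∀ (p : P) (a : A), πP p = πA a → ∃ hz : p * p ∈ πP.ker, ι ⟨p * p, hz⟩ = a * a) :
    Nonempty (P ≃* A) := by
  classical
  have hιker : ∀ z : ↥πP.ker, πA (ι z) = 1 := by
    intro z
    have : ι z ∈ πA.ker := by rw [← hι_range]; exact ⟨z, rfl⟩
    exact MonoidHom.mem_ker.mp this
  let D : Subgroup (P × A) :=
    { carrier := {d | πP d.1 = πA d.2}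
      one_mem' := by simp
      mul_mem' := by
        intro x y hx hy
        have hx' : πP x.1 = πA x.2 := hx
        have hy' : πP y.1 = πA y.2 := hy
        show πP (x * y).1 = πA (x * y).2
        rw [Prod.fst_mul, Prod.snd_mul, map_mul, map_mul, hx', hy']
      inv_mem' := by
        intro x hx
        have hx' : πP x.1 = πA x.2 := hx
        show πP (x⁻¹).1 = πA (x⁻¹).2
        rw [Prod.fst_inv, Prod.snd_inv, map_inv, map_inv, hx'] }
  have hD : ∀ g : ↥D, πP g.1.1 = πA g.1.2 := fun g => g.2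
  let δ : ↥πP.ker →* ↥D :=
    { toFun := fun z => ⟨((z : P), ι z), by
        show πP (z : P) = πA (ι z)
        rw [hιker, MonoidHom.mem_ker.mp z.2]⟩
      map_one' := by
        apply Subtype.ext
        show (((1 : ↥πP.ker) : P), ι 1) = 1
        rw [map_one]; rfl
      map_mul' := by
        intro x y
        apply Subtype.ext
        show (((x * y : ↥πP.ker) : P), ι (x * y)) = ((x : P), ι x) * ((y : P), ι y)
        rw [map_mul]; rfl }
  have hδ1 : ∀ z, ((δ z : ↥D) : P × A).1 = (z : P) := fun z => rfl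
  have hδ2 : ∀ z, ((δ z : ↥D) : P × A).2 = ι z := fun z => rfl
  have hδcentral : ∀ (z : ↥πP.ker) (g : ↥D), g * δ z = δ z * g := by
    intro z g
    apply Subtype.ext
    apply Prod.ext
    · show g.1.1 * (z : P) = (z : P) * g.1.1
      exact (Subgroup.mem_center_iff.mp (hcP z.2)) g.1.1
    · show g.1.2 * ι z = ι z * g.1.2
      have : ι z ∈ πA.ker := MonoidHom.mem_ker.mpr (hιker z)
      exact (Subgroup.mem_center_iff.mp (hcA this)) g.1.2
  let Δ : Subgroup ↥D := δ.range
  haveI hΔn : Δ.Normal := by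
    constructor
    rintro n ⟨z, rfl⟩ g
    rw [hδcentral, mul_inv_cancel_right]
    exact ⟨z, rfl⟩
  let N : Subgroup ↥D :=
    { carrier := {g | g.1.1 ∈ πP.ker}
      one_mem' := by
        show ((1 : ↥D) : P × A).1 ∈ πP.ker
        exact πP.ker.one_mem
      mul_mem' := by
        intro x y hx hy
        show ((x * y : ↥D) : P × A).1 ∈ πP.ker
        exact πP.ker.mul_mem hx hy
      inv_mem' := by
        intro x hx
        show ((x⁻¹ : ↥D) : P × A).1 ∈ πP.ker
        exact πP.ker.inv_mem hx }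
  have hN : ∀ g : ↥D, g ∈ N ↔ g.1.1 ∈ πP.ker := fun g => Iff.rfl
  have hsqΔ : ∀ g : ↥D, g * g ∈ Δ := by
    intro g
    obtain ⟨hz, hι⟩ := hsq g.1.1 g.1.2 (hD g)
    refine ⟨⟨g.1.1 * g.1.1, hz⟩, ?_⟩
    apply Subtype.ext
    apply Prod.ext
    · rfl
    · exact hι
  have hexpE : ∀ e : ↥D ⧸ Δ, e * e = 1 := by
    intro e
    induction e using QuotientGroup.induction_on with
    | H g =>
      rw [← QuotientGroup.mk_mul, QuotientGroup.eq_one_iff]
      exact hsqΔ g
  obtain ⟨H₀, hH₀N, hH₀gen⟩ := exists_compl_of_exp_two hexpE (N.map (QuotientGroup.mk' Δ))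
  let H : Subgroup ↥D := H₀.comap (QuotientGroup.mk' Δ)
  have hΔH : Δ ≤ H := by
    intro x hx
    show QuotientGroup.mk' Δ x ∈ H₀
    have : QuotientGroup.mk' Δ x = 1 := (QuotientGroup.eq_one_iff x).mpr hx
    rw [this]; exact H₀.one_mem
  have hHN : ∀ h ∈ H, h ∈ N → h ∈ Δ := by
    intro h hh hn
    have h1 : QuotientGroup.mk' Δ h ∈ H₀ ⊓ N.map (QuotientGroup.mk' Δ) :=
      ⟨hh, Subgroup.mem_map_of_mem _ hn⟩
    rw [hH₀N, Subgroup.mem_bot] at h1
    exact (QuotientGroup.eq_one_iff h).mp h1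
  have hgen : ∀ g : ↥D, ∃ n ∈ N, g * n⁻¹ ∈ H := by
    intro g
    obtain ⟨v, hv, nb, hnb, hg⟩ := hH₀gen (QuotientGroup.mk' Δ g)
    obtain ⟨n, hn, rfl⟩ := hnb
    refine ⟨n, hn, ?_⟩
    show QuotientGroup.mk' Δ (g * n⁻¹) ∈ H₀
    rw [map_mul, map_inv, hg, mul_inv_cancel_right]
    exact hv
  -- the two projections
  let f₁ : ↥H →* P := (MonoidHom.fst P A).comp (D.subtype.comp H.subtype)
  let f₂ : ↥H →* A := (MonoidHom.snd P A).comp (D.subtype.comp H.subtype)
  have hf₁ : ∀ h : ↥H, f₁ h = h.1.1.1 := fun h => rfl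
  have hf₂ : ∀ h : ↥H, f₂ h = h.1.1.2 := fun h => rfl
  have hf₁bij : Function.Bijective f₁ := by
    constructor
    · rw [injective_iff_map_eq_one]
      intro h hh
      rw [hf₁] at hh
      have hn : h.1 ∈ N := by rw [hN, hh]; exact πP.ker.one_mem
      obtain ⟨z, hz⟩ := hHN h.1 h.2 hn
      have hz1 : (z : P) = 1 := by rw [← hδ1 z, hz, hh]
      have hz' : z = 1 := Subtype.ext hz1
      apply Subtype.ext
      rw [← hz, hz', map_one]; rfl
    · intro p
      obtain ⟨a, ha⟩ := hπA (πP p)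
      let g : ↥D := ⟨(p, a), ha.symm⟩
      obtain ⟨n, hnN, hgn⟩ := hgen g
      let z : ↥πP.ker := ⟨n.1.1, hnN⟩
      refine ⟨⟨g * n⁻¹ * δ z, H.mul_mem hgn (hΔH ⟨z, rfl⟩)⟩, ?_⟩
      rw [hf₁]
      show p * (n.1.1)⁻¹ * n.1.1 = p
      rw [inv_mul_cancel_right]
  have hf₂bij : Function.Bijective f₂ := by
    constructor
    · rw [injective_iff_map_eq_one]
      intro h hh
      rw [hf₂] at hh
      have hn : h.1 ∈ N := by
        rw [hN, MonoidHom.mem_ker, hD, hh, map_one]
      obtain ⟨z, hz⟩ := hHN h.1 h.2 hn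
      have hz1 : ι z = 1 := by rw [← hδ2 z, hz, hh]
      have hz' : z = 1 := hι_inj (by rw [hz1, map_one])
      apply Subtype.ext
      rw [← hz, hz', map_one]; rfl
    · intro a
      obtain ⟨p, hp⟩ := hπP (πA a)
      let g : ↥D := ⟨(p, a), hp⟩
      obtain ⟨n, hnN, hgn⟩ := hgen g
      have hn2 : n.1.2 ∈ ι.range := by
        rw [hι_range, MonoidHom.mem_ker, ← hD]
        exact MonoidHom.mem_ker.mp hnN
      obtain ⟨z, hz⟩ := hn2
      refine ⟨⟨g * n⁻¹ * δ z, H.mul_mem hgn (hΔH ⟨z, rfl⟩)⟩, ?_⟩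
      rw [hf₂]
      show a * (n.1.2)⁻¹ * ι z = a
      rw [hz, inv_mul_cancel_right]
  exact ⟨(MulEquiv.ofBijective f₁ hf₁bij).symm.trans (MulEquiv.ofBijective f₂ hf₂bij)⟩

end Cfsg.Agent.Lib.Helper19.Suz
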