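import Cfsg.Agent.Lib.Helper19.SuzHigCoords

/-!
# Higman's class-two theorem: the case `N` abelian is impossible, part 1 (helper19)
-/

set_option autoImplicit false
set_option linter.style.haveILetI false

namespace Cfsg.Agent.Lib.Helper19.Suz

variable {P : Type*} [Group P] {K : Subgroup (MulAut P)} {A : Subgroup P}

/-- the coordinate data produced by `AbHyp.coords` -/
structure CoordHyp (P : Type*) [Group P] (K : Subgroup (MulAut P)) (A : Subgroup P)
    (F : Type) [Field F] [Fintype F] [CharP F 2] (aZ : P → F) (κ : MulAut P → F)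
    (c : (F ≃+* F) → P → F) : Prop where
  ab : AbHyp P K A
  aZ_mul : ∀ z ∈ Z0 P, ∀ w ∈ Z0 P, aZ (z * w) = aZ z + aZ w
  aZ_inj : ∀ z ∈ Z0 P, aZ z = 0 → z = 1
  κ_ne : ∀ k ∈ K, κ k ≠ 0
  κ_surj : ∀ u : F, u ≠ 0 → ∃ k ∈ K, κ k = u
  aZ_κ : ∀ k ∈ K, ∀ z ∈ Z0 P, aZ (k z) = κ k * aZ z
  α_surj : ∀ u : F, ∃ a ∈ A, aZ (a * a) = u
  c_mul : ∀ τ x y, c τ (x * y) = c τ x + c τ y
  c_κ : ∀ τ, ∀ k ∈ K, ∀ x, c τ (k x) = κ k * (τ (κ k))⁻¹ * c τ x
  expand : ∀ x, ∀ a ∈ A, aZ (a⁻¹ * x⁻¹ * a * x) = ∑ τ : F ≃+* F, c τ x * τ (aZ (a * a))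

namespace CoordHyp

variable {F : Type} [Field F] [Fintype F] [CharP F 2] {aZ : P → F} {κ : MulAut P → F}
  {c : (F ≃+* F) → P → F}

section
variable (H : CoordHyp P K A F aZ κ c)
include H

theorem aZ_one : aZ 1 = 0 := by
  have := H.aZ_mul 1 (Subgroup.one_mem _) 1 (Subgroup.one_mem _)
  rw [mul_one] at this
  exact left_eq_add.mp this

theorem aZ_injOn {z w : P} (hz : z ∈ Z0 P) (hw : w ∈ Z0 P) (e : aZ z = aZ w) : z = w := by
  have h1 : aZ (z * w) = 0 := by rw [H.aZ_mul z hz w hw, e, CharTwo.add_self_eq_zero]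
  have h3 := H.aZ_inj _ (Subgroup.mul_mem _ hz hw) h1
  have h4 : z = w⁻¹ := eq_inv_of_mul_eq_one_left h3
  rw [h4, Z0_inv hw]

theorem c_one (τ : F ≃+* F) : c τ 1 = 0 := by
  have := H.c_mul τ 1 1
  rw [mul_one] at this
  exact left_eq_add.mp this

theorem c_inv (τ : F ≃+* F) (x : P) : c τ x⁻¹ = c τ x := by
  have h1 := H.c_mul τ x x⁻¹
  rw [mul_inv_cancel, H.c_one] at h1
  have h2 : c τ x⁻¹ = c τ x + (c τ x + c τ x⁻¹) := by
    rw [← add_assoc, CharTwo.add_self_eq_zero, zero_add]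
  rw [h2, ← h1, add_zero]

theorem c_pow (τ : F ≃+* F) (x : P) (n : ℕ) : c τ (x ^ n) = (n : F) * c τ x := by
  induction n with
  | zero => rw [pow_zero, H.c_one, Nat.cast_zero, zero_mul]
  | succ n ih => rw [pow_succ, H.c_mul, ih, Nat.cast_succ, add_mul, one_mul]

theorem c_list (τ : F ≃+* F) (l : List P) : c τ l.prod = (l.map (c τ)).sum := by
  induction l with
  | nil => simp [H.c_one]
  | cons g l ih => rw [List.prod_cons, H.c_mul, ih, List.map_cons, List.sum_cons]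

/-- the coefficient at the identity automorphism vanishes -/
theorem c_id (x : P) : c (1 : F ≃+* F) x = 0 := by
  obtain ⟨k, hk, hk1⟩ := H.ab.suz.exists_ne_one
  obtain ⟨y, hy⟩ := H.ab.suz.surj_inv_mul hk hk1 x
  rw [← hy, H.c_mul, H.c_inv, H.c_κ 1 k hk]
  have : (1 : F ≃+* F) (κ k) = κ k := rfl
  rw [this, mul_inv_cancel₀ (H.κ_ne k hk), one_mul, CharTwo.add_self_eq_zero]

/-- the centraliser of `A` in coordinates -/
theorem mem_C_iff (x : P) : (∀ a ∈ A, a * x = x * a) ↔ ∀ τ, c τ x = 0 := by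
  constructor
  · intro hx
    have hind := Fintype.linearIndependent_iff.mp (aut_indep (F := F))
    apply hind (fun τ => c τ x)
    funext u
    obtain ⟨a, ha, hau⟩ := H.α_surj u
    have h1 := H.expand x a ha
    have h2 : a⁻¹ * x⁻¹ * a * x = 1 := by
      rw [mul_assoc, hx a ha]; group
    rw [h2, H.aZ_one, hau] at h1
    simp only [Finset.sum_apply, Pi.smul_apply, smul_eq_mul, Pi.zero_apply]
    exact h1.symm
  · intro hx a ha
    have h1 := H.expand x a ha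
    simp only [hx, zero_mul, Finset.sum_const_zero] at h1
    have h2 := H.aZ_inj _ (H.ab.Acm a ha x) h1
    have : a * x = x * a * (a⁻¹ * x⁻¹ * a * x) := by group
    rw [this, h2, mul_one]

/-- pure components -/
theorem pure_comp (x : P) (τ₀ : F ≃+* F) :
    ∃ y : P, c τ₀ y = c τ₀ x ∧ ∀ τ, τ ≠ τ₀ → c τ y = 0 := by
  classical
  by_cases hτ₀ : τ₀ = 1
  · refine ⟨1, ?_, fun τ _ => H.c_one τ⟩
    rw [hτ₀, H.c_id, H.c_id]
  · haveI : Fintype Fˣ := Fintype.ofFinite _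
    obtain ⟨ε, hε1, hε0⟩ := pure_coeff τ₀ hτ₀
    have hk : ∀ u : Fˣ, ∃ k ∈ K, κ k = (u : F) := fun u => H.κ_surj u u.ne_zero
    choose kk hkK hkκ using hk
    let f : Fˣ → P := fun u => (kk u x) ^ (ε u)
    have hsum : ∀ τ : F ≃+* F, c τ ((Finset.univ : Finset Fˣ).toList.map f).prod
        = (∑ u : Fˣ, (ε u : F) * ((u : F) * (τ (u : F))⁻¹)) * c τ x := by
      intro τ
      rw [H.c_list, List.map_map, Finset.sum_map_toList, Finset.sum_mul]
      apply Finset.sum_congr rfl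
      intro u _
      show c τ ((kk u x) ^ (ε u)) = _
      rw [H.c_pow, H.c_κ τ (kk u) (hkK u), hkκ u]
      ring
    refine ⟨((Finset.univ : Finset Fˣ).toList.map f).prod, ?_, ?_⟩
    · rw [hsum, hε1, one_mul]
    · intro τ hτ
      rw [hsum, hε0 τ hτ, zero_mul]

/-- the centraliser of `A` is abelian -/
theorem C_comm {x y : P} (hx : ∀ τ, c τ x = 0) (hy : ∀ τ, c τ y = 0) : x * y = y * x := by
  by_contra hxy
  have hx' := (H.mem_C_iff x).mpr hx
  have hy' := (H.mem_C_iff y).mpr hy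
  let C : Subgroup P := Subgroup.centralizer (A : Set P)
  have hmem : ∀ g : P, g ∈ C ↔ ∀ a ∈ A, a * g = g * a := by
    intro g
    exact Subgroup.mem_centralizer_iff
  have hinv : ∀ k ∈ K, ∀ g ∈ C, k g ∈ C := by
    intro k hk g hg
    rw [hmem] at hg ⊢
    intro a ha
    have h1 := hg (k⁻¹ a) (H.ab.Ainv k⁻¹ (K.inv_mem hk) a ha)
    have h2 := congrArg k h1
    simpa using h2
  have hZ : Z0 P ≤ C := by
    intro z hz
    rw [hmem]
    intro a _
    exact Z0_central hz a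
  have hsq := H.ab.suz.sub_center_sq C hinv hZ
    ⟨x, (hmem x).mpr hx', y, (hmem y).mpr hy', hxy⟩
  obtain ⟨a₁, ha₁A, ha₁Z⟩ := H.ab.Ane
  apply ha₁Z
  apply H.ab.suz.mem_Z0_iff.mpr
  apply hsq a₁
  · rw [hmem]
    intro a ha
    exact H.ab.Acomm a ha a₁ ha₁A
  · intro g hg
    exact ((hmem g).mp hg a₁ ha₁A).symm

/-- `Ω₂(C) = A` -/
theorem omega_two {g : P} (hg : ∀ τ, c τ g = 0) (h4 : (g * g) * (g * g) = 1) : g ∈ A := by
  have hg' := (H.mem_C_iff g).mpr hg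
  have hgZ : g * g ∈ Z0 P := H.ab.suz.mem_Z0_iff.mpr h4
  obtain ⟨a, ha, hau⟩ := H.α_surj (aZ (g * g))
  have hsq : a * a = g * g := H.aZ_injOn (H.ab.Asq a ha) hgZ hau
  have hc : a⁻¹ * g = g * a⁻¹ := hg' _ (A.inv_mem ha)
  have hz : g * a⁻¹ ∈ Z0 P := by
    apply H.ab.suz.mem_Z0_iff.mpr
    calc g * a⁻¹ * (g * a⁻¹) = g * (a⁻¹ * g) * a⁻¹ := by group
      _ = g * (g * a⁻¹) * a⁻¹ := by rw [hc]
      _ = (g * g) * (a⁻¹ * a⁻¹) := by group
      _ = (a * a) * (a⁻¹ * a⁻¹) := by rw [hsq]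
      _ = 1 := by group
  have : g = (g * a⁻¹) * a := by group
  rw [this]
  exact A.mul_mem (H.ab.ZA hz) ha

/-- a pure element with nonzero coefficient centralises only `Z` in `A` -/
theorem pure_CA {x : P} {τ : F ≃+* F} (hp : ∀ τ', τ' ≠ τ → c τ' x = 0) (hne : c τ x ≠ 0)
    {a : P} (ha : a ∈ A) (hax : a * x = x * a) : a ∈ Z0 P := by
  have h1 := H.expand x a ha
  have h2 : a⁻¹ * x⁻¹ * a * x = 1 := by
    rw [mul_assoc, hax]; group
  rw [h2, H.aZ_one, Finset.sum_eq_single τ (fun τ' _ hτ' => by rw [hp τ' hτ', zero_mul])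
    (fun hτ => absurd (Finset.mem_univ τ) hτ)] at h1
  have h3 : τ (aZ (a * a)) = 0 := by
    rcases mul_eq_zero.mp h1.symm with h | h
    · exact absurd h hne
    · exact h
  have h4 : aZ (a * a) = 0 := (map_eq_zero τ).mp h3
  have h5 := H.aZ_inj _ (H.ab.Asq a ha) h4
  exact H.ab.suz.mem_Z0_iff.mpr h5

/-- a pure element with nonzero coefficient centralises only `Z` in `C` -/
theorem pure_CC {x : P} {τ : F ≃+* F} (hp : ∀ τ', τ' ≠ τ → c τ' x = 0) (hne : c τ x ≠ 0)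
    {g : P} (hg : ∀ τ, c τ g = 0) (hgx : g * x = x * g) : g ∈ Z0 P := by
  haveI := H.ab.suz.fin
  by_contra hgZ
  have hgg : g * g ≠ 1 := fun e => hgZ (H.ab.suz.mem_Z0_iff.mpr e)
  obtain ⟨n, hn1, hn2⟩ := exists_pow_involution H.ab.suz.pgrp hgg
  have hpow : (g * g) ^ n = g ^ n * g ^ n := (Commute.refl g).mul_pow n
  rw [hpow] at hn1 hn2
  have hbC : ∀ τ, c τ (g ^ n) = 0 := by
    intro τ
    rw [H.c_pow, hg, mul_zero]
  have hbA : g ^ n ∈ A := H.omega_two hbC hn2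
  have hcomm : g ^ n * x = x * g ^ n := by
    have : Commute g x := hgx
    exact this.pow_left n
  have hbZ := H.pure_CA hp hne hbA hcomm
  exact hn1 hbZ.2

/-- a pure element with nonzero coefficient has central square -/
theorem pure_sq {x : P} {τ : F ≃+* F} (hp : ∀ τ', τ' ≠ τ → c τ' x = 0) (hne : c τ x ≠ 0) :
    x * x ∈ Z0 P := by
  apply H.pure_CC hp hne
  · intro τ'
    rw [H.c_mul, CharTwo.add_self_eq_zero]
  · rw [mul_assoc]

/-- a pure element with nonzero coefficient inverts `C` modulo `Z` -/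
theorem pure_invert {x : P} {τ : F ≃+* F} (hp : ∀ τ', τ' ≠ τ → c τ' x = 0) (hne : c τ x ≠ 0)
    {g : P} (hg : ∀ τ, c τ g = 0) : x⁻¹ * g * x * g ∈ Z0 P := by
  have h1 : (x * g) * (x * g) ∈ Z0 P := by
    apply H.pure_sq (τ := τ)
    · intro τ' hτ'
      rw [H.c_mul, hp τ' hτ', hg, add_zero]
    · rw [H.c_mul, hg, add_zero]; exact hne
  have h2 := H.pure_sq hp hne
  have : x⁻¹ * g * x * g = (x * x)⁻¹ * ((x * g) * (x * g)) := by group
  rw [this]
  exact Subgroup.mul_mem _ (Subgroup.inv_mem _ h2) h1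

end

end CoordHyp

end Cfsg.Agent.Lib.Helper19.Suz
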