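import Cfsg.Agent.Lib.Helper19.SuzHigAb

/-!
# Higman's class-two theorem: the case `N` abelian is impossible, part 2 (helper19)
-/

set_option autoImplicit false
set_option linter.style.haveILetI false

namespace Cfsg.Agent.Lib.Helper19.Suz

variable {P : Type*} [Group P] {K : Subgroup (MulAut P)} {A : Subgroup P}

namespace CoordHyp

variable {F : Type} [Field F] [Fintype F] [CharP F 2] {aZ : P → F} {κ : MulAut P → F}
  {c : (F ≃+* F) → P → F}

section
variable (H : CoordHyp P K A F aZ κ c)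
include H

/-- given one pure element with nonzero coefficient, `C ≤ A` -/
theorem C_le_A_of_pure {x : P} {τ : F ≃+* F} (hp : ∀ τ', τ' ≠ τ → c τ' x = 0) (hne : c τ x ≠ 0)
    {g : P} (hg : ∀ τ, c τ g = 0) : g ∈ A := by
  -- τ is not the identity
  have hτ1 : τ ≠ 1 := by
    rintro rfl
    exact hne (H.c_id x)
  obtain ⟨u, hu⟩ : ∃ u : F, τ u ≠ u := by
    by_contra hcon
    push Not at hcon
    apply hτ1
    ext v
    exact hcon v
  have hu0 : u ≠ 0 := by
    rintro rfl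
    exact hu (map_zero τ)
  have hτu0 : τ u ≠ 0 := fun e => hu0 ((map_eq_zero τ).mp e)
  obtain ⟨k, hk, hkκ⟩ := H.κ_surj u hu0
  set χ : F := u * (τ u)⁻¹ with hχ
  have hχ1 : χ ≠ 1 := by
    intro e
    apply hu
    have := congrArg (· * τ u) e
    simp only [hχ, one_mul] at this
    rw [mul_assoc, inv_mul_cancel₀ hτu0, mul_one] at this
    exact this.symm
  -- the three pure elements
  have hcx' : ∀ τ', c τ' (k x) = κ k * (τ' (κ k))⁻¹ * c τ' x := fun τ' => H.c_κ τ' k hk x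
  have hp' : ∀ τ', τ' ≠ τ → c τ' (k x) = 0 := by
    intro τ' hτ'
    rw [hcx', hp τ' hτ', mul_zero]
  have hne' : c τ (k x) ≠ 0 := by
    rw [hcx', hkκ]
    exact mul_ne_zero (mul_ne_zero hu0 (inv_ne_zero hτu0)) hne
  have hp'' : ∀ τ', τ' ≠ τ → c τ' (x * k x) = 0 := by
    intro τ' hτ'
    rw [H.c_mul, hp τ' hτ', hp' τ' hτ', add_zero]
  have hne'' : c τ (x * k x) ≠ 0 := by
    rw [H.c_mul, hcx', hkκ]
    have : c τ x + u * (τ u)⁻¹ * c τ x = (1 + χ) * c τ x := by rw [hχ]; ring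
    rw [this]
    apply mul_ne_zero _ hne
    intro e
    apply hχ1
    have h2 : χ = 1 + (1 + χ) := by rw [← add_assoc, CharTwo.add_self_eq_zero, zero_add]
    rw [h2, e, add_zero]
  have hginv : ∀ τ, c τ g⁻¹ = 0 := fun τ => by rw [H.c_inv, hg]
  have hz1 := H.pure_invert hp hne hg
  have hz2 := H.pure_invert hp' hne' hginv
  have hz3 := H.pure_invert hp'' hne'' hg
  set x' := k x with hx'
  set z₁ := x⁻¹ * g * x * g with hz1d
  set z₂ := x'⁻¹ * g⁻¹ * x' * g⁻¹ with hz2d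
  set z₃ := (x * x')⁻¹ * g * (x * x') * g with hz3d
  have e1 : x⁻¹ * g * x = z₁ * g⁻¹ := by rw [hz1d]; group
  have e2 : x'⁻¹ * g⁻¹ * x' = z₂ * g := by rw [hz2d]; group
  have e3 : z₃ = z₁ * z₂ * (g * g) := by
    calc z₃ = x'⁻¹ * (x⁻¹ * g * x) * x' * g := by rw [hz3d]; group
      _ = x'⁻¹ * (z₁ * g⁻¹) * x' * g := by rw [e1]
      _ = (x'⁻¹ * z₁ * x') * (x'⁻¹ * g⁻¹ * x') * g := by group
      _ = z₁ * (z₂ * g) * g := by rw [Z0_conj hz1, e2]
      _ = z₁ * z₂ * (g * g) := by group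
  have hgg : g * g ∈ Z0 P := by
    have : g * g = (z₁ * z₂)⁻¹ * z₃ := by rw [e3]; group
    rw [this]
    exact Subgroup.mul_mem _ (Subgroup.inv_mem _ (Subgroup.mul_mem _ hz1 hz2)) hz3
  exact H.omega_two hg hgg.2

/-- there is a pure element with nonzero coefficient -/
theorem exists_pure : ∃ (τ : F ≃+* F) (x : P), (∀ τ', τ' ≠ τ → c τ' x = 0) ∧ c τ x ≠ 0 := by
  by_contra hcon
  push Not at hcon
  have hall : ∀ (g : P) (τ : F ≃+* F), c τ g = 0 := by
    intro g τ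
    obtain ⟨y, hy1, hy2⟩ := H.pure_comp g τ
    rw [← hy1]
    exact hcon τ y hy2
  obtain ⟨a₁, ha₁A, ha₁Z⟩ := H.ab.Ane
  apply ha₁Z
  apply H.ab.suz.mem_Z0_iff.mpr
  apply H.ab.suz.center_sq H.ab.na
  rw [Subgroup.mem_center_iff]
  intro g
  exact ((H.mem_C_iff g).mpr (hall g) a₁ ha₁A).symm

/-- `C = A` -/
theorem C_le_A {g : P} (hg : ∀ τ, c τ g = 0) : g ∈ A := by
  obtain ⟨τ, x, hp, hne⟩ := H.exists_pure
  exact H.C_le_A_of_pure hp hne hg

theorem c_of_mem_A {a : P} (ha : a ∈ A) (τ : F ≃+* F) : c τ a = 0 := by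
  apply (H.mem_C_iff a).mp
  intro b hb
  exact H.ab.Acomm b hb a ha

/-- every pure element has central square -/
theorem pure_sq' {x : P} {τ : F ≃+* F} (hp : ∀ τ', τ' ≠ τ → c τ' x = 0) : x * x ∈ Z0 P := by
  by_cases hne : c τ x = 0
  · apply H.ab.Asq
    apply H.C_le_A
    intro τ'
    by_cases hτ' : τ' = τ
    · rw [hτ', hne]
    · exact hp τ' hτ'
  · exact H.pure_sq hp hne

/-- commutators lie in `A` -/
theorem comm_mem_A (x y : P) : x⁻¹ * y⁻¹ * x * y ∈ A := by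
  apply H.C_le_A
  intro τ
  rw [H.c_mul, H.c_mul, H.c_mul, H.c_inv, H.c_inv]
  have : c τ x + c τ y + c τ x + c τ y = (c τ x + c τ x) + (c τ y + c τ y) := by ring
  rw [this, CharTwo.add_self_eq_zero, CharTwo.add_self_eq_zero, add_zero]

/-- `α` is additive on `A` -/
theorem α_mul {a b : P} (ha : a ∈ A) (hb : b ∈ A) :
    aZ (a * b * (a * b)) = aZ (a * a) + aZ (b * b) := by
  have hc : b * a = a * b := H.ab.Acomm b hb a ha
  have e1 : a * b * (a * b) = (a * a) * (b * b) := by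
    calc a * b * (a * b) = a * (b * a) * b := by group
      _ = a * (a * b) * b := by rw [hc]
      _ = (a * a) * (b * b) := by group
  rw [e1, H.aZ_mul _ (H.ab.Asq a ha) _ (H.ab.Asq b hb)]

theorem α_Z {z : P} (hz : z ∈ Z0 P) : aZ (z * z) = 0 := by
  rw [hz.2, H.aZ_one]

end

/-- the form `β(x, y) = α([x, y])` -/
def beta (aZ : P → F) (x y : P) : F := aZ ((x⁻¹ * y⁻¹ * x * y) * (x⁻¹ * y⁻¹ * x * y))

section
variable (H : CoordHyp P K A F aZ κ c)
include H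

theorem beta_symm (x y : P) : beta aZ y x = beta aZ x y := by
  unfold beta
  have hw := H.comm_mem_A x y
  have e : y⁻¹ * x⁻¹ * y * x = (x⁻¹ * y⁻¹ * x * y)⁻¹ := by group
  rw [e, ← mul_inv_rev, Z0_inv (H.ab.Asq _ hw)]

theorem beta_mul_left (x x' y : P) : beta aZ (x * x') y = beta aZ x y + beta aZ x' y := by
  unfold beta
  have hw := H.comm_mem_A x y
  have hw' := H.comm_mem_A x' y
  set w := x⁻¹ * y⁻¹ * x * y with hwd
  set w' := x'⁻¹ * y⁻¹ * x' * y with hwd'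
  have hz := H.ab.Acm w hw x'
  set z := w⁻¹ * x'⁻¹ * w * x' with hzd
  have e : (x * x')⁻¹ * y⁻¹ * (x * x') * y = (w * z) * w' := by
    rw [hzd, hwd, hwd']; group
  rw [e, H.α_mul (A.mul_mem hw (H.ab.ZA hz)) hw', H.α_mul hw (H.ab.ZA hz), H.α_Z hz, add_zero]

theorem beta_κ {k : MulAut P} (hk : k ∈ K) (x y : P) :
    beta aZ (k x) (k y) = κ k * beta aZ x y := by
  unfold beta
  have hw := H.comm_mem_A x y
  have e : ((k x)⁻¹ * (k y)⁻¹ * k x * k y) * ((k x)⁻¹ * (k y)⁻¹ * k x * k y)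
      = k ((x⁻¹ * y⁻¹ * x * y) * (x⁻¹ * y⁻¹ * x * y)) := by
    simp only [map_mul, map_inv]
  rw [e, H.aZ_κ k hk _ (H.ab.Asq _ hw)]

/-- the basic relation for a pure element -/
theorem beta_pure {x : P} {τ : F ≃+* F} (hp : ∀ τ', τ' ≠ τ → c τ' x = 0) (y : P) :
    c τ x * τ (beta aZ x y) = beta aZ x y := by
  have hxx := H.pure_sq' hp
  have hw := H.comm_mem_A x y
  unfold beta
  set w := x⁻¹ * y⁻¹ * x * y with hwd
  -- [x*x, y] = 1
  have e1 : (x * x)⁻¹ * y⁻¹ * (x * x) * y = 1 := by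
    rw [mul_assoc ((x * x)⁻¹ * y⁻¹), ← Z0_central hxx y]; group
  have e2 : (x * x)⁻¹ * y⁻¹ * (x * x) * y = x⁻¹ * w * x * w := by rw [hwd]; group
  rw [e2] at e1
  have e3 : w⁻¹ * x⁻¹ * w * x = (w * w)⁻¹ := by
    have : x⁻¹ * w * x = w⁻¹ := eq_inv_of_mul_eq_one_left e1
    calc w⁻¹ * x⁻¹ * w * x = w⁻¹ * (x⁻¹ * w * x) := by group
      _ = w⁻¹ * w⁻¹ := by rw [this]
      _ = (w * w)⁻¹ := by group
  have h1 := H.expand x w hw
  rw [e3, Z0_inv (H.ab.Asq w hw), Finset.sum_eq_single τ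
    (fun τ' _ hτ' => by rw [hp τ' hτ', zero_mul])
    (fun hτ => absurd (Finset.mem_univ τ) hτ)] at h1
  exact h1.symm

/-- twisting the first variable of `β` by `K` -/
theorem beta_twist {x : P} {τ : F ≃+* F} (hp : ∀ τ', τ' ≠ τ → c τ' x = 0) (hne : c τ x ≠ 0)
    {k : MulAut P} (hk : k ∈ K) (y : P) :
    τ (beta aZ (k x) y) = κ k * (τ (κ k))⁻¹ * τ (beta aZ x y) := by
  have hcx' : ∀ τ', c τ' (k x) = κ k * (τ' (κ k))⁻¹ * c τ' x := fun τ' => H.c_κ τ' k hk x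
  have hp' : ∀ τ', τ' ≠ τ → c τ' (k x) = 0 := by
    intro τ' hτ'
    rw [hcx', hp τ' hτ', mul_zero]
  have hp'' : ∀ τ', τ' ≠ τ → c τ' (x * k x) = 0 := by
    intro τ' hτ'
    rw [H.c_mul, hp τ' hτ', hp' τ' hτ', add_zero]
  have r1 := H.beta_pure hp y
  have r2 := H.beta_pure hp' y
  have r3 := H.beta_pure hp'' y
  rw [H.beta_mul_left, H.c_mul, map_add] at r3
  set b := beta aZ x y with hb
  set b' := beta aZ (k x) y with hb'
  set cc := c τ x with hcc
  set cc' := c τ (k x) with hcc'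
  -- cc * τ b' + cc' * τ b = 0
  have r4 : cc * τ b' = cc' * τ b := by
    have e : cc * τ b' + cc' * τ b = 0 := by
      have : cc * τ b' + cc' * τ b
          = (cc + cc') * (τ b + τ b') - cc * τ b - cc' * τ b' := by ring
      rw [this, r3, r1, r2]
      ring
    have e2 : cc * τ b' = cc * τ b' + cc' * τ b + cc' * τ b := by
      rw [add_assoc, CharTwo.add_self_eq_zero, add_zero]
    rw [e2, e, zero_add]
  have r5 : cc' = κ k * (τ (κ k))⁻¹ * cc := hcx' τ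
  rw [r5] at r4
  have : cc * τ b' = cc * (κ k * (τ (κ k))⁻¹ * τ b) := by rw [r4]; ring
  exact mul_left_cancel₀ hne this

end

end CoordHyp

end Cfsg.Agent.Lib.Helper19.Suz
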