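import Mathlib

/-!
# Anisotropic quadratic maps over `𝔽₂` via Chevalley–Warning (helper19)

`quad_card_le`: if `V`, `W` are finite elementary abelian 2-groups and `S : V → W` is a quadratic
map (with biadditive polarisation `B`) without nontrivial zero, then `|V| ≤ |W|²`.
-/

set_option autoImplicit false
set_option linter.style.haveILetI false

namespace Cfsg.Agent.Lib.Helper19.Suz

open MvPolynomial in
/-- a function on `𝔽₂^σ` with biadditive polarisation is a polynomial of degree at most two -/
theorem quad_poly {σ : Type*} [Fintype σ] [DecidableEq σ] (f : (σ → ZMod 2) → ZMod 2)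
    (B : (σ → ZMod 2) → (σ → ZMod 2) → ZMod 2)
    (hf : ∀ x y, f (x + y) = f x + f y + B x y)
    (hB1 : ∀ x y z, B (x + y) z = B x z + B y z) (hB2 : ∀ x y z, B x (y + z) = B x y + B x z) :
    ∃ p : MvPolynomial σ (ZMod 2), p.totalDegree ≤ 2 ∧ ∀ x, eval x p = f x := by
  have hB0l : ∀ z, B 0 z = 0 := by
    intro z
    have := hB1 0 0 z
    rw [add_zero] at this
    exact left_eq_add.mp this
  have hB0r : ∀ z, B z 0 = 0 := by
    intro z
    have := hB2 z 0 0
    rw [add_zero] at this
    exact left_eq_add.mp this
  have hf0 : f 0 = 0 := by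
    have := hf 0 0
    rw [add_zero, hB0l, add_zero] at this
    exact left_eq_add.mp this
  have h01 : ∀ t : ZMod 2, t = 0 ∨ t = 1 := by decide
  have hfs : ∀ (a : σ) (t : ZMod 2), f (Pi.single a t) = t * f (Pi.single a 1) := by
    intro a t
    rcases h01 t with rfl | rfl
    · rw [Pi.single_zero, hf0, zero_mul]
    · rw [one_mul]
  have hBs : ∀ (a : σ) (t : ZMod 2) (y : σ → ZMod 2),
      B (Pi.single a t) y = t * B (Pi.single a 1) y := by
    intro a t y
    rcases h01 t with rfl | rfl
    · rw [Pi.single_zero, hB0l, zero_mul]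
    · rw [one_mul]
  have hBs' : ∀ (a : σ) (t : ZMod 2) (y : σ → ZMod 2),
      B y (Pi.single a t) = t * B y (Pi.single a 1) := by
    intro a t y
    rcases h01 t with rfl | rfl
    · rw [Pi.single_zero, hB0r, zero_mul]
    · rw [one_mul]
  have hBsum : ∀ (e : σ → ZMod 2) (s : Finset σ) (g : σ → (σ → ZMod 2)),
      B e (∑ j ∈ s, g j) = ∑ j ∈ s, B e (g j) := by
    intro e s g
    exact map_sum (AddMonoidHom.mk' (B e) (hB2 e)) g s
  have key : ∀ s : Finset σ, ∃ p : MvPolynomial σ (ZMod 2), p.totalDegree ≤ 2 ∧
      ∀ x : σ → ZMod 2, eval x p = f (∑ j ∈ s, Pi.single j (x j)) := by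
    intro s
    induction s using Finset.induction_on with
    | empty => exact ⟨0, by simp, fun x => by simp [hf0]⟩
    | insert a s ha ih =>
      obtain ⟨p, hp, hpe⟩ := ih
      refine ⟨X a * C (f (Pi.single a 1)) + p
        + X a * ∑ j ∈ s, C (B (Pi.single a 1) (Pi.single j 1)) * X j, ?_, ?_⟩
      · have d1 : (X a * C (f (Pi.single a 1)) : MvPolynomial σ (ZMod 2)).totalDegree ≤ 2 := by
          refine le_trans (totalDegree_mul _ _) ?_
          rw [totalDegree_X, totalDegree_C]
          omega
        have d2 : (∑ j ∈ s, C (B (Pi.single a 1) (Pi.single j 1)) * X j :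
            MvPolynomial σ (ZMod 2)).totalDegree ≤ 1 := by
          refine le_trans (totalDegree_finsetSum _ _) ?_
          apply Finset.sup_le
          intro j _
          refine le_trans (totalDegree_mul _ _) ?_
          rw [totalDegree_X, totalDegree_C]
        have d3 : (X a * ∑ j ∈ s, C (B (Pi.single a 1) (Pi.single j 1)) * X j :
            MvPolynomial σ (ZMod 2)).totalDegree ≤ 2 := by
          refine le_trans (totalDegree_mul _ _) ?_
          rw [totalDegree_X]
          omega
        refine le_trans (totalDegree_add _ _) (max_le ?_ d3)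
        exact le_trans (totalDegree_add _ _) (max_le d1 hp)
      · intro x
        have e1 : f (∑ j ∈ insert a s, Pi.single j (x j))
            = x a * f (Pi.single a 1) + f (∑ j ∈ s, Pi.single j (x j))
              + x a * ∑ j ∈ s, B (Pi.single a 1) (Pi.single j 1) * x j := by
          rw [Finset.sum_insert ha, hf, hfs a (x a), hBs a (x a), hBsum]
          have : ∀ j ∈ s, B (Pi.single a 1) (Pi.single j (x j))
              = B (Pi.single a 1) (Pi.single j 1) * x j := by
            intro j _
            rw [hBs', mul_comm]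
          rw [Finset.sum_congr rfl this]
        rw [e1]
        simp only [map_add, map_mul, eval_X, eval_C, map_sum, hpe]
  obtain ⟨p, hp, hpe⟩ := key Finset.univ
  refine ⟨p, hp, fun x => ?_⟩
  rw [hpe, Finset.univ_sum_single]

/-- rank bound for anisotropic quadratic maps over `𝔽₂` -/
theorem quad_rank_le {V W : Type*} [AddCommGroup V] [Module (ZMod 2) V] [Finite V]
    [AddCommGroup W] [Module (ZMod 2) W] [Finite W]
    (S : V → W) (B : V → V → W) (hS : ∀ x y, S (x + y) = S x + S y + B x y)
    (hB1 : ∀ x y z, B (x + y) z = B x z + B y z) (hB2 : ∀ x y z, B x (y + z) = B x y + B x z)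
    (hani : ∀ v, S v = 0 → v = 0) :
    Module.finrank (ZMod 2) V ≤ 2 * Module.finrank (ZMod 2) W := by
  classical
  by_contra hlt
  push Not at hlt
  haveI : Module.Finite (ZMod 2) V := Module.Finite.of_finite
  haveI : Module.Finite (ZMod 2) W := Module.Finite.of_finite
  let bV := Module.finBasis (ZMod 2) V
  let bW := Module.finBasis (ZMod 2) W
  let φ := bV.equivFun
  let ψ := bW.equivFun
  have hB0l : ∀ z, B 0 z = 0 := by
    intro z
    have := hB1 0 0 z
    rw [add_zero] at this
    exact left_eq_add.mp this
  have hS0 : S 0 = 0 := by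
    have := hS 0 0
    rw [add_zero, hB0l, add_zero] at this
    exact left_eq_add.mp this
  have hex : ∀ i : Fin (Module.finrank (ZMod 2) W), ∃ p : MvPolynomial
      (Fin (Module.finrank (ZMod 2) V)) (ZMod 2), p.totalDegree ≤ 2 ∧
      ∀ x, MvPolynomial.eval x p = ψ (S (φ.symm x)) i := by
    intro i
    apply quad_poly (fun x => ψ (S (φ.symm x)) i) (fun x y => ψ (B (φ.symm x) (φ.symm y)) i)
    · intro x y
      show ψ (S (φ.symm (x + y))) i = _
      rw [map_add, hS, map_add, map_add]
      rfl
    · intro x y z
      show ψ (B (φ.symm (x + y)) (φ.symm z)) i = _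
      rw [map_add, hB1, map_add]
      rfl
    · intro x y z
      show ψ (B (φ.symm x) (φ.symm (y + z))) i = _
      rw [map_add, hB2, map_add]
      rfl
  choose p hp hpe using hex
  have hdeg : ∑ i ∈ Finset.univ, (p i).totalDegree
      < Fintype.card (Fin (Module.finrank (ZMod 2) V)) := by
    rw [Fintype.card_fin]
    calc ∑ i ∈ Finset.univ, (p i).totalDegree
        ≤ ∑ _i : Fin (Module.finrank (ZMod 2) W), 2 := Finset.sum_le_sum (fun i _ => hp i)
      _ = 2 * Module.finrank (ZMod 2) W := by
          rw [Finset.sum_const, Finset.card_univ, Fintype.card_fin, smul_eq_mul, mul_comm]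
      _ < Module.finrank (ZMod 2) V := hlt
  have hdvd := char_dvd_card_solutions_of_sum_lt (K := ZMod 2) 2 hdeg
  have hone : Nat.card { x : Fin (Module.finrank (ZMod 2) V) → ZMod 2 //
      ∀ i ∈ Finset.univ, MvPolynomial.eval x (p i) = 0 } = 1 := by
    rw [Nat.card_eq_one_iff_unique]
    have hzero : ∀ y : { x : Fin (Module.finrank (ZMod 2) V) → ZMod 2 //
        ∀ i ∈ Finset.univ, MvPolynomial.eval x (p i) = 0 }, y.1 = 0 := by
      rintro ⟨y, hy⟩
      show y = 0
      have h1 : ψ (S (φ.symm y)) = 0 := by
        funext i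
        have := hy i (Finset.mem_univ i)
        rw [hpe] at this
        exact this
      have h2 : S (φ.symm y) = 0 := by
        have := congrArg ψ.symm h1
        rwa [LinearEquiv.symm_apply_apply, map_zero] at this
      have h3 := hani _ h2
      have := congrArg φ h3
      rwa [LinearEquiv.apply_symm_apply, map_zero] at this
    refine ⟨⟨fun a b => Subtype.ext ((hzero a).trans (hzero b).symm)⟩, ⟨⟨0, ?_⟩⟩⟩
    intro i _
    rw [hpe, map_zero, hS0, map_zero]
    rfl
  rw [Fintype.card_eq_nat_card, hone] at hdvd
  exact absurd hdvd (by norm_num)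

theorem comm_of_exp_two {G : Type*} [Group G] (hG : ∀ g : G, g * g = 1) (a b : G) :
    a * b = b * a := by
  have h1 : a⁻¹ = a := inv_eq_of_mul_eq_one_left (hG a)
  have h2 : b⁻¹ = b := inv_eq_of_mul_eq_one_left (hG b)
  have h3 : (a * b)⁻¹ = a * b := inv_eq_of_mul_eq_one_left (hG (a * b))
  rw [← h3, mul_inv_rev, h1, h2]

/-- cardinality bound for anisotropic quadratic maps between elementary abelian 2-groups -/
theorem quad_card_le {V W : Type*} [Group V] [Finite V] [Group W] [Finite W]
    (hV : ∀ v : V, v * v = 1) (hW : ∀ w : W, w * w = 1)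
    (S : V → W) (B : V → V → W) (hS : ∀ x y, S (x * y) = S x * S y * B x y)
    (hB1 : ∀ x y z, B (x * y) z = B x z * B y z) (hB2 : ∀ x y z, B x (y * z) = B x y * B x z)
    (hani : ∀ v, S v = 1 → v = 1) : Nat.card V ≤ Nat.card W ^ 2 := by
  letI : CommGroup V := { ‹Group V› with mul_comm := comm_of_exp_two hV }
  letI : CommGroup W := { ‹Group W› with mul_comm := comm_of_exp_two hW }
  letI : Module (ZMod 2) (Additive V) := AddCommGroup.zmodModule (by
    intro x
    show 2 • x = 0
    rw [two_nsmul]
    exact congrArg Additive.ofMul (hV x.toMul))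
  letI : Module (ZMod 2) (Additive W) := AddCommGroup.zmodModule (by
    intro x
    show 2 • x = 0
    rw [two_nsmul]
    exact congrArg Additive.ofMul (hW x.toMul))
  have hr := quad_rank_le (V := Additive V) (W := Additive W)
    (fun v => Additive.ofMul (S v.toMul)) (fun v w => Additive.ofMul (B v.toMul w.toMul))
    (by
      intro x y
      show Additive.ofMul (S (x.toMul * y.toMul)) = _
      rw [hS]; rfl)
    (by
      intro x y z
      show Additive.ofMul (B (x.toMul * y.toMul) z.toMul) = _
      rw [hB1]; rfl)
    (by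
      intro x y z
      show Additive.ofMul (B x.toMul (y.toMul * z.toMul)) = _
      rw [hB2]; rfl)
    (by
      intro v hv
      have h1 : S v.toMul = 1 := congrArg Additive.toMul hv
      have h2 := hani _ h1
      exact congrArg Additive.ofMul h2)
  have hcV : Nat.card V = 2 ^ Module.finrank (ZMod 2) (Additive V) := by
    have := Module.natCard_eq_pow_finrank (K := ZMod 2) (V := Additive V)
    rw [Nat.card_zmod] at this
    exact this
  have hcW : Nat.card W = 2 ^ Module.finrank (ZMod 2) (Additive W) := by
    have := Module.natCard_eq_pow_finrank (K := ZMod 2) (V := Additive W)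
    rw [Nat.card_zmod] at this
    exact this
  rw [hcV, hcW, ← pow_mul]
  apply Nat.pow_le_pow_right (by norm_num)
  rw [mul_comm]
  exact hr

end Cfsg.Agent.Lib.Helper19.Suz
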