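import Cfsg.Agent.Lib.Helper19.SuzExponent

/-!
# Field lemmas for Higman's class-two theorem on Suzuki 2-groups (helper19)

* `exists_coef`: coefficient functions of additive maps w.r.t. the automorphisms,
* `four_aut`: `σ₁ σ₂ = σ₃ σ₄` as functions forces `{σ₁, σ₂} = {σ₃, σ₄}`,
* `pure_coeff`: integer combinations of the characters `u ↦ u / τ u` isolating one `τ₀`.
-/

set_option autoImplicit false
set_option linter.style.haveILetI false

namespace Cfsg.Agent.Lib.Helper19.Suz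

section
variable {F : Type*} [Field F] [Fintype F] [CharP F 2]

/-- coefficient functions with respect to the automorphisms -/
theorem exists_coef : ∃ coef : (F →+ F) → (F ≃+* F) → F,
    (∀ (f : F →+ F) (x : F), f x = ∑ σ : F ≃+* F, coef f σ * σ x) ∧
    (∀ (f : F →+ F) (c : (F ≃+* F) → F), (∀ x, f x = ∑ σ : F ≃+* F, c σ * σ x) → c = coef f) := by
  classical
  have h2 := (Cfsg.Agent.S1140.result (F := F)).2.1
  choose s c hc using h2
  have hex : ∀ (f : F →+ F) (x : F),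
      f x = ∑ σ : F ≃+* F, (if σ ∈ s f then c f σ else 0) * σ x := by
    intro f x
    rw [hc f x]
    simp only [ite_mul, zero_mul]
    rw [Finset.sum_ite_mem, Finset.univ_inter]
  refine ⟨fun f σ => if σ ∈ s f then c f σ else 0, hex, ?_⟩
  intro f c' hc'
  have hind := Fintype.linearIndependent_iff.mp (aut_indep (F := F))
  funext σ
  have h0 := hind (fun σ => c' σ - (if σ ∈ s f then c f σ else 0)) (by
    funext x
    simp only [Finset.sum_apply, Pi.smul_apply, smul_eq_mul, Pi.zero_apply]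
    have h1 := hc' x
    have h3 := hex f x
    have : ∑ σ : F ≃+* F, (c' σ - (if σ ∈ s f then c f σ else 0)) * σ x
        = (∑ σ : F ≃+* F, c' σ * σ x) - ∑ σ : F ≃+* F, (if σ ∈ s f then c f σ else 0) * σ x := by
      rw [← Finset.sum_sub_distrib]
      apply Finset.sum_congr rfl
      intro σ _
      ring
    show ∑ σ : F ≃+* F, (c' σ - (if σ ∈ s f then c f σ else 0)) * ((σ : F →+* F) : F → F) x = 0
    rw [show (∑ σ : F ≃+* F, (c' σ - (if σ ∈ s f then c f σ else 0)) * ((σ : F →+* F) : F → F) x)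
      = ∑ σ : F ≃+* F, (c' σ - (if σ ∈ s f then c f σ else 0)) * σ x from rfl, this, ← h1, ← h3,
      sub_self]) σ
  exact sub_eq_zero.mp h0

/-- if `σ₁ σ₂ = σ₃ σ₄` as functions then `{σ₁, σ₂} = {σ₃, σ₄}` -/
theorem four_aut (σ₁ σ₂ σ₃ σ₄ : F ≃+* F) (h : ∀ u : F, σ₁ u * σ₂ u = σ₃ u * σ₄ u) :
    (σ₁ = σ₃ ∧ σ₂ = σ₄) ∨ (σ₁ = σ₄ ∧ σ₂ = σ₃) := by
  classical
  have h2 : ∀ x : F, x + x = 0 := CharTwo.add_self_eq_zero
  have hpol : ∀ x y : F, σ₁ x * σ₂ y + σ₁ y * σ₂ x + σ₃ x * σ₄ y + σ₃ y * σ₄ x = 0 := by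
    intro x y
    have e1 := h (x + y)
    have e2 := h x
    have e3 := h y
    simp only [map_add] at e1
    have : σ₁ x * σ₂ y + σ₁ y * σ₂ x + σ₃ x * σ₄ y + σ₃ y * σ₄ x
        = ((σ₁ x + σ₁ y) * (σ₂ x + σ₂ y) - (σ₃ x + σ₃ y) * (σ₄ x + σ₄ y))
          - (σ₁ x * σ₂ x - σ₃ x * σ₄ x) - (σ₁ y * σ₂ y - σ₃ y * σ₄ y)
          + ((σ₃ x * σ₄ y + σ₃ x * σ₄ y) + (σ₃ y * σ₄ x + σ₃ y * σ₄ x)) := by ring
    rw [this, e1, e2, e3, h2, h2]; ring
  let d : (F ≃+* F) × (F ≃+* F) → F := fun p =>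
    (if p = (σ₁, σ₂) then 1 else 0) + (if p = (σ₂, σ₁) then 1 else 0)
      + (if p = (σ₃, σ₄) then 1 else 0) + (if p = (σ₄, σ₃) then 1 else 0)
  have hd := dbl_indep d (by
    intro x y
    simp only [d, add_mul, ite_mul, one_mul, zero_mul, Finset.sum_add_distrib,
      Finset.sum_ite_eq', Finset.mem_univ, if_true]
    have := hpol x y
    rw [← this]; ring)
  by_contra hcon
  push Not at hcon
  obtain ⟨hc1, hc2⟩ := hcon
  have hne1 : (σ₁, σ₂) ≠ (σ₃, σ₄) := by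
    intro he
    rw [Prod.mk.injEq] at he
    exact hc1 he.1 he.2
  have hne2 : (σ₁, σ₂) ≠ (σ₄, σ₃) := by
    intro he
    rw [Prod.mk.injEq] at he
    exact hc2 he.1 he.2
  have h12 : σ₁ = σ₂ := by
    by_contra hne
    have hne3 : (σ₁, σ₂) ≠ (σ₂, σ₁) := by
      intro he
      rw [Prod.mk.injEq] at he
      exact hne he.1
    have := hd (σ₁, σ₂)
    simp only [d, if_true, if_neg hne1, if_neg hne2, if_neg hne3, add_zero] at this
    exact one_ne_zero this
  have h34 : σ₃ = σ₄ := by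
    by_contra hne
    have hne3 : (σ₃, σ₄) ≠ (σ₄, σ₃) := by
      intro he
      rw [Prod.mk.injEq] at he
      exact hne he.1
    have hne1' : (σ₃, σ₄) ≠ (σ₁, σ₂) := fun he => hne1 he.symm
    have hne2' : (σ₃, σ₄) ≠ (σ₂, σ₁) := by
      intro he
      rw [Prod.mk.injEq] at he
      exact hc2 he.2.symm he.1.symm
    have := hd (σ₃, σ₄)
    simp only [d, if_true, if_neg hne1', if_neg hne2', if_neg hne3, add_zero, zero_add] at this
    exact one_ne_zero this
  apply hc1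
  · ext u
    have e := h u
    rw [← h12, ← h34] at e
    have e2 : (σ₁ u + σ₃ u) * (σ₁ u + σ₃ u) = 0 := by
      have : (σ₁ u + σ₃ u) * (σ₁ u + σ₃ u)
          = (σ₁ u * σ₁ u - σ₃ u * σ₃ u) + (σ₃ u * σ₃ u + σ₃ u * σ₃ u)
            + (σ₁ u * σ₃ u + σ₁ u * σ₃ u) := by ring
      rw [this, e, h2, h2]; ring
    have e3 : σ₁ u + σ₃ u = 0 := mul_self_eq_zero.mp e2
    have e4 : σ₁ u = σ₁ u + σ₃ u + σ₃ u := by rw [add_assoc, h2, add_zero]
    rw [e4, e3, zero_add]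
  · have : σ₁ = σ₃ := by
      ext u
      have e := h u
      rw [← h12, ← h34] at e
      have e2 : (σ₁ u + σ₃ u) * (σ₁ u + σ₃ u) = 0 := by
        have : (σ₁ u + σ₃ u) * (σ₁ u + σ₃ u)
            = (σ₁ u * σ₁ u - σ₃ u * σ₃ u) + (σ₃ u * σ₃ u + σ₃ u * σ₃ u)
              + (σ₁ u * σ₃ u + σ₁ u * σ₃ u) := by ring
        rw [this, e, h2, h2]; ring
      have e3 : σ₁ u + σ₃ u = 0 := mul_self_eq_zero.mp e2
      have e4 : σ₁ u = σ₁ u + σ₃ u + σ₃ u := by rw [add_assoc, h2, add_zero]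
      rw [e4, e3, zero_add]
    rw [← h12, this, h34]

/-- the absolute trace -/
noncomputable def tr2 (v : F) : F := ∑ σ : F ≃+* F, σ v

theorem tr2_mul_self (v : F) : tr2 v * tr2 v = tr2 v := by
  unfold tr2
  rw [CharTwo.sum_mul_self]
  let φ : F ≃+* F := frobeniusEquiv F 2
  have : ∀ σ : F ≃+* F, σ v * σ v = (φ * σ) v := by
    intro σ
    show σ v * σ v = φ (σ v)
    rw [frobeniusEquiv_apply, frobenius_def, pow_two]
  simp only [this]
  exact Fintype.sum_equiv (Equiv.mulLeft φ) _ _ (fun σ => rfl)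

theorem tr2_zero_or_one (v : F) : tr2 v = 0 ∨ tr2 v = 1 := by
  have h := tr2_mul_self v
  by_cases h0 : tr2 v = 0
  · exact Or.inl h0
  · right
    have : tr2 v * tr2 v = tr2 v * 1 := by rw [h, mul_one]
    exact mul_left_cancel₀ h0 this

omit [Fintype F] [CharP F 2] in
/-- a nontrivial multiplicative character sums to zero -/
theorem char_sum_zero {G : Type*} [Group G] [Fintype G] (ψ : G → F)
    (hm : ∀ a b, ψ (a * b) = ψ a * ψ b) (g₀ : G) (h : ψ g₀ ≠ 1) : ∑ g, ψ g = 0 := by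
  have h1 : ψ g₀ * ∑ g, ψ g = ∑ g, ψ g := by
    rw [Finset.mul_sum]
    simp only [← hm]
    exact Fintype.sum_equiv (Equiv.mulLeft g₀) _ _ (fun g => rfl)
  have h2 : (ψ g₀ - 1) * ∑ g, ψ g = 0 := by rw [sub_mul, h1, one_mul, sub_self]
  rcases mul_eq_zero.mp h2 with h3 | h3
  · exact absurd (sub_eq_zero.mp h3) h
  · exact h3

theorem card_units_cast [Fintype Fˣ] : ((Fintype.card Fˣ : ℕ) : F) = 1 := by
  rw [← Nat.card_eq_fintype_card, Nat.card_units, Nat.card_eq_fintype_card]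
  have h1 : 1 ≤ Fintype.card F := Fintype.card_pos
  rw [Nat.cast_sub h1, FiniteField.cast_card_eq_zero, Nat.cast_one, zero_sub, CharTwo.neg_eq]

/-- integer coefficients isolating one automorphism among the characters `u ↦ u / τ u` -/
theorem pure_coeff_aux [Fintype Fˣ] [DecidableEq (F ≃+* F)] (τ₀ : F ≃+* F) (hτ₀ : τ₀ ≠ 1) :
    ∃ ε : Fˣ → ℕ, ∀ τ : F ≃+* F,
    ∑ u : Fˣ, (ε u : F) * ((u : F) * (τ (u : F))⁻¹) = if τ = τ₀ then 1 else 0 := by
  classical
  refine ⟨fun u => if tr2 (τ₀ (u : F) * (u : F)⁻¹) = 0 then 0 else 1, ?_⟩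
  intro τ
  have hε : ∀ u : Fˣ, (((if tr2 (τ₀ (u : F) * (u : F)⁻¹) = 0 then 0 else 1 : ℕ)) : F)
      = tr2 (τ₀ (u : F) * (u : F)⁻¹) := by
    intro u
    rcases tr2_zero_or_one (τ₀ (u : F) * (u : F)⁻¹) with h0 | h1
    · rw [if_pos h0, h0, Nat.cast_zero]
    · rw [if_neg (by rw [h1]; exact one_ne_zero), h1, Nat.cast_one]
  simp only [hε]
  unfold tr2
  simp only [Finset.sum_mul]
  rw [Finset.sum_comm]
  -- the inner sums
  have hinner : ∀ σ : F ≃+* F,
      ∑ u : Fˣ, σ (τ₀ (u : F) * (u : F)⁻¹) * ((u : F) * (τ (u : F))⁻¹)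
        = if σ = 1 ∧ τ = τ₀ then 1 else 0 := by
    intro σ
    by_cases hall : ∀ u : Fˣ, σ (τ₀ (u : F) * (u : F)⁻¹) * ((u : F) * (τ (u : F))⁻¹) = 1
    · have hfun : ∀ u : F, (σ * τ₀) u * (1 : F ≃+* F) u = σ u * τ u := by
        intro u
        by_cases hu : u = 0
        · rw [hu]; simp
        · have := hall (Units.mk0 u hu)
          rw [Units.val_mk0] at this
          show σ (τ₀ u) * u = σ u * τ u
          have hσu : σ u ≠ 0 := by simpa using hu
          have hτu : τ u ≠ 0 := by simpa using hu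
          rw [map_mul, map_inv₀] at this
          field_simp at this
          rw [this]
      rcases four_aut _ _ _ _ hfun with ⟨ha, hb⟩ | ⟨ha, hb⟩
      · exfalso
        apply hτ₀
        have : σ * τ₀ = σ * 1 := by rw [mul_one]; exact ha
        exact mul_left_cancel this
      · have hσ : σ = 1 := hb.symm
        have hτ : τ = τ₀ := by rw [← ha, hσ, one_mul]
        rw [if_pos ⟨hσ, hτ⟩]
        simp only [hall]
        rw [Finset.sum_const, Finset.card_univ, nsmul_eq_mul, mul_one]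
        exact card_units_cast
    · push Not at hall
      obtain ⟨u₀, hu₀⟩ := hall
      have hne : ¬ (σ = 1 ∧ τ = τ₀) := by
        rintro ⟨rfl, rfl⟩
        apply hu₀
        show τ (u₀ : F) * (u₀ : F)⁻¹ * ((u₀ : F) * (τ (u₀ : F))⁻¹) = 1
        have h1 : (u₀ : F) ≠ 0 := u₀.ne_zero
        have h2 : τ (u₀ : F) ≠ 0 := by simp
        field_simp
      rw [if_neg hne]
      apply char_sum_zero (fun u : Fˣ => σ (τ₀ (u : F) * (u : F)⁻¹) * ((u : F) * (τ (u : F))⁻¹)) _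
        u₀ hu₀
      intro a b
      simp only [Units.val_mul, map_mul, mul_inv, map_inv₀]
      ring
  simp only [hinner]
  by_cases hτ : τ = τ₀
  · simp only [hτ, and_true, if_true]
    rw [Finset.sum_ite_eq' Finset.univ (1 : F ≃+* F) (fun _ => (1 : F))]
    simp
  · simp only [hτ, and_false, if_false]
    simp

/-- integer coefficients isolating one automorphism among the characters `u ↦ u / τ u` -/
theorem pure_coeff [Fintype Fˣ] (τ₀ : F ≃+* F) (hτ₀ : τ₀ ≠ 1) :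
    ∃ ε : Fˣ → ℕ, (∑ u : Fˣ, (ε u : F) * ((u : F) * (τ₀ (u : F))⁻¹) = 1) ∧
      ∀ τ : F ≃+* F, τ ≠ τ₀ → ∑ u : Fˣ, (ε u : F) * ((u : F) * (τ (u : F))⁻¹) = 0 := by
  classical
  obtain ⟨ε, hε⟩ := pure_coeff_aux τ₀ hτ₀
  refine ⟨ε, ?_, ?_⟩
  · rw [hε τ₀, if_pos rfl]
  · intro τ hτ
    rw [hε τ, if_neg hτ]

end

end Cfsg.Agent.Lib.Helper19.Suz
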