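import Cfsg.Agent.Lib.Helper19.SuzHigN
import Cfsg.Agent.Lib.Helper19.SuzHigField
import Cfsg.Agent.Lib.Helper19.SuzRegField

/-!
# Field coordinates for the case `N` abelian in Higman's class-two theorem (helper19)
-/

set_option autoImplicit false
set_option linter.style.haveILetI false

namespace Cfsg.Agent.Lib.Helper19.Suz

variable {P : Type*} [Group P] {K : Subgroup (MulAut P)} {A : Subgroup P}

/-- hypothesis package: `A = N` is abelian -/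
structure AbHyp (P : Type*) [Group P] (K : Subgroup (MulAut P)) (A : Subgroup P) : Prop where
  suz : SuzHyp P K
  na : ∃ x y : P, x * y ≠ y * x
  Ainv : ∀ k ∈ K, ∀ a ∈ A, k a ∈ A
  Acomm : ∀ a ∈ A, ∀ b ∈ A, a * b = b * a
  ZA : Z0 P ≤ A
  Asq : ∀ a ∈ A, a * a ∈ Z0 P
  Acm : ∀ a ∈ A, ∀ g : P, a⁻¹ * g⁻¹ * a * g ∈ Z0 P
  Amax : ∀ x : P, x * x ∈ Z0 P → (∀ g : P, x⁻¹ * g⁻¹ * x * g ∈ Z0 P) → x ∈ A
  Ane : ∃ a ∈ A, a ∉ Z0 P

theorem Z0_central {z : P} (hz : z ∈ Z0 P) (g : P) : g * z = z * g :=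
  Subgroup.mem_center_iff.mp hz.1 g

theorem Z0_conj {z : P} (hz : z ∈ Z0 P) (g : P) : g⁻¹ * z * g = z := by
  rw [mul_assoc, ← Z0_central hz g]; group

theorem Z0_inv {z : P} (hz : z ∈ Z0 P) : z⁻¹ = z := inv_eq_of_mul_eq_one_left hz.2

theorem AbHyp.coords (h : AbHyp P K A) :
    ∃ (F : Type) (_ : Field F) (_ : Fintype F) (_ : CharP F 2) (aZ : P → F) (κ : MulAut P → F)
      (c : (F ≃+* F) → P → F),
      (∀ z ∈ Z0 P, ∀ w ∈ Z0 P, aZ (z * w) = aZ z + aZ w) ∧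
      (∀ z ∈ Z0 P, aZ z = 0 → z = 1) ∧
      (∀ k ∈ K, κ k ≠ 0) ∧
      (∀ u : F, u ≠ 0 → ∃ k ∈ K, κ k = u) ∧
      (∀ k ∈ K, ∀ z ∈ Z0 P, aZ (k z) = κ k * aZ z) ∧
      (∀ u : F, ∃ a ∈ A, aZ (a * a) = u) ∧
      (∀ τ x y, c τ (x * y) = c τ x + c τ y) ∧
      (∀ τ, ∀ k ∈ K, ∀ x, c τ (k x) = κ k * (τ (κ k))⁻¹ * c τ x) ∧
      (∀ x, ∀ a ∈ A, aZ (a⁻¹ * x⁻¹ * a * x) = ∑ τ : F ≃+* F, c τ x * τ (aZ (a * a))) := by
  classical
  haveI := h.suz.fin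
  haveI : Fact (Nat.Prime 2) := ⟨Nat.prime_two⟩
  obtain ⟨n, hn⟩ := (h.suz.pgrp.to_subgroup (Z0 P)).exists_card_eq
  obtain ⟨a₀, ha₀A, ha₀Z⟩ := h.Ane
  have ha₀sq : a₀ * a₀ ≠ 1 := fun e => ha₀Z (h.suz.mem_Z0_iff.mpr e)
  let z₀ : ↥(Z0 P) := ⟨a₀ * a₀, h.Asq a₀ ha₀A⟩
  have hz₀ : z₀ ≠ 1 := fun h1 => ha₀sq (congrArg Subtype.val h1)
  have hn0 : n ≠ 0 := by
    rintro rfl
    rw [pow_zero] at hn
    have := (Nat.card_eq_one_iff_unique.mp hn).1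
    exact hz₀ (Subsingleton.elim _ _)
  let F : Type := GaloisField 2 n
  letI : Fintype F := Fintype.ofFinite F
  have hFcard : Fintype.card F = Nat.card ↥(Z0 P) := by
    rw [← Nat.card_eq_fintype_card, GaloisField.card 2 n hn0, hn]
  have h2 : ∀ x : F, x + x = 0 := CharTwo.add_self_eq_zero
  have hT : ∀ s t : ↥K, s * t = t * s := by
    intro s t
    apply Subtype.ext
    exact h.suz.comm s.1 s.2 t.1 t.2
  let ρZ : ↥K → ↥(Z0 P) → ↥(Z0 P) := fun k z => ⟨k.1 z.1, aut_mem_Z0 k.1 z.2⟩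
  have hcommZ : ∀ a b : ↥(Z0 P), a * b = b * a := by
    intro a b
    apply Subtype.ext
    exact (Subgroup.mem_center_iff.mp b.2.1) a.1
  have regZ : ∀ z w : ↥(Z0 P), z ≠ 1 → w ≠ 1 → ∃! k : ↥K, ρZ k z = w := by
    intro z w hz hw
    have hz1 : z.1 ≠ 1 := fun h1 => hz (Subtype.ext h1)
    have hw1 : w.1 ≠ 1 := fun h1 => hw (Subtype.ext h1)
    have hz2 := h.suz.mem_Z0_iff.mp z.2
    obtain ⟨k, hk, hkz⟩ := h.suz.trans z.1 w.1 hz1 hz2 hw1 (h.suz.mem_Z0_iff.mp w.2)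
    refine ⟨⟨k, hk⟩, Subtype.ext hkz, ?_⟩
    intro l hl
    have hl1 : l.1 z.1 = w.1 := congrArg Subtype.val hl
    have h3 : (k⁻¹ * l.1) z.1 = z.1 := by
      show k⁻¹ (l.1 z.1) = z.1
      rw [hl1, ← hkz]; simp
    have h4 := h.suz.semireg _ (K.mul_mem (K.inv_mem hk) l.2) z.1 hz1 hz2 h3
    apply Subtype.ext
    show l.1 = k
    have : l.1 = k * (k⁻¹ * l.1) := by group
    rw [this, h4, mul_one]
  obtain ⟨aZ', κ', haZbij, haZadd, -, hκ0, hκs, -, haZκ⟩ :=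
    regField (M := ↥(Z0 P)) hcommZ hT ρZ
      (fun t x y => Subtype.ext (map_mul t.1 x.1 y.1))
      (fun s t x => rfl) (fun x => rfl) regZ z₀ hz₀ F hFcard
  have haZ1 : aZ' 1 = 0 := by
    have := haZadd 1 1
    rw [mul_one] at this
    exact left_eq_add.mp this
  -- coordinates on all of `P`
  let aZ : P → F := fun x => if hx : x ∈ Z0 P then aZ' ⟨x, hx⟩ else 0
  let κ : MulAut P → F := fun k => if hk : k ∈ K then κ' ⟨k, hk⟩ else 0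
  have haZ_eq : ∀ z (hz : z ∈ Z0 P), aZ z = aZ' ⟨z, hz⟩ := fun z hz => dif_pos hz
  have hκ_eq : ∀ k (hk : k ∈ K), κ k = κ' ⟨k, hk⟩ := fun k hk => dif_pos hk
  have P1 : ∀ z ∈ Z0 P, ∀ w ∈ Z0 P, aZ (z * w) = aZ z + aZ w := by
    intro z hz w hw
    rw [haZ_eq _ (Subgroup.mul_mem _ hz hw), haZ_eq z hz, haZ_eq w hw, ← haZadd]
    rfl
  have P2 : ∀ z ∈ Z0 P, aZ z = 0 → z = 1 := by
    intro z hz h0
    rw [haZ_eq z hz, ← haZ1] at h0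
    exact congrArg Subtype.val (haZbij.1 h0)
  have P4a : ∀ k ∈ K, κ k ≠ 0 := by
    intro k hk
    rw [hκ_eq k hk]; exact hκ0 _
  have P4b : ∀ u : F, u ≠ 0 → ∃ k ∈ K, κ k = u := by
    intro u hu
    obtain ⟨t, ht⟩ := hκs u hu
    exact ⟨t.1, t.2, by rw [hκ_eq t.1 t.2]; exact ht⟩
  have P4c : ∀ k ∈ K, ∀ z ∈ Z0 P, aZ (k z) = κ k * aZ z := by
    intro k hk z hz
    rw [haZ_eq _ (aut_mem_Z0 k hz), haZ_eq z hz, hκ_eq k hk, ← haZκ]
  have haZ_one : aZ 1 = 0 := by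
    rw [haZ_eq 1 (Subgroup.one_mem _)]; exact haZ1
  -- injectivity of `aZ` on `Z`
  have hinjZ : ∀ z ∈ Z0 P, ∀ w ∈ Z0 P, aZ z = aZ w → z = w := by
    intro z hz w hw e
    have h1 : aZ (z * w) = 0 := by rw [P1 z hz w hw, e, h2]
    have h3 := P2 _ (Subgroup.mul_mem _ hz hw) h1
    have h4 : z = w⁻¹ := eq_inv_of_mul_eq_one_left h3
    rw [h4, Z0_inv hw]
  -- `α` is onto
  have P8 : ∀ u : F, ∃ a ∈ A, aZ (a * a) = u := by
    intro u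
    by_cases hu : u = 0
    · refine ⟨1, A.one_mem, ?_⟩
      rw [mul_one, haZ_one, hu]
    · obtain ⟨w, hw⟩ := haZbij.2 u
      have hw1 : w ≠ 1 := by
        rintro rfl
        rw [haZ1] at hw
        exact hu hw.symm
      have hw1' : w.1 ≠ 1 := fun e => hw1 (Subtype.ext e)
      obtain ⟨k, hk, hkz⟩ := h.suz.trans (a₀ * a₀) w.1 ha₀sq
        (h.suz.mem_Z0_iff.mp (h.Asq a₀ ha₀A)) hw1' (h.suz.mem_Z0_iff.mp w.2)
      refine ⟨k a₀, h.Ainv k hk a₀ ha₀A, ?_⟩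
      rw [← map_mul, hkz, haZ_eq w.1 w.2]
      exact hw
  choose sec hsecA hsec using P8
  -- commutators of elements of `A` depend only on `α`
  have K1 : ∀ a ∈ A, ∀ b ∈ A, aZ (a * a) = aZ (b * b) → ∀ x : P,
      a⁻¹ * x⁻¹ * a * x = b⁻¹ * x⁻¹ * b * x := by
    intro a ha b hb e x
    have hsq : a * a = b * b := hinjZ _ (h.Asq a ha) _ (h.Asq b hb) e
    have hab : a * b⁻¹ ∈ Z0 P := by
      apply h.suz.mem_Z0_iff.mpr
      have hc : b⁻¹ * a = a * b⁻¹ := h.Acomm _ (A.inv_mem hb) _ ha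
      calc a * b⁻¹ * (a * b⁻¹) = a * (b⁻¹ * a) * b⁻¹ := by group
        _ = a * (a * b⁻¹) * b⁻¹ := by rw [hc]
        _ = (a * a) * (b⁻¹ * b⁻¹) := by group
        _ = (b * b) * (b⁻¹ * b⁻¹) := by rw [hsq]
        _ = 1 := by group
    set z := a * b⁻¹ with hz
    have haz : a = z * b := by rw [hz]; group
    rw [haz]
    have e1 : (z * b)⁻¹ * x⁻¹ * (z * b) * x = b⁻¹ * (z⁻¹ * (x⁻¹ * z)) * b * x := by group
    rw [e1, Z0_central hab x⁻¹]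
    group
  have K2 : ∀ a ∈ A, ∀ b ∈ A, ∀ x : P,
      (a * b)⁻¹ * x⁻¹ * (a * b) * x = (a⁻¹ * x⁻¹ * a * x) * (b⁻¹ * x⁻¹ * b * x) := by
    intro a ha b hb x
    have e1 : (a * b)⁻¹ * x⁻¹ * (a * b) * x = b⁻¹ * (a⁻¹ * x⁻¹ * a * x) * b * (b⁻¹ * x⁻¹ * b * x) := by
      group
    rw [e1, Z0_conj (h.Acm a ha x)]
  have K3 : ∀ a ∈ A, ∀ b ∈ A, aZ (a * b * (a * b)) = aZ (a * a) + aZ (b * b) := by
    intro a ha b hb
    have hc : b * a = a * b := h.Acomm b hb a ha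
    have e1 : a * b * (a * b) = (a * a) * (b * b) := by
      calc a * b * (a * b) = a * (b * a) * b := by group
        _ = a * (a * b) * b := by rw [hc]
        _ = (a * a) * (b * b) := by group
    rw [e1, P1 _ (h.Asq a ha) _ (h.Asq b hb)]
  have K4 : ∀ a ∈ A, ∀ x y : P,
      a⁻¹ * (x * y)⁻¹ * a * (x * y) = (a⁻¹ * x⁻¹ * a * x) * (a⁻¹ * y⁻¹ * a * y) := by
    intro a ha x y
    have e1 : a⁻¹ * (x * y)⁻¹ * a * (x * y) = (a⁻¹ * y⁻¹ * a * y) * (y⁻¹ * (a⁻¹ * x⁻¹ * a * x) * y) := by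
      group
    rw [e1, Z0_conj (h.Acm a ha x)]
    exact Z0_central (h.Acm a ha x) _
  -- the additive maps `D_x`
  let Dm : P → (F →+ F) := fun x => AddMonoidHom.mk'
    (fun u => aZ ((sec u)⁻¹ * x⁻¹ * sec u * x)) (by
      intro u v
      have e := K1 (sec (u + v)) (hsecA _) (sec u * sec v) (A.mul_mem (hsecA u) (hsecA v))
        (by rw [hsec, K3 _ (hsecA u) _ (hsecA v), hsec, hsec]) x
      show aZ ((sec (u + v))⁻¹ * x⁻¹ * sec (u + v) * x) = _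
      rw [e, K2 _ (hsecA u) _ (hsecA v), P1 _ (h.Acm _ (hsecA u) x) _ (h.Acm _ (hsecA v) x)])
  have hDm_apply : ∀ x u, Dm x u = aZ ((sec u)⁻¹ * x⁻¹ * sec u * x) := fun x u => rfl
  have hDm : ∀ x, ∀ a ∈ A, Dm x (aZ (a * a)) = aZ (a⁻¹ * x⁻¹ * a * x) := by
    intro x a ha
    rw [hDm_apply, K1 (sec (aZ (a * a))) (hsecA _) a ha (hsec _) x]
  obtain ⟨coef, hcoef, hcoef_uniq⟩ := exists_coef (F := F)
  let c : (F ≃+* F) → P → F := fun τ x => coef (Dm x) τ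
  have P5 : ∀ τ x y, c τ (x * y) = c τ x + c τ y := by
    intro τ x y
    have := hcoef_uniq (Dm (x * y)) (fun τ => coef (Dm x) τ + coef (Dm y) τ) (by
      intro u
      simp only [add_mul, Finset.sum_add_distrib]
      rw [← hcoef, ← hcoef, hDm_apply, hDm_apply, hDm_apply, K4 _ (hsecA u),
        P1 _ (h.Acm _ (hsecA u) x) _ (h.Acm _ (hsecA u) y)])
    exact (congrFun this τ).symm
  have P6 : ∀ τ, ∀ k ∈ K, ∀ x, c τ (k x) = κ k * (τ (κ k))⁻¹ * c τ x := by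
    intro τ k hk x
    have := hcoef_uniq (Dm (k x)) (fun τ => κ k * (τ (κ k))⁻¹ * coef (Dm x) τ) (by
      intro u
      obtain ⟨a, ha, hau⟩ : ∃ a ∈ A, aZ (a * a) = (κ k)⁻¹ * u := ⟨_, hsecA _, hsec _⟩
      have hka : aZ (k a * k a) = u := by
        rw [← map_mul, P4c k hk _ (h.Asq a ha), hau, ← mul_assoc, mul_inv_cancel₀ (P4a k hk),
          one_mul]
      have e1 : (k a)⁻¹ * (k x)⁻¹ * k a * k x = k (a⁻¹ * x⁻¹ * a * x) := by
        simp only [map_mul, map_inv]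
      rw [← hka, hDm (k x) (k a) (h.Ainv k hk a ha), e1, P4c k hk _ (h.Acm a ha x), ← hDm x a ha,
        hcoef (Dm x), Finset.mul_sum, hka]
      apply Finset.sum_congr rfl
      intro σ _
      rw [hau, map_mul, map_inv₀]
      ring)
    exact (congrFun this τ).symm
  have P7 : ∀ x, ∀ a ∈ A, aZ (a⁻¹ * x⁻¹ * a * x) = ∑ τ : F ≃+* F, c τ x * τ (aZ (a * a)) := by
    intro x a ha
    rw [← hDm x a ha, hcoef (Dm x)]
  exact ⟨F, inferInstance, inferInstance, inferInstance, aZ, κ, c, P1, P2, P4a, P4b, P4c,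
    fun u => ⟨sec u, hsecA u, hsec u⟩, P5, P6, P7⟩

end Cfsg.Agent.Lib.Helper19.Suz
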