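import Cfsg.Agent.Lib.Helper19.SuzHigRestrict

/-!
# The second centre layer `N` of a Suzuki 2-group and the case `N` nonabelian (helper19)
-/

set_option autoImplicit false
set_option linter.style.haveILetI false

namespace Cfsg.Agent.Lib.Helper19.Suz

variable {P : Type*} [Group P] {K : Subgroup (MulAut P)}

/-- a nontrivial normal subgroup of a finite 2-group contains a central involution -/
theorem normal_meets_center {G : Type*} [Group G] [Finite G] (hp : IsPGroup 2 G)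
    (H : Subgroup G) [H.Normal] (hH : H ≠ ⊥) :
    ∃ b ∈ H, b ≠ 1 ∧ b ∈ Subgroup.center G ∧ b * b = 1 := by
  classical
  haveI : Fact (Nat.Prime 2) := ⟨Nat.prime_two⟩
  have hfix := (hp.of_equiv ConjAct.toConjAct).exists_fixed_point_of_prime_dvd_card_of_fixed_point
    (α := ↥H)
  have hdvd : 2 ∣ Nat.card ↥H := by
    obtain ⟨n, hn⟩ := (hp.to_subgroup H).exists_card_eq
    have hn0 : n ≠ 0 := by
      rintro rfl
      rw [pow_zero] at hn
      exact hH (Subgroup.card_eq_one.mp hn)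
    rw [hn]
    exact dvd_pow_self 2 hn0
  have h1 : (1 : ↥H) ∈ MulAction.fixedPoints (ConjAct G) ↥H := by
    intro g
    exact smul_one g
  obtain ⟨b, hb, hb1⟩ := hfix hdvd h1
  have hbc : (b : G) ∈ Subgroup.center G := by
    rw [Subgroup.mem_center_iff]
    intro g
    have := hb (ConjAct.toConjAct g)
    have h2 := congrArg Subtype.val this
    rw [ConjAct.Subgroup.val_conj_smul, ConjAct.toConjAct_smul] at h2
    calc g * (b : G) = g * b * g⁻¹ * g := by group
      _ = b * g := by rw [h2]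
  have hbne : (b : G) ≠ 1 := fun e => hb1 (Subtype.ext e.symm)
  obtain ⟨n, hn1, hn2⟩ := exists_pow_involution hp hbne
  exact ⟨(b : G) ^ n, H.pow_mem b.2 n, hn1, Subgroup.pow_mem _ hbc n, hn2⟩

/-- preimage of `Ω₁(Z(P/Z))` -/
def Nsub (P : Type*) [Group P] : Subgroup P :=
  (Z0 (P ⧸ Z0 P)).comap (QuotientGroup.mk' (Z0 P))

theorem mem_Nsub {x : P} :
    x ∈ Nsub P ↔ x * x ∈ Z0 P ∧ ∀ g : P, x⁻¹ * g⁻¹ * x * g ∈ Z0 P := by
  unfold Nsub
  rw [Subgroup.mem_comap, mem_Z0, Subgroup.mem_center_iff]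
  constructor
  · rintro ⟨hc, hs⟩
    refine ⟨?_, ?_⟩
    · rw [← mk_eq_one_iff, QuotientGroup.mk_mul]; exact hs
    · intro g
      have := hc (QuotientGroup.mk g)
      have h2 : (QuotientGroup.mk (g * x) : P ⧸ Z0 P) = QuotientGroup.mk (x * g) := this
      rw [QuotientGroup.eq] at h2
      have e : x⁻¹ * g⁻¹ * x * g = (g * x)⁻¹ * (x * g) := by group
      rw [e]; exact h2
  · rintro ⟨hs, hc⟩
    refine ⟨?_, ?_⟩
    · intro v
      induction v using QuotientGroup.induction_on with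
      | H g =>
        show (QuotientGroup.mk (g * x) : P ⧸ Z0 P) = QuotientGroup.mk (x * g)
        rw [QuotientGroup.eq]
        have e : x⁻¹ * g⁻¹ * x * g = (g * x)⁻¹ * (x * g) := by group
        rw [← e]; exact hc g
    · show (QuotientGroup.mk x : P ⧸ Z0 P) * QuotientGroup.mk x = 1
      rw [← QuotientGroup.mk_mul, mk_eq_one_iff]; exact hs

instance Nsub_normal : (Nsub P).Normal := by
  unfold Nsub
  haveI : (Z0 (P ⧸ Z0 P)).Normal := Z0_normal
  infer_instance

theorem Z0_le_Nsub : Z0 P ≤ Nsub P := by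
  intro z hz
  rw [mem_Nsub]
  refine ⟨?_, ?_⟩
  · rw [hz.2]; exact Subgroup.one_mem _
  · intro g
    have := (Subgroup.mem_center_iff.mp hz.1) g⁻¹
    have e : z⁻¹ * g⁻¹ * z * g = z⁻¹ * (g⁻¹ * z) * g := by group
    rw [e, this]
    have e2 : z⁻¹ * (z * g⁻¹) * g = 1 := by group
    rw [e2]; exact Subgroup.one_mem _

theorem aut_mem_Nsub (k : MulAut P) {x : P} (hx : x ∈ Nsub P) : k x ∈ Nsub P := by
  rw [mem_Nsub] at hx ⊢
  refine ⟨?_, ?_⟩
  · rw [← map_mul]; exact aut_mem_Z0 k hx.1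
  · intro g
    have := aut_mem_Z0 k (hx.2 (k⁻¹ g))
    simpa using this

/-- `N` is strictly bigger than `Z` when `P` is nonabelian -/
theorem SuzHyp.exists_mem_Nsub (h : SuzHyp P K) (hna : ∃ x y : P, x * y ≠ y * x) :
    ∃ a ∈ Nsub P, a ∉ Z0 P := by
  haveI := h.fin
  haveI : Nontrivial (P ⧸ Z0 P) := by
    obtain ⟨a, b, hab⟩ := hna
    refine ⟨⟨QuotientGroup.mk a, 1, ?_⟩⟩
    intro h1
    rw [mk_eq_one_iff] at h1
    exact hab ((Subgroup.mem_center_iff.mp h1.1) b).symm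
  obtain ⟨u, huc, hu1, hu2⟩ := exists_central_involution (h.pgrp.to_quotient (Z0 P))
  induction u using QuotientGroup.induction_on with
  | H x =>
    refine ⟨x, ⟨huc, hu2⟩, ?_⟩
    intro hx
    exact hu1 (mk_eq_one_iff.mpr hx)

/-- if `N` is nonabelian then `P/Z` is elementary abelian -/
theorem SuzHyp.class2_of_N_nonabelian (h : SuzHyp P K)
    (hN : ∃ x ∈ Nsub P, ∃ y ∈ Nsub P, x * y ≠ y * x) :
    (∀ x : P, x * x ∈ Z0 P) ∧ (∀ x y : P, x⁻¹ * y⁻¹ * x * y ∈ Z0 P) := by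
  haveI := h.fin
  -- the centre of `N` is `Z`
  have hZN : ∀ z ∈ Nsub P, (∀ g ∈ Nsub P, g * z = z * g) → z ∈ Z0 P := by
    intro z hz hcen
    exact h.mem_Z0_iff.mpr
      (h.sub_center_sq (Nsub P) (fun k _ x hx => aut_mem_Nsub k hx) Z0_le_Nsub hN z hz hcen)
  -- the centraliser of `N` is `Z`
  have hCN : ∀ d : P, (∀ g ∈ Nsub P, g * d = d * g) → d ∈ Z0 P := by
    intro d hd
    by_contra hdZ
    let D : Subgroup P := Subgroup.centralizer (Nsub P : Set P)
    have hdD : d ∈ D := by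
      rw [Subgroup.mem_centralizer_iff]
      intro g hg
      exact hd g hg
    let Dbar : Subgroup (P ⧸ Z0 P) := D.map (QuotientGroup.mk' (Z0 P))
    haveI : Dbar.Normal := Subgroup.Normal.map inferInstance _ (QuotientGroup.mk'_surjective _)
    have hDbar : Dbar ≠ ⊥ := by
      intro e
      have : (QuotientGroup.mk d : P ⧸ Z0 P) ∈ Dbar := ⟨d, hdD, rfl⟩
      rw [e, Subgroup.mem_bot, mk_eq_one_iff] at this
      exact hdZ this
    obtain ⟨b, hbD, hb1, hbc, hb2⟩ := normal_meets_center (h.pgrp.to_quotient (Z0 P)) Dbar hDbar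
    obtain ⟨d', hd'D, rfl⟩ := hbD
    have hd'N : d' ∈ Nsub P := ⟨hbc, hb2⟩
    have hd'Z : d' ∈ Z0 P := by
      apply hZN d' hd'N
      intro g hg
      exact (Subgroup.mem_centralizer_iff.mp hd'D) g hg
    exact hb1 (mk_eq_one_iff.mpr hd'Z)
  -- commutators with elements of `N`
  have hcN : ∀ a ∈ Nsub P, ∀ g : P, a⁻¹ * g⁻¹ * a * g ∈ Z0 P := fun a ha g => (mem_Nsub.mp ha).2 g
  have hcent : ∀ z ∈ Z0 P, ∀ g : P, g * z = z * g := fun z hz g =>
    Subgroup.mem_center_iff.mp hz.1 g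
  -- `g` commutes with `a` iff the commutator is trivial
  have hcomm_iff : ∀ a g : P, a⁻¹ * g⁻¹ * a * g = 1 → a * g = g * a := by
    intro a g e
    have : a * g = g * a * (a⁻¹ * g⁻¹ * a * g) := by group
    rw [this, e, mul_one]
  have hexp : ∀ z ∈ Z0 P, z * z = 1 := fun z hz => hz.2
  refine ⟨?_, ?_⟩
  · intro x
    apply hCN
    intro a ha
    apply hcomm_iff
    -- [a, x*x] = [a,x] * x⁻¹ [a,x] x = [a,x]^2 = 1
    have hz := hcN a ha x
    have e : a⁻¹ * (x * x)⁻¹ * a * (x * x)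
        = (a⁻¹ * x⁻¹ * a * x) * x⁻¹ * (a⁻¹ * x⁻¹ * a * x) * x := by group
    rw [e]
    have e2 : (a⁻¹ * x⁻¹ * a * x) * x⁻¹ * (a⁻¹ * x⁻¹ * a * x) * x
        = (a⁻¹ * x⁻¹ * a * x) * (x⁻¹ * (a⁻¹ * x⁻¹ * a * x)) * x := by group
    rw [e2, hcent _ hz x⁻¹]
    have e3 : (a⁻¹ * x⁻¹ * a * x) * ((a⁻¹ * x⁻¹ * a * x) * x⁻¹) * x
        = (a⁻¹ * x⁻¹ * a * x) * (a⁻¹ * x⁻¹ * a * x) := by group
    rw [e3, hexp _ hz]
  · intro x y
    apply hCN
    intro a ha
    apply hcomm_iff
    -- write u = [a,x], v = [a,y] central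
    have hu := hcN a ha x
    have hv := hcN a ha y
    set u := a⁻¹ * x⁻¹ * a * x with hu_def
    set v := a⁻¹ * y⁻¹ * a * y with hv_def
    -- x⁻¹ a x = a u, y⁻¹ a y = a v
    have hx1 : x⁻¹ * a * x = a * u := by rw [hu_def]; group
    have hy1 : y⁻¹ * a * y = a * v := by rw [hv_def]; group
    have hx2 : x * a * x⁻¹ = a * u := by
      -- x (a u) x⁻¹ = a => x a x⁻¹ = a u⁻¹ = a u
      have h1 : x * (a * u) * x⁻¹ = a := by rw [← hx1]; group
      have h2 : x * (a * u) * x⁻¹ = x * a * x⁻¹ * u := by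
        calc x * (a * u) * x⁻¹ = x * a * (u * x⁻¹) := by group
          _ = x * a * (x⁻¹ * u) := by rw [← hcent u hu x⁻¹]
          _ = x * a * x⁻¹ * u := by group
      have h3 : x * a * x⁻¹ = a * u⁻¹ := by
        rw [h2] at h1
        exact eq_mul_inv_of_mul_eq h1
      have h4 : u⁻¹ = u := inv_eq_of_mul_eq_one_left (hexp u hu)
      rw [h3, h4]
    have hy2 : y * a * y⁻¹ = a * v := by
      have h1 : y * (a * v) * y⁻¹ = a := by rw [← hy1]; group
      have h2 : y * (a * v) * y⁻¹ = y * a * y⁻¹ * v := by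
        calc y * (a * v) * y⁻¹ = y * a * (v * y⁻¹) := by group
          _ = y * a * (y⁻¹ * v) := by rw [← hcent v hv y⁻¹]
          _ = y * a * y⁻¹ * v := by group
      have h3 : y * a * y⁻¹ = a * v⁻¹ := by
        rw [h2] at h1
        exact eq_mul_inv_of_mul_eq h1
      have h4 : v⁻¹ = v := inv_eq_of_mul_eq_one_left (hexp v hv)
      rw [h3, h4]
    -- conjugate a by x⁻¹ y⁻¹ x y
    have e : a⁻¹ * (x⁻¹ * y⁻¹ * x * y)⁻¹ * a * (x⁻¹ * y⁻¹ * x * y)
        = a⁻¹ * (y⁻¹ * (x⁻¹ * (y * (x * a * x⁻¹) * y⁻¹) * x) * y) := by group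
    rw [e, hx2]
    have e4 : y * (a * u) * y⁻¹ = a * v * u := by
      calc y * (a * u) * y⁻¹ = y * a * (u * y⁻¹) := by group
        _ = y * a * (y⁻¹ * u) := by rw [← hcent u hu y⁻¹]
        _ = (y * a * y⁻¹) * u := by group
        _ = a * v * u := by rw [hy2]
    rw [e4]
    have e5 : x⁻¹ * (a * v * u) * x = a * u * v * u := by
      calc x⁻¹ * (a * v * u) * x = x⁻¹ * a * ((v * u) * x) := by group
        _ = x⁻¹ * a * (x * (v * u)) := by
            rw [hcent (v * u) (Subgroup.mul_mem _ hv hu) x]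
        _ = (x⁻¹ * a * x) * (v * u) := by group
        _ = a * u * (v * u) := by rw [hx1]
        _ = a * u * v * u := by group
    rw [e5]
    have e6 : y⁻¹ * (a * u * v * u) * y = a * v * u * v * u := by
      calc y⁻¹ * (a * u * v * u) * y = y⁻¹ * a * ((u * v * u) * y) := by group
        _ = y⁻¹ * a * (y * (u * v * u)) := by
            rw [hcent (u * v * u) (Subgroup.mul_mem _ (Subgroup.mul_mem _ hu hv) hu) y]
        _ = (y⁻¹ * a * y) * (u * v * u) := by group
        _ = a * v * (u * v * u) := by rw [hy1]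
        _ = a * v * u * v * u := by group
    rw [e6]
    -- v u v u = 1
    have huv : u * v = v * u := hcent v hv u
    calc a⁻¹ * (a * v * u * v * u) = v * (u * v) * u := by group
      _ = v * (v * u) * u := by rw [huv]
      _ = (v * v) * (u * u) := by group
      _ = 1 := by rw [hexp v hv, hexp u hu, one_mul]

end Cfsg.Agent.Lib.Helper19.Suz
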