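import Mathlib
import Cfsg.Prelude.Def_LieRecognition
import Cfsg.Agent.Lib.Helper19.SuzExtIso

/-!
# The type A group as an explicit set of matrices and the recognition criterion (helper19)
-/

set_option autoImplicit false
set_option linter.style.haveILetI false

namespace Cfsg.Agent.Lib.Helper19.Suz

section
variable {F : Type*} [Field F] (φ : F →+* F)

/-- the matrix with rows `(1,0,0)`, `(x,1,0)`, `(y, φ x, 1)` -/
def tMat (x y : F) : Matrix (Fin 3) (Fin 3) F := !![1, 0, 0; x, 1, 0; y, φ x, 1]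

theorem tMat_mul (x y x' y' : F) :
    tMat φ x y * tMat φ x' y' = tMat φ (x + x') (y + y' + φ x * x') := by
  ext i j
  fin_cases i <;> fin_cases j <;>
    simp [tMat, Matrix.mul_apply, Fin.sum_univ_three] <;> ring

theorem tMat_zero : tMat φ 0 0 = 1 := by
  ext i j
  fin_cases i <;> fin_cases j <;> simp [tMat]

/-- the corresponding element of `GL₃` -/
def tGL (x y : F) : GL (Fin 3) F :=
  ⟨tMat φ x y, tMat φ (-x) (-y + φ x * x),
    by rw [tMat_mul, ← tMat_zero φ]; congr 1 <;> ring,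
    by rw [tMat_mul, ← tMat_zero φ]; congr 1 <;> simp <;> ring⟩

theorem tGL_val (x y : F) : ((tGL φ x y : GL (Fin 3) F) : Matrix (Fin 3) (Fin 3) F) = tMat φ x y := rfl

theorem tGL_mul (x y x' y' : F) :
    tGL φ x y * tGL φ x' y' = tGL φ (x + x') (y + y' + φ x * x') := by
  apply Units.ext
  show tMat φ x y * tMat φ x' y' = _
  rw [tMat_mul]; rfl

theorem tGL_zero : tGL φ 0 0 = 1 := by
  apply Units.ext
  show tMat φ 0 0 = 1
  exact tMat_zero φ

theorem tGL_inv (x y : F) : (tGL φ x y)⁻¹ = tGL φ (-x) (-y + φ x * x) := by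
  apply Units.ext
  rfl

theorem tGL_entry10 (x y : F) : ((tGL φ x y : GL (Fin 3) F) : Matrix (Fin 3) (Fin 3) F) 1 0 = x := by
  simp [tGL_val, tMat]

theorem tGL_entry20 (x y : F) : ((tGL φ x y : GL (Fin 3) F) : Matrix (Fin 3) (Fin 3) F) 2 0 = y := by
  simp [tGL_val, tMat]

theorem tGL_injective {x y x' y' : F} (h : tGL φ x y = tGL φ x' y') : x = x' ∧ y = y' := by
  constructor
  · rw [← tGL_entry10 φ x y, h, tGL_entry10]
  · rw [← tGL_entry20 φ x y, h, tGL_entry20]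

/-- the set of all these matrices as a subgroup -/
def tSub : Subgroup (GL (Fin 3) F) where
  carrier := {g | ∃ x y : F, g = tGL φ x y}
  one_mem' := ⟨0, 0, (tGL_zero φ).symm⟩
  mul_mem' := by
    rintro a b ⟨x, y, rfl⟩ ⟨x', y', rfl⟩
    exact ⟨_, _, tGL_mul φ x y x' y'⟩
  inv_mem' := by
    rintro a ⟨x, y, rfl⟩
    exact ⟨_, _, tGL_inv φ x y⟩

theorem suzukiTypeA_eq : Cfsg.suzukiTypeA F φ = tSub φ := by
  unfold Cfsg.suzukiTypeA
  have : {g : GL (Fin 3) F | ∃ x y : F, (g : Matrix (Fin 3) (Fin 3) F) = !![1, 0, 0; x, 1, 0; y, φ x, 1]}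
      = (tSub φ : Set (GL (Fin 3) F)) := by
    ext g
    constructor
    · rintro ⟨x, y, h⟩
      exact ⟨x, y, Units.ext h⟩
    · rintro ⟨x, y, rfl⟩
      exact ⟨x, y, rfl⟩
  rw [this, Subgroup.closure_eq]

theorem mem_suzukiTypeA {g : GL (Fin 3) F} :
    g ∈ Cfsg.suzukiTypeA F φ ↔ ∃ x y : F, g = tGL φ x y := by
  rw [suzukiTypeA_eq]; rfl

/-- elements of the type A group -/
def tElt (x y : F) : ↥(Cfsg.suzukiTypeA F φ) := ⟨tGL φ x y, (mem_suzukiTypeA φ).mpr ⟨x, y, rfl⟩⟩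

theorem tElt_mul (x y x' y' : F) :
    tElt φ x y * tElt φ x' y' = tElt φ (x + x') (y + y' + φ x * x') :=
  Subtype.ext (tGL_mul φ x y x' y')

theorem tElt_one : tElt φ 0 0 = 1 := Subtype.ext (tGL_zero φ)

theorem exists_tElt (g : ↥(Cfsg.suzukiTypeA F φ)) : ∃ x y : F, g = tElt φ x y := by
  obtain ⟨x, y, h⟩ := (mem_suzukiTypeA φ).mp g.2
  exact ⟨x, y, Subtype.ext h⟩

theorem tElt_injective {x y x' y' : F} (h : tElt φ x y = tElt φ x' y') : x = x' ∧ y = y' :=
  tGL_injective φ (congrArg Subtype.val h)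

/-- the projection onto the `(1,0)` entry -/
def tProj : ↥(Cfsg.suzukiTypeA F φ) →* Multiplicative F :=
  MonoidHom.mk' (fun g => Multiplicative.ofAdd (((g : GL (Fin 3) F) : Matrix (Fin 3) (Fin 3) F) 1 0)) (by
    intro g h
    obtain ⟨x, y, rfl⟩ := exists_tElt φ g
    obtain ⟨x', y', rfl⟩ := exists_tElt φ h
    rw [tElt_mul]
    show Multiplicative.ofAdd (((tGL φ _ _ : GL (Fin 3) F) : Matrix (Fin 3) (Fin 3) F) 1 0) =
      Multiplicative.ofAdd (((tGL φ _ _ : GL (Fin 3) F) : Matrix (Fin 3) (Fin 3) F) 1 0) *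
      Multiplicative.ofAdd (((tGL φ _ _ : GL (Fin 3) F) : Matrix (Fin 3) (Fin 3) F) 1 0)
    rw [tGL_entry10, tGL_entry10, tGL_entry10, ofAdd_add])

theorem tProj_tElt (x y : F) : tProj φ (tElt φ x y) = Multiplicative.ofAdd x := by
  show Multiplicative.ofAdd (((tGL φ _ _ : GL (Fin 3) F) : Matrix (Fin 3) (Fin 3) F) 1 0) = _
  rw [tGL_entry10]

end

/-- recognition of the type A group -/
theorem typeA_iso {P : Type*} [Group P] [Finite P] {F : Type*} [Field F] [Finite F] [CharP F 2]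
    (φ : F →+* F) (Z : Subgroup P) (hZc : Z ≤ Subgroup.center P)
    (a : P → F) (ha_mul : ∀ x y, a (x * y) = a x + a y) (ha_surj : Function.Surjective a)
    (ha_ker : ∀ x, a x = 0 ↔ x ∈ Z)
    (b : ↥Z → F) (hb_mul : ∀ z w, b (z * w) = b z + b w) (hb_bij : Function.Bijective b)
    (hsq : ∀ x : P, ∃ h : x * x ∈ Z, b ⟨x * x, h⟩ = a x * φ (a x)) :
    Nonempty (P ≃* Cfsg.suzukiTypeA F φ) := by
  haveI : Finite ↥(Cfsg.suzukiTypeA F φ) := by
    apply Finite.of_surjective (fun p : F × F => tElt φ p.1 p.2)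
    intro g
    obtain ⟨x, y, rfl⟩ := exists_tElt φ g
    exact ⟨(x, y), rfl⟩
  let πP : P →* Multiplicative F :=
    MonoidHom.mk' (fun x => Multiplicative.ofAdd (a x)) (by
      intro x y
      show Multiplicative.ofAdd (a (x * y)) = _
      rw [ha_mul, ofAdd_add])
  have hπP_apply : ∀ x, πP x = Multiplicative.ofAdd (a x) := fun x => rfl
  have hker : ∀ x, x ∈ πP.ker ↔ x ∈ Z := by
    intro x
    rw [MonoidHom.mem_ker, hπP_apply, ← ha_ker]
    exact ofAdd_eq_one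
  have hb0 : ∀ z : ↥Z, b z = 0 → z = 1 := by
    intro z hz
    apply hb_bij.1
    rw [hz]
    have := hb_mul 1 1
    rw [mul_one] at this
    exact (left_eq_add.mp this).symm
  have hb1 : b 1 = 0 := by
    have := hb_mul 1 1
    rw [mul_one] at this
    exact left_eq_add.mp this
  let ι : ↥πP.ker →* ↥(Cfsg.suzukiTypeA F φ) :=
    MonoidHom.mk' (fun z => tElt φ 0 (b ⟨z.1, (hker z.1).mp z.2⟩)) (by
      intro z w
      show tElt φ 0 (b ⟨(z * w : ↥πP.ker), _⟩) = tElt φ 0 _ * tElt φ 0 _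
      rw [tElt_mul]
      have : (⟨((z * w : ↥πP.ker) : P), (hker _).mp (z * w).2⟩ : ↥Z) =
          ⟨z.1, (hker z.1).mp z.2⟩ * ⟨w.1, (hker w.1).mp w.2⟩ := rfl
      rw [this, hb_mul]
      congr 1
      · rw [add_zero]
      · rw [map_zero, zero_mul, add_zero])
  have hι_apply : ∀ z : ↥πP.ker, ι z = tElt φ 0 (b ⟨z.1, (hker z.1).mp z.2⟩) := fun z => rfl
  refine ext_iso πP (tProj φ) ?_ ?_ ?_ ?_ ι ?_ ?_ ?_
  · intro w
    obtain ⟨x, hx⟩ := ha_surj w.toAdd
    exact ⟨x, by rw [hπP_apply, hx]; rfl⟩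
  · intro w
    exact ⟨tElt φ w.toAdd 0, by rw [tProj_tElt]; rfl⟩
  · intro x hx
    exact hZc ((hker x).mp hx)
  · intro g hg
    obtain ⟨x, y, rfl⟩ := exists_tElt φ g
    rw [MonoidHom.mem_ker, tProj_tElt] at hg
    have hx : x = 0 := ofAdd_eq_one.mp hg
    subst hx
    rw [Subgroup.mem_center_iff]
    intro h
    obtain ⟨x', y', rfl⟩ := exists_tElt φ h
    rw [tElt_mul, tElt_mul]
    congr 1
    · rw [add_comm]
    · rw [map_zero, zero_mul, mul_zero, add_comm y' y]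
  · intro z w hzw
    rw [hι_apply, hι_apply] at hzw
    have h1 := (tElt_injective φ hzw).2
    have h2 := hb_bij.1 h1
    apply Subtype.ext
    exact congrArg (fun t : ↥Z => (t : P)) h2
  · ext g
    constructor
    · rintro ⟨z, rfl⟩
      rw [MonoidHom.mem_ker, hι_apply, tProj_tElt]; rfl
    · intro hg
      obtain ⟨x, y, rfl⟩ := exists_tElt φ g
      rw [MonoidHom.mem_ker, tProj_tElt] at hg
      have hx : x = 0 := ofAdd_eq_one.mp hg
      subst hx
      obtain ⟨z, hz⟩ := hb_bij.2 y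
      refine ⟨⟨z.1, (hker z.1).mpr z.2⟩, ?_⟩
      rw [hι_apply]
      show tElt φ 0 (b ⟨z.1, _⟩) = _
      rw [← hz]
  · intro p g hpg
    obtain ⟨x, y, rfl⟩ := exists_tElt φ g
    rw [hπP_apply, tProj_tElt] at hpg
    have hx : a p = x := Multiplicative.ofAdd.injective hpg
    obtain ⟨hz, hbz⟩ := hsq p
    refine ⟨(hker _).mpr hz, ?_⟩
    rw [hι_apply, tElt_mul]
    show tElt φ 0 (b ⟨p * p, _⟩) = _
    rw [hbz, hx]
    congr 1
    · exact (CharTwo.add_self_eq_zero x).symm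
    · rw [CharTwo.add_self_eq_zero, zero_add, mul_comm]

end Cfsg.Agent.Lib.Helper19.Suz
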