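import Cfsg.Agent.Lib.Helper19.SuzSqStruct
import Cfsg.Agent.Lib.Helper19.SuzRegField
import Cfsg.Agent.Lib.Helper19.SuzExponent
import Cfsg.Agent.Lib.Helper19.SuzTypeA

/-!
# Suzuki 2-groups of order `q²` are of type A (helper19)
-/

set_option autoImplicit false
set_option linter.style.haveILetI false

namespace Cfsg.Agent.Lib.Helper19.Suz

variable {P : Type*} [Group P] {K : Subgroup (MulAut P)}

theorem sq_eq_of_mk_eq {x y : P} (hxy : (QuotientGroup.mk x : P ⧸ Z0 P) = QuotientGroup.mk y) :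
    x * x = y * y := by
  rw [QuotientGroup.eq] at hxy
  set z := x⁻¹ * y with hz
  have hzc := Subgroup.mem_center_iff.mp hxy.1
  have hy : y = x * z := by rw [hz]; group
  rw [hy]
  calc x * x = x * x * (z * z) := by rw [hxy.2, mul_one]
    _ = x * (x * z) * z := by group
    _ = x * (z * x) * z := by rw [hzc x]
    _ = x * z * (x * z) := by group

namespace SqHyp

variable (h : SqHyp P K)
include h

theorem sq_mul (x y : P) :
    (x * y) * (x * y) = (x * x) * (y * y) * (x⁻¹ * y * x * y⁻¹) := by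
  have hc := Subgroup.mem_center_iff.mp (h.comm_mem x y).1
  calc (x * y) * (x * y) = x * x * ((x⁻¹ * y * x * y⁻¹) * (y * y)) := by group
    _ = x * x * ((y * y) * (x⁻¹ * y * x * y⁻¹)) := by rw [hc (y * y)]
    _ = (x * x) * (y * y) * (x⁻¹ * y * x * y⁻¹) := by group

theorem comm_mul (x x' y : P) :
    (x * x')⁻¹ * y * (x * x') * y⁻¹ = (x⁻¹ * y * x * y⁻¹) * (x'⁻¹ * y * x' * y⁻¹) := by
  have hc := Subgroup.mem_center_iff.mp (h.comm_mem x y).1
  calc (x * x')⁻¹ * y * (x * x') * y⁻¹ = x'⁻¹ * (x⁻¹ * y * x * y⁻¹) * (y * x' * y⁻¹) := by group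
    _ = (x⁻¹ * y * x * y⁻¹) * x'⁻¹ * (y * x' * y⁻¹) := by rw [hc x'⁻¹]
    _ = (x⁻¹ * y * x * y⁻¹) * (x'⁻¹ * y * x' * y⁻¹) := by group

end SqHyp

omit [Group P] in
theorem char2_cancel {F : Type*} [Field F] [CharP F 2] (A B C : F) : (A + B + C) + A + B = C := by
  linear_combination CharTwo.add_self_eq_zero A + CharTwo.add_self_eq_zero B

theorem SqHyp.typeA (h : SqHyp P K) (hcyc : IsCyclic ↥K) :
    ∃ (F : Type) (_ : Field F) (_ : Fintype F) (φ : F ≃+* F),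
      Fintype.card F = Nat.card ↥(Z0 P) ∧ φ ≠ RingEquiv.refl F ∧ Odd (orderOf φ) ∧
      Nonempty (P ≃* Cfsg.suzukiTypeA F (φ : F →+* F)) := by
  classical
  haveI := h.suz.fin
  haveI : Fact (Nat.Prime 2) := ⟨Nat.prime_two⟩
  obtain ⟨n, hn⟩ := (h.suz.pgrp.to_subgroup (Z0 P)).exists_card_eq
  have hq2 := h.card_pos
  have hn0 : n ≠ 0 := by
    rintro rfl
    rw [hn] at hq2
    simp at hq2
  let F : Type := GaloisField 2 n
  letI : Fintype F := Fintype.ofFinite F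
  have hFcard : Fintype.card F = Nat.card ↥(Z0 P) := by
    rw [← Nat.card_eq_fintype_card, GaloisField.card 2 n hn0, hn]
  have h2 : ∀ x : F, x + x = 0 := CharTwo.add_self_eq_zero
  -- base points
  obtain ⟨x₀, y₀, hxy₀⟩ := h.na
  have hx₀ : x₀ ∉ Z0 P := by
    intro hx
    apply hxy₀
    exact ((Subgroup.mem_center_iff.mp hx.1) y₀).symm
  have hxx₀ : x₀ * x₀ ≠ 1 := fun h1 => hx₀ (h.suz.mem_Z0_iff.mpr h1)
  let z₀ : ↥(Z0 P) := ⟨x₀ * x₀, h.sq_mem x₀⟩
  have hz₀ : z₀ ≠ 1 := fun h1 => hxx₀ (congrArg Subtype.val h1)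
  let v₀ : P ⧸ Z0 P := QuotientGroup.mk x₀
  have hv₀ : v₀ ≠ 1 := fun h1 => hx₀ (mk_eq_one_iff.mp h1)
  -- the actions
  have hT : ∀ s t : ↥K, s * t = t * s := by
    intro s t
    apply Subtype.ext
    exact h.suz.comm s.1 s.2 t.1 t.2
  haveI : Finite ↥K := by
    apply Nat.finite_of_card_ne_zero
    rw [h.card_K]; omega
  let ρZ : ↥K → ↥(Z0 P) → ↥(Z0 P) := fun k z => ⟨k.1 z.1, aut_mem_Z0 k.1 z.2⟩
  let ρV : ↥K → (P ⧸ Z0 P) → (P ⧸ Z0 P) := fun k v => quotAut k.1 v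
  have hcommZ : ∀ a b : ↥(Z0 P), a * b = b * a := by
    intro a b
    apply Subtype.ext
    exact (Subgroup.mem_center_iff.mp b.2.1) a.1
  have hcommV : ∀ a b : P ⧸ Z0 P, a * b = b * a := by
    intro a b
    exact (Subgroup.mem_center_iff.mp (h.quot_central b).2 a)
  have regZ : ∀ z w : ↥(Z0 P), z ≠ 1 → w ≠ 1 → ∃! k : ↥K, ρZ k z = w := by
    intro z w hz hw
    have hz1 : z.1 ≠ 1 := fun h1 => hz (Subtype.ext h1)
    have hw1 : w.1 ≠ 1 := fun h1 => hw (Subtype.ext h1)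
    have hz2 := h.suz.mem_Z0_iff.mp z.2
    obtain ⟨k, hk, hkz⟩ := h.suz.trans z.1 w.1 hz1 hz2 hw1 (h.suz.mem_Z0_iff.mp w.2)
    refine ⟨⟨k, hk⟩, Subtype.ext hkz, ?_⟩
    intro l hl
    have hl1 : l.1 z.1 = w.1 := congrArg Subtype.val hl
    have h3 : (k⁻¹ * l.1) z.1 = z.1 := by
      show k⁻¹ (l.1 z.1) = z.1
      rw [hl1, ← hkz]; simp
    have h4 := h.suz.semireg _ (K.mul_mem (K.inv_mem hk) l.2) z.1 hz1 hz2 h3
    apply Subtype.ext
    show l.1 = k
    have : l.1 = k * (k⁻¹ * l.1) := by group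
    rw [this, h4, mul_one]
  have regV : ∀ v w : P ⧸ Z0 P, v ≠ 1 → w ≠ 1 → ∃! k : ↥K, ρV k v = w := by
    intro v w hv hw
    obtain ⟨k, hk, hkv⟩ := h.trans_quot v w hv hw
    refine ⟨⟨k, hk⟩, hkv, ?_⟩
    intro l hl
    have hl1 : quotAut l.1 v = w := hl
    induction v using QuotientGroup.induction_on with
    | H x =>
    have hx : x ∉ Z0 P := fun hx => hv (mk_eq_one_iff.mpr hx)
    have h3 : quotAut (k⁻¹ * l.1) (QuotientGroup.mk x : P ⧸ Z0 P) = QuotientGroup.mk x := by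
      rw [quotAut_mul, hl1, ← hkv, ← quotAut_mul, inv_mul_cancel, quotAut_one]
    have h4 := h.suz.semireg_quot (K.mul_mem (K.inv_mem hk) l.2) hx h3
    apply Subtype.ext
    show l.1 = k
    have : l.1 = k * (k⁻¹ * l.1) := by group
    rw [this, h4, mul_one]
  obtain ⟨aZ, κZ, haZbij, haZadd, haZ0, hκZ0, hκZs, hκZm, haZκ⟩ :=
    regField (M := ↥(Z0 P)) hcommZ hT ρZ
      (fun t x y => Subtype.ext (map_mul t.1 x.1 y.1))
      (fun s t x => rfl) (fun x => rfl) regZ z₀ hz₀ F hFcard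
  obtain ⟨aV, κV, haVbij, haVadd, haV0, hκV0, hκVs, hκVm, haVκ⟩ :=
    regField (M := P ⧸ Z0 P) hcommV hT ρV
      (fun t x y => map_mul (quotAut t.1) x y)
      (fun s t x => quotAut_mul s.1 t.1 x) (fun x => quotAut_one x) regV v₀ hv₀ F
      (hFcard.trans h.card_quot.symm)
  have haZ1 : aZ 1 = 0 := by
    have := haZadd 1 1
    rw [mul_one] at this
    exact left_eq_add.mp this
  have haV1 : aV 1 = 0 := by
    have := haVadd 1 1
    rw [mul_one] at this
    exact left_eq_add.mp this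
  -- powers
  have hpow : ∀ (κ : ↥K → F), (∀ t, κ t ≠ 0) → (∀ s t, κ (s * t) = κ s * κ t) →
      ∀ (k : ↥K) (i : ℕ), κ (k ^ i) = (κ k) ^ i := by
    intro κ h0 hm k i
    have h1 : κ 1 = 1 := by
      have := hm 1 1
      rw [mul_one] at this
      have h3 : κ 1 * 1 = κ 1 * κ 1 := by rw [mul_one]; exact this
      exact (mul_left_cancel₀ (h0 1) h3).symm
    induction i with
    | zero => rw [pow_zero, pow_zero, h1]
    | succ i ih => rw [pow_succ, pow_succ, hm, ih]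
  haveI := hcyc
  obtain ⟨ξ, hξ⟩ := IsCyclic.exists_monoid_generator (α := ↥K)
  obtain ⟨t₀, ht₀⟩ := hκVs (κZ ξ) (hκZ0 ξ)
  obtain ⟨e₀, he₀⟩ := hξ t₀
  have he₀' : ξ ^ e₀ = t₀ := he₀
  have hcardF : 2 ≤ Fintype.card F := by rw [hFcard]; exact hq2
  set e := e₀ + (Fintype.card F - 1) with he
  have he1 : 1 ≤ e := by omega
  have hκ : ∀ k : ↥K, κZ k = (κV k) ^ e := by
    intro k
    obtain ⟨i, hi⟩ := hξ k
    have hi' : ξ ^ i = k := hi
    rw [← hi', hpow κZ hκZ0 hκZm, hpow κV hκV0 hκVm, ← ht₀, ← he₀', hpow κV hκV0 hκVm, he, pow_add,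
      FiniteField.pow_card_sub_one_eq_one _ (pow_ne_zero _ (hκV0 ξ)), mul_one, ← pow_mul, ← pow_mul,
      mul_comm]
  -- the coordinate on P
  let a : P → F := fun x => aV (QuotientGroup.mk x)
  have ha_mul : ∀ x y, a (x * y) = a x + a y := by
    intro x y
    show aV (QuotientGroup.mk (x * y)) = _
    rw [QuotientGroup.mk_mul, haVadd]
  have ha_ker : ∀ x, a x = 0 ↔ x ∈ Z0 P := by
    intro x
    rw [← mk_eq_one_iff]
    constructor
    · intro hx
      apply haVbij.1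
      rw [haV1]; exact hx
    · intro hx
      show aV (QuotientGroup.mk x) = 0
      rw [hx, haV1]
  have ha_surj : Function.Surjective a := by
    intro u
    obtain ⟨v, hv⟩ := haVbij.2 u
    induction v using QuotientGroup.induction_on with
    | H x => exact ⟨x, hv⟩
  -- the squaring formula
  have hS : ∀ x : P, aZ ⟨x * x, h.sq_mem x⟩ = (a x) ^ e := by
    intro x
    by_cases hx : x ∈ Z0 P
    · have h1 : (⟨x * x, h.sq_mem x⟩ : ↥(Z0 P)) = 1 := Subtype.ext (h.suz.mem_Z0_iff.mp hx)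
      rw [h1, haZ1, (ha_ker x).mpr hx, zero_pow (by omega)]
    · have hv : (QuotientGroup.mk x : P ⧸ Z0 P) ≠ 1 := fun h1 => hx (mk_eq_one_iff.mp h1)
      obtain ⟨k, hk, hkx⟩ := h.trans_quot v₀ (QuotientGroup.mk x) hv₀ hv
      have hkx' : (QuotientGroup.mk (k x₀) : P ⧸ Z0 P) = QuotientGroup.mk x := by
        rw [← quotAut_mk]; exact hkx
      have h1 : x * x = k (x₀ * x₀) := by
        rw [map_mul]; exact (sq_eq_of_mk_eq hkx').symm
      have h3 : (⟨x * x, h.sq_mem x⟩ : ↥(Z0 P)) = ρZ ⟨k, hk⟩ z₀ := Subtype.ext h1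
      have h4 : a x = κV ⟨k, hk⟩ := by
        show aV (QuotientGroup.mk x) = _
        rw [← hkx]
        have := haVκ ⟨k, hk⟩ v₀
        rw [haV0, mul_one] at this
        exact this
      rw [h3, haZκ, haZ0, mul_one, h4, hκ]
  -- the polar form
  have hpolar : ∀ x y : P, (a x + a y) ^ e =
      (a x) ^ e + (a y) ^ e + aZ ⟨x⁻¹ * y * x * y⁻¹, h.comm_mem x y⟩ := by
    intro x y
    rw [← ha_mul, ← hS, ← hS, ← hS, ← haZadd, ← haZadd]
    congr 1
    apply Subtype.ext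
    exact h.sq_mul x y
  have hcadd : ∀ x x' y : P, aZ ⟨(x * x')⁻¹ * y * (x * x') * y⁻¹, h.comm_mem (x * x') y⟩ =
      aZ ⟨x⁻¹ * y * x * y⁻¹, h.comm_mem x y⟩ + aZ ⟨x'⁻¹ * y * x' * y⁻¹, h.comm_mem x' y⟩ := by
    intro x x' y
    rw [← haZadd]
    congr 1
    apply Subtype.ext
    exact h.comm_mul x x' y
  have hadd : ∀ s s' t : F, (s + s' + t) ^ e + (s + s') ^ e + t ^ e =
      ((s + t) ^ e + s ^ e + t ^ e) + ((s' + t) ^ e + s' ^ e + t ^ e) := by
    intro s s' t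
    obtain ⟨x, rfl⟩ := ha_surj s
    obtain ⟨x', rfl⟩ := ha_surj s'
    obtain ⟨y, rfl⟩ := ha_surj t
    rw [← ha_mul x x', hpolar (x * x') y, hpolar x y, hpolar x' y, char2_cancel, char2_cancel,
      char2_cancel, hcadd]
  have hne : ∃ s t : F, (s + t) ^ e + s ^ e + t ^ e ≠ 0 := by
    refine ⟨a x₀, a y₀, ?_⟩
    rw [hpolar, char2_cancel]
    intro h0
    have h1 : (⟨x₀⁻¹ * y₀ * x₀ * y₀⁻¹, h.comm_mem x₀ y₀⟩ : ↥(Z0 P)) = 1 := by
      apply haZbij.1
      rw [h0, haZ1]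
    have h3 : x₀⁻¹ * y₀ * x₀ * y₀⁻¹ = 1 := congrArg Subtype.val h1
    apply hxy₀
    calc x₀ * y₀ = x₀ * (x₀⁻¹ * y₀ * x₀ * y₀⁻¹) * y₀ := by rw [h3, mul_one]
      _ = y₀ * x₀ := by group
  obtain ⟨σ, τ, hστ, hform⟩ := exists_aut_pair e hadd hne
  -- injectivity of the e-th power map
  have hκZinj : ∀ k l : ↥K, κZ k = κZ l → k = l := by
    intro k l hkl
    have h1 : aZ (ρZ k z₀) = aZ (ρZ l z₀) := by rw [haZκ, haZκ, hkl]
    have h3 := haZbij.1 h1
    obtain ⟨k', -, huniq⟩ := regZ z₀ (ρZ l z₀) hz₀ (by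
      intro h0
      have h4 : aZ (ρZ l z₀) = 0 := by rw [h0, haZ1]
      rw [haZκ, haZ0, mul_one] at h4
      exact hκZ0 l h4)
    rw [huniq k h3, huniq l rfl]
  have hpowinj : ∀ u u' : F, u ^ e = u' ^ e → u = u' := by
    intro u u' huu
    by_cases hu : u = 0
    · rw [hu, zero_pow (by omega)] at huu
      rw [hu, (pow_eq_zero_iff (by omega)).mp huu.symm]
    by_cases hu' : u' = 0
    · rw [hu', zero_pow (by omega)] at huu
      exact absurd ((pow_eq_zero_iff (by omega)).mp huu) hu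
    obtain ⟨k, rfl⟩ := hκVs u hu
    obtain ⟨l, rfl⟩ := hκVs u' hu'
    rw [← hκ, ← hκ] at huu
    rw [hκZinj k l huu]
  -- the automorphism
  let φ : F ≃+* F := τ.trans σ.symm
  have hφ_apply : ∀ u, φ u = σ.symm (τ u) := fun u => rfl
  have hφform : ∀ u : F, u * φ u = σ.symm (u ^ e) := by
    intro u
    rw [hform, map_mul, RingEquiv.symm_apply_apply, hφ_apply]
  refine ⟨F, inferInstance, inferInstance, φ, hFcard, ?_, ?_, ?_⟩
  · intro hφ
    apply hστ
    ext u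
    have := congrArg (fun ψ : F ≃+* F => ψ u) hφ
    have h1 : σ.symm (τ u) = u := this
    have h3 := congrArg σ h1
    rw [RingEquiv.apply_symm_apply] at h3
    exact h3.symm
  · apply odd_orderOf_of_injective
    intro u u' huu
    have h1 : u * φ u = u' * φ u' := huu
    rw [hφform, hφform] at h1
    exact hpowinj u u' (σ.symm.injective h1)
  · apply typeA_iso (φ : F →+* F) (Z0 P) Z0_le_center a ha_mul ha_surj ha_ker
      (fun z => σ.symm (aZ z))
    · intro z w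
      show σ.symm (aZ (z * w)) = _
      rw [haZadd, map_add]
    · exact σ.symm.bijective.comp haZbij
    · intro x
      refine ⟨h.sq_mem x, ?_⟩
      show σ.symm (aZ ⟨x * x, h.sq_mem x⟩) = a x * φ (a x)
      rw [hS, hφform]

end Cfsg.Agent.Lib.Helper19.Suz
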