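import Cfsg.Agent.Lib.Helper19.SuzHigman
import Cfsg.Agent.Lib.Helper19.SuzHigCW
import Cfsg.Agent.Lib.Helper19.SuzSqMain

/-!
# The order of a Suzuki 2-group is `q²` or `q³` (helper19)
-/

set_option autoImplicit false
set_option linter.style.haveILetI false

namespace Cfsg.Agent.Lib.Helper19.Suz

variable {P : Type*} [Group P] {K : Subgroup (MulAut P)}

/-- the commutator `x⁻¹ y x y⁻¹` only depends on the cosets modulo `Z0 P` -/
theorem cmq_congr {x x' y y' : P} (hx : x⁻¹ * x' ∈ Z0 P) (hy : y⁻¹ * y' ∈ Z0 P) :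
    x'⁻¹ * y' * x' * y'⁻¹ = x⁻¹ * y * x * y⁻¹ := by
  set z := x⁻¹ * x' with hz
  set w := y⁻¹ * y' with hw
  have ex : x' = x * z := by rw [hz]; group
  have ey : y' = y * w := by rw [hw]; group
  rw [ex, ey]
  have c1 := Z0_central hx
  have c2 := Z0_central hy
  calc (x * z)⁻¹ * (y * w) * (x * z) * (y * w)⁻¹
      = z⁻¹ * (x⁻¹ * y * (w * x) * (z * w⁻¹) * y⁻¹) := by group
    _ = z⁻¹ * (x⁻¹ * y * (x * w) * (z * w⁻¹) * y⁻¹) := by rw [c2 x]
    _ = z⁻¹ * (x⁻¹ * y * x * ((w * z) * w⁻¹) * y⁻¹) := by group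
    _ = z⁻¹ * (x⁻¹ * y * x * ((z * w) * w⁻¹) * y⁻¹) := by rw [c1 w]
    _ = z⁻¹ * (x⁻¹ * y * x * (z * y⁻¹)) := by group
    _ = z⁻¹ * (x⁻¹ * y * x * (y⁻¹ * z)) := by rw [c1 y⁻¹]
    _ = z⁻¹ * ((x⁻¹ * y * x * y⁻¹) * z) := by group
    _ = z⁻¹ * (z * (x⁻¹ * y * x * y⁻¹)) := by rw [c1 (x⁻¹ * y * x * y⁻¹)]
    _ = x⁻¹ * y * x * y⁻¹ := by group

/-- `|P/Z| ≤ |Z|²` for a group of class two with `Z0 P` containing all elements of square one -/
theorem card_quot_le_of_class2 [Finite P] (hsq : ∀ x : P, x * x ∈ Z0 P)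
    (hcm : ∀ x y : P, x⁻¹ * y⁻¹ * x * y ∈ Z0 P) (hinv : ∀ x : P, x * x = 1 → x ∈ Z0 P) :
    Nat.card (P ⧸ Z0 P) ≤ Nat.card ↥(Z0 P) ^ 2 := by
  have hcm' : ∀ x y : P, x⁻¹ * y * x * y⁻¹ ∈ Z0 P := by
    intro x y
    have := hcm x y⁻¹
    rwa [inv_inv] at this
  have hout : ∀ v : P ⧸ Z0 P, (QuotientGroup.mk v.out : P ⧸ Z0 P) = v := fun v =>
    QuotientGroup.out_eq' v
  have hrel : ∀ (v : P ⧸ Z0 P) (x : P), (QuotientGroup.mk x : P ⧸ Z0 P) = v →
      x⁻¹ * v.out ∈ Z0 P := by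
    intro v x hx
    rw [← QuotientGroup.eq, hx, hout]
  let S : P ⧸ Z0 P → ↥(Z0 P) := fun v => ⟨v.out * v.out, hsq _⟩
  let B : P ⧸ Z0 P → P ⧸ Z0 P → ↥(Z0 P) := fun v w =>
    ⟨v.out⁻¹ * w.out * v.out * w.out⁻¹, hcm' _ _⟩
  have hSmk : ∀ (v : P ⧸ Z0 P) (x : P), (QuotientGroup.mk x : P ⧸ Z0 P) = v →
      (S v : P) = x * x := by
    intro v x hx
    show v.out * v.out = x * x
    apply sq_eq_of_mk_eq
    rw [hout, hx]
  have hBmk : ∀ (v w : P ⧸ Z0 P) (x y : P), (QuotientGroup.mk x : P ⧸ Z0 P) = v →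
      (QuotientGroup.mk y : P ⧸ Z0 P) = w → (B v w : P) = x⁻¹ * y * x * y⁻¹ := by
    intro v w x y hx hy
    show v.out⁻¹ * w.out * v.out * w.out⁻¹ = _
    exact cmq_congr (hrel v x hx) (hrel w y hy)
  apply quad_card_le (V := P ⧸ Z0 P) (W := ↥(Z0 P)) _ _ S B
  · -- quadratic
    intro v w
    apply Subtype.ext
    have h1 := hSmk (v * w) (v.out * w.out) (by rw [QuotientGroup.mk_mul, hout, hout])
    rw [h1]
    show _ = (S v : P) * (S w : P) * (B v w : P)
    rw [hSmk v v.out (hout v), hSmk w w.out (hout w), hBmk v w v.out w.out (hout v) (hout w)]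
    set x := v.out
    set y := w.out
    have hc := Z0_central (hcm' x y)
    calc (x * y) * (x * y) = x * x * ((x⁻¹ * y * x * y⁻¹) * (y * y)) := by group
      _ = x * x * ((y * y) * (x⁻¹ * y * x * y⁻¹)) := by rw [hc (y * y)]
      _ = (x * x) * (y * y) * (x⁻¹ * y * x * y⁻¹) := by group
  · -- additive in the first variable
    intro v w t
    apply Subtype.ext
    have h1 := hBmk (v * w) t (v.out * w.out) t.out (by rw [QuotientGroup.mk_mul, hout, hout])
      (hout t)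
    rw [h1]
    show _ = (B v t : P) * (B w t : P)
    rw [hBmk v t v.out t.out (hout v) (hout t), hBmk w t w.out t.out (hout w) (hout t)]
    set x := v.out
    set x' := w.out
    set y := t.out
    have hc := Z0_central (hcm' x y)
    calc (x * x')⁻¹ * y * (x * x') * y⁻¹ = x'⁻¹ * (x⁻¹ * y * x * y⁻¹) * (y * x' * y⁻¹) := by group
      _ = (x⁻¹ * y * x * y⁻¹) * x'⁻¹ * (y * x' * y⁻¹) := by rw [hc x'⁻¹]
      _ = (x⁻¹ * y * x * y⁻¹) * (x'⁻¹ * y * x' * y⁻¹) := by group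
  · -- additive in the second variable
    intro v w t
    apply Subtype.ext
    have h1 := hBmk v (w * t) v.out (w.out * t.out) (hout v)
      (by rw [QuotientGroup.mk_mul, hout, hout])
    rw [h1]
    show _ = (B v w : P) * (B v t : P)
    rw [hBmk v w v.out w.out (hout v) (hout w), hBmk v t v.out t.out (hout v) (hout t)]
    set x := v.out
    set y := w.out
    set y' := t.out
    have hc := Z0_central (hcm' x y')
    calc x⁻¹ * (y * y') * x * (y * y')⁻¹ = x⁻¹ * y * x * ((x⁻¹ * y' * x * y'⁻¹) * y⁻¹) := by group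
      _ = x⁻¹ * y * x * (y⁻¹ * (x⁻¹ * y' * x * y'⁻¹)) := by rw [hc y⁻¹]
      _ = (x⁻¹ * y * x * y⁻¹) * (x⁻¹ * y' * x * y'⁻¹) := by group
  · -- anisotropic
    intro v hv
    have h1 : v.out * v.out = 1 := congrArg Subtype.val hv
    have h2 := hinv _ h1
    rw [← hout v]
    exact mk_eq_one_iff.mpr h2
  · intro v
    induction v using QuotientGroup.induction_on with
    | H x =>
      rw [← QuotientGroup.mk_mul]
      exact mk_eq_one_iff.mpr (hsq x)
  · intro w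
    apply Subtype.ext
    exact w.2.2

/-- `K` has `q - 1` elements -/
theorem SuzHyp.card_K (h : SuzHyp P K) : Nat.card ↥K = Nat.card ↥(Z0 P) - 1 := by
  haveI := h.fin
  obtain ⟨u, -, -, hu1, hu2, -⟩ := h.two
  let f : ↥K → ↥(Z0 P) := fun k => ⟨k.1 u, aut_mem_Z0 k.1 (h.mem_Z0_iff.mpr hu2)⟩
  have hf : Function.Injective f := by
    intro k l hkl
    have h1 : k.1 u = l.1 u := congrArg Subtype.val hkl
    have h2 : (l.1⁻¹ * k.1) u = u := by
      show l.1⁻¹ (k.1 u) = u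
      rw [h1]; simp
    have h3 := h.semireg _ (K.mul_mem (K.inv_mem l.2) k.2) u hu1 hu2 h2
    apply Subtype.ext
    have : k.1 = l.1 * (l.1⁻¹ * k.1) := by group
    rw [this, h3, mul_one]
  have hrange : Set.range f = ({1} : Set ↥(Z0 P))ᶜ := by
    ext z
    constructor
    · rintro ⟨k, rfl⟩ h1
      have h2 : k.1 u = 1 := congrArg Subtype.val h1
      apply hu1
      have := congrArg k.1⁻¹ h2
      simpa using this
    · intro hz
      have hz1 : z.1 ≠ 1 := fun h1 => hz (Subtype.ext h1)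
      obtain ⟨k, hk, hkz⟩ := h.trans u z.1 hu1 hu2 hz1 (h.mem_Z0_iff.mp z.2)
      exact ⟨⟨k, hk⟩, Subtype.ext hkz⟩
  rw [← Set.ncard_range_of_injective hf, hrange, Set.ncard_compl, Set.ncard_singleton]

/-- `|K|` divides `|P/Z| - 1` -/
theorem SuzHyp.card_K_dvd (h : SuzHyp P K) : Nat.card ↥K ∣ Nat.card (P ⧸ Z0 P) - 1 := by
  classical
  haveI := h.fin
  haveI : Finite ↥K := Finite.of_injective (fun k : ↥K => (k.1 : P → P)) (by
    intro k l hkl
    apply Subtype.ext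
    ext x
    exact congrFun hkl x)
  letI : MulAction ↥K (P ⧸ Z0 P) :=
    { smul := fun k v => quotAut k.1 v
      one_smul := fun v => quotAut_one v
      mul_smul := fun k l v => quotAut_mul k.1 l.1 v }
  have hsmul : ∀ (k : ↥K) (v : P ⧸ Z0 P), k • v = quotAut k.1 v := fun _ _ => rfl
  letI : Fintype ↥K := Fintype.ofFinite _
  letI : Fintype (P ⧸ Z0 P) := Fintype.ofFinite _
  letI : ∀ k : ↥K, Fintype (MulAction.fixedBy (P ⧸ Z0 P) k) := fun k => Fintype.ofFinite _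
  letI : Fintype (Quotient (MulAction.orbitRel ↥K (P ⧸ Z0 P))) := Fintype.ofFinite _
  have hB := MulAction.sum_card_fixedBy_eq_card_orbits_mul_card_group ↥K (P ⧸ Z0 P)
  have h1 : Fintype.card (MulAction.fixedBy (P ⧸ Z0 P) (1 : ↥K)) = Nat.card (P ⧸ Z0 P) := by
    rw [Fintype.card_eq_nat_card]
    apply Nat.card_congr
    refine ⟨fun v => v.1, fun v => ⟨v, ?_⟩, fun v => rfl, fun v => rfl⟩
    show (1 : ↥K) • v = v
    exact one_smul _ v
  have hk : ∀ k : ↥K, k ≠ 1 → Fintype.card (MulAction.fixedBy (P ⧸ Z0 P) k) = 1 := by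
    intro k hk
    rw [Fintype.card_eq_one_iff]
    refine ⟨⟨1, ?_⟩, ?_⟩
    · show k • (1 : P ⧸ Z0 P) = 1
      rw [hsmul, map_one]
    · rintro ⟨v, hv⟩
      apply Subtype.ext
      show v = 1
      by_contra hv1
      induction v using QuotientGroup.induction_on with
      | H x =>
        have hx : x ∉ Z0 P := fun hx => hv1 (mk_eq_one_iff.mpr hx)
        have hfix : quotAut k.1 (QuotientGroup.mk x : P ⧸ Z0 P) = QuotientGroup.mk x := hv
        exact hk (Subtype.ext (h.semireg_quot k.2 hx hfix))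
  rw [← Finset.add_sum_erase Finset.univ _ (Finset.mem_univ (1 : ↥K)), h1,
    Finset.sum_congr rfl (fun k hk' => hk k (Finset.ne_of_mem_erase hk')), Finset.sum_const,
    Finset.card_erase_of_mem (Finset.mem_univ _), Finset.card_univ, smul_eq_mul, mul_one,
    ← Nat.card_eq_fintype_card (α := ↥K)] at hB
  -- card V + (card K - 1) = N * card K
  have hKpos : 0 < Nat.card ↥K := Nat.card_pos
  have hVpos : 0 < Nat.card (P ⧸ Z0 P) := Nat.card_pos
  set N := Fintype.card (Quotient (MulAction.orbitRel ↥K (P ⧸ Z0 P))) with hN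
  have hN1 : 1 ≤ N := by
    by_contra hlt
    have : N = 0 := by omega
    rw [this, zero_mul] at hB
    omega
  refine ⟨N - 1, ?_⟩
  have : N * Nat.card ↥K = (N - 1) * Nat.card ↥K + Nat.card ↥K := by
    have : N = (N - 1) + 1 := by omega
    conv_lhs => rw [this, add_mul, one_mul]
  rw [mul_comm (Nat.card ↥K)]
  omega

/-- elementary arithmetic: `2^n - 1 ∣ 2^m - 1`, `1 ≤ m ≤ 2n` forces `m = n` or `m = 2n` -/
theorem pow_two_arith {n m : ℕ} (hm1 : 1 ≤ m) (hm2 : m ≤ 2 * n)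
    (hdvd : 2 ^ n - 1 ∣ 2 ^ m - 1) : m = n ∨ m = 2 * n := by
  have hpos : ∀ k : ℕ, 1 ≤ 2 ^ k := fun k => Nat.one_le_two_pow
  have hnm : n ≤ m := by
    by_contra hlt
    push Not at hlt
    have h1 : 2 ^ m - 1 < 2 ^ n - 1 := by
      have := Nat.pow_lt_pow_right (show 1 < 2 by norm_num) hlt
      have := hpos m
      omega
    have h2 : 0 < 2 ^ m - 1 := by
      have : 2 ^ 1 ≤ 2 ^ m := Nat.pow_le_pow_right (by norm_num) hm1
      omega
    exact absurd (Nat.le_of_dvd h2 hdvd) (by omega)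
  obtain ⟨r, rfl⟩ := Nat.exists_eq_add_of_le hnm
  have hr : r ≤ n := by omega
  have e : 2 ^ (n + r) - 1 = 2 ^ r * (2 ^ n - 1) + (2 ^ r - 1) := by
    have h1 := hpos n
    have h2 := hpos r
    rw [pow_add, Nat.mul_sub, mul_one, mul_comm]
    have : 2 ^ r ≤ 2 ^ r * 2 ^ n := Nat.le_mul_of_pos_right _ (by omega)
    omega
  rw [e] at hdvd
  have hd2 : 2 ^ n - 1 ∣ 2 ^ r - 1 :=
    (Nat.dvd_add_right (Dvd.intro_left _ rfl)).mp hdvd
  by_cases hr0 : r = 0
  · left; omega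
  · right
    have h2 : 0 < 2 ^ r - 1 := by
      have : 2 ^ 1 ≤ 2 ^ r := Nat.pow_le_pow_right (by norm_num) (by omega)
      omega
    have h3 := Nat.le_of_dvd h2 hd2
    have h4 : n ≤ r := by
      by_contra hlt
      push Not at hlt
      have := Nat.pow_lt_pow_right (show 1 < 2 by norm_num) hlt
      have := hpos r
      omega
    omega

/-- **Higman**: a nonabelian Suzuki 2-group has order `q²` or `q³` -/
theorem SuzHyp.card_cases (h : SuzHyp P K) (hna : ∃ x y : P, x * y ≠ y * x) :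
    Nat.card P = Nat.card ↥(Z0 P) ^ 2 ∨ Nat.card P = Nat.card ↥(Z0 P) ^ 3 := by
  haveI := h.fin
  haveI : Fact (Nat.Prime 2) := ⟨Nat.prime_two⟩
  obtain ⟨hsq, hcm⟩ := h.class2 hna
  have hle := card_quot_le_of_class2 hsq hcm (fun x hx => h.mem_Z0_iff.mpr hx)
  have hdvd := h.card_K_dvd
  rw [h.card_K] at hdvd
  obtain ⟨n, hn⟩ := (h.pgrp.to_subgroup (Z0 P)).exists_card_eq
  obtain ⟨m, hm⟩ := (h.pgrp.to_quotient (Z0 P)).exists_card_eq
  have hm1 : 1 ≤ m := by
    by_contra hlt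
    have hm0 : m = 0 := by omega
    rw [hm0, pow_zero] at hm
    obtain ⟨x, y, hxy⟩ := hna
    have hsub := (Nat.card_eq_one_iff_unique.mp hm).1
    have h1 : (QuotientGroup.mk x : P ⧸ Z0 P) = 1 := Subsingleton.elim _ _
    exact hxy ((Z0_central (mk_eq_one_iff.mp h1) y).symm)
  rw [hn, hm, ← pow_mul] at hle
  have hm2 : m ≤ 2 * n := by
    have := (Nat.pow_le_pow_iff_right (show 1 < 2 by norm_num)).mp hle
    omega
  rw [hn, hm] at hdvd
  have hcard := Subgroup.card_eq_card_quotient_mul_card_subgroup (Z0 P)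
  rw [hn, hm] at hcard
  rw [hn, hcard]
  rcases pow_two_arith hm1 hm2 hdvd with rfl | rfl
  · left; ring
  · right; ring

end Cfsg.Agent.Lib.Helper19.Suz
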