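import Cfsg.Agent.Lib.Helper19.SuzSqStruct

/-!
# Restriction of the Suzuki hypothesis to invariant subgroups (helper19)
-/

set_option autoImplicit false
set_option linter.style.haveILetI false

namespace Cfsg.Agent.Lib.Helper19.Suz

variable {P : Type*} [Group P] {K : Subgroup (MulAut P)}

/-- the automorphisms of an invariant subgroup induced by `K` -/
def resK (K : Subgroup (MulAut P)) (H : Subgroup P) : Subgroup (MulAut ↥H) where
  carrier := {β | ∃ k ∈ K, ∀ x : ↥H, ((β x : ↥H) : P) = k (x : P)}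
  one_mem' := ⟨1, K.one_mem, fun _ => rfl⟩
  mul_mem' := by
    rintro β₁ β₂ ⟨k₁, hk₁, h₁⟩ ⟨k₂, hk₂, h₂⟩
    refine ⟨k₁ * k₂, K.mul_mem hk₁ hk₂, ?_⟩
    intro x
    show ((β₁ (β₂ x) : ↥H) : P) = k₁ (k₂ (x : P))
    rw [h₁, h₂]
  inv_mem' := by
    rintro β ⟨k, hk, h⟩
    refine ⟨k⁻¹, K.inv_mem hk, ?_⟩
    intro x
    have h1 := h (β⁻¹ x)
    have h2 : β (β⁻¹ x) = x := by simp
    rw [h2] at h1
    rw [h1]
    simp

theorem mem_resK {H : Subgroup P} {β : MulAut ↥H} :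
    β ∈ resK K H ↔ ∃ k ∈ K, ∀ x : ↥H, ((β x : ↥H) : P) = k (x : P) := Iff.rfl

/-- restriction of an automorphism to an invariant subgroup -/
def restrictAut (H : Subgroup P) (k : MulAut P) (hk : ∀ x ∈ H, k x ∈ H)
    (hk' : ∀ x ∈ H, k⁻¹ x ∈ H) : MulAut ↥H where
  toFun x := ⟨k x.1, hk x.1 x.2⟩
  invFun x := ⟨k⁻¹ x.1, hk' x.1 x.2⟩
  left_inv x := by
    apply Subtype.ext
    show k⁻¹ (k x.1) = x.1
    simp
  right_inv x := by
    apply Subtype.ext
    show k (k⁻¹ x.1) = x.1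
    simp
  map_mul' x y := by
    apply Subtype.ext
    show k (x.1 * y.1) = k x.1 * k y.1
    rw [map_mul]

theorem SuzHyp.restrict (h : SuzHyp P K) (H : Subgroup P)
    (hinv : ∀ k ∈ K, ∀ x ∈ H, k x ∈ H) (hZ : Z0 P ≤ H) : SuzHyp ↥H (resK K H) := by
  haveI := h.fin
  refine ⟨inferInstance, h.pgrp.to_subgroup H, ?_, ?_, ?_, ?_⟩
  · rintro β₁ ⟨k₁, hk₁, h₁⟩ β₂ ⟨k₂, hk₂, h₂⟩
    ext x
    show ((β₁ (β₂ x) : ↥H) : P) = ((β₂ (β₁ x) : ↥H) : P)
    rw [h₁, h₂, h₂, h₁]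
    have := h.comm k₁ hk₁ k₂ hk₂
    have h3 := congrArg (fun f : MulAut P => f (x : P)) this
    exact h3
  · intro x y hx1 hx2 hy1 hy2
    have hx1' : (x : P) ≠ 1 := fun e => hx1 (Subtype.ext e)
    have hy1' : (y : P) ≠ 1 := fun e => hy1 (Subtype.ext e)
    have hx2' : (x : P) * (x : P) = 1 := congrArg Subtype.val hx2
    have hy2' : (y : P) * (y : P) = 1 := congrArg Subtype.val hy2
    obtain ⟨k, hk, hkx⟩ := h.trans x y hx1' hx2' hy1' hy2'
    refine ⟨restrictAut H k (hinv k hk) (hinv k⁻¹ (K.inv_mem hk)), ⟨k, hk, fun _ => rfl⟩, ?_⟩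
    apply Subtype.ext
    exact hkx
  · rintro β ⟨k, hk, hβ⟩ x hx1 hx2 hfix
    have hx1' : (x : P) ≠ 1 := fun e => hx1 (Subtype.ext e)
    have hx2' : (x : P) * (x : P) = 1 := congrArg Subtype.val hx2
    have hfix' : k (x : P) = x := by
      rw [← hβ x, hfix]
    have hk1 := h.semireg k hk x hx1' hx2' hfix'
    ext y
    rw [hβ y, hk1]
    rfl
  · obtain ⟨x, y, hxy, hx1, hx2, hy1, hy2⟩ := h.two
    have hxH : x ∈ H := hZ (h.mem_Z0_iff.mpr hx2)
    have hyH : y ∈ H := hZ (h.mem_Z0_iff.mpr hy2)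
    refine ⟨⟨x, hxH⟩, ⟨y, hyH⟩, ?_, ?_, ?_, ?_, ?_⟩
    · intro e; exact hxy (congrArg Subtype.val e)
    · intro e; exact hx1 (congrArg Subtype.val e)
    · exact Subtype.ext hx2
    · intro e; exact hy1 (congrArg Subtype.val e)
    · exact Subtype.ext hy2

/-- the centre of a nonabelian invariant subgroup containing the involutions has exponent two -/
theorem SuzHyp.sub_center_sq (h : SuzHyp P K) (H : Subgroup P)
    (hinv : ∀ k ∈ K, ∀ x ∈ H, k x ∈ H) (hZ : Z0 P ≤ H)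
    (hna : ∃ x ∈ H, ∃ y ∈ H, x * y ≠ y * x) :
    ∀ z ∈ H, (∀ g ∈ H, g * z = z * g) → z * z = 1 := by
  have hH := h.restrict H hinv hZ
  obtain ⟨x, hx, y, hy, hxy⟩ := hna
  have hna' : ∃ a b : ↥H, a * b ≠ b * a :=
    ⟨⟨x, hx⟩, ⟨y, hy⟩, fun e => hxy (congrArg Subtype.val e)⟩
  intro z hz hcen
  have hzc : (⟨z, hz⟩ : ↥H) ∈ Subgroup.center ↥H := by
    rw [Subgroup.mem_center_iff]
    intro g
    apply Subtype.ext
    exact hcen g.1 g.2
  have := hH.center_sq hna' ⟨z, hz⟩ hzc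
  exact congrArg Subtype.val this

/-- `K` is semiregular on all of `P` -/
theorem SuzHyp.semireg_all (h : SuzHyp P K) {k : MulAut P} (hk : k ∈ K) {x : P} (hx : x ≠ 1)
    (hfix : k x = x) : k = 1 := by
  haveI := h.fin
  obtain ⟨n, hn1, hn2⟩ := exists_pow_involution h.pgrp hx
  apply h.semireg k hk (x ^ n) hn1 hn2
  rw [map_pow, hfix]

/-- for `k ≠ 1` in `K` the map `x ↦ x⁻¹ * k x` is onto -/
theorem SuzHyp.surj_inv_mul (h : SuzHyp P K) {k : MulAut P} (hk : k ∈ K) (hk1 : k ≠ 1) (g : P) :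
    ∃ x : P, x⁻¹ * k x = g := by
  haveI := h.fin
  have hinj : Function.Injective (fun x : P => x⁻¹ * k x) := by
    intro x y hxy
    have hxy' : x⁻¹ * k x = y⁻¹ * k y := hxy
    by_contra hne
    have h1 : y * x⁻¹ ≠ 1 := by
      intro e
      apply hne
      have : y = x := by
        have := congrArg (· * x) e
        simpa using this
      exact this.symm
    apply hk1
    apply h.semireg_all hk h1
    rw [map_mul, map_inv]
    have : k y = y * (x⁻¹ * k x) := by rw [hxy']; group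
    rw [this]; group
  exact (Finite.injective_iff_surjective.mp hinj) g

/-- `K` contains a non-identity element -/
theorem SuzHyp.exists_ne_one (h : SuzHyp P K) : ∃ k ∈ K, k ≠ 1 := by
  obtain ⟨x, y, hxy, hx1, hx2, hy1, hy2⟩ := h.two
  obtain ⟨k, hk, hkx⟩ := h.trans x y hx1 hx2 hy1 hy2
  refine ⟨k, hk, ?_⟩
  rintro rfl
  exact hxy hkx

end Cfsg.Agent.Lib.Helper19.Suz
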