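import Cfsg.Agent.Lib.Helper19.SuzHigAb2

/-!
# Higman's class-two theorem for Suzuki 2-groups (helper19)

`SuzHyp.class2`: in a nonabelian Suzuki 2-group all squares and all commutators lie in
`Z0 P = Ω₁(Z(P))`.
-/

set_option autoImplicit false
set_option linter.style.haveILetI false

namespace Cfsg.Agent.Lib.Helper19.Suz

variable {P : Type*} [Group P] {K : Subgroup (MulAut P)} {A : Subgroup P}

namespace CoordHyp

variable {F : Type} [Field F] [Fintype F] [CharP F 2] {aZ : P → F} {κ : MulAut P → F}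
  {c : (F ≃+* F) → P → F}

section
variable (H : CoordHyp P K A F aZ κ c)
include H

/-- `β` vanishes on pairs of pure elements -/
theorem beta_pure_pure {x y : P} {τ₁ τ₂ : F ≃+* F} (hp₁ : ∀ τ', τ' ≠ τ₁ → c τ' x = 0)
    (hp₂ : ∀ τ', τ' ≠ τ₂ → c τ' y = 0) : beta aZ x y = 0 := by
  by_contra hb
  have r1 := H.beta_pure hp₁ y
  have r2 := H.beta_pure hp₂ x
  rw [H.beta_symm] at r2
  have hne₁ : c τ₁ x ≠ 0 := by
    intro e
    rw [e, zero_mul] at r1
    exact hb r1.symm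
  have hne₂ : c τ₂ y ≠ 0 := by
    intro e
    rw [e, zero_mul] at r2
    exact hb r2.symm
  have hτ₁ : τ₁ ≠ 1 := by
    rintro rfl
    exact hne₁ (H.c_id x)
  have hτ₂ : τ₂ ≠ 1 := by
    rintro rfl
    exact hne₂ (H.c_id y)
  set b := beta aZ x y with hbd
  have hτ₂b : τ₂ b ≠ 0 := fun e => hb ((map_eq_zero τ₂).mp e)
  -- the functional equation
  have hfun : ∀ u : F, τ₂ u * (τ₂.trans (frobeniusEquiv F 2)) u
      = (RingEquiv.refl F) u * (τ₁.symm.trans τ₂) u := by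
    intro u
    by_cases hu : u = 0
    · rw [hu]; simp
    obtain ⟨k, hk, hkκ⟩ := H.κ_surj u hu
    have hτ₁u : τ₁ u ≠ 0 := fun e => hu ((map_eq_zero τ₁).mp e)
    have hτ₂u : τ₂ u ≠ 0 := fun e => hu ((map_eq_zero τ₂).mp e)
    have t1 := H.beta_twist hp₁ hne₁ hk y
    -- twist in the second variable, at the point `k x`
    have t2 := H.beta_twist hp₂ hne₂ hk (k x)
    rw [H.beta_symm (k x) (k y), H.beta_symm (k x) y, H.beta_κ hk, hkκ] at t2
    rw [hkκ] at t1
    -- solve for β (k x) y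
    have t1' : beta aZ (k x) y = τ₁.symm (u * (τ₁ u)⁻¹) * b := by
      apply τ₁.injective
      rw [t1, map_mul, RingEquiv.apply_symm_apply]
    rw [t1', map_mul, map_mul, map_mul, map_mul, map_inv₀, RingEquiv.symm_apply_apply,
      ← hbd] at t2
    have t3 : τ₂ u = u * (τ₂ u)⁻¹ * (τ₂ (τ₁.symm u) * (τ₂ u)⁻¹) := by
      have t2' : τ₂ u * τ₂ b = (u * (τ₂ u)⁻¹ * (τ₂ (τ₁.symm u) * (τ₂ u)⁻¹)) * τ₂ b := by
        rw [t2, map_inv₀]; ring
      exact mul_right_cancel₀ hτ₂b t2'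
    show τ₂ u * (frobeniusEquiv F 2 (τ₂ u)) = u * τ₂ (τ₁.symm u)
    rw [frobeniusEquiv_apply, frobenius_def]
    have t4 : τ₂ u * (τ₂ u * τ₂ u) = u * τ₂ (τ₁.symm u) := by
      have e : τ₂ u * (τ₂ u * τ₂ u)
          = (u * (τ₂ u)⁻¹ * (τ₂ (τ₁.symm u) * (τ₂ u)⁻¹)) * (τ₂ u * τ₂ u) := by rw [← t3]
      rw [e]
      field_simp
    rw [pow_two]; exact t4
  rcases four_aut _ _ _ _ hfun with ⟨ha, -⟩ | ⟨ha, -⟩
  · exact hτ₂ ha
  · apply hτ₁
    ext v
    have := congrArg (fun e : F ≃+* F => e (τ₁ v)) ha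
    simp only [RingEquiv.trans_apply, RingEquiv.symm_apply_apply] at this
    exact τ₂.injective this

/-- the final contradiction -/
theorem absurd : False := by
  classical
  obtain ⟨τ, x, hp, hne⟩ := H.exists_pure
  -- the subgroup of elements commuting with `x` modulo `Z`
  let S : Subgroup P := (Subgroup.centralizer {(QuotientGroup.mk x : P ⧸ Z0 P)}).comap
    (QuotientGroup.mk' (Z0 P))
  have hS : ∀ g : P, g ∈ S ↔ x⁻¹ * g⁻¹ * x * g ∈ Z0 P := by
    intro g
    show (QuotientGroup.mk g : P ⧸ Z0 P) ∈ Subgroup.centralizer {(QuotientGroup.mk x : P ⧸ Z0 P)} ↔ _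
    rw [Subgroup.mem_centralizer_iff]
    simp only [Set.mem_singleton_iff, forall_eq]
    have e : x⁻¹ * g⁻¹ * x * g = (g * x)⁻¹ * (x * g) := by group
    rw [e, ← QuotientGroup.eq]
    constructor
    · intro h1; exact h1.symm
    · intro h1; exact h1.symm
  have hpureS : ∀ (y : P) (σ : F ≃+* F), (∀ τ', τ' ≠ σ → c τ' y = 0) → y ∈ S := by
    intro y σ hy
    rw [hS]
    have hb := H.beta_pure_pure hp hy
    have hw := H.comm_mem_A x y
    have h1 := H.aZ_inj _ (H.ab.Asq _ hw) hb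
    exact H.ab.suz.mem_Z0_iff.mpr h1
  have hAS : ∀ a ∈ A, a ∈ S := by
    intro a ha
    rw [hS]
    have e : x⁻¹ * a⁻¹ * x * a = (a⁻¹ * x⁻¹ * a * x)⁻¹ := by group
    rw [e]
    exact Subgroup.inv_mem _ (H.ab.Acm a ha x)
  have hall : ∀ g : P, g ∈ S := by
    intro g
    choose y hy1 hy2 using H.pure_comp g
    let l : List P := (Finset.univ : Finset (F ≃+* F)).toList.map y
    have hl : l.prod ∈ S := by
      apply Subgroup.list_prod_mem
      intro t ht
      obtain ⟨σ, -, rfl⟩ := List.mem_map.mp ht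
      exact hpureS (y σ) σ (hy2 σ)
    have ht : g * l.prod ∈ A := by
      apply H.C_le_A
      intro τ'
      rw [H.c_mul, H.c_list, List.map_map, Finset.sum_map_toList]
      show c τ' g + ∑ σ : F ≃+* F, c τ' (y σ) = 0
      rw [Finset.sum_eq_single τ' (fun σ _ hσ => hy2 σ τ' (Ne.symm hσ))
          (fun hτ => False.elim (hτ (Finset.mem_univ τ'))), hy1, CharTwo.add_self_eq_zero]
    have : g = (g * l.prod) * l.prod⁻¹ := by group
    rw [this]
    exact S.mul_mem (hAS _ ht) (S.inv_mem hl)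
  have hxA : x ∈ A := by
    apply H.ab.Amax x (H.pure_sq hp hne)
    intro g
    exact (hS g).mp (hall g)
  exact hne (H.c_of_mem_A hxA τ)

end

end CoordHyp

/-- the abelian case is impossible -/
theorem AbHyp.absurd (h : AbHyp P K A) : False := by
  obtain ⟨F, iF, iFt, iC, aZ, κ, c, P1, P2, P4a, P4b, P4c, P8, P5, P6, P7⟩ := h.coords
  exact CoordHyp.absurd (⟨h, P1, P2, P4a, P4b, P4c, P8, P5, P6, P7⟩ : CoordHyp P K A F aZ κ c)

/-- **Higman**: a nonabelian Suzuki 2-group has all squares and commutators in `Z0 P`. -/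
theorem SuzHyp.class2 (h : SuzHyp P K) (hna : ∃ x y : P, x * y ≠ y * x) :
    (∀ x : P, x * x ∈ Z0 P) ∧ (∀ x y : P, x⁻¹ * y⁻¹ * x * y ∈ Z0 P) := by
  by_cases hN : ∃ x ∈ Nsub P, ∃ y ∈ Nsub P, x * y ≠ y * x
  · exact h.class2_of_N_nonabelian hN
  · exfalso
    push Not at hN
    have hab : AbHyp P K (Nsub P) := by
      refine ⟨h, hna, fun k _ a ha => aut_mem_Nsub k ha, hN, Z0_le_Nsub,
        fun a ha => (mem_Nsub.mp ha).1, fun a ha => (mem_Nsub.mp ha).2,
        fun x hx1 hx2 => mem_Nsub.mpr ⟨hx1, hx2⟩, h.exists_mem_Nsub hna⟩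
    exact hab.absurd

end Cfsg.Agent.Lib.Helper19.Suz
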