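import Cfsg.Agent.Lib.Helper19.SuzQuot

/-!
# Suzuki 2-groups: the Hua-identity argument (helper19)

An equivariant alternating biadditive map `c` on `P / Z(P) ≅ Ω₁(P)` vanishes.
-/

set_option autoImplicit false
set_option linter.style.haveILetI false

namespace Cfsg.Agent.Lib.Helper19.Suz

variable {P : Type*} [Group P] {K : Subgroup (MulAut P)}

theorem hua (h : SuzHyp P K) (ψ : P → P) (c : P → P → P)
    (ψmul : ∀ x y, ψ (x * y) = ψ x * ψ y)
    (ψsq : ∀ x, ψ x * ψ x = 1)
    (ψker : ∀ x, ψ x = 1 → x ∈ Subgroup.center P)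
    (ψK : ∀ k ∈ K, ∀ x, ψ (k x) = k (ψ x))
    (cmul : ∀ x y y', c x (y * y') = c x y * c x y')
    (csymm : ∀ x y, c x y = c y x)
    (cself : ∀ x, c x x = 1)
    (cK : ∀ k ∈ K, ∀ x y, c (k x) (k y) = k (c x y))
    (ccen : ∀ x w, w ∈ Subgroup.center P → c x w = 1)
    (csq : ∀ x y, c x y * c x y = 1)
    (e y : P) : c e y = 1 := by
  -- basic facts on ψ
  have ψone : ψ 1 = 1 := by
    have := ψmul 1 1
    rw [mul_one] at this
    exact (mul_eq_left.mp this.symm)
  have ψinv : ∀ x, ψ x⁻¹ = (ψ x)⁻¹ := by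
    intro x
    have := ψmul x⁻¹ x
    rw [inv_mul_cancel, ψone] at this
    exact eq_inv_of_mul_eq_one_left this.symm
  -- commutativity of elements squaring to one
  have hcomm : ∀ {a : P}, a * a = 1 → ∀ g, g * a = a * g := fun ha =>
    Subgroup.mem_center_iff.mp (h.sq_one_central ha)
  -- two elements with the same ψ differ by a central element
  have hdiff : ∀ a b : P, ψ a = ψ b → ∃ w ∈ Subgroup.center P, a = w * b := by
    intro a b hab
    refine ⟨a * b⁻¹, ψker _ ?_, by group⟩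
    rw [ψmul, ψinv, hab, mul_inv_cancel]
  have cmulcen : ∀ x w b, w ∈ Subgroup.center P → c x (w * b) = c x b := by
    intro x w b hw
    rw [cmul, ccen x w hw, one_mul]
  by_cases he : ψ e = 1
  · rw [csymm]; exact ccen y e (ψker e he)
  set z₁ := ψ e with hz₁
  have hz₁2 : z₁ * z₁ = 1 := ψsq e
  -- g(k) = c e (k e); the key claim
  have hclaim : ∀ k ∈ K, c e ((k * k) e) = 1 := by
    intro k hk
    by_cases hfix : k z₁ = z₁
    · have := h.semireg k hk z₁ he hz₁2 hfix
      rw [this]; exact cself e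
    · -- p = k z₁ * z₁ is an involution
      have hkz2 : k z₁ * k z₁ = 1 := by rw [← map_mul, hz₁2, map_one]
      have hp1 : k z₁ * z₁ ≠ 1 := by
        intro h1
        apply hfix
        have : k z₁ = z₁⁻¹ := eq_inv_of_mul_eq_one_left h1
        rw [this]; exact inv_eq_of_mul_eq_one_left hz₁2
      have hzk : z₁ * k z₁ = k z₁ * z₁ := hcomm hkz2 z₁
      have hp2 : (k z₁ * z₁) * (k z₁ * z₁) = 1 := by
        calc (k z₁ * z₁) * (k z₁ * z₁) = k z₁ * (z₁ * k z₁) * z₁ := by group
          _ = k z₁ * (k z₁ * z₁) * z₁ := by rw [hzk]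
          _ = (k z₁ * k z₁) * (z₁ * z₁) := by group
          _ = 1 := by rw [hkz2, hz₁2, one_mul]
      obtain ⟨m, hm, hmz⟩ := h.trans z₁ (k z₁ * z₁) he hz₁2 hp1 hp2
      have hkm : k * m = m * k := h.comm k hk m hm
      -- (1) m e = w₁ * (k e * e)
      obtain ⟨w₁, hw₁, h1⟩ := hdiff (m e) (k e * e) (by
        rw [ψK m hm, ψmul, ψK k hk, ← hz₁, hmz])
      -- m z₁ * k z₁ = z₁
      have hmk : m z₁ * k z₁ = z₁ := by
        rw [hmz]
        calc k z₁ * z₁ * k z₁ = k z₁ * (z₁ * k z₁) := by group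
          _ = k z₁ * (k z₁ * z₁) := by rw [hzk]
          _ = (k z₁ * k z₁) * z₁ := by group
          _ = z₁ := by rw [hkz2, one_mul]
      -- (2) (km)⁻¹ z₁ = k⁻¹ z₁ * m⁻¹ z₁
      have h2z : (k * m)⁻¹ z₁ = k⁻¹ z₁ * m⁻¹ z₁ := by
        apply (k * m).injective
        rw [MulAut.apply_inv_self, map_mul]
        have e1 : (k * m) (k⁻¹ z₁) = m z₁ := by
          rw [hkm]; show m (k (k⁻¹ z₁)) = m z₁; rw [MulAut.apply_inv_self]
        have e2 : (k * m) (m⁻¹ z₁) = k z₁ := by
          show k (m (m⁻¹ z₁)) = k z₁; rw [MulAut.apply_inv_self]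
        rw [e1, e2, hmk]
      have hkmK : k * m ∈ K := K.mul_mem hk hm
      obtain ⟨w₂, hw₂, h2⟩ := hdiff ((k * m)⁻¹ e) (k⁻¹ e * m⁻¹ e) (by
        rw [ψK _ (K.inv_mem hkmK), ψmul, ψK _ (K.inv_mem hk), ψK _ (K.inv_mem hm), ← hz₁, h2z])
      -- (3)
      have h3 : c e ((k * m)⁻¹ e) = c e (k⁻¹ e) * c e (m⁻¹ e) := by
        rw [h2, cmulcen _ _ _ hw₂, cmul]
      have h4 : c e (k⁻¹ e) = k⁻¹ (c e (k e)) := by
        rw [← cK _ (K.inv_mem hk), MulAut.inv_apply_self, csymm]
      have h5a : c e (m⁻¹ e) = m⁻¹ (c e (m e)) := by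
        rw [← cK _ (K.inv_mem hm), MulAut.inv_apply_self, csymm]
      have h5b : c e (m e) = c e (k e) := by
        rw [h1, cmulcen _ _ _ hw₁, cmul, cself, mul_one]
      have h5 : c e (m⁻¹ e) = m⁻¹ (c e (k e)) := by rw [h5a, h5b]
      have h6 : c e ((k * m)⁻¹ e) = (k * m)⁻¹ (c e ((k * m) e)) := by
        rw [← cK _ (K.inv_mem hkmK), MulAut.inv_apply_self, csymm]
      -- (4)
      have h7 : c e ((k * m) e) = m (c e (k e)) * k (c e (k e)) := by
        have h8 : (k * m)⁻¹ (c e ((k * m) e)) = k⁻¹ (c e (k e)) * m⁻¹ (c e (k e)) := by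
          rw [← h6, h3, h4, h5]
        have h9 := congrArg (fun t => (k * m) t) h8
        simp only [MulAut.apply_inv_self, map_mul] at h9
        rw [h9]
        have e1 : (k * m) (k⁻¹ (c e (k e))) = m (c e (k e)) := by
          rw [hkm]; show m (k (k⁻¹ _)) = _; rw [MulAut.apply_inv_self]
        have e2 : (k * m) (m⁻¹ (c e (k e))) = k (c e (k e)) := by
          show k (m (m⁻¹ _)) = _; rw [MulAut.apply_inv_self]
        rw [e1, e2]
      -- (5) m v * k v = v for v squaring to one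
      have h10 : ∀ v : P, v * v = 1 → m v * k v = v := by
        intro v hv2
        by_cases hv1 : v = 1
        · rw [hv1, map_one, map_one, one_mul]
        · obtain ⟨j, hj, hjv⟩ := h.trans z₁ v he hz₁2 hv1 hv2
          rw [← hjv]
          have e1 : m (j z₁) = j (m z₁) := by
            have := h.comm m hm j hj
            show (m * j) z₁ = (j * m) z₁
            rw [this]
          have e2 : k (j z₁) = j (k z₁) := by
            have := h.comm k hk j hj
            show (k * j) z₁ = (j * k) z₁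
            rw [this]
          rw [e1, e2, ← map_mul, hmk]
      -- (6)
      have h11 : c e ((k * m) e) = c e (k e) := by
        rw [h7]; exact h10 _ (csq _ _)
      -- (km) e = k w₁ * (k² e * k e)
      have h12 : (k * m) e = k w₁ * ((k * k) e * k e) := by
        show k (m e) = _
        rw [h1, map_mul, map_mul]; rfl
      rw [h12, cmulcen _ _ _ (aut_mem_center k hw₁), cmul] at h11
      exact mul_eq_right.mp h11
  have hall : ∀ j ∈ K, c e (j e) = 1 := by
    intro j hj
    obtain ⟨k, hk, hkk⟩ := h.exists_sq hj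
    rw [← hkk]
    exact hclaim k hk
  by_cases hy : ψ y = 1
  · exact ccen e y (ψker y hy)
  · obtain ⟨j, hj, hjy⟩ := h.trans z₁ (ψ y) he hz₁2 hy (ψsq y)
    obtain ⟨w, hw, hyw⟩ := hdiff y (j e) (by rw [ψK j hj, ← hz₁, hjy])
    rw [hyw, cmulcen _ _ _ hw]
    exact hall j hj

end Cfsg.Agent.Lib.Helper19.Suz
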