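import Cfsg.Agent.Lib.Helper19.SuzBasic

/-!
# Suzuki 2-groups: the quotient by `Ω₁` (helper19)
-/

set_option autoImplicit false
set_option linter.style.haveILetI false

namespace Cfsg.Agent.Lib.Helper19.Suz

variable {P : Type*} [Group P] {K : Subgroup (MulAut P)}

/-- every element of `K` is a square in `K` -/
theorem SuzHyp.exists_sq (h : SuzHyp P K) {j : MulAut P} (hj : j ∈ K) :
    ∃ k ∈ K, k * k = j := by
  haveI := h.fin
  -- no element of order two in K
  have hno2 : ∀ a ∈ K, a * a = 1 → a = 1 := by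
    intro a ha ha2
    obtain ⟨u, -, _, hu1, hu2, -⟩ := h.two
    by_cases hfix : a u = u
    · exact h.semireg a ha u hu1 hu2 hfix
    · have hau1 : a u ≠ 1 := by
        intro h1
        apply hu1
        have := congrArg a⁻¹ h1
        simpa using this
      have hau2 : a u * a u = 1 := by rw [← map_mul, hu2, map_one]
      have huc := h.inv_central hu1 hu2
      have hcomm : a u * u = u * a u := (Subgroup.mem_center_iff.mp huc) (a u)
      have haau : a (a u) = u := by
        have : (a * a) u = u := by rw [ha2]; rfl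
        simpa using this
      have hv1 : u * a u ≠ 1 := by
        intro h1
        apply hfix
        have h3 : a u = u⁻¹ := (inv_eq_of_mul_eq_one_right h1).symm
        rw [h3]
        exact inv_eq_of_mul_eq_one_left hu2
      have hv2 : (u * a u) * (u * a u) = 1 := by
        calc (u * a u) * (u * a u) = u * (a u * u) * a u := by group
          _ = u * (u * a u) * a u := by rw [hcomm]
          _ = (u * u) * (a u * a u) := by group
          _ = 1 := by rw [hu2, hau2, one_mul]
      have hvfix : a (u * a u) = u * a u := by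
        rw [map_mul, haau, hcomm]
      exact h.semireg a ha _ hv1 hv2 hvfix
  have hodd : Odd (orderOf j) := by
    rcases Nat.even_or_odd (orderOf j) with he | ho
    · exfalso
      obtain ⟨t, ht⟩ := he
      have hpos : 0 < orderOf j := orderOf_pos j
      have ht0 : 0 < t := by omega
      have h1 : j ^ t * j ^ t = 1 := by rw [← pow_add, ← ht, pow_orderOf_eq_one]
      have h2 := hno2 (j ^ t) (Subgroup.pow_mem K hj t) h1
      have := orderOf_dvd_of_pow_eq_one h2
      have := Nat.le_of_dvd ht0 this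
      omega
    · exact ho
  obtain ⟨t, ht⟩ := hodd
  refine ⟨j ^ (t + 1), Subgroup.pow_mem K hj _, ?_⟩
  rw [← pow_add]
  have : t + 1 + (t + 1) = orderOf j + 1 := by omega
  rw [this, pow_succ, pow_orderOf_eq_one, one_mul]

/-- If the centre has an element of order at least four, every involution is the square of
a central element. -/
theorem SuzHyp.invol_is_sq (h : SuzHyp P K) {z : P} (hz : z ∈ Subgroup.center P)
    (hz2 : z * z ≠ 1) {y : P} (hy1 : y ≠ 1) (hy2 : y * y = 1) :
    ∃ c ∈ Subgroup.center P, c * c = y := by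
  haveI : Fact (Nat.Prime 2) := ⟨Nat.prime_two⟩
  obtain ⟨m, hm⟩ := (IsPGroup.iff_orderOf.mp h.pgrp) z
  have hm2 : 2 ≤ m := by
    by_contra hlt
    have hm1 : m = 0 ∨ m = 1 := by omega
    rcases hm1 with rfl | rfl
    · rw [pow_zero, orderOf_eq_one_iff] at hm
      apply hz2; rw [hm, one_mul]
    · apply hz2
      have : z ^ 2 = 1 := by rw [← pow_orderOf_eq_one z, hm, pow_one]
      rw [← pow_two]; exact this
  obtain ⟨m', rfl⟩ : ∃ m', m = m' + 2 := ⟨m - 2, by omega⟩
  -- w = z^(2^m') has order 4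
  set w := z ^ 2 ^ m' with hw
  have hwc : w ∈ Subgroup.center P := Subgroup.pow_mem _ hz _
  have hw4 : (w * w) * (w * w) = 1 := by
    rw [hw, ← pow_add, ← pow_add]
    have : 2 ^ m' + 2 ^ m' + (2 ^ m' + 2 ^ m') = 2 ^ (m' + 2) := by ring
    rw [this, ← hm, pow_orderOf_eq_one]
  have hw2 : w * w ≠ 1 := by
    intro h1
    rw [hw, ← pow_add] at h1
    have := orderOf_dvd_of_pow_eq_one h1
    rw [hm] at this
    have h2 := Nat.le_of_dvd (by positivity) this
    have : 2 ^ (m' + 2) = 4 * 2 ^ m' := by ring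
    have : 0 < 2 ^ m' := by positivity
    omega
  obtain ⟨k, -, hk⟩ := h.trans (w * w) y hw2 hw4 hy1 hy2
  refine ⟨k w, aut_mem_center k hwc, ?_⟩
  rw [← map_mul, hk]

/-- If the centre has an element of order at least four, every element of order dividing four
is central. -/
theorem SuzHyp.four_central (h : SuzHyp P K) {z : P} (hz : z ∈ Subgroup.center P)
    (hz2 : z * z ≠ 1) {x : P} (hx4 : (x * x) * (x * x) = 1) : x ∈ Subgroup.center P := by
  by_cases hx2 : x * x = 1
  · exact h.sq_one_central hx2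
  · obtain ⟨c, hc, hcc⟩ := h.invol_is_sq hz hz2 hx2 hx4
    have hcomm : ∀ g, g * c = c * g := Subgroup.mem_center_iff.mp hc
    have h1 : (x * c⁻¹) * (x * c⁻¹) = 1 := by
      have hc' : c⁻¹ * x = x * c⁻¹ := by
        have := hcomm x
        calc c⁻¹ * x = c⁻¹ * (x * c) * c⁻¹ := by group
          _ = c⁻¹ * (c * x) * c⁻¹ := by rw [this]
          _ = x * c⁻¹ := by group
      calc (x * c⁻¹) * (x * c⁻¹) = x * (c⁻¹ * x) * c⁻¹ := by group
        _ = x * (x * c⁻¹) * c⁻¹ := by rw [hc']
        _ = (x * x) * (c * c)⁻¹ := by group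
        _ = 1 := by rw [hcc, mul_inv_cancel]
    have h2 := h.sq_one_central h1
    have : x = (x * c⁻¹) * c := by group
    rw [this]
    exact Subgroup.mul_mem _ h2 hc

/-- the automorphism of `P ⧸ Z0 P` induced by an automorphism of `P` -/
noncomputable def quotAut (k : MulAut P) : MulAut (P ⧸ Z0 P) :=
  QuotientGroup.congr (Z0 P) (Z0 P) k (map_Z0 k)

@[simp] theorem quotAut_mk (k : MulAut P) (x : P) :
    quotAut k (QuotientGroup.mk x : P ⧸ Z0 P) = QuotientGroup.mk (k x) :=
  QuotientGroup.congr_mk _ _ _ _ _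

/-- the induced group of automorphisms on the quotient -/
def Kbar (K : Subgroup (MulAut P)) : Subgroup (MulAut (P ⧸ Z0 P)) where
  carrier := {β | ∃ k ∈ K, ∀ x : P, β (QuotientGroup.mk x) = QuotientGroup.mk (k x)}
  one_mem' := ⟨1, K.one_mem, fun x => rfl⟩
  mul_mem' := by
    rintro a b ⟨k, hk, hka⟩ ⟨l, hl, hlb⟩
    refine ⟨k * l, K.mul_mem hk hl, fun x => ?_⟩
    show a (b _) = _
    rw [hlb, hka]; rfl
  inv_mem' := by
    rintro a ⟨k, hk, hka⟩
    refine ⟨k⁻¹, K.inv_mem hk, fun x => ?_⟩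
    have h1 : a (QuotientGroup.mk (k⁻¹ x)) = QuotientGroup.mk x := by
      rw [hka]; simp
    have h2 : a⁻¹ (a (QuotientGroup.mk (k⁻¹ x))) = a⁻¹ (QuotientGroup.mk x) := congrArg (fun q => a⁻¹ q) h1
    rw [MulAut.inv_apply_self] at h2
    exact h2.symm

theorem mem_Kbar {β : MulAut (P ⧸ Z0 P)} :
    β ∈ Kbar K ↔ ∃ k ∈ K, ∀ x : P, β (QuotientGroup.mk x) = QuotientGroup.mk (k x) := Iff.rfl

theorem quotAut_mem_Kbar {k : MulAut P} (hk : k ∈ K) : quotAut k ∈ Kbar K :=
  ⟨k, hk, fun x => quotAut_mk k x⟩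

theorem mk_eq_one_iff {x : P} : (QuotientGroup.mk x : P ⧸ Z0 P) = 1 ↔ x ∈ Z0 P :=
  QuotientGroup.eq_one_iff x

end Cfsg.Agent.Lib.Helper19.Suz

namespace Cfsg.Agent.Lib.Helper19.Suz

variable {P : Type*} [Group P] {K : Subgroup (MulAut P)}

theorem mk_sq_eq_one_iff (h : SuzHyp P K) {x : P} :
    (QuotientGroup.mk x : P ⧸ Z0 P) * QuotientGroup.mk x = 1 ↔ (x * x) * (x * x) = 1 := by
  rw [← QuotientGroup.mk_mul, mk_eq_one_iff, h.mem_Z0_iff]

/-- The quotient `P ⧸ Ω₁(P)` again satisfies the hypotheses, if `Z(P)` is not elementary. -/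
theorem SuzHyp.quot (h : SuzHyp P K) {z : P} (hz : z ∈ Subgroup.center P) (hz2 : z * z ≠ 1) :
    SuzHyp (P ⧸ Z0 P) (Kbar K) := by
  haveI := h.fin
  have hfour : ∀ {x : P}, (x * x) * (x * x) = 1 → x ∈ Subgroup.center P :=
    fun hx => h.four_central hz hz2 hx
  -- key: two elements of order dividing 4 with the same square agree mod Z0
  have hkey : ∀ {a b : P}, (a * a) * (a * a) = 1 → (b * b) * (b * b) = 1 → a * a = b * b →
      (QuotientGroup.mk a : P ⧸ Z0 P) = QuotientGroup.mk b := by
    intro a b ha hb hab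
    rw [QuotientGroup.eq, h.mem_Z0_iff]
    have hac := Subgroup.mem_center_iff.mp (hfour ha)
    calc a⁻¹ * b * (a⁻¹ * b) = a⁻¹ * (b * a⁻¹) * b := by group
      _ = a⁻¹ * (a⁻¹ * b) * b := by
          have : b * a⁻¹ = a⁻¹ * b := by
            have := hac b
            calc b * a⁻¹ = a⁻¹ * (a * b) * a⁻¹ := by group
              _ = a⁻¹ * (b * a) * a⁻¹ := by rw [this]
              _ = a⁻¹ * b := by group
          rw [this]
      _ = (a * a)⁻¹ * (b * b) := by group
      _ = 1 := by rw [hab, inv_mul_cancel]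
  refine ⟨inferInstance, h.pgrp.to_quotient _, ?_, ?_, ?_, ?_⟩
  · -- commutativity
    rintro a ⟨k, hk, hka⟩ b ⟨l, hl, hlb⟩
    apply MulEquiv.ext
    intro q
    induction q using QuotientGroup.induction_on with
    | H x =>
      show a (b _) = b (a _)
      rw [hlb, hka, hka, hlb]
      have := h.comm k hk l hl
      have h3 : (k * l) x = (l * k) x := by rw [this]
      exact congrArg _ h3
  · -- transitivity
    intro q r hq1 hq2 hr1 hr2
    induction q using QuotientGroup.induction_on with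
    | H x =>
    induction r using QuotientGroup.induction_on with
    | H y =>
      have hx4 := (mk_sq_eq_one_iff h).mp hq2
      have hy4 := (mk_sq_eq_one_iff h).mp hr2
      have hx2 : x * x ≠ 1 := fun h1 => hq1 (mk_eq_one_iff.mpr (h.mem_Z0_iff.mpr h1))
      have hy2 : y * y ≠ 1 := fun h1 => hr1 (mk_eq_one_iff.mpr (h.mem_Z0_iff.mpr h1))
      obtain ⟨k, hk, hkxy⟩ := h.trans (x * x) (y * y) hx2 hx4 hy2 hy4
      refine ⟨quotAut k, quotAut_mem_Kbar hk, ?_⟩
      rw [quotAut_mk]
      apply hkey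
      · rw [← map_mul, ← map_mul, hx4, map_one]
      · exact hy4
      · rw [← map_mul, hkxy]
  · -- semiregularity
    rintro β ⟨k, hk, hkβ⟩ q hq1 hq2 hfix
    induction q using QuotientGroup.induction_on with
    | H x =>
      have hx4 := (mk_sq_eq_one_iff h).mp hq2
      have hx2 : x * x ≠ 1 := fun h1 => hq1 (mk_eq_one_iff.mpr (h.mem_Z0_iff.mpr h1))
      rw [hkβ, QuotientGroup.eq, h.mem_Z0_iff] at hfix
      -- (k x)⁻¹ * x squares to one, both central, so (k x)^2 = x^2
      have hxc := Subgroup.mem_center_iff.mp (hfour hx4)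
      have hk1 : k (x * x) = x * x := by
        rw [map_mul]
        have e1 : (k x)⁻¹ * x * ((k x)⁻¹ * x) = (k x * k x)⁻¹ * (x * x) := by
          calc (k x)⁻¹ * x * ((k x)⁻¹ * x) = (k x)⁻¹ * (x * (k x)⁻¹) * x := by group
            _ = (k x)⁻¹ * ((k x)⁻¹ * x) * x := by
                have : x * (k x)⁻¹ = (k x)⁻¹ * x := (hxc _).symm
                rw [this]
            _ = (k x * k x)⁻¹ * (x * x) := by group
        rw [e1] at hfix
        have := inv_mul_eq_one.mp hfix
        exact this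
      have hk1' : k = 1 := h.semireg k hk (x * x) hx2 hx4 hk1
      apply MulEquiv.ext
      intro r
      induction r using QuotientGroup.induction_on with
      | H y => rw [hkβ, hk1']; rfl
  · -- at least two involutions
    obtain ⟨u, v, huv, hu1, hu2, hv1, hv2⟩ := h.two
    obtain ⟨c, hc, hcc⟩ := h.invol_is_sq hz hz2 hu1 hu2
    obtain ⟨d, hd, hdd⟩ := h.invol_is_sq hz hz2 hv1 hv2
    have hc4 : (c * c) * (c * c) = 1 := by rw [hcc, hu2]
    have hd4 : (d * d) * (d * d) = 1 := by rw [hdd, hv2]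
    refine ⟨QuotientGroup.mk c, QuotientGroup.mk d, ?_, ?_, ?_, ?_, ?_⟩
    · intro heq
      rw [QuotientGroup.eq, h.mem_Z0_iff] at heq
      apply huv
      have hcc' := Subgroup.mem_center_iff.mp hc
      have e1 : c⁻¹ * d * (c⁻¹ * d) = (c * c)⁻¹ * (d * d) := by
        calc c⁻¹ * d * (c⁻¹ * d) = c⁻¹ * (d * c⁻¹) * d := by group
          _ = c⁻¹ * (c⁻¹ * d) * d := by
              have : d * c⁻¹ = c⁻¹ * d := by
                have := hcc' d
                calc d * c⁻¹ = c⁻¹ * (c * d) * c⁻¹ := by group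
                  _ = c⁻¹ * (d * c) * c⁻¹ := by rw [this]
                  _ = c⁻¹ * d := by group
              rw [this]
          _ = (c * c)⁻¹ * (d * d) := by group
      rw [e1, hcc, hdd] at heq
      exact inv_mul_eq_one.mp heq
    · intro h1
      rw [mk_eq_one_iff, h.mem_Z0_iff, hcc] at h1
      exact hu1 h1
    · rw [mk_sq_eq_one_iff h]; exact hc4
    · intro h1
      rw [mk_eq_one_iff, h.mem_Z0_iff, hdd] at h1
      exact hv1 h1
    · rw [mk_sq_eq_one_iff h]; exact hd4

theorem SuzHyp.card_quot_lt (h : SuzHyp P K) : Nat.card (P ⧸ Z0 P) < Nat.card P := by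
  haveI := h.fin
  rw [Subgroup.card_eq_card_quotient_mul_card_subgroup (Z0 P)]
  have h1 : 0 < Nat.card (P ⧸ Z0 P) := Nat.card_pos
  have h2 : 1 < Nat.card ↥(Z0 P) := by
    obtain ⟨u, -, -, hu1, hu2, -⟩ := h.two
    rw [Finite.one_lt_card_iff_nontrivial]
    exact ⟨⟨⟨u, h.mem_Z0_iff.mpr hu2⟩, 1, fun heq => hu1 (congrArg Subtype.val heq)⟩⟩
  nlinarith

end Cfsg.Agent.Lib.Helper19.Suz
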