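import Cfsg.Agent.Lib.Helper19.SuzMain

/-!
# Suzuki 2-groups of order `q²`: structure of `P ⧸ Z` (helper19)
-/

set_option autoImplicit false
set_option linter.style.haveILetI false

namespace Cfsg.Agent.Lib.Helper19.Suz

variable {P : Type*} [Group P] {K : Subgroup (MulAut P)}

/-- every non-identity element of a finite 2-group has a power which is an involution -/
theorem exists_pow_involution [Finite P] (hp : IsPGroup 2 P) {y : P} (hy : y ≠ 1) :
    ∃ n : ℕ, y ^ n ≠ 1 ∧ y ^ n * y ^ n = 1 := by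
  haveI : Fact (Nat.Prime 2) := ⟨Nat.prime_two⟩
  obtain ⟨m, hm⟩ := (IsPGroup.iff_orderOf.mp hp) y
  have hm0 : m ≠ 0 := by
    rintro rfl
    rw [pow_zero, orderOf_eq_one_iff] at hm
    exact hy hm
  obtain ⟨m', rfl⟩ := Nat.exists_eq_succ_of_ne_zero hm0
  refine ⟨2 ^ m', ?_, ?_⟩
  · intro h
    have := orderOf_dvd_of_pow_eq_one h
    rw [hm] at this
    have h2 : 2 ^ (m' + 1) ≤ 2 ^ m' := Nat.le_of_dvd (by positivity) this
    rw [pow_succ] at h2
    have : 0 < 2 ^ m' := by positivity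
    omega
  · rw [← pow_add, ← two_mul, ← pow_succ', ← hm, pow_orderOf_eq_one]

/-- hypothesis package for the order `q²` case -/
structure SqHyp (P : Type*) [Group P] (K : Subgroup (MulAut P)) : Prop where
  suz : SuzHyp P K
  na : ∃ x y : P, x * y ≠ y * x
  card : Nat.card P = Nat.card ↥(Z0 P) ^ 2

theorem SuzHyp.semireg_quot (h : SuzHyp P K) {k : MulAut P} (hk : k ∈ K) {x : P}
    (hx : x ∉ Z0 P) (hfix : quotAut k (QuotientGroup.mk x : P ⧸ Z0 P) = QuotientGroup.mk x) :
    k = 1 := by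
  haveI := h.fin
  rw [quotAut_mk, QuotientGroup.eq] at hfix
  -- z = (k x)⁻¹ * x is central of order ≤ 2
  set z := (k x)⁻¹ * x with hz
  have hzc := Subgroup.mem_center_iff.mp hfix.1
  have hx_eq : x = k x * z := by rw [hz]; group
  have hfixsq : k (x * x) = x * x := by
    rw [map_mul]
    conv_rhs => rw [hx_eq]
    calc k x * k x = k x * k x * (z * z) := by rw [hfix.2, mul_one]
      _ = k x * (k x * z) * z := by group
      _ = k x * (z * k x) * z := by rw [hzc (k x)]
      _ = k x * z * (k x * z) := by group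
  have hxx : x * x ≠ 1 := fun h1 => hx (h.mem_Z0_iff.mpr h1)
  obtain ⟨n, hn1, hn2⟩ := exists_pow_involution h.pgrp hxx
  apply h.semireg k hk _ hn1 hn2
  rw [map_pow, hfixsq]

theorem quotAut_mul (k l : MulAut P) (v : P ⧸ Z0 P) :
    quotAut (k * l) v = quotAut k (quotAut l v) := by
  induction v using QuotientGroup.induction_on with
  | H x => rw [quotAut_mk, quotAut_mk, quotAut_mk]; rfl

theorem quotAut_one (v : P ⧸ Z0 P) : quotAut (1 : MulAut P) v = v := by
  induction v using QuotientGroup.induction_on with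
  | H x => rw [quotAut_mk]; rfl

namespace SqHyp

variable (h : SqHyp P K)
include h

theorem card_pos : 2 ≤ Nat.card ↥(Z0 P) := by
  haveI := h.suz.fin
  obtain ⟨u, -, -, hu1, hu2, -⟩ := h.suz.two
  have : 1 < Nat.card ↥(Z0 P) := by
    rw [Finite.one_lt_card_iff_nontrivial]
    exact ⟨⟨⟨u, h.suz.mem_Z0_iff.mpr hu2⟩, 1, fun heq => hu1 (congrArg Subtype.val heq)⟩⟩
  omega

theorem card_quot : Nat.card (P ⧸ Z0 P) = Nat.card ↥(Z0 P) := by
  haveI := h.suz.fin
  have h1 := Subgroup.card_eq_card_quotient_mul_card_subgroup (Z0 P)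
  rw [h.card, pow_two] at h1
  have hpos : 0 < Nat.card ↥(Z0 P) := by have := h.card_pos; omega
  exact (Nat.eq_of_mul_eq_mul_right hpos h1).symm

/-- `K` has `q - 1` elements -/
theorem card_K : Nat.card ↥K = Nat.card ↥(Z0 P) - 1 := by
  haveI := h.suz.fin
  obtain ⟨u, -, -, hu1, hu2, -⟩ := h.suz.two
  let f : ↥K → ↥(Z0 P) := fun k => ⟨k.1 u, aut_mem_Z0 k.1 (h.suz.mem_Z0_iff.mpr hu2)⟩
  have hf : Function.Injective f := by
    intro k l hkl
    have h1 : k.1 u = l.1 u := congrArg Subtype.val hkl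
    have h2 : (l.1⁻¹ * k.1) u = u := by
      show l.1⁻¹ (k.1 u) = u
      rw [h1]; simp
    have h3 := h.suz.semireg _ (K.mul_mem (K.inv_mem l.2) k.2) u hu1 hu2 h2
    apply Subtype.ext
    have : k.1 = l.1 * (l.1⁻¹ * k.1) := by group
    rw [this, h3, mul_one]
  have hrange : Set.range f = ({1} : Set ↥(Z0 P))ᶜ := by
    ext z
    constructor
    · rintro ⟨k, rfl⟩ h1
      have h2 : k.1 u = 1 := congrArg Subtype.val h1
      apply hu1
      have := congrArg k.1⁻¹ h2
      simpa using this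
    · intro hz
      have hz1 : z.1 ≠ 1 := fun h1 => hz (Subtype.ext h1)
      obtain ⟨k, hk, hkz⟩ := h.suz.trans u z.1 hu1 hu2 hz1 (h.suz.mem_Z0_iff.mp z.2)
      exact ⟨⟨k, hk⟩, Subtype.ext hkz⟩
  rw [← Set.ncard_range_of_injective hf, hrange, Set.ncard_compl, Set.ncard_singleton]

/-- transitivity on the non-identity elements of the quotient -/
theorem trans_quot (v w : P ⧸ Z0 P) (hv : v ≠ 1) (hw : w ≠ 1) :
    ∃ k ∈ K, quotAut k v = w := by
  haveI := h.suz.fin
  have key : ∀ v : P ⧸ Z0 P, v ≠ 1 → ∀ w : P ⧸ Z0 P, w ≠ 1 → ∃ k ∈ K, quotAut k v = w := by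
    intro v hv
    induction v using QuotientGroup.induction_on with
    | H x =>
    have hx : x ∉ Z0 P := fun hx => hv (mk_eq_one_iff.mpr hx)
    let f : ↥K → P ⧸ Z0 P := fun k => quotAut k.1 (QuotientGroup.mk x)
    have hf : Function.Injective f := by
      intro k l hkl
      have h1 : quotAut (l.1⁻¹ * k.1) (QuotientGroup.mk x : P ⧸ Z0 P) = QuotientGroup.mk x := by
        rw [quotAut_mul]
        show quotAut l.1⁻¹ (f k) = _
        rw [hkl]
        show quotAut l.1⁻¹ (quotAut l.1 _) = _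
        rw [← quotAut_mul, inv_mul_cancel, quotAut_one]
      have h3 := h.suz.semireg_quot (K.mul_mem (K.inv_mem l.2) k.2) hx h1
      apply Subtype.ext
      have : k.1 = l.1 * (l.1⁻¹ * k.1) := by group
      rw [this, h3, mul_one]
    have hsub : Set.range f ⊆ ({1} : Set (P ⧸ Z0 P))ᶜ := by
      rintro _ ⟨k, rfl⟩ h1
      have h2 : quotAut k.1 (QuotientGroup.mk x : P ⧸ Z0 P) = 1 := h1
      apply hv
      have := congrArg (quotAut k.1⁻¹) h2
      rw [← quotAut_mul, inv_mul_cancel, quotAut_one, map_one] at this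
      exact this
    have hcard : (({1} : Set (P ⧸ Z0 P))ᶜ).ncard ≤ (Set.range f).ncard := by
      rw [Set.ncard_range_of_injective hf, Set.ncard_compl, Set.ncard_singleton, h.card_quot,
        h.card_K]
    have heq := Set.eq_of_subset_of_ncard_le hsub hcard
    intro w hw
    have hw' : w ∈ Set.range f := by rw [heq]; exact hw
    obtain ⟨k, hk⟩ := hw'
    exact ⟨k.1, k.2, hk⟩
  exact key v hv w hw

/-- the quotient has exponent two and is abelian -/
theorem quot_central (v : P ⧸ Z0 P) : v * v = 1 ∧ v ∈ Subgroup.center (P ⧸ Z0 P) := by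
  haveI := h.suz.fin
  by_cases hv : v = 1
  · rw [hv]; exact ⟨mul_one 1, Subgroup.one_mem _⟩
  haveI : Nontrivial (P ⧸ Z0 P) := ⟨⟨v, 1, hv⟩⟩
  obtain ⟨u, huc, hu1, hu2⟩ := exists_central_involution (h.suz.pgrp.to_quotient (Z0 P))
  obtain ⟨k, -, hk⟩ := h.trans_quot u v hu1 hv
  rw [← hk]
  refine ⟨?_, aut_mem_center _ huc⟩
  rw [← map_mul, hu2, map_one]

theorem sq_mem (x : P) : x * x ∈ Z0 P := by
  have := (h.quot_central (QuotientGroup.mk x)).1
  rw [← QuotientGroup.mk_mul] at this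
  exact mk_eq_one_iff.mp this

theorem comm_mem (x y : P) : x⁻¹ * y * x * y⁻¹ ∈ Z0 P := by
  have h1 := Subgroup.mem_center_iff.mp (h.quot_central (QuotientGroup.mk x)).2 (QuotientGroup.mk y)
  rw [← mk_eq_one_iff]
  rw [QuotientGroup.mk_mul, QuotientGroup.mk_mul, QuotientGroup.mk_mul, QuotientGroup.mk_inv,
    QuotientGroup.mk_inv, mul_assoc (QuotientGroup.mk x : P ⧸ Z0 P)⁻¹, h1]
  group

end SqHyp

end Cfsg.Agent.Lib.Helper19.Suz
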